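import Cfsg.Agent.Lib.Lead.GL2Ind
import Mathlib

/-!
The irreducible characters of GL(2,q): one-dimensional, Steinberg twists, principal series, cuspidal.
-/

set_option autoImplicit false

namespace Cfsg.Agent.Lead.GL2

open Cfsg
open scoped ComplexConjugate Matrix

universe u

variable {F : Type u} [Field F] [Fintype F] [DecidableEq F]

/-- `α ∘ det`. -/
noncomputable def linDet (α : MulChar F ℂ) : GL (Fin 2) F → ℂ := fun g => α (mat g).det

theorem linDet_irr (α : MulChar F ℂ) : IsIrrCharacter (GL (Fin 2) F) (linDet α) := by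
  have h := Char.isIrrCharacter_linear
    ((MulChar.toUnitHom α).comp (Matrix.GeneralLinearGroup.det (n := Fin 2) (R := F)))
  have e : linDet α = fun g => (((MulChar.toUnitHom α).comp
      (Matrix.GeneralLinearGroup.det (n := Fin 2) (R := F)) g : ℂˣ) : ℂ) := by
    funext g
    simp [linDet, MulChar.coe_toUnitHom, Matrix.GeneralLinearGroup.val_det_apply]
  rw [e]; exact h

theorem linDet_up (α : MulChar F ℂ) (a d : Fˣ) (x : F) : linDet α (up a d x) = α a * α d := by
  simp [linDet, mat_up, Matrix.det_fin_two]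

theorem linDet_one (α : MulChar F ℂ) : linDet α 1 = 1 := by simp [linDet, mat]

theorem inner_ps_eq (α β : MulChar F ℂ) {χ : GL (Fin 2) F → ℂ} (hχ : IsCharacter (GL (Fin 2) F) χ) :
    classInner (ps α β) χ = (Nat.card (upperTriangularGL 2 F) : ℂ)⁻¹ *
      ∑ p : Fˣ × Fˣ, α p.1 * β p.2 * conj (∑ x : F, χ (up p.1 p.2 x)) := by
  classical
  haveI : Fintype (upperTriangularGL 2 F) := Fintype.ofFinite _
  rw [ps, Char.frobenius _ _ (Char.isClassFunction_character hχ), classInner,
    ← borelEquiv.sum_comp, Fintype.sum_prod_type]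
  congr 1
  refine Finset.sum_congr rfl fun p _ => ?_
  rw [map_sum, Finset.mul_sum]
  refine Finset.sum_congr rfl fun x _ => ?_
  rw [show ((borelEquiv (p, x) : upperTriangularGL 2 F) : GL (Fin 2) F) = up p.1 p.2 x from rfl]
  simp [lam, borelEquiv, up]

theorem inner_ps_linDet (α β γ : MulChar F ℂ) :
    classInner (ps β γ) (linDet α) = if β = α ∧ γ = α then 1 else 0 := by
  rw [inner_ps_eq _ _ (Char.irr_isCharacter (linDet_irr α))]
  simp only [linDet_up, Finset.sum_const, Finset.card_univ, nsmul_eq_mul, map_mul, map_natCast]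
  have : ∀ p : Fˣ × Fˣ, β p.1 * γ p.2 * ((Fintype.card F : ℂ) * (conj (α p.1) * conj (α p.2))) =
      (Fintype.card F : ℂ) * ((β p.1 * conj (α p.1)) * (γ p.2 * conj (α p.2))) := fun p => by ring
  rw [Finset.sum_congr rfl fun p _ => this p, ← Finset.mul_sum, Fintype.sum_prod_type]
  simp only [← Finset.mul_sum, ← Finset.sum_mul, sum_units_mul_conj, card_borel]
  have hq1 : ((Fintype.card F - 1 : ℕ) : ℂ) ≠ 0 := by
    have := Fintype.one_lt_card (α := F)
    exact_mod_cast (by omega : Fintype.card F - 1 ≠ 0)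
  have hq : (Fintype.card F : ℂ) ≠ 0 := by simp
  push_cast
  by_cases h1 : β = α <;> by_cases h2 : γ = α <;> simp [h1, h2] <;> field_simp

/-- The twisted Steinberg character. -/
noncomputable def st (α : MulChar F ℂ) : GL (Fin 2) F → ℂ := ps α α - linDet α

theorem st_irr (α : MulChar F ℂ) : IsIrrCharacter (GL (Fin 2) F) (st α) := by
  classical
  have h := linDet_irr α
  obtain ⟨m, hm⟩ := Char.exists_decomposition (isCharacter_ps α α)
  let ψ0 : IrrCharacter (GL (Fin 2) F) := ⟨linDet α, h⟩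
  have h0 : m ψ0 = 1 := by
    have := Char.decomposition_coeff m hm ψ0
    rw [show ((ψ0 : GL (Fin 2) F → ℂ)) = linDet α from rfl, inner_ps_linDet, if_pos ⟨rfl, rfl⟩] at this
    exact_mod_cast this.symm
  have hst : st α = ∑ ψ ∈ Finset.univ.erase ψ0, m ψ • (ψ : GL (Fin 2) F → ℂ) := by
    rw [st, hm, ← Finset.add_sum_erase _ _ (Finset.mem_univ ψ0), h0, one_smul]
    simp [ψ0]
  refine Char.isIrr_of_norm_one (hst ▸ Char.isCharacter_sum _ _ fun ψ _ =>
    Char.isCharacter_nsmul (Char.irr_isCharacter ψ.2) _) ?_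
  have h' : classInner (linDet α) (ps α α) = 1 := by
    rw [← Char.classInner_symm, inner_ps_linDet, if_pos ⟨rfl, rfl⟩, map_one]
  simp only [st, Char.classInner_sub_left, Char.classInner_sub_right, ps_inner, inner_ps_linDet,
    h', Char.irr_self h, and_self, if_true]
  ring

theorem ps_one_val (α β : MulChar F ℂ) : ps α β 1 = (Fintype.card F : ℂ) + 1 := by
  rw [ps_apply]
  simp [mat, add_comm]

theorem st_one_val (α : MulChar F ℂ) : st α 1 = (Fintype.card F : ℂ) := by
  simp [st, ps_one_val, linDet_one]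

theorem ps_u (α β : MulChar F ℂ) : ps α β (up 1 1 1) = 1 := by
  rw [ps_borel]; simp

theorem st_u (α : MulChar F ℂ) : st α (up 1 1 1) = 0 := by
  simp [st, ps_u, linDet_up]

theorem linDet_u (α : MulChar F ℂ) : linDet α (up 1 1 1) = 1 := by simp [linDet_up]

theorem ps_diag (α β : MulChar F ℂ) (a d : Fˣ) (h : (a : F) ≠ d) :
    ps α β (up a d 0) = α a * β d + α d * β a := by
  rw [ps_borel, Finset.sum_eq_single 0]
  · simp
  · intro t _ ht
    rw [if_neg]
    simp [ht, sub_eq_zero, h]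
  · simp

/-- No eigenvector in the plane. -/
def NoEigen (g : GL (Fin 2) F) : Prop :=
  ∀ (c : F) (v : Fin 2 → F), v ≠ 0 → (mat g).mulVec v ≠ c • v

theorem ps_elliptic (α β : MulChar F ℂ) {g : GL (Fin 2) F} (h : NoEigen g) : ps α β g = 0 := by
  have hc : mat g 1 0 ≠ 0 := fun h0 => h (mat g 0 0) ![1, 0] (by simp [funext_iff, Fin.forall_fin_two])
    (by funext i; fin_cases i <;> simp [Matrix.mulVec, dotProduct, Fin.sum_univ_two, h0])
  rw [ps_apply, if_neg hc, zero_add]
  refine Finset.sum_eq_zero fun t _ => ?_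
  rw [if_neg]
  intro ht
  refine h (mat g 1 0 * t + mat g 1 1) ![t, 1] (by simp [funext_iff, Fin.forall_fin_two]) ?_
  funext i
  fin_cases i
  · simp [Matrix.mulVec, dotProduct, Fin.sum_univ_two]; linear_combination ht
  · simp [Matrix.mulVec, dotProduct, Fin.sum_univ_two]

/-- Cuspidal: no constituent of the principal series. -/
def IsCusp (χ : GL (Fin 2) F → ℂ) : Prop := ∀ α β : MulChar F ℂ, classInner (ps α β) χ = 0

theorem ps_not_cusp (α β : MulChar F ℂ) : ¬ IsCusp (ps α β) := by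
  intro h
  have := h α β
  rw [ps_inner, if_pos ⟨rfl, rfl⟩] at this
  have h2 := congrArg Complex.re this
  split_ifs at h2 <;> norm_num at h2

theorem linDet_not_cusp (α : MulChar F ℂ) : ¬ IsCusp (linDet α) := fun h => by
  simpa [inner_ps_linDet] using h α α

theorem st_not_cusp (α : MulChar F ℂ) : ¬ IsCusp (st α) := fun h => by
  have := h α α
  rw [st, Char.classInner_sub_right, inner_ps_linDet, ps_inner] at this
  norm_num at this

theorem trichotomy {χ : GL (Fin 2) F → ℂ} (hχ : IsIrrCharacter (GL (Fin 2) F) χ)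
    (hc : ¬ IsCusp χ) :
    (∃ α, χ = linDet α) ∨ (∃ α, χ = st α) ∨ ∃ α β, α ≠ β ∧ χ = ps α β := by
  classical
  simp only [IsCusp, not_forall] at hc
  obtain ⟨α, β, h⟩ := hc
  rcases eq_or_ne α β with rfl | hne
  · rw [show ps α α = linDet α + st α by simp [st], Char.classInner_add_left,
      Char.irr_orth (linDet_irr α) hχ, Char.irr_orth (st_irr α) hχ] at h
    by_cases h1 : linDet α = χ
    · exact Or.inl ⟨α, h1.symm⟩
    by_cases h2 : st α = χ
    · exact Or.inr (Or.inl ⟨α, h2.symm⟩)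
    simp [h1, h2] at h
  · rw [Char.irr_orth (ps_isIrr hne) hχ] at h
    by_cases h1 : ps α β = χ
    · exact Or.inr (Or.inr ⟨α, β, hne, h1.symm⟩)
    · simp [h1] at h

theorem sum_mulChar (a : Fˣ) [Fintype (MulChar F ℂ)] :
    ∑ α : MulChar F ℂ, α a = if a = 1 then (Fintype.card (MulChar F ℂ) : ℂ) else 0 := by
  split_ifs with h
  · simp [h]
  · obtain ⟨β, hβ⟩ := MulChar.exists_apply_ne_one_of_hasEnoughRootsOfUnity F ℂ
      (a := (a : F)) (fun h' => h (Units.ext h'))
    have hs : β a * ∑ α : MulChar F ℂ, α a = ∑ α : MulChar F ℂ, α a := by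
      rw [Finset.mul_sum, ← Equiv.sum_comp (Equiv.mulLeft β) (fun α : MulChar F ℂ => α a)]
      simp
    have h0 : (β a - 1) * ∑ α : MulChar F ℂ, α a = 0 := by rw [sub_mul, hs, one_mul, sub_self]
    exact (mul_eq_zero.1 h0).resolve_left (sub_ne_zero.2 hβ)

theorem card_mulChar [Fintype (MulChar F ℂ)] :
    Fintype.card (MulChar F ℂ) = Fintype.card F - 1 := by
  rw [← Nat.card_eq_fintype_card, MulChar.card_eq_card_units_of_hasEnoughRootsOfUnity,
    Nat.card_eq_fintype_card, Fintype.card_units]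

theorem cusp_sum_zero {χ : GL (Fin 2) F → ℂ} (hχ : IsCharacter (GL (Fin 2) F) χ) (hc : IsCusp χ)
    (a d : Fˣ) : ∑ x : F, χ (up a d x) = 0 := by
  classical
  haveI : Fintype (MulChar F ℂ) := Fintype.ofFinite _
  set f : Fˣ × Fˣ → ℂ := fun p => conj (∑ x : F, χ (up p.1 p.2 x)) with hf
  have h0 : ∀ α β : MulChar F ℂ, ∑ p : Fˣ × Fˣ, α p.1 * β p.2 * f p = 0 := by
    intro α β
    have := hc α β
    rw [inner_ps_eq _ _ hχ] at this
    exact (mul_eq_zero.1 this).resolve_left (by simp)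
  have key : ∑ α : MulChar F ℂ, ∑ β : MulChar F ℂ,
      (α ((a⁻¹ : Fˣ) : F) * β ((d⁻¹ : Fˣ) : F)) * ∑ p : Fˣ × Fˣ, α p.1 * β p.2 * f p = 0 := by simp [h0]
  simp only [Finset.mul_sum] at key
  rw [Finset.sum_congr rfl fun α _ => Finset.sum_comm, Finset.sum_comm] at key
  have hterm : ∀ p : Fˣ × Fˣ, ∑ α : MulChar F ℂ, ∑ β : MulChar F ℂ,
      (α ((a⁻¹ : Fˣ) : F) * β ((d⁻¹ : Fˣ) : F)) * (α p.1 * β p.2 * f p) =
      (if p = (a, d) then ((Fintype.card F - 1 : ℕ) : ℂ) ^ 2 else 0) * f p := by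
    intro p
    have e : ∀ α β : MulChar F ℂ, (α (a⁻¹ : Fˣ) * β (d⁻¹ : Fˣ)) * (α p.1 * β p.2 * f p) =
        (α ((a⁻¹ * p.1 : Fˣ)) * β ((d⁻¹ * p.2 : Fˣ))) * f p := fun α β => by
      simp only [Units.val_mul, map_mul]; ring
    rw [Finset.sum_congr rfl fun α _ => Finset.sum_congr rfl fun β _ => e α β]
    simp only [← Finset.sum_mul, ← Finset.mul_sum, sum_mulChar, card_mulChar, inv_mul_eq_one]
    by_cases h1 : a = p.1 <;> by_cases h2 : d = p.2 <;>
      simp [h1, h2, Prod.ext_iff, Ne.symm, eq_comm, sq] <;> simp_all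
  rw [Finset.sum_congr rfl fun p _ => hterm p] at key
  simp only [ite_mul, zero_mul, Finset.sum_ite_eq', Finset.mem_univ, if_true] at key
  have hq1 : ((Fintype.card F - 1 : ℕ) : ℂ) ≠ 0 := by
    have := Fintype.one_lt_card (α := F)
    exact_mod_cast (by omega : Fintype.card F - 1 ≠ 0)
  have := (mul_eq_zero.1 key).resolve_left (pow_ne_zero 2 hq1)
  have h2 := congrArg conj this
  simpa [hf] using h2

theorem char_up_scale {χ : GL (Fin 2) F → ℂ} (hχ : IsCharacter (GL (Fin 2) F) χ) (a : Fˣ) (x : Fˣ) :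
    χ (up a a x) = χ (up a a 1) := by
  have hc := Char.isClassFunction_character hχ
  have h : up x 1 0 * up a a 1 * (up x 1 0)⁻¹ = up a a (x : F) := by
    rw [mul_inv_eq_iff_eq_mul]
    refine ext2 ?_ ?_ ?_ ?_ <;>
      simp [mat, up, Matrix.mul_apply, Fin.sum_univ_two, mul_comm]
  rw [← h, hc]

theorem cusp_diag {χ : GL (Fin 2) F → ℂ} (hχ : IsCharacter (GL (Fin 2) F) χ) (hc : IsCusp χ)
    (a d : Fˣ) (h : (a : F) ≠ d) : χ (up a d 0) = 0 := by
  have hcl := Char.isClassFunction_character hχ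
  have he : ∀ x : F, χ (up a d x) = χ (up a d 0) := by
    intro x
    have h' : up 1 1 (x / ((d : F) - a)) * up a d 0 * (up 1 1 (x / ((d : F) - a)))⁻¹ = up a d x := by
      rw [mul_inv_eq_iff_eq_mul]
      have hda : (d : F) - a ≠ 0 := sub_ne_zero.2 (Ne.symm h)
      refine ext2 ?_ ?_ ?_ ?_ <;> simp [mat, up, Matrix.mul_apply, Fin.sum_univ_two]
      field_simp
      ring
    rw [← h', hcl]
  have := cusp_sum_zero hχ hc a d
  rw [Finset.sum_congr rfl fun x _ => he x, Finset.sum_const, Finset.card_univ, nsmul_eq_mul] at this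
  exact (mul_eq_zero.1 this).resolve_left (by simp)

theorem cusp_scalar_u {χ : GL (Fin 2) F → ℂ} (hχ : IsCharacter (GL (Fin 2) F) χ) (hc : IsCusp χ)
    (a : Fˣ) : χ (up a a 0) + ((Fintype.card F - 1 : ℕ) : ℂ) * χ (up a a 1) = 0 := by
  have := cusp_sum_zero hχ hc a a
  rw [Fintype.sum_eq_add_sum_compl (0 : F)] at this
  rw [Finset.sum_congr rfl (g := fun _ => χ (up a a 1)) (fun x hx => by
    simp at hx
    exact char_up_scale hχ a (Units.mk0 x hx))] at this
  simpa [Finset.card_compl] using this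

theorem up_one : up (1 : Fˣ) 1 0 = (1 : GL (Fin 2) F) := by
  refine ext2 ?_ ?_ ?_ ?_ <;> simp [mat, up]

theorem cusp_deg {χ : GL (Fin 2) F → ℂ} (hχ : IsIrrCharacter (GL (Fin 2) F) χ) (hc : IsCusp χ) :
    ∃ m : ℕ, 1 ≤ m ∧ χ 1 = (m : ℂ) * ((Fintype.card F - 1 : ℕ) : ℂ) ∧ χ (up 1 1 1) = -(m : ℂ) := by
  have hq : 0 < Fintype.card F - 1 := by have := Fintype.one_lt_card (α := F); omega
  obtain ⟨n, hn⟩ := Char.charOne_eq_natCast (Char.irr_isCharacter hχ)
  have h := cusp_scalar_u (Char.irr_isCharacter hχ) hc 1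
  rw [up_one, hn] at h
  have hu : χ (up 1 1 1) = ((-(n : ℚ) / ((Fintype.card F - 1 : ℕ) : ℚ) : ℚ) : ℂ) := by
    push_cast
    rw [eq_div_iff (by exact_mod_cast hq.ne')]
    linear_combination h
  obtain ⟨z, hz⟩ := Char.isIntegral_rat_cast_imp
    (hu ▸ Char.char_isIntegral (Char.irr_isCharacter hχ) _)
  have hz' : (-(n : ℤ)) = z * ((Fintype.card F - 1 : ℕ) : ℤ) := by
    rw [eq_div_iff (by exact_mod_cast hq.ne')] at hz
    exact_mod_cast hz.symm
  have hn0 : n ≠ 0 := fun h0 => Char.irr_one_ne_zero hχ (by rw [hn, h0, Nat.cast_zero])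
  have hzneg : z < 0 := by
    by_contra hh
    push Not at hh
    have : (0 : ℤ) ≤ z * ((Fintype.card F - 1 : ℕ) : ℤ) := mul_nonneg hh (by positivity)
    omega
  obtain ⟨m, rfl⟩ : ∃ m : ℕ, z = -(m : ℤ) := ⟨z.natAbs, by omega⟩
  refine ⟨m, by omega, ?_, ?_⟩
  · rw [hn]
    have : (n : ℤ) = (m : ℤ) * ((Fintype.card F - 1 : ℕ) : ℤ) := by linear_combination -hz'
    exact_mod_cast this
  · rw [hu, ← hz]; push_cast; ring

/-- Invariants separating `q² - 1` conjugacy classes. -/
theorem card_classes_ge :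
    Fintype.card F ^ 2 - 1 ≤ Nat.card (ConjClasses (GL (Fin 2) F)) := by
  classical
  haveI : Fintype (ConjClasses (GL (Fin 2) F)) := Fintype.ofFinite _
  let comp : F × Fˣ → GL (Fin 2) F := fun p =>
    Matrix.GeneralLinearGroup.mkOfDetNeZero !![0, -(p.2 : F); 1, p.1] (by simp [Matrix.det_fin_two])
  let f : Fˣ ⊕ (F × Fˣ) → ConjClasses (GL (Fin 2) F) :=
    Sum.elim (fun a => ConjClasses.mk (up a a 0)) (fun p => ConjClasses.mk (comp p))
  have hcentral : ∀ (a : Fˣ) (g : GL (Fin 2) F), IsConj (up a a 0) g → g = up a a 0 := by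
    intro a g h
    obtain ⟨c, hc⟩ := isConj_iff.1 h
    rw [← hc]
    rw [mul_inv_eq_iff_eq_mul]
    refine ext2 ?_ ?_ ?_ ?_ <;> simp [mat, up, Matrix.mul_apply, Fin.sum_univ_two, mul_comm]
  have hinj : Function.Injective f := by
    rintro (a | p) (b | r) h <;> simp only [f, Sum.elim_inl, Sum.elim_inr, ConjClasses.mk_eq_mk_iff_isConj] at h
    · have := congrArg (fun g => mat g 0 0) (hcentral a _ h)
      simp [mat, up] at this
      rw [Units.ext this]
    · have := congrArg (fun g => mat g 1 0) (hcentral a _ h)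
      simp [mat, up, comp] at this
    · have := congrArg (fun g => mat g 1 0) (hcentral b _ h.symm)
      simp [mat, up, comp] at this
    · obtain ⟨c, hc⟩ := isConj_iff.1 h
      have hm : (c : Matrix (Fin 2) (Fin 2) F) * (comp p : Matrix (Fin 2) (Fin 2) F) *
          (c : Matrix (Fin 2) (Fin 2) F)⁻¹ = (comp r : Matrix (Fin 2) (Fin 2) F) := by
        rw [← Matrix.coe_units_inv, ← Units.val_mul, ← Units.val_mul, hc]
      have h1 := congrArg Matrix.trace hm
      have h2 := congrArg Matrix.det hm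
      rw [Matrix.trace_mul_cycle, ← Matrix.coe_units_inv, ← Units.val_mul, inv_mul_cancel,
        Units.val_one, one_mul] at h1
      rw [← Matrix.coe_units_inv, Matrix.det_units_conj] at h2
      simp [comp, Matrix.trace_fin_two] at h1
      simp [comp, Matrix.det_fin_two] at h2
      rw [Prod.ext h1 (Units.ext h2)]
  have := Fintype.card_le_of_injective f hinj
  rw [Fintype.card_sum, Fintype.card_prod, Fintype.card_units] at this
  rw [Nat.card_eq_fintype_card]
  have hq := Fintype.one_lt_card (α := F)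
  obtain ⟨n, hn⟩ : ∃ n, Fintype.card F = n + 1 := ⟨Fintype.card F - 1, by omega⟩
  rw [hn, Nat.add_sub_cancel] at this
  rw [hn]
  have e : (n + 1) ^ 2 = n + (n + 1) * n + 1 := by ring
  omega

/-- Index set of the non-cuspidal characters. -/
abbrev Idx (F : Type u) [Field F] : Type u :=
  (MulChar F ℂ ⊕ MulChar F ℂ) ⊕ {z : Sym2 (MulChar F ℂ) // ¬ z.IsDiag}

/-- The principal series on unordered pairs. -/
noncomputable def psSym : Sym2 (MulChar F ℂ) → GL (Fin 2) F → ℂ := Sym2.lift ⟨ps, ps_symm⟩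

/-- The non-cuspidal character attached to an index. -/
noncomputable def idxChar : Idx F → GL (Fin 2) F → ℂ :=
  Sum.elim (Sum.elim linDet st) (fun z => psSym z.1)

theorem idxChar_irr : ∀ i : Idx F, IsIrrCharacter (GL (Fin 2) F) (idxChar i) := by
  rintro ((α | α) | ⟨z, hz⟩)
  · exact linDet_irr α
  · exact st_irr α
  · induction z using Sym2.ind with
    | _ a b => exact ps_isIrr (by simpa using hz)

theorem idxChar_one : ∀ i : Idx F, idxChar i 1 =
    Sum.elim (Sum.elim (fun _ => (1 : ℂ)) (fun _ => (Fintype.card F : ℂ)))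
      (fun _ => (Fintype.card F : ℂ) + 1) i := by
  rintro ((α | α) | ⟨z, hz⟩)
  · exact linDet_one α
  · exact st_one_val α
  · induction z using Sym2.ind with
    | _ a b => exact ps_one_val a b

theorem det_surj (a : Fˣ) : (mat (up a 1 0)).det = (a : F) := by simp [mat_up, Matrix.det_fin_two]

theorem linDet_injective : Function.Injective (linDet (F := F)) := by
  intro α β h
  refine MulChar.ext fun a => ?_
  have := congrFun h (up a 1 0)
  simpa [linDet_up] using this

theorem st_injective : Function.Injective (st (F := F)) := by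
  intro α β h
  by_contra hne
  have h1 := Char.irr_self (st_irr α)
  have h2 := congrArg (fun f => classInner (st α) f) h
  simp only [h1] at h2
  have h3 : classInner (ps α α) (linDet β) = 0 := by
    rw [inner_ps_linDet, if_neg (fun hh => hne hh.1)]
  have h4 : classInner (linDet α) (ps β β) = 0 := by
    rw [← Char.classInner_symm, inner_ps_linDet, if_neg (fun hh => hne hh.1.symm), map_zero]
  have h5 : classInner (linDet α) (linDet β) = 0 := by
    rw [Char.irr_orth (linDet_irr α) (linDet_irr β), if_neg fun hh => hne (linDet_injective hh)]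
  simp [st, Char.classInner_sub_left, Char.classInner_sub_right, h3, h4, h5, ps_inner, hne] at h2

theorem idxChar_injective : Function.Injective (idxChar (F := F)) := by
  intro i j h
  have hq : (1 : ℕ) < Fintype.card F := Fintype.one_lt_card
  have h1 := congrFun h 1
  rw [idxChar_one, idxChar_one] at h1
  rcases i with (α | α) | ⟨z, hz⟩ <;> rcases j with (β | β) | ⟨w, hw⟩ <;>
    simp only [Sum.elim_inl, Sum.elim_inr] at h1 <;> norm_cast at h1 <;>
    try (exfalso; omega)
  · simp only [idxChar, Sum.elim_inl] at h; rw [linDet_injective h]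
  · simp only [idxChar, Sum.elim_inl, Sum.elim_inr] at h; rw [st_injective h]
  · induction z using Sym2.ind with
    | _ a b => induction w using Sym2.ind with
      | _ c d =>
        have h' : ps a b = ps c d := h
        have := (ps_eq_iff a b c d).1 h'
        exact congrArg Sum.inr (Subtype.ext (Sym2.eq_iff.2 this))

theorem idxChar_not_cusp : ∀ i : Idx F, ¬ IsCusp (idxChar i) := by
  rintro ((α | α) | ⟨z, hz⟩)
  · exact linDet_not_cusp α
  · exact st_not_cusp α
  · induction z using Sym2.ind with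
    | _ a b => exact ps_not_cusp a b

/-- The cuspidal irreducible characters. -/
abbrev Cusp (F : Type u) [Field F] [Fintype F] [DecidableEq F] : Type u :=
  {χ : IrrCharacter (GL (Fin 2) F) // IsCusp (χ : GL (Fin 2) F → ℂ)}

/-- All irreducible characters. -/
noncomputable def irrEquiv : Idx F ⊕ Cusp F ≃ IrrCharacter (GL (Fin 2) F) := by
  classical
  refine Equiv.ofBijective (Sum.elim (fun i => ⟨idxChar i, idxChar_irr i⟩) Subtype.val) ⟨?_, ?_⟩
  · rintro (i | c) (j | d) h
    · exact congrArg Sum.inl (idxChar_injective (congrArg Subtype.val h))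
    · exact absurd (by rw [show idxChar i = _ from congrArg Subtype.val h]; exact d.2) (idxChar_not_cusp i)
    · exact absurd (by rw [show idxChar j = _ from (congrArg Subtype.val h).symm]; exact c.2) (idxChar_not_cusp j)
    · exact congrArg Sum.inr (Subtype.ext h)
  · intro χ
    by_cases hc : IsCusp (χ : GL (Fin 2) F → ℂ)
    · exact ⟨Sum.inr ⟨χ, hc⟩, rfl⟩
    · rcases trichotomy χ.2 hc with ⟨α, h⟩ | ⟨α, h⟩ | ⟨α, β, hne, h⟩
      · exact ⟨Sum.inl (Sum.inl (Sum.inl α)), Subtype.ext h.symm⟩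
      · exact ⟨Sum.inl (Sum.inl (Sum.inr α)), Subtype.ext h.symm⟩
      · exact ⟨Sum.inl (Sum.inr ⟨s(α, β), by simpa using hne⟩), Subtype.ext h.symm⟩

theorem card_GL2 : Nat.card (GL (Fin 2) F) =
    (Fintype.card F - 1) ^ 2 * Fintype.card F * (Fintype.card F + 1) := by
  rw [← (upperTriangularGL 2 F).card_mul_index, card_borel, Subgroup.index,
    ← Nat.card_congr (Equiv.ofBijective _ rep_bijective), Nat.card_eq_fintype_card,
    Fintype.card_option]

theorem card_idx_pairs [Fintype {z : Sym2 (MulChar F ℂ) // ¬ z.IsDiag}] :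
    Fintype.card {z : Sym2 (MulChar F ℂ) // ¬ z.IsDiag} * 2 =
      (Fintype.card F - 1) * (Fintype.card F - 1 - 1) := by
  classical
  haveI : Fintype (MulChar F ℂ) := Fintype.ofFinite _
  have hc : Fintype.card {z : Sym2 (MulChar F ℂ) // ¬ z.IsDiag} =
      (Fintype.card (MulChar F ℂ)).choose 2 := by convert Sym2.card_subtype_not_diag (α := MulChar F ℂ)
  rw [hc, card_mulChar, Nat.choose_two_right]
  rcases Nat.even_mul_pred_self (Fintype.card F - 1) with ⟨k, hk⟩
  omega

/-- Cuspidal characters have degree `q - 1`, and there are `q(q-1)/2` of them. -/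
theorem cusp_count :
    (∀ χ : Cusp F, (χ.1 : GL (Fin 2) F → ℂ) 1 = ((Fintype.card F - 1 : ℕ) : ℂ)) ∧
      Nat.card (Cusp F) * 2 = Fintype.card F * (Fintype.card F - 1) := by
  classical
  haveI : Fintype (MulChar F ℂ) := Fintype.ofFinite _
  haveI : Fintype (Cusp F) := Fintype.ofFinite _
  choose m hm1 hmdeg _hmu using fun χ : Cusp F => cusp_deg χ.1.2 χ.2
  have hsum := Char.sum_sq_deg (G := GL (Fin 2) F)
  rw [← irrEquiv.sum_comp, Fintype.sum_sum_type, card_GL2] at hsum
  have hidx : ∀ i : Idx F, ((irrEquiv (Sum.inl i) : IrrCharacter (GL (Fin 2) F)) :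
      GL (Fin 2) F → ℂ) 1 = Sum.elim (Sum.elim (fun _ => (1 : ℂ)) (fun _ => (Fintype.card F : ℂ)))
      (fun _ => (Fintype.card F : ℂ) + 1) i := idxChar_one
  have hc : ∀ χ : Cusp F, ((irrEquiv (Sum.inr χ) : IrrCharacter (GL (Fin 2) F)) :
      GL (Fin 2) F → ℂ) 1 = (m χ : ℂ) * ((Fintype.card F - 1 : ℕ) : ℂ) := hmdeg
  simp only [hidx, hc, Fintype.sum_sum_type, Sum.elim_inl, Sum.elim_inr, Finset.sum_const,
    Finset.card_univ, nsmul_eq_mul, one_pow, mul_one, card_mulChar, mul_pow, ← Finset.sum_mul] at hsum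
  have hP := card_idx_pairs (F := F)
  have hk := card_classes_ge (F := F)
  rw [← Char.card_irr, ← Nat.card_congr irrEquiv, Nat.card_eq_fintype_card] at hk
  simp only [Fintype.card_sum, card_mulChar] at hk
  set P := Fintype.card {z : Sym2 (MulChar F ℂ) // ¬ z.IsDiag} with hPdef
  set C := Fintype.card (Cusp F) with hCdef
  obtain ⟨n, hn⟩ : ∃ n, Fintype.card F = n + 1 :=
    ⟨Fintype.card F - 1, by have := Fintype.one_lt_card (α := F); omega⟩
  have hn0 : 0 < n := by have := Fintype.one_lt_card (α := F); omega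
  simp only [hn, Nat.add_sub_cancel] at hsum hP hk ⊢
  have hsum' : n + n * (n + 1) ^ 2 + P * (n + 1 + 1) ^ 2 + (∑ χ, m χ ^ 2) * n ^ 2 =
      n ^ 2 * (n + 1) * (n + 1 + 1) := by
    exact_mod_cast hsum
  have hM : (∑ χ, m χ ^ 2) * 2 = (n + 1) * n := by
    rcases n with _ | j
    · omega
    simp only [Nat.add_sub_cancel] at hP
    have e : ((∑ χ, m χ ^ 2) * 2) * (j + 1) ^ 2 = ((j + 1 + 1) * (j + 1)) * (j + 1) ^ 2 := by
      have hP2 := congrArg (fun t => t * (j + 1 + 1 + 1) ^ 2) hP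
      nlinarith [hsum', hP2]
    exact Nat.eq_of_mul_eq_mul_right (by positivity) e
  have hge : C ≤ ∑ χ, m χ ^ 2 := by
    rw [hCdef, Fintype.card_eq_sum_ones]
    exact Finset.sum_le_sum fun χ _ => Nat.one_le_pow _ _ (hm1 χ)
  have hle : (n + 1) * n ≤ C * 2 := by
    have e : (n + 1) ^ 2 = n * n + 2 * n + 1 := by ring
    rcases n with _ | j
    · omega
    · simp only [Nat.add_sub_cancel] at hP
      rw [e, Nat.add_sub_cancel] at hk
      nlinarith
  have hCM : C = ∑ χ, m χ ^ 2 := by omega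
  have hall : ∀ χ, m χ = 1 := by
    intro χ
    have h1 : ∀ ψ ∈ (Finset.univ : Finset (Cusp F)), (1 : ℕ) ≤ m ψ ^ 2 :=
      fun ψ _ => Nat.one_le_pow _ _ (hm1 ψ)
    have h2 := (Finset.sum_eq_sum_iff_of_le h1).1
      (by rw [← hCM, hCdef, Fintype.card_eq_sum_ones]) χ (Finset.mem_univ _)
    have := hm1 χ
    nlinarith
  refine ⟨fun χ => by rw [hmdeg, hall, Nat.cast_one, one_mul, hn, Nat.add_sub_cancel], ?_⟩
  rw [Nat.card_eq_fintype_card, ← hCdef]
  omega

theorem cusp_values {χ : GL (Fin 2) F → ℂ} (hχ : IsIrrCharacter (GL (Fin 2) F) χ) (hc : IsCusp χ) :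
    χ 1 = ((Fintype.card F - 1 : ℕ) : ℂ) ∧ χ (up 1 1 1) = -1 := by
  obtain ⟨m, hm, hdeg, hu⟩ := cusp_deg hχ hc
  have h1 := cusp_count.1 ⟨⟨χ, hχ⟩, hc⟩
  simp only at h1
  rw [hdeg] at h1
  have hq : ((Fintype.card F - 1 : ℕ) : ℂ) ≠ 0 := by
    have := Fintype.one_lt_card (α := F)
    exact_mod_cast (by omega : Fintype.card F - 1 ≠ 0)
  have : (m : ℂ) = 1 := mul_right_cancel₀ hq (by rw [h1, one_mul])
  exact ⟨by rw [hdeg, this, one_mul], by rw [hu, this]⟩

/-- Every irreducible character has one of four shapes. -/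
theorem classify {χ : GL (Fin 2) F → ℂ} (hχ : IsIrrCharacter (GL (Fin 2) F) χ) :
    (∃ α, χ = linDet α) ∨ (∃ α, χ = st α) ∨ (∃ α β, α ≠ β ∧ χ = ps α β) ∨
      (IsCusp χ ∧ χ 1 = ((Fintype.card F - 1 : ℕ) : ℂ) ∧ χ (up 1 1 1) = -1) := by
  by_cases hc : IsCusp χ
  · exact Or.inr (Or.inr (Or.inr ⟨hc, cusp_values hχ hc⟩))
  · rcases trichotomy hχ hc with h | h | h
    · exact Or.inl h
    · exact Or.inr (Or.inl h)
    · exact Or.inr (Or.inr (Or.inl h))

end Cfsg.Agent.Lead.GL2
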