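import Mathlib
import Cfsg.Agent.Lib.Classical.LinBasic
import Cfsg.Agent.Lib.Small.Flags.Count
import Cfsg.Agent.Lib.Small.PSLn.Sylow

/-!
Orders and commutators of `GL_n`, `SL_n`, `PGL_n`, `PSL_n`.
-/

set_option autoImplicit false

namespace Cfsg.Agent.Lead.GLBasic

open Matrix
open scoped MatrixGroups commutatorElement

variable {F : Type*} [Field F]

theorem card_units_eq [Fintype F] : Nat.card Fˣ = Fintype.card F - 1 := by
  classical
  rw [Nat.card_eq_fintype_card, Fintype.card_units]

/-- `SL` is the kernel of `det` on `GL`. -/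
noncomputable def slEquivKer (ι : Type*) [Fintype ι] [DecidableEq ι] :
    Matrix.SpecialLinearGroup ι F ≃
      (Matrix.GeneralLinearGroup.det : GL ι F →* Fˣ).ker where
  toFun A := ⟨SpecialLinearGroup.toGL A, Units.ext A.2⟩
  invFun g := ⟨(g.1 : Matrix ι ι F), by simpa using congrArg Units.val g.2⟩
  left_inv A := rfl
  right_inv g := Subtype.ext (Units.ext rfl)

theorem mem_range_toGL {ι : Type*} [Fintype ι] [DecidableEq ι] {g : GL ι F} :
    g ∈ (SpecialLinearGroup.toGL : Matrix.SpecialLinearGroup ι F →* GL ι F).range ↔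
      g ∈ (Matrix.GeneralLinearGroup.det : GL ι F →* Fˣ).ker := by
  constructor
  · rintro ⟨A, rfl⟩; exact ((slEquivKer ι) A).2
  · intro h; exact ⟨(slEquivKer ι).symm ⟨g, h⟩, Units.ext rfl⟩

theorem card_GL_eq [Fintype F] (n : ℕ) [Nonempty (Fin n)] :
    Nat.card (GL (Fin n) F) =
      (Fintype.card F - 1) * Nat.card (Matrix.SpecialLinearGroup (Fin n) F) := by
  rw [Nat.card_congr (slEquivKer (F := F) (Fin n)), mul_comm, ← card_units_eq,
    ← Subgroup.card_mul_index (Matrix.GeneralLinearGroup.det : GL (Fin n) F →* Fˣ).ker,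
    Subgroup.index_ker, MonoidHom.range_eq_top.mpr Matrix.GeneralLinearGroup.det_surjective,
    Subgroup.card_top]

theorem card_powKer [Fintype F] (n : ℕ) :
    Nat.card (powMonoidHom n : Fˣ →* Fˣ).ker = Nat.gcd (Fintype.card F - 1) n := by
  rw [IsCyclic.card_powMonoidHom_ker, card_units_eq]

theorem card_center_SL [Fintype F] (n : ℕ) [Nonempty (Fin n)] :
    Nat.card (Subgroup.center (Matrix.SpecialLinearGroup (Fin n) F)) =
      Nat.gcd n (Fintype.card F - 1) := by
  have h1 : max (Fintype.card (Fin n)) 1 = n := by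
    have := Fintype.card_pos (α := Fin n); simp only [Fintype.card_fin] at this ⊢; omega
  have h2 : rootsOfUnity n F = (powMonoidHom n : Fˣ →* Fˣ).ker := by
    ext x; simp [mem_rootsOfUnity]
  have e := (Matrix.SpecialLinearGroup.center_equiv_rootsOfUnity (n := Fin n) (R := F)).toEquiv
  rw [Nat.card_congr e, h1, h2, card_powKer, Nat.gcd_comm]

theorem card_PSL [Fintype F] (n : ℕ) [Nonempty (Fin n)] :
    Nat.gcd n (Fintype.card F - 1) * Nat.card (Matrix.ProjectiveSpecialLinearGroup (Fin n) F) =
      Nat.card (Matrix.SpecialLinearGroup (Fin n) F) := by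
  rw [← card_center_SL n, mul_comm]
  exact (Subgroup.card_eq_card_quotient_mul_card_subgroup _).symm

theorem card_center_GL [Fintype F] (n : ℕ) [Nonempty (Fin n)] :
    Nat.card (Subgroup.center (GL (Fin n) F)) = Fintype.card F - 1 := by
  have hinj : Function.Injective (GeneralLinearGroup.scalar (Fin n) : Fˣ →* GL (Fin n) F) := by
    intro a b h
    have := congrArg (fun g : GL (Fin n) F => (g : Matrix (Fin n) (Fin n) F)
      (Classical.arbitrary _) (Classical.arbitrary _)) h
    simpa [GeneralLinearGroup.coe_scalar, Units.ext_iff] using this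
  have h : Subgroup.center (GL (Fin n) F) =
      (GeneralLinearGroup.scalar (Fin n) : Fˣ →* GL (Fin n) F).range :=
    Matrix.GeneralLinearGroup.center_eq_range_scalar
  rw [h, ← Nat.card_congr (MonoidHom.ofInjective hinj).toEquiv, card_units_eq]

theorem card_PGL [Fintype F] (n : ℕ) :
    Nat.card (Matrix.ProjGenLinGroup (Fin n) F) =
      Nat.card (Matrix.SpecialLinearGroup (Fin n) F) := by
  have hq : 1 < Fintype.card F := Fintype.one_lt_card
  rcases Nat.eq_zero_or_pos n with rfl | hn
  · haveI : Subsingleton (Matrix.ProjGenLinGroup (Fin 0) F) :=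
      (Matrix.ProjGenLinGroup.mk_surjective (n := Fin 0) (R := F)).subsingleton
    rw [Nat.card_of_subsingleton (1 : Matrix.ProjGenLinGroup (Fin 0) F),
      Nat.card_of_subsingleton (1 : Matrix.SpecialLinearGroup (Fin 0) F)]
  · haveI : Nonempty (Fin n) := ⟨⟨0, hn⟩⟩
    have h := Subgroup.card_eq_card_quotient_mul_card_subgroup (Subgroup.center (GL (Fin n) F))
    rw [card_GL_eq, card_center_GL, mul_comm] at h
    exact (Nat.eq_of_mul_eq_mul_right (show 0 < Fintype.card F - 1 by omega) h).symm

theorem card_GL_split [Fintype F] (n : ℕ) :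
    Nat.card (GL (Fin n) F) = Fintype.card F ^ n.choose 2 *
      ((Fintype.card F - 1) ^ n * Cfsg.Agent.Small.Flags.qFact (Fintype.card F) n) := by
  rw [Cfsg.Agent.Small.Flags.card_GL_type (F := F) (Fin n), Fintype.card_fin, mul_assoc]

theorem not_dvd_qInt {p q r : ℕ} (hp : p.Prime) (hq : p ∣ q) :
    ¬ p ∣ Cfsg.Agent.Small.Flags.qInt q (r + 1) := by
  intro h
  rw [Cfsg.Agent.Small.Flags.qInt, Finset.sum_range_succ', pow_zero] at h
  have : p ∣ ∑ k ∈ Finset.range r, q ^ (k + 1) :=
    Finset.dvd_sum fun k _ => Dvd.dvd.trans hq (dvd_pow_self q (Nat.succ_ne_zero k))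
  exact hp.one_lt.ne' (Nat.dvd_one.mp ((Nat.dvd_add_right this).mp h))

theorem card_sylow_GL [Fintype F] (p : ℕ) [Fact p.Prime] [CharP F p] (n : ℕ)
    (P : Sylow p (GL (Fin n) F)) : Nat.card P = Fintype.card F ^ n.choose 2 := by
  obtain ⟨f, hp, hF⟩ := FiniteField.card F p
  have hdvd : p ∣ Fintype.card F := hF ▸ dvd_pow_self p f.ne_zero
  have hM : ¬ p ∣ (Fintype.card F - 1) ^ n *
      Cfsg.Agent.Small.Flags.qFact (Fintype.card F) n := by
    intro h
    rcases hp.dvd_mul.mp h with h | h
    · have h1 := hp.dvd_of_dvd_pow h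
      have : p ∣ 1 := by
        have := Nat.dvd_sub hdvd h1
        rwa [Nat.sub_sub_self (Fintype.card_pos)] at this
      exact hp.one_lt.ne' (Nat.dvd_one.mp this)
    · obtain ⟨j, _, hj⟩ := (Prime.dvd_finsetProd_iff hp.prime _).mp h
      exact not_dvd_qInt hp hdvd hj
  rw [Sylow.card_eq_multiplicity, card_GL_split, hF, ← pow_mul]
  rw [hF] at hM
  rw [Nat.factorization_mul (pow_ne_zero _ hp.ne_zero) (fun h => hM (by rw [h]; exact dvd_zero p)),
    Finsupp.add_apply, hp.factorization_pow, Finsupp.single_eq_same,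
    Nat.factorization_eq_zero_of_not_dvd hM, add_zero]

/-- A surjection of a finite cyclic unit group onto `ZMod g` with kernel the `n`-th powers. -/
theorem exists_quot_hom [Fintype F] (n : ℕ) :
    ∃ c : Fˣ →* Multiplicative (ZMod (Nat.gcd n (Fintype.card F - 1))),
      Function.Surjective c ∧ c.ker = (powMonoidHom n : Fˣ →* Fˣ).range := by
  set N := (powMonoidHom n : Fˣ →* Fˣ).range
  haveI : IsCyclic (Fˣ ⧸ N) :=
    isCyclic_of_surjective (QuotientGroup.mk' N) (QuotientGroup.mk'_surjective N)
  have hcard : Nat.card (Fˣ ⧸ N) =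
      Nat.card (Multiplicative (ZMod (Nat.gcd n (Fintype.card F - 1)))) := by
    show N.index = _
    rw [Subgroup.index_range, card_powKer, Nat.gcd_comm, Nat.card_congr Multiplicative.toAdd,
      Nat.card_zmod]
  refine ⟨(mulEquivOfCyclicCardEq hcard).toMonoidHom.comp (QuotientGroup.mk' N),
    (mulEquivOfCyclicCardEq hcard).surjective.comp (QuotientGroup.mk'_surjective N), ?_⟩
  ext x
  simp [MonoidHom.mem_ker]

theorem exists_PGL_hom [Fintype F] (n : ℕ) [Nonempty (Fin n)] :
    ∃ g : Matrix.ProjGenLinGroup (Fin n) F →*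
        Multiplicative (ZMod (Nat.gcd n (Fintype.card F - 1))),
      Function.Surjective g ∧ g.ker = (Matrix.ProjectiveSpecialLinearGroup.toPGL :
        Matrix.ProjectiveSpecialLinearGroup (Fin n) F →* Matrix.ProjGenLinGroup (Fin n) F).range := by
  obtain ⟨c, hc, hker⟩ := exists_quot_hom (F := F) n
  have hf : (c.comp Matrix.GeneralLinearGroup.det).comp (GeneralLinearGroup.scalar (Fin n)) = 1 := by
    ext u
    show c (Matrix.GeneralLinearGroup.det (GeneralLinearGroup.scalar (Fin n) u)) = 1
    rw [← MonoidHom.mem_ker, hker]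
    exact ⟨u, Units.ext (by simp)⟩
  refine ⟨Matrix.ProjGenLinGroup.lift _ hf, ?_, ?_⟩
  · intro y
    obtain ⟨A, hA⟩ := (hc.comp (Matrix.GeneralLinearGroup.det_surjective (n := Fin n) (R := F))) y
    exact ⟨Matrix.ProjGenLinGroup.mk A, by rw [Matrix.ProjGenLinGroup.lift_mk]; exact hA⟩
  · ext y
    induction y using Matrix.ProjGenLinGroup.induction_on with
    | mk A =>
      rw [MonoidHom.mem_ker, Matrix.ProjGenLinGroup.lift_mk, MonoidHom.comp_apply,
        ← MonoidHom.mem_ker, hker]
      constructor
      · rintro ⟨k, hk⟩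
        have hdet : A * (GeneralLinearGroup.scalar (Fin n) k)⁻¹ ∈
            (Matrix.GeneralLinearGroup.det : GL (Fin n) F →* Fˣ).ker := by
          rw [MonoidHom.mem_ker, map_mul, map_inv, mul_inv_eq_one, ← hk]
          exact Units.ext (by simp)
        obtain ⟨S, hS⟩ := mem_range_toGL.mpr hdet
        refine ⟨QuotientGroup.mk S, ?_⟩
        rw [Matrix.ProjectiveSpecialLinearGroup.toPGL_mk, hS, map_mul, map_inv,
          Matrix.ProjGenLinGroup.mk_scalar, inv_one, mul_one]
      · rintro ⟨S, hS⟩
        induction S using QuotientGroup.induction_on with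
        | H S =>
          rw [Matrix.ProjectiveSpecialLinearGroup.toPGL_mk,
            Matrix.ProjGenLinGroup.mk_eq_mk_iff] at hS
          obtain ⟨u, hu⟩ := hS
          refine ⟨u, ?_⟩
          rw [← hu, map_mul]
          refine Units.ext ?_
          simp

theorem diag_mul_transvection {ι : Type*} [Fintype ι] [DecidableEq ι] (d : ι → F) {i j : ι}
    (hij : i ≠ j) (e e' : F) (he : d i * e = e' * d j) :
    Matrix.diagonal d * Matrix.transvection i j e = Matrix.transvection i j e' * Matrix.diagonal d := by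
  ext x y
  rw [Matrix.diagonal_mul, Matrix.mul_diagonal]
  simp only [Matrix.transvection, Matrix.add_apply, Matrix.single_apply, Matrix.one_apply]
  by_cases hxy : x = y
  · subst hxy
    have : ¬ (i = x ∧ j = x) := fun h => hij (h.1.trans h.2.symm)
    simp [this, mul_comm]
  · by_cases h : i = x ∧ j = y
    · obtain ⟨rfl, rfl⟩ := h
      simp [hxy, he]
    · simp [hxy, h]

theorem transvection_mem_commutatorSet {n : ℕ}
    (hn : 3 ≤ n ∨ (n = 2 ∧ ∃ x : F, x ≠ 0 ∧ x ^ 2 ≠ 1)) (i j : Fin n) (hij : i ≠ j) (c : F) :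
    SpecialLinearGroup.transvection hij c ∈ commutatorSet (Matrix.SpecialLinearGroup (Fin n) F) := by
  classical
  rcases hn with hn | ⟨rfl, x, hx0, hx1⟩
  · obtain ⟨k, hki, hkj⟩ : ∃ k : Fin n, k ≠ i ∧ k ≠ j := by
      have : ({i, j} : Finset (Fin n)).card < (Finset.univ : Finset (Fin n)).card := by
        rw [Finset.card_univ, Fintype.card_fin]
        exact lt_of_le_of_lt Finset.card_le_two (by omega)
      obtain ⟨k, _, hk⟩ := Finset.exists_mem_notMem_of_card_lt_card this
      exact ⟨k, fun h => hk (by simp [h]), fun h => hk (by simp [h])⟩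
    refine ⟨_, _, Cfsg.Agent.Classical.sl_transvection_commutator hij hki.symm hkj c 1 |>.trans ?_⟩
    rw [mul_one]
  · refine ⟨SpecialLinearGroup.diag2n hij x hx0,
      SpecialLinearGroup.transvection hij (c / (x ^ 2 - 1)), ?_⟩
    have h1 : x ^ 2 - 1 ≠ 0 := sub_ne_zero.mpr hx1
    have hd : SpecialLinearGroup.diag2n hij x hx0 *
        SpecialLinearGroup.transvection hij (c / (x ^ 2 - 1)) =
        SpecialLinearGroup.transvection hij (x ^ 2 * (c / (x ^ 2 - 1))) *
          SpecialLinearGroup.diag2n hij x hx0 := by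
      apply Subtype.ext
      show (SpecialLinearGroup.diag2n hij x hx0).1 * Matrix.transvection i j _ =
        Matrix.transvection i j _ * (SpecialLinearGroup.diag2n hij x hx0).1
      rw [SpecialLinearGroup.diag2n_coe]
      refine diag_mul_transvection _ hij _ _ ?_
      simp [hij, hij.symm]
      field_simp
    rw [commutatorElement_def, hd, mul_inv_cancel_right, SpecialLinearGroup.transvection_inv,
      ← SpecialLinearGroup.transvection_add]
    congr 1
    field_simp
    ring

theorem commutator_GL (n : ℕ) (h : n = 2 → ∃ a : F, a ≠ 0 ∧ a ≠ 1) :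
    commutator (GL (Fin n) F) = (Matrix.GeneralLinearGroup.det : GL (Fin n) F →* Fˣ).ker := by
  classical
  refine le_antisymm (Abelianization.commutator_subset_ker _) ?_
  intro g hg
  obtain ⟨S, rfl⟩ : g ∈ (SpecialLinearGroup.toGL :
      Matrix.SpecialLinearGroup (Fin n) F →* GL (Fin n) F).range := mem_range_toGL.mpr hg
  rcases Nat.lt_or_ge n 2 with hn | hn
  · haveI : Subsingleton (Fin n) := Fin.subsingleton_iff_le_one.mpr (by omega)
    rw [Subsingleton.elim S 1, map_one]; exact one_mem _
  haveI : Nontrivial (Fin n) := Fin.nontrivial_iff_two_le.mpr hn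
  suffices hs : (⊤ : Subgroup (Matrix.SpecialLinearGroup (Fin n) F)) ≤
      (commutator (GL (Fin n) F)).comap SpecialLinearGroup.toGL from hs (Subgroup.mem_top S)
  rw [← Cfsg.Agent.Classical.sl_closure_transvections, Subgroup.closure_le]
  rintro _ ⟨i, j, hij, c, rfl⟩
  by_cases h3 : 3 ≤ n
  · obtain ⟨a, b, hab⟩ := transvection_mem_commutatorSet (Or.inl h3) i j hij c
    simp only [Subgroup.coe_comap, Set.mem_preimage, SetLike.mem_coe]
    rw [← hab, map_commutatorElement]
    exact Subgroup.commutator_mem_commutator (Subgroup.mem_top _) (Subgroup.mem_top _)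
  obtain ⟨a, ha0, ha1⟩ := h (by omega)
  obtain rfl : n = 2 := by omega
  let d : GL (Fin 2) F := Matrix.GeneralLinearGroup.mkOfDetNeZero
    (Matrix.diagonal fun k => if k = i then a else 1)
    (by simp [Matrix.det_diagonal, Finset.prod_ite_eq', ha0])
  have : SpecialLinearGroup.toGL (SpecialLinearGroup.transvection hij c) =
      ⁅d, SpecialLinearGroup.toGL (SpecialLinearGroup.transvection hij (c / (a - 1)))⁆ := by
    have h1 : a - 1 ≠ 0 := sub_ne_zero.mpr ha1
    have hd : d * SpecialLinearGroup.toGL (SpecialLinearGroup.transvection hij (c / (a - 1))) =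
        SpecialLinearGroup.toGL (SpecialLinearGroup.transvection hij (a * (c / (a - 1)))) * d := by
      apply Units.ext
      refine diag_mul_transvection (fun k => if k = i then a else 1) hij _ _ ?_
      simp [hij.symm]
    rw [commutatorElement_def, hd, mul_inv_cancel_right, ← map_inv,
      SpecialLinearGroup.transvection_inv, ← map_mul, ← SpecialLinearGroup.transvection_add]
    congr 2
    field_simp
    ring
  simp only [Subgroup.coe_comap, Set.mem_preimage, SetLike.mem_coe, Subgroup.mem_comap]
  rw [this]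
  exact Subgroup.commutator_mem_commutator (Subgroup.mem_top _) (Subgroup.mem_top _)

theorem coe_mkDet {ι : Type*} [Fintype ι] [DecidableEq ι] (A : Matrix ι ι F) (h : A.det ≠ 0) :
    (Matrix.GeneralLinearGroup.mkOfDetNeZero A h : Matrix ι ι F) = A := rfl

theorem card_lowerTriangular [Fintype F] (n : ℕ) :
    Nat.card {g : GL (Fin n) F // ∀ i j : Fin n, i < j → (g : Matrix (Fin n) (Fin n) F) i j = 0} =
      Fintype.card F ^ (n.choose 2) * (Fintype.card F - 1) ^ n := by
  classical
  let S := {p : Fin n × Fin n // p.2 < p.1}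
  let M : ((Fin n → Fˣ) × (S → F)) → Matrix (Fin n) (Fin n) F := fun x i j =>
    if h : j < i then x.2 ⟨(i, j), h⟩ else if i = j then (x.1 i : F) else 0
  have hup : ∀ x i j, i < j → M x i j = 0 := fun x i j h => by
    simp [M, h.not_gt, h.ne]
  have hdet : ∀ x, (M x).det ≠ 0 := fun x => by
    rw [Matrix.det_of_isLowerTriangular _ (fun i j h => hup x i j h)]
    exact Finset.prod_ne_zero_iff.mpr fun i _ => by simp [M]
  let e : ((Fin n → Fˣ) × (S → F)) ≃
      {g : GL (Fin n) F // ∀ i j : Fin n, i < j → (g : Matrix (Fin n) (Fin n) F) i j = 0} :=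
    { toFun := fun x => ⟨Matrix.GeneralLinearGroup.mkOfDetNeZero (M x) (hdet x), hup x⟩
      invFun := fun g => (fun i => Units.mk0 ((g.1 : Matrix (Fin n) (Fin n) F) i i) (by
          have h := (Matrix.GeneralLinearGroup.det g.1).ne_zero
          rw [Matrix.GeneralLinearGroup.val_det_apply,
            Matrix.det_of_isLowerTriangular _ (fun i j h => g.2 i j h)] at h
          exact Finset.prod_ne_zero_iff.mp h i (Finset.mem_univ i)),
        fun p => (g.1 : Matrix (Fin n) (Fin n) F) p.1.1 p.1.2)
      left_inv := fun x => by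
        refine Prod.ext (funext fun i => Units.ext ?_) (funext fun p => ?_)
        · show M x i i = _
          simp [M]
        · show M x p.1.1 p.1.2 = _
          simp [M, p.2]
      right_inv := fun g => by
        refine Subtype.ext (Units.ext (Matrix.ext fun i j => ?_))
        show M _ i j = _
        rcases lt_trichotomy i j with h | h | h
        · simp [M, h.not_gt, h.ne, g.2 i j h]
        · subst h; simp [M]
        · simp [M, h] }
  have hS : Nat.card S = n.choose 2 := by
    rw [← Cfsg.Agent.Small.PSLn.card_lt_pairs (n := n)]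
    exact Nat.card_congr ((Equiv.prodComm _ _).subtypeEquiv fun p => Iff.rfl)
  rw [← Nat.card_congr e, Nat.card_prod, Nat.card_fun, Nat.card_fun, hS, card_units_eq,
    Nat.card_fin, Nat.card_eq_fintype_card, mul_comm]

end Cfsg.Agent.Lead.GLBasic
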