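/-
The predicate "known simple group" depends only on the isomorphism type.
-/
import Mathlib
import Cfsg.Prelude.Def_Classification2

set_option autoImplicit false

namespace Cfsg.Agent.KnownCongr

theorem nonempty_congr_left {A B X : Type*} [Group A] [Group B] [Group X] (e : A ≃* B) :
    Nonempty (A ≃* X) ↔ Nonempty (B ≃* X) :=
  ⟨fun ⟨f⟩ => ⟨e.symm.trans f⟩, fun ⟨f⟩ => ⟨e.trans f⟩⟩

open Cfsg in
theorem isKnownSimple'_congr {A B : Type*} [Group A] [Group B] (e : A ≃* B) :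
    IsKnownSimple' A ↔ IsKnownSimple' B := by
  simp only [IsKnownSimple', IsPrimeCyclic, IsAlternating, IsPSL, IsPSp, IsPSU, IsPOmegaOdd, IsPOmegaPlus,
    IsPOmegaMinus, IsExceptionalLieType, IsSporadicGroup,
    Lie.IsoChevG2, Lie.IsoF4, Lie.IsoChevE6, Lie.IsoE7, Lie.IsoE8, Lie.Iso2E6, Lie.Iso3D4, Lie.IsoSuzuki,
    Lie.IsoRee, Lie.Iso2F4, Lie.IsoTits, Lie.ChevalleyDatum.IsGroupOver,
    Spor.IsoM11, Spor.IsoM12, Spor.IsoM22, Spor.IsoM23, Spor.IsoM24, Spor.IsoJ1, Spor.IsoJ2, Spor.IsoJ3,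
    Spor.IsoJ4, Spor.IsoCo1, Spor.IsoCo2, Spor.IsoCo3, Spor.IsoMcL, Spor.IsoHS, Spor.IsoSuz, Spor.IsoHe,
    Spor.IsoRu, Spor.IsoON, Spor.IsoLy, Spor.IsoFi22, Spor.IsoFi23, Spor.IsoFi24', Spor.IsoHN, Spor.IsoTh,
    Spor.IsoB, Spor.IsoM, nonempty_congr_left e, Nat.card_congr e.toEquiv]

end Cfsg.Agent.KnownCongr
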