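import Mathlib
import Cfsg.Agent.Lib.Lead.GLBasic

/-!
The quaternion subgroup of `SL_2(3)`.
-/

set_option autoImplicit false

namespace Cfsg.Agent.Lead.SL23

open Matrix

abbrev S3 := Matrix.SpecialLinearGroup (Fin 2) (ZMod 3)

def qi : S3 := ⟨!![0, -1; 1, 0], by decide⟩
def qj : S3 := ⟨!![1, 1; 1, -1], by decide⟩

def qFun : QuaternionGroup 2 → S3
  | .a k => qi ^ k.val
  | .xa k => qj * qi ^ k.val

theorem qFun_mul : ∀ x y : QuaternionGroup 2, qFun (x * y) = qFun x * qFun y := by decide +kernel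

def qHom : QuaternionGroup 2 →* S3 := MonoidHom.mk' qFun qFun_mul

theorem qHom_inj : Function.Injective qHom := by
  have h : ∀ x y : QuaternionGroup 2, qFun x = qFun y → x = y := by decide +kernel
  exact fun x y e => h x y e

theorem qConj : ∀ (i j : Fin 2) (h : i ≠ j) (c : ZMod 3) (x : QuaternionGroup 2),
    ∃ y, SpecialLinearGroup.transvection h c * qFun x * SpecialLinearGroup.transvection h (-c) =
      qFun y := by decide +kernel

theorem normal_range : qHom.range.Normal := by
  have htop : Subgroup.closure {g : S3 |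
      ∃ (i j : Fin 2) (h : i ≠ j) (c : ZMod 3), g = SpecialLinearGroup.transvection h c} = ⊤ :=
    Cfsg.Agent.Classical.sl_closure_transvections
  refine Subgroup.normalizer_eq_top_iff.mp (eq_top_iff.mpr ?_)
  rw [← htop, Subgroup.closure_le]
  rintro _ ⟨i, j, h, c, rfl⟩
  rw [SetLike.mem_coe, Subgroup.mem_normalizer_iff]
  intro n
  constructor
  · rintro ⟨x, rfl⟩
    obtain ⟨y, hy⟩ := qConj i j h c x
    exact ⟨y, by rw [SpecialLinearGroup.transvection_inv]; exact hy.symm⟩
  · rintro ⟨x, hx⟩
    obtain ⟨y, hy⟩ := qConj i j h (-c) x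
    refine ⟨y, ?_⟩
    show qFun y = n
    rw [← hy, neg_neg, show qFun x = qHom x from rfl, hx, ← SpecialLinearGroup.transvection_inv]
    group

theorem result {F : Type*} [Field F] [Fintype F] (hF : Fintype.card F = 3) :
    (∃ Q : Subgroup (Matrix.SpecialLinearGroup (Fin 2) F),
      Q.Normal ∧ Q.index = 3 ∧ Nonempty (Q ≃* QuaternionGroup 2)) ∧
    Nat.card (Subgroup.center (Matrix.SpecialLinearGroup (Fin 2) F)) = 2 := by
  haveI : Fact (Nat.Prime 3) := ⟨by norm_num⟩
  haveI : CharP F 3 := by
    obtain ⟨p, hp⟩ := CharP.exists F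
    obtain ⟨n, hp', hc⟩ := FiniteField.card F p
    rw [hF] at hc
    obtain ⟨rfl, -⟩ := (Nat.Prime.pow_eq_iff (by norm_num)).mp hc.symm
    exact hp
  let e : ZMod 3 ≃+* F := ZMod.ringEquiv F hF
  let m : S3 →* Matrix.SpecialLinearGroup (Fin 2) F := SpecialLinearGroup.map e.toRingHom
  have hm : Function.Injective m := fun a b h => Subtype.ext (Matrix.ext fun i j =>
    e.injective (congrArg (fun z : Matrix.SpecialLinearGroup (Fin 2) F =>
      (z : Matrix (Fin 2) (Fin 2) F) i j) h))
  have hsurj : Function.Surjective m := fun A => by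
    refine ⟨SpecialLinearGroup.map e.symm.toRingHom A, Subtype.ext (Matrix.ext fun i j => ?_)⟩
    simp [m]
  refine ⟨⟨(qHom.range).map m, normal_range.map m hsurj, ?_, ⟨?_⟩⟩, ?_⟩
  · have h1 := Subgroup.card_mul_index ((qHom.range).map m)
    have h2 := GLBasic.card_GL_eq (F := F) 2
    rw [Subgroup.card_map_of_injective hm, ← Nat.card_congr (MonoidHom.ofInjective qHom_inj).toEquiv,
      Nat.card_eq_fintype_card, QuaternionGroup.card] at h1
    rw [Matrix.card_GL_field, hF, Fin.prod_univ_two] at h2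
    norm_num at h2
    omega
  · exact ((MonoidHom.ofInjective qHom_inj).trans
      (qHom.range.equivMapOfInjective m hm)).symm
  · rw [GLBasic.card_center_SL, hF]; rfl

end Cfsg.Agent.Lead.SL23
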