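import Cfsg.Agent.Lib.Lead.WardCore
import Cfsg.Agent.Lib.Solv.Cores
import Cfsg.Agent.Lib.Solv.ThompsonFPF
import Cfsg.Agent.Lib.Solv.Engel
import Cfsg.Agent.Lib.Solv.Parts
import Mathlib.GroupTheory.SemidirectProduct

/-!
Ward's theorem: Fitting height at most two.
-/

set_option autoImplicit false

open scoped Classical commutatorElement

namespace Cfsg.Agent.Lead.Ward

universe u

variable {Γ : Type u} [Group Γ] [Finite Γ] {p : ℕ} [hp : Fact p.Prime]

/-- Fixed-point-free normal subgroups have order prime to `p`. -/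
theorem coprime_of_fpf (K A : Subgroup Γ) [hK : K.Normal] (hA : IsPGroup p A)
    (hfix : K ⊓ Subgroup.centralizer (A : Set Γ) = ⊥) : (Nat.card K).Coprime p := by
  refine Nat.Coprime.symm (hp.out.coprime_iff_not_dvd.2 fun hdvd => ?_)
  obtain ⟨P, hP⟩ := hA.exists_le_sylow
  haveI : K.Normal := hK
  have hne : (P : Subgroup Γ) ⊓ K ≠ ⊥ := by
    intro e
    obtain ⟨k, hk⟩ := exists_prime_orderOf_dvd_card' p hdvd
    have hkp : IsPGroup p (Subgroup.zpowers (k : Γ)) :=
      IsPGroup.of_card (n := 1) (by rw [Nat.card_zpowers, Subgroup.orderOf_coe, hk, pow_one])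
    obtain ⟨P', hP'⟩ := hkp.exists_le_sylow
    obtain ⟨g, hg⟩ := MulAction.exists_smul_eq Γ P' P
    have h1 : g * (k : Γ) * g⁻¹ ∈ (P : Subgroup Γ) ⊓ K := by
      refine ⟨?_, hK.conj_mem _ k.2 g⟩
      rw [← hg, Sylow.coe_subgroup_smul]
      exact ⟨k, hP' (Subgroup.mem_zpowers _), rfl⟩
    rw [e, Subgroup.mem_bot, conj_eq_one_iff] at h1
    rw [← Subgroup.orderOf_coe, h1, orderOf_one] at hk
    exact hp.out.one_lt.ne hk
  obtain ⟨x, hx, hx1, hxs⟩ := QdTwo.exists_fix (P : Subgroup Γ) P.isPGroup' ((P : Subgroup Γ) ⊓ K) ⊥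
    inf_le_left (fun s hs c hc => ⟨Subgroup.mul_mem _ (Subgroup.mul_mem _ hs hc.1) (Subgroup.inv_mem _ hs), hK.conj_mem c hc.2 s⟩)
    (fun h => hne (le_bot_iff.1 h))
  exact hx1 (hfix ▸ ⟨hx.2, Subgroup.mem_centralizer_iff.2 fun a ha =>
    (commutatorElement_eq_one_iff_mul_comm.1 (Subgroup.mem_bot.1 (hxs a (hP ha)))).symm⟩)

variable {A : Subgroup Γ} (hAab : ∀ a ∈ A, ∀ b ∈ A, a * b = b * a) (hAp : ∀ a ∈ A, a ^ p = 1)
  (hAcard : Nat.card A = p ^ 2)

omit [Finite Γ] in
theorem A_coprime {K : Subgroup Γ} (hAcard : Nat.card A = p ^ 2) (hco : (Nat.card K).Coprime p) :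
    (Nat.card A).Coprime (Nat.card K) := by rw [hAcard]; exact (hco.symm).pow_left 2

include hAab hAcard in
/-- Fixed points of a quotient. -/
theorem fix_quot (K N : Subgroup Γ) [N.Normal] [K.Normal] (hNK : N ≤ K)
    (hco : (Nat.card K).Coprime p) (hfix : K ⊓ Subgroup.centralizer (A : Set Γ) = ⊥) :
    K.map (QuotientGroup.mk' N) ⊓ Subgroup.centralizer (A.map (QuotientGroup.mk' N) : Set (Γ ⧸ N)) = ⊥ := by
  rw [eq_bot_iff]
  rintro _ ⟨⟨k, hk, rfl⟩, hc⟩
  have hsol : Group.IsSolvable A := Group.isSolvable_of_comm fun a b => Subtype.ext (hAab a a.2 b b.2)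
  obtain ⟨c, hc', hkc⟩ := Solv.exists_fixed_in_coset' A K N
    (fun a _ => Subgroup.normalizer_eq_top_iff.2 ‹K.Normal› ▸ Subgroup.mem_top a) (A_coprime hAcard hco)
    (Or.inl hsol) hNK (fun a _ => Subgroup.normalizer_eq_top_iff.2 ‹N.Normal› ▸ Subgroup.mem_top a) hk
    (fun a ha => by
      rw [← QuotientGroup.eq_one_iff]
      have := Subgroup.mem_centralizer_iff.1 hc _ ⟨a, ha, rfl⟩
      change (k : Γ ⧸ N)⁻¹ * ((a : Γ ⧸ N) * k * (a : Γ ⧸ N)⁻¹) = 1
      rw [show (a : Γ ⧸ N) * k = k * a from this, mul_inv_cancel_right, inv_mul_cancel])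
  rw [hfix, Subgroup.mem_bot] at hc'
  rw [hc', mul_one] at hkc
  exact Subgroup.mem_bot.2 ((QuotientGroup.eq_one_iff k).2 (by simpa using inv_mem hkc))

include hp hAab hAp hAcard in
/-- Centralizers of nontrivial elements are nilpotent. -/
theorem centralizer_nilpotent {H : Subgroup Γ} [H.Normal]
    (hfix : H ⊓ Subgroup.centralizer (A : Set Γ) = ⊥) {d : Γ} (hd : d ∈ A) (hd1 : d ≠ 1) :
    Group.IsNilpotent ↥(H ⊓ Subgroup.centralizer ({d} : Set Γ)) := by
  obtain ⟨e, he, hed⟩ : ∃ e ∈ A, e ∉ Subgroup.zpowers d := by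
    by_contra h
    push Not at h
    have hc := Subgroup.card_dvd_of_le (show A ≤ Subgroup.zpowers d from h)
    rw [Nat.card_zpowers, orderOf_eq_prime (hAp d hd) hd1, hAcard] at hc
    have := Nat.le_of_dvd hp.out.pos hc
    rw [pow_two] at this
    have := Nat.lt_mul_self_iff.2 hp.out.one_lt
    omega
  have hmem : ∀ {x}, x ∈ Subgroup.centralizer ({d} : Set Γ) ↔ d * x = x * d := fun {x} =>
    ⟨fun h => Subgroup.mem_centralizer_iff.1 h d rfl, fun h => Subgroup.mem_centralizer_iff.2 (by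
      intro z hz; rw [Set.mem_singleton_iff] at hz; rw [hz]; exact h)⟩
  refine Solv.fpf_nilpotent _ e hp.out (hAp e he) (Subgroup.mem_normalizer_iff.2 fun x => ?_) ?_
  · have hconj : ∀ g ∈ A, ∀ y, d * y = y * d → d * (g * y * g⁻¹) = g * y * g⁻¹ * d := by
      intro g hg y hy
      calc d * (g * y * g⁻¹) = d * g * y * g⁻¹ := by group
        _ = g * (d * y) * g⁻¹ := by rw [hAab d hd g hg]; group
        _ = g * y * (d * g⁻¹) := by rw [hy]; group
        _ = g * y * g⁻¹ * d := by rw [hAab d hd _ (inv_mem hg)]; group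
    refine ⟨fun hx => ⟨‹H.Normal›.conj_mem x hx.1 e, hmem.2 (hconj e he x (hmem.1 hx.2))⟩,
      fun hx => ⟨?_, hmem.2 ?_⟩⟩
    · simpa [mul_assoc] using ‹H.Normal›.conj_mem _ hx.1 e⁻¹
    · simpa [mul_assoc] using hconj e⁻¹ (inv_mem he) _ (hmem.1 hx.2)
  · rw [eq_bot_iff, ← hfix]
    rintro x ⟨⟨hxH, hxd⟩, hxe⟩
    exact ⟨hxH, commute_of_two hAp hAcard hd hd1 he hed (hmem.1 hxd)
      (Subgroup.mem_centralizer_iff.1 hxe e rfl)⟩

omit [Finite Γ] in
/-- Elements of coprime order in a nilpotent subgroup commute. -/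
theorem commute_of_nilpotent [Finite Γ] (L : Subgroup Γ) (hL : Group.IsNilpotent L) {u v : Γ}
    (hu : u ∈ L) (hv : v ∈ L) {q k : ℕ} [Fact q.Prime] (huo : orderOf u = q ^ k)
    (hvo : (orderOf v).Coprime q) : u * v = v * u :=
  haveI := hL
  congrArg Subtype.val (Solv.commute_of_coprime_nilpotent (u := (⟨u, hu⟩ : L)) (v := ⟨v, hv⟩)
    (by rw [Subgroup.orderOf_mk, huo]) (by rw [Subgroup.orderOf_mk]; exact hvo)).eq

set_option maxHeartbeats 1000000 in
/-- The induction. -/
theorem ward_aux : ∀ (n : ℕ) {Γ : Type u} [Group Γ] [Finite Γ] (K A : Subgroup Γ) [K.Normal],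
    Nat.card K = n → Group.IsSolvable K → (∀ a ∈ A, ∀ b ∈ A, a * b = b * a) →
    (∀ a ∈ A, a ^ p = 1) → Nat.card A = p ^ 2 → K ⊓ Subgroup.centralizer (A : Set Γ) = ⊥ →
    ∃ F : Subgroup K, ∃ hF : F.Normal, Group.IsNilpotent F ∧ Group.IsNilpotent (K ⧸ F) := by
  intro n
  induction n using Nat.strong_induction_on with
  | _ n ih =>
  intro Γ _ _ K A _ hn hKs hAab hAp hAcard hfix
  subst hn
  have hco : (Nat.card K).Coprime p :=
    coprime_of_fpf K A (IsPGroup.of_card (n := 2) hAcard) hfix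
  rcases eq_or_ne K ⊥ with hKb | hKb
  · haveI : Subsingleton K := by subst hKb; infer_instance
    exact ⟨⊥, inferInstance, inferInstance, inferInstance⟩
  obtain ⟨V, hV, hVb, hVK, hVmin⟩ := Solv.exists_minimal_normal_le K hKb
  haveI := hV
  have hVs : Group.IsSolvable V := Solv.isSolvable_of_le hVK hKs
  obtain ⟨hVab, r, hr, hVexp, hVr⟩ := Solv.minimal_normal_elementaryAbelian V hVs hVb hVmin
  haveI : Fact r.Prime := ⟨hr⟩
  -- induction on the quotient
  set π := QuotientGroup.mk' V with hπ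
  haveI : (K.map π).Normal := (inferInstance : K.Normal).map π (QuotientGroup.mk'_surjective V)
  have hlt : Nat.card (K.map π) < Nat.card K := by
    have h := Solv.card_map_mul_card_inf_ker π K
    rw [QuotientGroup.ker_mk', inf_eq_left.2 hVK] at h
    have h2 : 1 < Nat.card V := (Subgroup.one_lt_card_iff_ne_bot V).2 hVb
    have hpos : 0 < Nat.card (K.map π) := Nat.card_pos
    nlinarith
  have hAinf : A ⊓ π.ker = ⊥ := by
    rw [QuotientGroup.ker_mk']
    exact Solv.coprime_inf ((A_coprime hAcard hco).coprime_dvd_right (Subgroup.card_dvd_of_le hVK))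
  obtain ⟨F1, hF1n, hF1, hF1q⟩ := ih _ hlt (K.map π) (A.map π) rfl (Solv.isSolvable_map π hKs)
    (by rintro _ ⟨a, ha, rfl⟩ _ ⟨b, hb, rfl⟩; rw [← map_mul, ← map_mul, hAab a ha b hb])
    (by rintro _ ⟨a, ha, rfl⟩; rw [← map_pow, hAp a ha, map_one])
    (by
      have h := Solv.card_map_mul_card_inf_ker π A
      rwa [inf_comm, hAinf, Subgroup.card_bot, mul_one, hAcard] at h)
    (fix_quot hAab hAcard K V hVK hco hfix)
  haveI := hF1n
  -- the quotient by the centralizer of `V`
  set C := K ⊓ Subgroup.centralizer (V : Set Γ) with hC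
  haveI hCn : C.Normal := by rw [hC]; infer_instance
  set θ := QuotientGroup.mk' C with hθ
  set H := K.map θ with hH
  haveI hHn : H.Normal := (inferInstance : K.Normal).map θ (QuotientGroup.mk'_surjective C)
  suffices hHnil : Group.IsNilpotent H by
    let f1 : K →* K.map π := (π.comp K.subtype).codRestrict _ fun k => Subgroup.mem_map_of_mem π k.2
    let f2 : K →* H := (θ.comp K.subtype).codRestrict _ fun k => Subgroup.mem_map_of_mem θ k.2
    let ψ : K →* (K.map π ⧸ F1) × H := ((QuotientGroup.mk' F1).comp f1).prod f2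
    refine ⟨ψ.ker, inferInstance, ?_, ?_⟩
    · haveI := hF1
      refine Subgroup.isNilpotent_of_ker_le_center
        ((f1.comp ψ.ker.subtype).codRestrict F1 fun k =>
          (QuotientGroup.eq_one_iff _).1 (congrArg Prod.fst (MonoidHom.mem_ker.1 k.2))) ?_
      intro k hk
      have hkV : ((k : K) : Γ) ∈ V :=
        (QuotientGroup.eq_one_iff _).1 (congrArg (fun x : F1 => ((x : K.map π) : Γ ⧸ V)) hk)
      rw [Subgroup.mem_center_iff]
      intro l
      have hlC : ((l : K) : Γ) ∈ C :=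
        (QuotientGroup.eq_one_iff _).1 (congrArg (fun x : H => (x : Γ ⧸ C)) (congrArg Prod.snd (MonoidHom.mem_ker.1 l.2)))
      exact Subtype.ext (Subtype.ext (Subgroup.mem_centralizer_iff.1 hlC.2 _ hkV).symm)
    · haveI := hF1q
      haveI := hHnil
      exact Group.nilpotent_of_mulEquiv (QuotientGroup.quotientKerEquivRange ψ).symm
  -- the action
  let act : Γ ⧸ C →* MulAut V := QuotientGroup.lift C MulAut.conjNormal fun c hc => by
    rw [MonoidHom.mem_ker]
    ext v
    rw [MulAut.conjNormal_apply, ← Subgroup.mem_centralizer_iff.1 hc.2 v v.2, mul_inv_cancel_right,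
      MulAut.one_apply]
  have hact : ∀ (g : Γ) (v : V), (act (g : Γ ⧸ C) v : Γ) = g * v * g⁻¹ :=
    fun g v => MulAut.conjNormal_apply g v
  letI : CommGroup V := { (inferInstance : Group V) with mul_comm := hVab.is_comm.comm }
  let ρ : Γ ⧸ C →* AddMonoid.End (Additive V) :=
    { toFun := fun g => MonoidHom.toAdditive (act g).toMonoidHom
      map_one' := by ext v; simp only [map_one]; rfl
      map_mul' := fun g h => by ext v; simp only [map_mul]; rfl }
  set A' := A.map θ with hA'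
  have hA'inf : A ⊓ θ.ker = ⊥ := by
    rw [QuotientGroup.ker_mk']
    exact Solv.coprime_inf ((A_coprime hAcard hco).coprime_dvd_right (Subgroup.card_dvd_of_le inf_le_left))
  have hA'ab : ∀ a ∈ A', ∀ b ∈ A', a * b = b * a := by
    rintro _ ⟨a, ha, rfl⟩ _ ⟨b, hb, rfl⟩; rw [← map_mul, ← map_mul, hAab a ha b hb]
  have hA'p : ∀ a ∈ A', a ^ p = 1 := by rintro _ ⟨a, ha, rfl⟩; rw [← map_pow, hAp a ha, map_one]
  have hA'card : Nat.card A' = p ^ 2 := by
    have h := Solv.card_map_mul_card_inf_ker θ A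
    rwa [inf_comm, hA'inf, Subgroup.card_bot, mul_one, hAcard] at h
  have hfixH : H ⊓ Subgroup.centralizer (A' : Set (Γ ⧸ C)) = ⊥ :=
    fix_quot hAab hAcard K C inf_le_left hco hfix
  have hHco : (Nat.card H).Coprime p :=
    coprime_of_fpf H A' (IsPGroup.of_card (n := 2) hA'card) hfixH
  have hHs : Group.IsSolvable H := Solv.isSolvable_map θ hKs
  -- no normal `r`-subgroup
  have hcore : Cfsg.pCore r H = ⊥ := by
    haveI : (Cfsg.pCore r H).Normal := Solv.pCore_normal r
    haveI hchar : (Cfsg.pCore r H).Characteristic := by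
      refine Subgroup.characteristic_iff_map_le.2 fun e => ?_
      haveI : ((Cfsg.pCore r H).map e.toMonoidHom).Normal :=
        (Solv.pCore_normal r).map _ e.surjective
      exact Solv.normal_le_pCore ((Solv.pCore_isPGroup r).map _)
    set R := (Cfsg.pCore r H).map H.subtype with hR
    haveI hRn : R.Normal := inferInstance
    set R' := R.comap θ with hR'
    haveI : R'.Normal := inferInstance
    haveI hWn : (V ⊓ Subgroup.centralizer (R' : Set Γ)).Normal := inferInstance
    have hRp : IsPGroup r R := (Solv.pCore_isPGroup r).map _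
    have hWne : V ⊓ Subgroup.centralizer (R' : Set Γ) ≠ ⊥ := by
      letI : MulAction R V := MulAction.compHom V (act.comp R.subtype)
      obtain ⟨b, hb, hb1⟩ := hRp.exists_fixed_point_of_prime_dvd_card_of_fixed_point
        V (by
          haveI : Nontrivial V := (Subgroup.nontrivial_iff_ne_bot V).2 hVb
          obtain ⟨m, hm, e⟩ := hVr.nontrivial_iff_card.1 inferInstance
          rw [e]; exact dvd_pow_self r hm.ne')
        (a := 1) (fun x => map_one (act (x : Γ ⧸ C)))
      intro hW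
      have hbW : (b : Γ) ∈ V ⊓ Subgroup.centralizer (R' : Set Γ) :=
        ⟨b.2, Subgroup.mem_centralizer_iff.2 fun g hg => by
          have := congrArg Subtype.val (hb ⟨(g : Γ ⧸ C), hg⟩)
          change (act (g : Γ ⧸ C) b : Γ) = b at this
          rw [hact] at this
          calc g * (b : Γ) = g * b * g⁻¹ * g := by group
            _ = b * g := by rw [this]⟩
      rw [hW, Subgroup.mem_bot] at hbW
      exact hb1 (Subtype.ext hbW.symm)
    have hWV : V ⊓ Subgroup.centralizer (R' : Set Γ) = V := by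
      rcases hVmin _ hWn inf_le_left with h | h
      · exact absurd h hWne
      · exact h
    rw [← Subgroup.map_eq_bot_iff_of_injective _ H.subtype_injective, eq_bot_iff, ← hR]
    intro x hx
    obtain ⟨k, hk, rfl⟩ := Subgroup.mem_map.1 ((Subgroup.map_subtype_le _) hx)
    refine Subgroup.mem_bot.2 ((QuotientGroup.eq_one_iff k).2 ⟨hk,
      Subgroup.mem_centralizer_iff.2 fun v hv => ?_⟩)
    exact (Subgroup.mem_centralizer_iff.1 (hWV.ge hv).2 k hx).symm
  -- the contradiction
  set F := (Cfsg.fittingSubgroup H).map H.subtype with hF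
  haveI hFn : F.Normal := inferInstance
  have hFH : F ≤ H := Subgroup.map_subtype_le _
  by_contra hHnil
  have hFne : F ≠ H := by
    intro e
    refine hHnil ?_
    haveI := Solv.fittingSubgroup_nilpotent (G := H)
    have h1 : Group.IsNilpotent F :=
      Group.nilpotent_of_mulEquiv ((Cfsg.fittingSubgroup H).equivMapOfInjective _ H.subtype_injective)
    rwa [e] at h1
  set χ := QuotientGroup.mk' F with hχ
  haveI : (H.map χ).Normal := hHn.map χ (QuotientGroup.mk'_surjective F)
  obtain ⟨M0, hM0, hM0b, hM0H, hM0min⟩ := Solv.exists_minimal_normal_le (H.map χ) (by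
    rw [Ne, Subgroup.map_eq_bot_iff, QuotientGroup.ker_mk']
    exact fun h => hFne (le_antisymm hFH h))
  obtain ⟨-, s, hs, -, hM0s⟩ := Solv.minimal_normal_elementaryAbelian M0
    (Solv.isSolvable_of_le hM0H (Solv.isSolvable_map χ hHs)) hM0b hM0min
  haveI : Fact s.Prime := ⟨hs⟩
  set M := M0.comap χ with hM
  haveI hMn : M.Normal := hM0.comap χ
  have hFM : F ≤ M := fun x hx => by
    show χ x ∈ M0
    rw [show χ x = 1 from (QuotientGroup.eq_one_iff x).2 hx]
    exact one_mem M0
  have hMH : M ≤ H := fun x hx => by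
    obtain ⟨h, hh, e⟩ := Subgroup.mem_map.1 (hM0H hx)
    have h2 : h⁻¹ * x ∈ F := QuotientGroup.eq.1 e
    simpa using mul_mem hh (hFH h2)
  have hMs : Group.IsSolvable M := Solv.isSolvable_of_le hMH hHs
  have hMco : (Nat.card A').Coprime (Nat.card M) := by
    rw [hA'card]
    exact ((hHco.coprime_dvd_left (Subgroup.card_dvd_of_le hMH)).symm).pow_left 2
  have hnorm : ∀ N : Subgroup (Γ ⧸ C), N.Normal → ∀ X : Subgroup (Γ ⧸ C),
      X ≤ Subgroup.normalizer (N : Set (Γ ⧸ C)) :=
    fun N hN X x _ => Subgroup.normalizer_eq_top_iff.2 hN ▸ Subgroup.mem_top x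
  obtain ⟨S, hS, hAS⟩ := Solv.exists_invariant_sylow (A := A') (K := M) (hnorm M hMn A') hMco
    (Or.inr hMs) s
  have hSp : IsPGroup s S := hS.isPGroup
  have hSM : S ≤ M := hS.1
  have hSH : S ≤ H := hSM.trans hMH
  have hSfix : S ⊓ Subgroup.centralizer (A' : Set (Γ ⧸ C)) = ⊥ :=
    eq_bot_iff.2 ((inf_le_inf_right _ hSH).trans hfixH.le)
  -- `F` normalizes `S`
  have hFS : F ≤ Subgroup.normalizer (S : Set (Γ ⧸ C)) := by
    rw [hF, Solv.fitting_eq_iSup_pCore, Subgroup.map_iSup]
    refine iSup_le fun q => ?_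
    haveI : Fact (q : ℕ).Prime := ⟨q.2⟩
    set Q := (Cfsg.pCore (q : ℕ) H).map H.subtype with hQ
    haveI hQn : Q.Normal := by
      haveI hchar : (Cfsg.pCore (q : ℕ) H).Characteristic := by
        refine Subgroup.characteristic_iff_map_le.2 fun e => ?_
        haveI : ((Cfsg.pCore (q : ℕ) H).map e.toMonoidHom).Normal :=
          (Solv.pCore_normal (q : ℕ)).map _ e.surjective
        exact Solv.normal_le_pCore ((Solv.pCore_isPGroup (q : ℕ)).map _)
      rw [hQ]; infer_instance
    have hQp : IsPGroup (q : ℕ) Q := (Solv.pCore_isPGroup _).map _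
    have hQH : Q ≤ H := Subgroup.map_subtype_le _
    have hQM : Q ≤ M := (Subgroup.map_mono (Solv.pCore_le_fitting _)).trans hFM
    rcases eq_or_ne (q : ℕ) s with hqs | hqs
    · have hQs : IsPGroup s Q := hqs ▸ hQp
      have e : S = S ⊔ Q := hS.eq_of_le (hSp.to_sup_of_normal_right hQs) (sup_le hSM hQM) le_sup_left
      exact (le_sup_right.trans e.ge).trans Subgroup.le_normalizer
    · rcases eq_or_ne (q : ℕ) r with hqr | hqr
      · rw [hQ, hqr, hcore, Subgroup.map_bot]; exact bot_le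
      obtain ⟨k, hk⟩ := IsPGroup.iff_card.1 hQp
      rcases eq_or_ne (q : ℕ) p with hqp | hqp
      · have hbot : Q = ⊥ := Subgroup.card_eq_one.1 (Nat.eq_one_of_dvd_coprimes
          ((hHco.coprime_dvd_left (Subgroup.card_dvd_of_le hQH)).pow_right k) dvd_rfl
          (by rw [hk, hqp]))
        rw [hbot]; exact bot_le
      -- the core
      have hcomm := core (V := Additive V) (p := p) (q := (q : ℕ)) hA'ab hA'p hA'card ρ ?_ (S := S) hQp
        hAS (hnorm Q hQn A') (hnorm Q hQn S) (hHco.coprime_dvd_left (Subgroup.card_dvd_of_le hSH)) hqp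
        ?_ hSfix (eq_bot_iff.2 ((inf_le_inf_right _ hQH).trans hfixH.le)) ?_ ?_ ?_
      · intro x hx
        refine Subgroup.mem_normalizer_iff.2 fun y => ⟨fun hy => ?_, fun hy => ?_⟩
        · rwa [← hcomm y hy x hx, mul_inv_cancel_right]
        · have h1 := hcomm _ hy x hx
          have h2 : x⁻¹ * (x * y * x⁻¹) * x = x * y * x⁻¹ := by rw [mul_assoc, h1]; group
          rw [show x⁻¹ * (x * y * x⁻¹) * x = y by group] at h2
          rwa [h2]
      · intro v hv
        have h1 : (Additive.toMul v : V) ^ (q : ℕ) = 1 := congrArg Additive.toMul hv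
        have h2 : (Additive.toMul v : V) ^ r = 1 := Subtype.ext (hVexp _ (Additive.toMul v : V).2)
        have h3 := pow_gcd_eq_one.2 ⟨h1, h2⟩
        rw [(Nat.coprime_primes q.2 hr).2 hqr, pow_one] at h3
        exact Additive.toMul.injective h3
      · obtain ⟨j, hj⟩ := IsPGroup.iff_card.1 hSp
        rw [hj]
        exact ((Nat.coprime_primes hs q.2).2 (Ne.symm hqs)).pow_left j
      · intro d hd hd1 x hx y hy hdx hdy
        obtain ⟨i, hi⟩ := IsPGroup.iff_orderOf.1 hQp ⟨x, hx⟩
        obtain ⟨j, hj⟩ := IsPGroup.iff_orderOf.1 hSp ⟨y, hy⟩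
        rw [Subgroup.orderOf_mk] at hi hj
        have hmem : ∀ z ∈ H, d * z = z * d → z ∈ H ⊓ Subgroup.centralizer ({d} : Set (Γ ⧸ C)) :=
          fun z hz h => ⟨hz, Subgroup.mem_centralizer_iff.2 (by
            intro w hw; rw [Set.mem_singleton_iff] at hw; rw [hw]; exact h)⟩
        exact (commute_of_nilpotent _ (centralizer_nilpotent hA'ab hA'p hA'card hfixH hd hd1)
          (hmem x (hQH hx) hdx) (hmem y (hSH hy) hdy) hi
          (by rw [hj]; exact ((Nat.coprime_primes hs q.2).2 (Ne.symm hqs)).pow_left j)).symm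
      · intro x hx hxv
        obtain ⟨g, hg, rfl⟩ := Subgroup.mem_map.1 (hQH hx)
        refine (QuotientGroup.eq_one_iff g).2 ⟨hg, Subgroup.mem_centralizer_iff.2 fun v hv => ?_⟩
        have h1 : (act (g : Γ ⧸ C) ⟨v, hv⟩ : Γ) = v :=
          congrArg (fun w : Additive V => ((Additive.toMul w : V) : Γ)) (hxv (Additive.ofMul ⟨v, hv⟩))
        rw [hact] at h1
        calc v * g = g * v * g⁻¹ * g := by rw [show g * v * g⁻¹ = v from h1]
          _ = g * v := by group
      · rintro _ ⟨d, hd, rfl⟩ hd1 x hx hdx v hv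
        obtain ⟨k', hk', rfl⟩ := Subgroup.mem_map.1 (hQH hx)
        have hd1' : d ≠ 1 := fun e => hd1 (by rw [e, map_one])
        have hdp : orderOf d = p := orderOf_eq_prime (hAp d hd) hd1'
        obtain ⟨c, hc, hck⟩ := Solv.exists_fixed_in_coset' (Subgroup.zpowers d) K C
          (fun a _ => Subgroup.normalizer_eq_top_iff.2 ‹K.Normal› ▸ Subgroup.mem_top a)
          (by rw [Nat.card_zpowers, hdp]; exact hco.symm) (Or.inr hKs) inf_le_left
          (fun a _ => Subgroup.normalizer_eq_top_iff.2 hCn ▸ Subgroup.mem_top a) hk'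
          (fun a ha => by
            obtain ⟨i, rfl⟩ := Subgroup.mem_zpowers_iff.1 ha
            rw [← QuotientGroup.eq_one_iff]
            have h1 : Commute (θ d) (θ k') := hdx
            change (θ k')⁻¹ * (θ (d ^ i) * θ k' * (θ (d ^ i))⁻¹) = 1
            rw [map_zpow, (h1.zpow_left i).eq, mul_inv_cancel_right, inv_mul_cancel])
        obtain ⟨u, w, hu, hw, huw, ⟨i, hi⟩, hwo⟩ := Solv.exists_ppart (q : ℕ) c
        have hπc : θ c = θ k' := by
          have h0 : θ (k'⁻¹ * c) = 1 := (QuotientGroup.eq_one_iff _).2 hck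
          rw [map_mul, map_inv, inv_mul_eq_one] at h0
          exact h0.symm
        have hwC : θ w = 1 := by
          obtain ⟨j, hj⟩ := Subgroup.mem_zpowers_iff.1 hw
          have hmemQ : θ w ∈ Q := by rw [← hj, map_zpow, hπc]; exact zpow_mem hx j
          obtain ⟨l, hl⟩ := IsPGroup.iff_orderOf.1 hQp ⟨θ w, hmemQ⟩
          rw [Subgroup.orderOf_mk] at hl
          exact orderOf_eq_one_iff.1 (Nat.eq_one_of_dvd_coprimes (hwo.pow_right l)
            (orderOf_map_dvd θ w) (by rw [hl]))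
        have hπu : θ u = θ k' := by rw [← hπc, ← huw, map_mul, hwC, mul_one]
        have hud : d * u = u * d := by
          obtain ⟨j, rfl⟩ := Subgroup.mem_zpowers_iff.1 hu
          exact ((show Commute d c from Subgroup.mem_centralizer_iff.1 hc.2 d (Subgroup.mem_zpowers d)).zpow_right j).eq
        have huK : u ∈ K := (Subgroup.zpowers_le.2 hc.1) hu
        set v' : V := Additive.toMul v
        have hvd : d * (v' : Γ) = v' * d := by
          have h1 : (act (d : Γ ⧸ C) v' : Γ) = v' :=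
            congrArg (fun w : Additive V => ((Additive.toMul w : V) : Γ)) hv
          rw [hact] at h1
          exact mul_inv_eq_iff_eq_mul.1 h1
        have hmem : ∀ z ∈ K, d * z = z * d → z ∈ K ⊓ Subgroup.centralizer ({d} : Set Γ) :=
          fun z hz h => ⟨hz, Subgroup.mem_centralizer_iff.2 (by
            intro w hw; rw [Set.mem_singleton_iff] at hw; rw [hw]; exact h)⟩
        have huv := commute_of_nilpotent _ (centralizer_nilpotent hAab hAp hAcard hfix hd hd1')
          (hmem u huK hud) (hmem v' (hVK v'.2) hvd) hi (by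
            refine Nat.Coprime.coprime_dvd_left (orderOf_dvd_of_pow_eq_one ?_) ((Nat.coprime_primes hr q.2).2 (Ne.symm hqr))
            exact hVexp _ v'.2)
        refine Additive.toMul.injective (Subtype.ext ?_)
        show (act (θ k') v' : Γ) = v'
        rw [← hπu, show θ u = (u : Γ ⧸ C) from rfl, hact, huv, mul_inv_cancel_right]
  -- `M = F S` and the Sylow subgroup is normal
  have hFSM : F ⊔ S = M := by
    set N := F ⊔ S
    have hNM : N ≤ M := sup_le hFM hSM
    obtain ⟨d, hd⟩ := Subgroup.card_dvd_of_le hNM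
    obtain ⟨c, hc⟩ := Subgroup.card_dvd_of_le (le_sup_left : F ≤ N)
    obtain ⟨k, hk⟩ := IsPGroup.iff_card.1 hM0s
    have hcard : Nat.card M = s ^ k * Nat.card F := by
      rw [hM, hχ, Solv.card_comap_mk' F M0, ← hk, mul_comm]
    refine Subgroup.eq_of_le_of_card_ge hNM ?_
    have hdk : d ∣ s ^ k := by
      refine ⟨c, Nat.eq_of_mul_eq_mul_left (Nat.card_pos (α := F)) ?_⟩
      rw [mul_comm, ← hcard, hd, hc]; ring
    have hsd : ¬ s ∣ d := by
      rintro ⟨e, rfl⟩
      have h1 : s ^ ((Nat.card M).factorization s + 1) ∣ Nat.card M := by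
        rw [pow_succ, ← hS.2]
        conv_rhs => rw [hd]
        exact Nat.mul_dvd_mul (Subgroup.card_dvd_of_le le_sup_right) (dvd_mul_right s e)
      have := (hs.pow_dvd_iff_le_factorization Nat.card_pos.ne').1 h1
      omega
    obtain ⟨j, -, hj⟩ := (Nat.dvd_prime_pow hs).1 hdk
    rcases j with _ | j
    · rw [hd, hj, pow_zero, mul_one]
    · exact absurd (hj ▸ dvd_pow_self s (Nat.succ_ne_zero j)) hsd
  have hMS : M ≤ Subgroup.normalizer (S : Set (Γ ⧸ C)) := hFSM ▸ sup_le hFS Subgroup.le_normalizer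
  haveI hSMn : (S.subgroupOf M).Normal := Subgroup.normal_subgroupOf_of_le_normalizer hMS
  haveI : (S.subgroupOf M).Characteristic := by
    obtain ⟨S', hS'⟩ := hS.exists_sylow
    have e : S.subgroupOf M = (S' : Subgroup M) := by
      rw [← hS']
      exact Subgroup.comap_map_eq_self_of_injective M.subtype_injective _
    rw [e] at hSMn ⊢
    exact Sylow.characteristic_of_normal S' hSMn
  haveI hSn : S.Normal := by
    have h : ((S.subgroupOf M).map M.subtype).Normal := inferInstance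
    rwa [Subgroup.map_subgroupOf_eq_of_le hSM] at h
  haveI : (S.subgroupOf H).Normal := hSn.subgroupOf H
  have hSF : S ≤ F := by
    have h1 : S.subgroupOf H ≤ Cfsg.fittingSubgroup H :=
      (Solv.normal_le_pCore (hSp.of_equiv (Subgroup.subgroupOfEquivOfLe hSH).symm)).trans
        (Solv.pCore_le_fitting s)
    intro x hx
    exact ⟨⟨x, hSH hx⟩, h1 hx, rfl⟩
  refine hM0b (eq_bot_iff.2 fun x hx => ?_)
  obtain ⟨g, rfl⟩ := QuotientGroup.mk'_surjective F x
  have hgM : g ∈ M := hx
  rw [← hFSM, sup_eq_left.2 hSF] at hgM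
  exact Subgroup.mem_bot.2 ((QuotientGroup.eq_one_iff g).2 hgM)

theorem lowerCentral_map {G Q : Type u} [Group G] [Group Q] (f : G →* Q) (hf : Function.Surjective f)
    (h : Group.IsNilpotent Q) : ∃ k, (⊤ : Subgroup G).lowerCentralSeries k ≤ f.ker := by
  obtain ⟨k, hk⟩ := Subgroup.nilpotent_iff_lowerCentralSeries.1 h
  refine ⟨k, ?_⟩
  rw [← Subgroup.map_eq_bot_iff, Subgroup.map_lowerCentralSeries,
    Subgroup.map_top_of_surjective f hf, hk]

/-- Ward's theorem for a group of automorphisms. -/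
theorem ward {G : Type u} [Group G] [Finite G] (hG : Group.IsSolvable G) (A : Subgroup (MulAut G))
    (hAab : ∀ a ∈ A, ∀ b ∈ A, a * b = b * a) (hAp : ∀ a ∈ A, a ^ p = 1) (hcard : Nat.card A = p ^ 2)
    (hfpf : ∀ g : G, (∀ a ∈ A, a g = g) → g = 1) :
    ∃ F : Subgroup G, ∃ hF : F.Normal, Group.IsNilpotent F ∧ Group.IsNilpotent (G ⧸ F) := by
  haveI : Finite A := Nat.finite_of_card_ne_zero (by rw [hcard]; exact (pow_pos hp.out.pos 2).ne')
  let Φ : A →* MulAut G := A.subtype
  haveI : Finite (G ⋊[Φ] A) := Finite.of_equiv (G × A) SemidirectProduct.equivProd.symm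
  set K : Subgroup (G ⋊[Φ] A) := (SemidirectProduct.inl : G →* G ⋊[Φ] A).range with hK
  haveI : K.Normal := by
    rw [hK, SemidirectProduct.range_inl_eq_ker_rightHom]; infer_instance
  set B : Subgroup (G ⋊[Φ] A) := (SemidirectProduct.inr : A →* G ⋊[Φ] A).range with hB
  have hfix : K ⊓ Subgroup.centralizer (B : Set (G ⋊[Φ] A)) = ⊥ := by
    rw [eq_bot_iff]
    rintro _ ⟨⟨g, rfl⟩, hg⟩
    have : g = 1 := hfpf g fun a ha => by
      have h := Subgroup.mem_centralizer_iff.1 hg (SemidirectProduct.inr ⟨a, ha⟩) ⟨⟨a, ha⟩, rfl⟩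
      have h' := congrArg SemidirectProduct.left h
      simpa [Φ] using h'
    rw [this, map_one]; exact one_mem _
  have eK : G ≃* K := MonoidHom.ofInjective SemidirectProduct.inl_injective
  haveI := hG
  obtain ⟨F, hFn, hF, hFq⟩ := ward_aux (p := p) _ K B rfl
    (Group.isSolvable_of_surjective (f := eK.toMonoidHom) eK.surjective)
    (by rintro _ ⟨a, rfl⟩ _ ⟨b, rfl⟩
        rw [← map_mul, ← map_mul, show a * b = b * a from Subtype.ext (hAab a a.2 b b.2)])
    (by rintro _ ⟨a, rfl⟩; rw [← map_pow, show a ^ p = 1 from Subtype.ext (hAp a a.2), map_one])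
    (by rw [hB, Nat.card_congr (MonoidHom.ofInjective (f := (SemidirectProduct.inr : A →* G ⋊[Φ] A))
          SemidirectProduct.inr_injective).symm.toEquiv, hcard])
    hfix
  haveI := hFn
  haveI := hF
  haveI := hFq
  refine ⟨F.comap eK.toMonoidHom, hFn.comap _, ?_, ?_⟩
  · exact Group.nilpotent_of_mulEquiv (eK.symm.subgroupMap F) |> fun h => by
      rwa [← Subgroup.comap_equiv_eq_map_symm] at h
  · haveI : (F.comap eK.toMonoidHom).Normal := hFn.comap _
    exact Group.nilpotent_of_mulEquiv (QuotientGroup.congr (F.comap eK.toMonoidHom) F eK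
      (Subgroup.map_comap_eq_self_of_surjective eK.surjective F)).symm

end Cfsg.Agent.Lead.Ward
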