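import Mathlib
import Cfsg.Agent.Lib.Char.Burnside
import Cfsg.Agent.Lib.Small.SmallOrders
import Cfsg.Agent.Lib.Classical.FormSmallSolvable
import Cfsg.Agent.S0493
import Cfsg.Agent.S0494
import Cfsg.Agent.S0678
import Cfsg.Agent.S0713
import Cfsg.Agent.S0989
import Cfsg.Agent.S0990

/-!
Non-abelian simple subgroups of the alternating group of degree eight.
-/

set_option autoImplicit false

namespace Cfsg.Agent.Lead.AltEightSimple

open Subgroup MulAction
open scoped Pointwise

abbrev P8 := Equiv.Perm (Fin 8)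

/-- the possible orders -/
def SimpleType (S : Subgroup P8) : Prop :=
  (∃ n : ℕ, 5 ≤ n ∧ n ≤ 8 ∧ Nonempty (S ≃* alternatingGroup (Fin n))) ∨ Nat.card S = 168 ∨ Nat.card S = 1344

theorem not_solvable {S : Type*} [Group S] [Finite S] [IsSimpleGroup S] (h : ¬ IsMulCommutative S) :
    ¬ Group.IsSolvable S := by
  intro hs
  exact h ⟨⟨fun a b => IsSimpleGroup.comm_iff_isSolvable.2 hs a b⟩⟩

theorem le_alt {S : Type*} [Group S] [Finite S] [IsSimpleGroup S] (h : ¬ IsMulCommutative S)
    {α : Type*} [Fintype α] [DecidableEq α] (f : S →* Equiv.Perm α) (x : S) :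
    f x ∈ alternatingGroup α := by
  rcases IsSimpleGroup.eq_bot_or_eq_top_of_normal (Equiv.Perm.sign.comp f).ker inferInstance with e | e
  · exfalso
    refine h ⟨⟨fun a b => ?_⟩⟩
    have hi : Function.Injective (Equiv.Perm.sign.comp f) := (MonoidHom.ker_eq_bot_iff _).1 e
    apply hi
    rw [map_mul, map_mul, mul_comm]
  · exact Equiv.Perm.mem_alternatingGroup.2 ((Subgroup.eq_top_iff' _).1 e x)

/-- Normalisers of subgroups of order seven in the alternating group of degree eight. -/
theorem card_normalizer_seven (X : Subgroup P8) (hX : X ≤ alternatingGroup (Fin 8)) (Q : Subgroup P8)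
    (hQX : Q ≤ X) (hQ : Nat.card Q = 7) :
    Nat.card ↥(X ⊓ normalizer (Q : Set P8)) ∣ 21 := by
  haveI : Fact (Nat.Prime 7) := ⟨by norm_num⟩
  have h40 : Nat.card P8 = 40320 := by
    rw [Nat.card_perm, Nat.card_fin]; rfl
  let P : Sylow 7 P8 := (IsPGroup.of_card (n := 1) (by rw [hQ, pow_one])).toSylow (by
    intro hd
    have h1 := Q.card_mul_index
    rw [hQ, h40] at h1
    omega)
  have hP : (P : Subgroup P8) = Q := rfl
  have h42 := Cfsg.Agent.S0989.result 7 (Or.inr (by simp)) P
  obtain ⟨hle, h2⟩ := Cfsg.Agent.S0990.result (by simp : 2 ≤ Fintype.card (Fin 8)) 7 (by norm_num) P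
  rw [hP] at hle h2 h42
  set A := alternatingGroup (Fin 8)
  have e1 : normalizer ((Q.subgroupOf A : Subgroup A) : Set A) = (normalizer (Q : Set P8)).subgroupOf A :=
    (subgroupOf_normalizer_eq hle).symm
  rw [e1] at h2
  have h21 : Nat.card ↥((normalizer (Q : Set P8)).subgroupOf A) = 21 := by
    have : 2 * Nat.card ↥((normalizer (Q : Set P8)).subgroupOf A) = 42 := h2.trans h42
    omega
  rw [← h21]
  have e2 : (normalizer (Q : Set P8)).subgroupOf A = (normalizer (Q : Set P8) ⊓ A).subgroupOf A := by
    rw [inf_subgroupOf_right]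
  rw [e2, Nat.card_congr (subgroupOfEquivOfLe inf_le_right).toEquiv]
  exact card_dvd_of_le (le_inf inf_le_right (inf_le_left.trans hX))

variable (S : Subgroup P8) [IsSimpleGroup S] (hnc : ¬ IsMulCommutative S)
include hnc

theorem card_dvd : Nat.card S ∣ 20160 := by
  have hle : S ≤ alternatingGroup (Fin 8) := fun x hx => le_alt hnc S.subtype ⟨x, hx⟩
  have := card_dvd_of_le hle
  rwa [nat_card_alternatingGroup, Nat.card_fin] at this

theorem card_of_not_five (h5 : ¬ 5 ∣ Nat.card S) : Nat.card S = 168 ∨ Nat.card S = 1344 := by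
  haveI : Fact (Nat.Prime 7) := ⟨by norm_num⟩
  have h4032 : Nat.card S ∣ 4032 := by
    have h := card_dvd S hnc
    have h' : Nat.card S ∣ 5 * 4032 := h
    exact (((Nat.prime_five.coprime_iff_not_dvd).2 h5).symm).dvd_of_dvd_mul_left h'
  have h7 : 7 ∣ Nat.card S := by
    by_contra h7
    have h576 : Nat.card S ∣ 576 := by
      have h' : Nat.card S ∣ 7 * 576 := h4032
      exact ((((by norm_num : Nat.Prime 7).coprime_iff_not_dvd).2 h7).symm).dvd_of_dvd_mul_left h'
    refine not_solvable hnc (Char.isSolvable_of_two_primes Nat.prime_two Nat.prime_three _ rfl ?_)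
    intro r hr hrd
    have h' : r ∣ 2 ^ 6 * 3 ^ 2 := hrd.trans h576
    rcases hr.dvd_mul.1 h' with h | h
    · exact Or.inl ((Nat.prime_dvd_prime_iff_eq hr Nat.prime_two).1 (hr.dvd_of_dvd_pow h))
    · exact Or.inr ((Nat.prime_dvd_prime_iff_eq hr Nat.prime_three).1 (hr.dvd_of_dvd_pow h))
  obtain ⟨P⟩ := (inferInstance : Nonempty (Sylow 7 S))
  obtain ⟨m, hm⟩ := h7
  have hm7 : ¬ 7 ∣ m := by
    intro h
    have h49 : 49 ∣ 4032 := (Dvd.dvd.trans (by rw [hm]; exact Nat.mul_dvd_mul_left 7 h : 7 * 7 ∣ Nat.card S) h4032)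
    norm_num at h49
  have hP : Nat.card P = 7 := by
    have := Small.SmallOrders.sylow_card_eq (G := S) (p := 7) (k := 1) (m := m) (by rw [hm, pow_one]) hm7 P
    simpa using this
  have hN : Nat.card ↥(normalizer ((P : Subgroup S) : Set S)) ∣ 21 := by
    have hle : S ≤ alternatingGroup (Fin 8) := fun x hx => le_alt hnc S.subtype ⟨x, hx⟩
    have h1 := card_normalizer_seven S hle ((P : Subgroup S).map S.subtype) (map_subtype_le _)
      (by rw [Subgroup.card_map_of_injective S.subtype_injective]; exact hP)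
    refine dvd_trans ?_ h1
    rw [← Subgroup.card_map_of_injective S.subtype_injective]
    refine card_dvd_of_le (le_inf (map_subtype_le _) ?_)
    exact (Subgroup.le_normalizer_map S.subtype)
  have hN7 : 7 ∣ Nat.card ↥(normalizer ((P : Subgroup S) : Set S)) := by
    have := card_dvd_of_le (le_normalizer (H := (P : Subgroup S)))
    rwa [hP] at this
  have hN21 : Nat.card ↥(normalizer ((P : Subgroup S) : Set S)) = 21 := by
    rcases (by
      obtain ⟨k, hk⟩ := hN7
      have : k ∣ 3 := by rw [hk] at hN; exact Nat.dvd_of_mul_dvd_mul_left (by norm_num) (hN : 7 * k ∣ 7 * 3)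
      rcases (Nat.dvd_prime Nat.prime_three).1 this with rfl | rfl <;> omega :
        Nat.card ↥(normalizer ((P : Subgroup S) : Set S)) = 7 ∨
          Nat.card ↥(normalizer ((P : Subgroup S) : Set S)) = 21) with h | h
    · exfalso
      refine Small.SmallOrders.false_of_central P (by rw [hP]; norm_num) ?_ ?_
      · rw [hP, hm]
        rcases Nat.lt_or_ge m 2 with h2 | h2
        · exfalso
          have hm1 : m = 1 := by
            rcases Nat.eq_zero_or_pos m with rfl | h0
            · exact absurd (dvd_zero 7) hm7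
            · omega
          refine not_solvable hnc (Char.isSolvable_of_two_primes (p := 7) (q := 7) (by norm_num) (by norm_num) _ rfl ?_)
          intro r hr hrd
          rw [hm, hm1, mul_one] at hrd
          exact Or.inl ((Nat.prime_dvd_prime_iff_eq hr (by norm_num)).1 hrd)
        · omega
      · refine Small.SmallOrders.normalizer_le_centralizer _ (p := 7) (by norm_num) hP ?_
        rw [h]; norm_num
    · exact h
  have hcnt := Small.SmallOrders.card_normalizer P
  have hmod : Nat.card (Sylow 7 S) % 7 = 1 := card_sylow_modEq_one 7 S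
  have h192 : Nat.card (Sylow 7 S) ∣ 192 := by
    refine Nat.dvd_of_mul_dvd_mul_right (by norm_num : 0 < 21) (?_ : _ * 21 ∣ 192 * 21)
    have := h4032
    rwa [← hcnt, hN21] at this
  have hne : Nat.card (Sylow 7 S) ≠ 1 := by
    intro h
    rw [h, hN21, one_mul] at hcnt
    refine not_solvable hnc (Char.isSolvable_of_two_primes (p := 3) (q := 7) (by norm_num) (by norm_num) _ rfl ?_)
    intro r hr hrd
    rw [← hcnt] at hrd
    have hrd' : r ∣ 3 * 7 := by norm_num; exact hrd
    rcases hr.dvd_mul.1 hrd' with h | h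
    · exact Or.inl ((Nat.prime_dvd_prime_iff_eq hr Nat.prime_three).1 h)
    · exact Or.inr ((Nat.prime_dvd_prime_iff_eq hr (by norm_num)).1 h)
  rw [← hcnt, hN21]
  have hlist : ∀ n ∈ Nat.divisors 192, n % 7 = 1 → n ≠ 1 → n * 21 = 168 ∨ n * 21 = 1344 := by decide
  exact hlist _ (Nat.mem_divisors.2 ⟨h192, by norm_num⟩) hmod hne

/-- restriction to an orbit -/
theorem orbit_faithful {a : Fin 8} (ha : ∃ s : S, s • a ≠ a) :
    Function.Injective (MulAction.toPermHom S (orbit S a)) := by
  rcases IsSimpleGroup.eq_bot_or_eq_top_of_normal (MulAction.toPermHom S (orbit S a)).ker inferInstance with e | e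
  · exact (MonoidHom.ker_eq_bot_iff _).1 e
  · obtain ⟨s, hs⟩ := ha
    exfalso
    have := Equiv.Perm.ext_iff.1 (MonoidHom.mem_ker.1 ((Subgroup.eq_top_iff' _).1 e s)) ⟨a, mem_orbit_self a⟩
    exact hs (congrArg Subtype.val this)

theorem moved_exists : ∃ a : Fin 8, ∃ s : S, s • a ≠ a := by
  by_contra h
  push_neg at h
  refine hnc ⟨⟨fun x y => ?_⟩⟩
  have hx : ∀ z : S, z = 1 := fun z => Subtype.ext (Equiv.Perm.ext fun a => h a z)
  rw [hx x, hx y]

/-- Simple groups with an element of order five on a moved orbit. -/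
theorem orbit_type (h5 : 5 ∣ Nat.card S) {a : Fin 8} (ha : ∃ s : S, s • a ≠ a) :
    (∃ n : ℕ, 5 ≤ n ∧ n ≤ 8 ∧ Nat.card (orbit S a) = n ∧ Nonempty (S ≃* alternatingGroup (Fin n))) ∨
      (Nat.card (orbit S a) = 6 ∧ Nonempty (S ≃* alternatingGroup (Fin 5))) := by
  classical
  set k := Nat.card (orbit S a) with hk
  have hk8 : k ≤ 8 := (Nat.card_le_card_of_injective _ Subtype.val_injective).trans (by simp)
  set f := MulAction.toPermHom S (orbit S a) with hf
  have hinj : Function.Injective f := orbit_faithful S hnc ha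
  set T := f.range with hT
  let eT : S ≃* T := MonoidHom.ofInjective hinj
  haveI : Nontrivial T := eT.symm.toEquiv.nontrivial
  haveI : IsSimpleGroup T := IsSimpleGroup.isSimpleGroup_of_surjective eT.toMonoidHom eT.surjective
  have hTnc : ¬ IsMulCommutative T := fun h => hnc ⟨⟨fun x y => eT.injective (by rw [map_mul, map_mul]; exact h.1.1 _ _)⟩⟩
  haveI : IsPretransitive T (orbit S a) := ⟨fun x y => by
    obtain ⟨s, hs⟩ := exists_smul_eq S x y
    exact ⟨⟨f s, s, rfl⟩, hs⟩⟩
  have hkF : Fintype.card (orbit S a) = k := by rw [hk, Nat.card_eq_fintype_card]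
  have hTA : T ≤ alternatingGroup (orbit S a) := by
    rintro x ⟨s, rfl⟩
    exact le_alt hnc f s
  have hk5 : 5 ≤ k := by
    by_contra hlt
    refine not_solvable hTnc ?_
    haveI := Classical.isSolvable_of_card_le_perm (α := orbit S a) (by omega)
    infer_instance
  have hiso : alternatingGroup (orbit S a) ≤ T → Nonempty (S ≃* alternatingGroup (Fin k)) := by
    intro hle
    exact ⟨eT.trans ((MulEquiv.subgroupCongr (le_antisymm hTA hle)).trans
      ((Fintype.equivFinOfCardEq hkF).altCongrHom))⟩
  have hTcard : Nat.card T ∣ k.factorial / 2 := by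
    haveI : Nontrivial (orbit S a) := by
      rw [← Finite.one_lt_card_iff_nontrivial]; omega
    have := card_dvd_of_le hTA
    rwa [nat_card_alternatingGroup, ← hk] at this
  have hT5 : 5 ∣ Nat.card T := by rwa [← Nat.card_congr eT.toEquiv]
  by_cases hle : alternatingGroup (orbit S a) ≤ T
  · exact Or.inl ⟨k, hk5, hk8, rfl, hiso hle⟩
  have hlt : Nat.card T < Nat.card (alternatingGroup (orbit S a)) :=
    lt_of_le_of_ne (card_le_of_le hTA) fun h => hle (eq_of_le_of_card_ge hTA h.ge).ge
  haveI : Nontrivial (orbit S a) := by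
    rw [← Finite.one_lt_card_iff_nontrivial]; omega
  rw [nat_card_alternatingGroup, ← hk] at hlt
  have hncyc : ¬ IsCyclic T := fun h => hTnc ⟨⟨fun x y => by
    letI := IsCyclic.commGroup (α := T)
    exact mul_comm x y⟩⟩
  have hsmall : Nat.card T ≤ 100 → Nat.card T = 60 := Cfsg.Agent.S0493.result hncyc
  interval_cases k
  · exfalso
    have h60 : Nat.card T < 60 := hlt
    have := hsmall (by omega)
    omega
  · refine Or.inr ⟨rfl, ?_⟩
    have h60 : Nat.card T = 60 := by
      by_contra hne
      have h100 : ¬ Nat.card T ≤ 100 := fun h => hne (hsmall h)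
      have h360 : Nat.card T ∣ 360 := hTcard
      have hlt' : Nat.card T < 360 := hlt
      haveI : IsSimpleGroup (alternatingGroup (orbit S a)) := alternatingGroup.isSimpleGroup (by omega)
      have hd := Small.SmallOrders.card_dvd_index_factorial (T.subgroupOf (alternatingGroup (orbit S a))) fun e =>
        hle (subgroupOf_eq_top.1 e)
      have hi : (T.subgroupOf (alternatingGroup (orbit S a))).index * Nat.card T = 360 := by
        rw [← Nat.card_congr (subgroupOfEquivOfLe hTA).toEquiv, index_mul_card, nat_card_alternatingGroup, ← hk]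
        rfl
      rw [nat_card_alternatingGroup, ← hk] at hd
      set d := (T.subgroupOf (alternatingGroup (orbit S a))).index with hd'
      have hd4 : d < 4 := by
        by_contra h4
        have : 4 * Nat.card T ≤ 360 := hi ▸ Nat.mul_le_mul_right _ (by omega)
        omega
      have : d.factorial ≤ 6 := (Nat.factorial_le (by omega : d ≤ 3))
      have := Nat.le_of_dvd (Nat.factorial_pos d) hd
      have e : Nat.factorial 6 / 2 = 360 := rfl
      omega
    exact ⟨eT.trans (Cfsg.Agent.S0494.result (G := T) h60).some⟩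
  · exfalso
    obtain ⟨h168, -⟩ := Cfsg.Agent.S0678.result hkF T (not_solvable hTnc) hle
    rw [h168] at hT5
    norm_num at hT5
  · exfalso
    haveI : Fact (Nat.Prime 5) := ⟨Nat.prime_five⟩
    obtain ⟨g, hg⟩ := exists_prime_orderOf_dvd_card' (G := T) 5 hT5
    have hg' : orderOf (g : Equiv.Perm (orbit S a)) = 5 := by rw [orderOf_coe, hg]
    have hsupp8 : (g : Equiv.Perm (orbit S a)).support.card ≤ 8 := (Finset.card_le_univ _).trans hkF.le
    have hcyc : (g : Equiv.Perm (orbit S a)).IsCycle :=
      Equiv.Perm.isCycle_of_prime_order (by rw [hg']; exact Nat.prime_five) (by rw [hg']; omega)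
    have hsc : (g : Equiv.Perm (orbit S a)).support.card = 5 := by rw [← hcyc.orderOf, hg']
    refine hle (Cfsg.Agent.S0713.result T ?_ Nat.prime_five (by omega) (by omega) hcyc hsc g.2)
    constructor
    intro B hB
    by_contra htriv
    rw [IsTrivialBlock, not_or] at htriv
    obtain ⟨hnsub, hnuniv⟩ := htriv
    obtain ⟨x, hx⟩ : ∃ x, x ∈ (g : Equiv.Perm (orbit S a)).support := Finset.card_pos.1 (by omega)
    obtain ⟨b, hb⟩ : B.Nonempty := by
      rw [Set.nonempty_iff_ne_empty]
      intro e; exact hnsub (e ▸ Set.subsingleton_empty)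
    obtain ⟨u, hu⟩ := exists_smul_eq T b x
    have hB1 : IsBlock T (u • B) := hB.translate u
    have hx1 : x ∈ u • B := hu ▸ Set.smul_mem_smul_set hb
    have hcard1 : (u • B).ncard = B.ncard := Set.ncard_smul_set u B
    have h2 : 2 ≤ B.ncard := by
      by_contra h
      exact hnsub (Set.ncard_le_one_iff_subsingleton.1 (by omega))
    have hdiv : B.ncard ∣ 8 := by
      have := hB.ncard_dvd_card ⟨b, hb⟩
      rwa [← hk] at this
    have hB8 : B.ncard ≠ 8 := by
      intro h
      refine hnuniv (Set.eq_of_subset_of_ncard_le (Set.subset_univ _) ?_)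
      rw [Set.ncard_univ, ← hk, h]
    have hB4 : B.ncard ≤ 4 := by
      obtain ⟨q, hq⟩ := hdiv
      rcases Nat.lt_or_ge q 2 with h | h
      · interval_cases q <;> omega
      · nlinarith
    by_cases hfix : g • (u • B) = u • B
    · have hall : ∀ i : ℕ, (g ^ i) • (u • B) = u • B := by
        intro i
        induction i with
        | zero => simp
        | succ i ih => rw [pow_succ', mul_smul, ih, hfix]
      have hsub : ((g : Equiv.Perm (orbit S a)).support : Set (orbit S a)) ⊆ u • B := by
        intro y hy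
        obtain ⟨i, hi⟩ := hcyc.exists_pow_eq (Equiv.Perm.mem_support.1 hx) (Equiv.Perm.mem_support.1 hy)
        rw [← hall i]
        have : (g ^ i) • x = y := by rw [Subgroup.smul_def, Subgroup.coe_pow]; exact hi
        exact this ▸ Set.smul_mem_smul_set hx1
      have := Set.ncard_le_ncard hsub
      rw [Set.ncard_coe_finset, hsc, hcard1] at this
      omega
    · have hdis : ∀ i j : Fin 5, i ≠ j → Disjoint ((g ^ (i : ℕ)) • (u • B)) ((g ^ (j : ℕ)) • (u • B)) := by
        intro i j hij
        refine (hB1.smul_eq_smul_or_disjoint _ _).resolve_left fun e => hfix ?_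
        have e2 : ((g ^ (j : ℕ))⁻¹ * g ^ (i : ℕ)) • (u • B) = u • B := by
          rw [mul_smul, e, inv_smul_smul]
        set c := (g ^ (j : ℕ))⁻¹ * g ^ (i : ℕ) with hc
        have hcz : c ∈ zpowers g := mul_mem (inv_mem (pow_mem (mem_zpowers g) _)) (pow_mem (mem_zpowers g) _)
        have hc1 : c ≠ 1 := by
          intro h1
          rw [hc, inv_mul_eq_one] at h1
          exact hij (Fin.ext ((pow_injOn_Iio_orderOf (x := g) (Set.mem_Iio.2 (by rw [hg]; exact i.2))
            (Set.mem_Iio.2 (by rw [hg]; exact j.2)) h1.symm)))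
        have hzc : zpowers c = zpowers g := by
          refine eq_of_le_of_card_ge (zpowers_le.2 hcz) ?_
          rw [Nat.card_zpowers, Nat.card_zpowers, hg]
          have hd : orderOf c ∣ 5 := by
            rw [← hg, ← Nat.card_zpowers g]
            exact Subgroup.orderOf_dvd_natCard _ hcz
          rcases (Nat.dvd_prime Nat.prime_five).1 hd with h | h
          · exact absurd (orderOf_eq_one_iff.1 h) hc1
          · omega
        have hgc : g ∈ zpowers c := hzc ▸ mem_zpowers g
        have hst : zpowers c ≤ stabilizer T (u • B) := zpowers_le.2 e2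
        exact hst hgc
      have h10 : (⋃ i : Fin 5, (g ^ (i : ℕ)) • (u • B)).ncard = ∑ i : Fin 5, ((g ^ (i : ℕ)) • (u • B)).ncard := by
        rw [← finsum_eq_sum_of_fintype]
        exact Set.ncard_iUnion_of_finite (fun _ => Set.toFinite _) hdis
      simp only [Set.ncard_smul_set, hcard1, Finset.sum_const, Finset.card_univ, Fintype.card_fin, smul_eq_mul] at h10
      have := Set.ncard_le_ncard (Set.subset_univ (⋃ i : Fin 5, (g ^ (i : ℕ)) • (u • B)))
      rw [h10, Set.ncard_univ, ← hk] at this
      omega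

theorem simpleType : SimpleType S := by
  by_cases h5 : 5 ∣ Nat.card S
  · obtain ⟨a, ha⟩ := moved_exists S hnc
    rcases orbit_type S hnc h5 ha with ⟨n, h1, h2, -, h⟩ | ⟨-, h⟩
    · exact Or.inl ⟨n, h1, h2, h⟩
    · exact Or.inl ⟨5, le_rfl, by norm_num, h⟩
  · exact Or.inr (card_of_not_five S hnc h5)

end Cfsg.Agent.Lead.AltEightSimple
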