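import Mathlib
import Cfsg.Agent.Lib.Lead.AltEightSimple
import Cfsg.Agent.S0256
import Cfsg.Agent.S2119
import Cfsg.Agent.S0721
import Cfsg.Agent.Lib.Solv.Basic
import Cfsg.Agent.Lib.Fusion.Cores
import Cfsg.Agent.Lib.Small.PSLThreeTwo
import Cfsg.Agent.Lib.Small.Order168Iso
import Cfsg.Prelude.Def_Local

/-!
Subgroups of `GL(4,2)` with trivial cores.
-/

set_option autoImplicit false

namespace Cfsg.Agent.Lead.GLFourTwo

open Subgroup MulAction AltEightSimple
open scoped Pointwise

abbrev G4 := GL (Fin 4) (ZMod 2)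

theorem zmod_two_ne : ∀ x : ZMod 2, x ≠ 0 → x = 1 := by decide

theorem det_one {n : Type*} [Fintype n] [DecidableEq n] (g : GL n (ZMod 2)) :
    Matrix.det (g : Matrix n n (ZMod 2)) = 1 :=
  zmod_two_ne _ ((Matrix.isUnit_iff_isUnit_det _).1 g.isUnit).ne_zero

/-- `GL = SL = PSL` over the field with two elements. -/
theorem gl_psl {n : Type*} [Fintype n] [DecidableEq n] [Nonempty n] :
    Nonempty (GL n (ZMod 2) ≃* Matrix.ProjectiveSpecialLinearGroup n (ZMod 2)) := by
  let s : GL n (ZMod 2) ≃* Matrix.SpecialLinearGroup n (ZMod 2) :=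
    { toFun := fun g => ⟨g, det_one g⟩
      invFun := fun A => Matrix.SpecialLinearGroup.toGL A
      left_inv := fun g => Units.ext rfl
      right_inv := fun A => Subtype.ext rfl
      map_mul' := fun a b => rfl }
  refine ⟨s.trans (MulEquiv.ofBijective (QuotientGroup.mk' _) ⟨?_, QuotientGroup.mk'_surjective _⟩)⟩
  refine (injective_iff_map_eq_one _).2 fun A hA => ?_
  have hA' : A ∈ Subgroup.center (Matrix.SpecialLinearGroup n (ZMod 2)) := (QuotientGroup.eq_one_iff A).1 hA
  obtain ⟨r, hr, hA'⟩ := Matrix.SpecialLinearGroup.mem_center_iff.1 hA'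
  have hr1 : r = 1 := zmod_two_ne r (fun e => by rw [e, zero_pow Fintype.card_ne_zero] at hr; exact zero_ne_one hr)
  refine Subtype.ext ?_
  rw [← hA', hr1, map_one]
  rfl

/-- No simple subgroup of `GL(4,2)` has order 1344. -/
theorem card_ne {S : Type*} [Group S] [Finite S] [IsSimpleGroup S] (hnc : ¬ IsMulCommutative S) (ρ : S →* G4)
    (hρ : Function.Injective ρ) : Nat.card S ≠ 1344 := by
  classical
  intro hcard
  let V := Fin 4 → ZMod 2
  let t : G4 ≃* LinearMap.GeneralLinearGroup (ZMod 2) V := Matrix.GeneralLinearGroup.toLin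
  let L : G4 →* (V ≃ₗ[ZMod 2] V) :=
    ((LinearMap.GeneralLinearGroup.generalLinearEquiv (ZMod 2) V).toMonoidHom).comp t.toMonoidHom
  have hL : Function.Injective L :=
    (LinearMap.GeneralLinearGroup.generalLinearEquiv (ZMod 2) V).injective.comp t.injective
  set f := L.comp ρ with hf
  have hfi : Function.Injective f := hL.comp hρ
  let P : S →* Equiv.Perm V :=
    { toFun := fun s => (f s).toEquiv
      map_one' := by rw [map_one]; rfl
      map_mul' := fun a b => by rw [map_mul]; rfl }
  have hPi : Function.Injective P := fun a b h => hfi (LinearEquiv.toEquiv_injective h)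
  letI : MulAction S V := MulAction.compHom V P
  have hsm : ∀ (s : S) (v : V), s • v = f s v := fun _ _ => rfl
  -- orbits of a point
  have horb : ∀ v : V, Nat.card (orbit S v) = 1 ∨ 8 ≤ Nat.card (orbit S v) := by
    intro v
    by_contra h
    push_neg at h
    obtain ⟨h1, h8⟩ := h
    have hker : (MulAction.toPermHom S (orbit S v)).ker = ⊥ := by
      rcases IsSimpleGroup.eq_bot_or_eq_top_of_normal (MulAction.toPermHom S (orbit S v)).ker inferInstance with e | e
      · exact e
      · exfalso
        apply h1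
        rw [Nat.card_eq_one_iff_unique]
        refine ⟨⟨fun x y => ?_⟩, ⟨⟨v, mem_orbit_self v⟩⟩⟩
        obtain ⟨s, hs⟩ := exists_smul_eq S x y
        rw [← hs]
        exact (Equiv.Perm.ext_iff.1 (MonoidHom.mem_ker.1 ((Subgroup.eq_top_iff' _).1 e s)) x).symm
    have hd := Subgroup.card_dvd_of_injective _ ((MonoidHom.ker_eq_bot_iff _).1 hker)
    rw [hcard, Nat.card_perm] at hd
    have hk : Nat.card (orbit S v) ≤ 7 := by omega
    have h7 : 1344 ∣ Nat.factorial 7 := hd.trans (Nat.factorial_dvd_factorial hk)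
    norm_num [Nat.factorial] at h7
  have hV : Nat.card V = 16 := by simp [V]
  obtain ⟨v, hv0, hv⟩ : ∃ v : V, v ≠ 0 ∧ ∀ s : S, f s v = v := by
    by_contra hcon
    push_neg at hcon
    have hbig : ∀ v : V, v ≠ 0 → 8 ≤ (orbit S v).ncard := by
      intro v hv
      rw [← Nat.card_coe_set_eq]
      refine (horb v).resolve_left fun h => ?_
      obtain ⟨s, hs⟩ := hcon v hv
      obtain ⟨hsub, -⟩ := Nat.card_eq_one_iff_unique.1 h
      exact hs (congrArg Subtype.val (hsub.elim ⟨s • v, mem_orbit v s⟩ ⟨v, mem_orbit_self v⟩))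
    have hz : ∀ v : V, v ≠ 0 → (0 : V) ∉ orbit S v := by
      rintro v hv ⟨s, hs⟩
      change s • v = (0 : V) at hs
      rw [hsm] at hs
      exact hv ((f s).map_eq_zero_iff.1 hs)
    obtain ⟨v, hv⟩ := exists_ne (0 : V)
    have hone : orbit S v = ({0} : Set V)ᶜ := by
      refine Set.Subset.antisymm (fun w hw e => hz v hv (e ▸ hw)) fun w hw => ?_
      by_contra hwv
      have hdis : Disjoint (orbit S v) (orbit S w) := by
        rw [Set.disjoint_left]
        intro x hx hx'
        apply hwv
        rw [← orbit_eq_iff.2 hx, orbit_eq_iff.2 hx']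
        exact mem_orbit_self w
      have hle : (orbit S v ∪ orbit S w).ncard ≤ ({0} : Set V)ᶜ.ncard := by
        refine Set.ncard_le_ncard ?_
        rintro x (hx | hx) (e : x = 0)
        · exact hz v hv (e ▸ hx)
        · exact hz w hw (e ▸ hx)
      rw [Set.ncard_union_eq hdis, Set.ncard_compl, Set.ncard_singleton, hV] at hle
      have := hbig v hv
      have := hbig w hw
      omega
    have h15 : Nat.card (orbit S v) = 15 := by
      rw [Nat.card_coe_set_eq, hone, Set.ncard_compl, Set.ncard_singleton, hV]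
    have := (stabilizer S v).index_dvd_card
    rw [index_stabilizer, hcard, ← Nat.card_coe_set_eq, h15] at this
    norm_num at this
  let W : Submodule (ZMod 2) V := Submodule.span (ZMod 2) {v}
  have hW : ∀ s : S, W ≤ W.comap (f s).toLinearMap := by
    intro s
    rw [Submodule.span_le, Set.singleton_subset_iff]
    change f s v ∈ W
    rw [hv s]
    exact Submodule.mem_span_singleton_self v
  let φ : S →* Module.End (ZMod 2) (V ⧸ W) :=
    { toFun := fun s => Submodule.mapQ W W (f s).toLinearMap (hW s)
      map_one' := by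
        refine Submodule.linearMap_qext _ (LinearMap.ext fun w => ?_)
        simp
      map_mul' := fun a b => by
        refine Submodule.linearMap_qext _ (LinearMap.ext fun w => ?_)
        simp }
  have hlt : Nat.card (Module.End (ZMod 2) (V ⧸ W)) < 1344 := by
    haveI : Module.Finite (ZMod 2) (V ⧸ W) := Module.Finite.of_finite
    have hfr : Module.finrank (ZMod 2) (V ⧸ W) = 3 := by
      have h1 := Submodule.finrank_quotient_add_finrank W
      rw [finrank_span_singleton hv0, Module.finrank_fin_fun] at h1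
      omega
    rw [Module.natCard_eq_pow_finrank (K := ZMod 2), Module.finrank_linearMap, hfr, Nat.card_zmod]
    norm_num
  haveI : Module.Finite (ZMod 2) (V ⧸ W) := Module.Finite.of_finite
  haveI : Finite (Module.End (ZMod 2) (V ⧸ W)) := Module.finite_of_finite (ZMod 2)
  rcases IsSimpleGroup.eq_bot_or_eq_top_of_normal φ.ker inferInstance with e | e
  · have := Nat.card_le_card_of_injective φ ((MonoidHom.ker_eq_bot_iff _).1 e)
    omega
  · refine hnc ⟨⟨fun a b => hfi (LinearEquiv.ext fun w => ?_)⟩⟩
    have hd : ∀ (s : S) (w : V), ∃ c : ZMod 2, f s w = w + c • v := by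
      intro s w
      have h := LinearMap.congr_fun (MonoidHom.mem_ker.1 ((Subgroup.eq_top_iff' _).1 e s)) (Submodule.Quotient.mk w)
      simp only [φ, MonoidHom.coe_mk, OneHom.coe_mk, Submodule.mapQ_apply, Module.End.one_apply,
        LinearEquiv.coe_coe, Submodule.Quotient.eq] at h
      obtain ⟨c, hc⟩ := Submodule.mem_span_singleton.1 h
      exact ⟨c, by rw [hc]; abel⟩
    obtain ⟨ca, hca⟩ := hd a w
    obtain ⟨cb, hcb⟩ := hd b w
    rw [map_mul, map_mul, LinearEquiv.mul_apply, LinearEquiv.mul_apply, hca, hcb, map_add, map_add, map_smul,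
      map_smul, hv, hv, hca, hcb]
    abel

theorem ssimple {G : Type*} [Group G] [Finite G] (e0 : G →* G4) (he : Function.Injective e0)
    (ρ : G →* P8) (hρ : Function.Injective ρ) (N : Subgroup G) [IsSimpleGroup N] (hnc : ¬ IsMulCommutative N) :
    ((∃ n : ℕ, 5 ≤ n ∧ n ≤ 8 ∧ Nonempty (N ≃* alternatingGroup (Fin n))) ∨ Nat.card N = 168) := by
  let e := equivMapOfInjective N ρ hρ
  haveI : Nontrivial (N.map ρ) := e.symm.toEquiv.nontrivial
  haveI : IsSimpleGroup (N.map ρ) := IsSimpleGroup.isSimpleGroup_of_surjective e.toMonoidHom e.surjective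
  have hnc' : ¬ IsMulCommutative (N.map ρ) := fun h => hnc ⟨⟨fun x y => e.injective (by
    rw [map_mul, map_mul]; exact h.1.1 _ _)⟩⟩
  rcases simpleType (N.map ρ) hnc' with ⟨n, h1, h2, ⟨f⟩⟩ | h | h
  · exact Or.inl ⟨n, h1, h2, ⟨e.trans f⟩⟩
  · exact Or.inr ((Nat.card_congr e.toEquiv).trans h)
  · exact absurd ((Nat.card_congr e.toEquiv).trans h) (card_ne hnc (e0.comp N.subtype) (he.comp N.subtype_injective))

theorem card_list {G : Type*} [Group G] [Finite G] (e0 : G →* G4) (he : Function.Injective e0)
    (ρ : G →* P8) (hρ : Function.Injective ρ) (N : Subgroup G) [IsSimpleGroup N] (hnc : ¬ IsMulCommutative N) :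
    Nat.card N = 60 ∨ Nat.card N = 360 ∨ Nat.card N = 2520 ∨ Nat.card N = 20160 ∨ Nat.card N = 168 := by
  rcases ssimple e0 he ρ hρ N hnc with ⟨n, h1, h2, ⟨f⟩⟩ | h
  · haveI : Nontrivial (Fin n) := Fin.nontrivial_iff_two_le.2 (by omega)
    rw [Nat.card_congr f.toEquiv, nat_card_alternatingGroup, Nat.card_fin]
    interval_cases n <;> simp [Nat.factorial]
  · omega

/-- A minimal normal subgroup is simple, non-abelian. -/
theorem minimal_simple {G : Type*} [Group G] [Finite G] (e0 : G →* G4) (he : Function.Injective e0)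
    (ρ : G →* P8) (hρ : Function.Injective ρ) (hdvd : Nat.card G ∣ 20160)
    (hO : Cfsg.pPrimeCore 2 G = ⊥) (hO2 : Cfsg.pCore 2 G = ⊥) (N : Subgroup G) [N.Normal] (hN : N ≠ ⊥)
    (hmin : ∀ M : Subgroup G, M.Normal → M ≤ N → M = ⊥ ∨ M = N) :
    IsSimpleGroup N ∧ ¬ IsMulCommutative N := by
  classical
  have hns : ¬ Group.IsSolvable N := by
    intro hs
    obtain ⟨-, p, hp, -, hpN⟩ := Solv.minimal_normal_elementaryAbelian N hs hN hmin
    haveI := Fact.mk hp
    by_cases h2 : p = 2
    · subst h2
      exact hN (le_bot_iff.1 ((Fusion.le_pCore hpN).trans hO2.le))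
    · obtain ⟨k, hk⟩ := IsPGroup.iff_card.1 hpN
      refine hN (le_bot_iff.1 ((Fusion.le_pPrimeCore (p := 2) ?_).trans hO.le))
      rw [hk]
      exact ((Nat.coprime_primes hp Nat.prime_two).2 h2).pow_left k
  obtain ⟨T, _, m, hT, hm, ⟨φ⟩⟩ := Cfsg.Agent.S0721.result N hN hmin
  haveI := hT
  haveI : Finite (Fin m → T) := Finite.of_equiv _ φ.toEquiv
  let i0 : Fin m := ⟨0, hm⟩
  haveI : Finite T := Finite.of_surjective (fun g : Fin m → T => g i0) fun t => ⟨fun _ => t, rfl⟩
  have hTnc : ¬ IsMulCommutative T := by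
    intro h
    refine hns ?_
    letI : CommGroup N := { (inferInstance : Group N) with
      mul_comm := fun a b => φ.injective (by rw [map_mul, map_mul]; funext i; exact h.1.1 _ _) }
    infer_instance
  rcases Nat.lt_or_ge m 2 with h2 | h2
  · have hm1 : m = 1 := by omega
    subst hm1
    let e1 : (Fin 1 → T) ≃* T := MulEquiv.piUnique fun _ => T
    let e := φ.trans e1
    haveI : Nontrivial N := (nontrivial_iff_ne_bot N).2 hN
    exact ⟨IsSimpleGroup.isSimpleGroup_of_surjective e.symm.toMonoidHom e.symm.surjective,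
      fun h => hTnc ⟨⟨fun x y => e.symm.injective (by rw [map_mul, map_mul]; exact h.1.1 _ _)⟩⟩⟩
  · exfalso
    let j : T →* G := (N.subtype.comp φ.symm.toMonoidHom).comp (MonoidHom.mulSingle (fun _ : Fin m => T) i0)
    have hj : Function.Injective j :=
      N.subtype_injective.comp (φ.symm.injective.comp fun x y h => Pi.mulSingle_injective (M := fun _ : Fin m => T) i0 h)
    let eT := MonoidHom.ofInjective hj
    haveI : Nontrivial j.range := eT.symm.toEquiv.nontrivial
    haveI : IsSimpleGroup j.range := IsSimpleGroup.isSimpleGroup_of_surjective eT.toMonoidHom eT.surjective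
    have hl := card_list e0 he ρ hρ j.range fun h => hTnc ⟨⟨fun x y => eT.injective (by
      rw [map_mul, map_mul]; exact h.1.1 _ _)⟩⟩
    rw [← Nat.card_congr eT.toEquiv] at hl
    have hd : Nat.card T ^ 2 ∣ 20160 := by
      refine ((pow_dvd_pow _ h2).trans ?_).trans ((Subgroup.card_subgroup_dvd_card N).trans hdvd)
      rw [Nat.card_congr φ.toEquiv, Nat.card_fun, Nat.card_fin]
    rcases hl with h | h | h | h | h <;> rw [h] at hd <;> norm_num at hd

theorem main (H : Subgroup G4) (hH : H ≠ ⊥) (hO : Cfsg.pPrimeCore 2 ↥H = ⊥) (hO2 : Cfsg.pCore 2 ↥H = ⊥) :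
    (∃ n : ℕ, 5 ≤ n ∧ n ≤ 8 ∧ Nonempty (↥H ≃* alternatingGroup (Fin n))) ∨
    Nonempty (↥H ≃* Equiv.Perm (Fin 5)) ∨ Nonempty (↥H ≃* Equiv.Perm (Fin 6)) ∨ Nonempty (↥H ≃* GL (Fin 3) (ZMod 2)) := by
  classical
  obtain ⟨E0⟩ := Cfsg.Agent.S0256.result (F := ZMod 2) (ZMod.card 2)
  obtain ⟨E1⟩ := gl_psl (n := Fin 4)
  let ψ : G4 ≃* alternatingGroup (Fin 8) := E1.trans E0
  let ρ : H →* P8 := ((alternatingGroup (Fin 8)).subtype.comp ψ.toMonoidHom).comp H.subtype
  have hρ : Function.Injective ρ :=
    (Subtype.val_injective.comp ψ.injective).comp H.subtype_injective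
  have he : Function.Injective H.subtype := H.subtype_injective
  have hρA : ∀ h : H, ρ h ∈ alternatingGroup (Fin 8) := fun h => (ψ (h : G4)).2
  have hdvd : Nat.card H ∣ 20160 := by
    refine (card_subgroup_dvd_card H).trans ?_
    rw [Nat.card_congr ψ.toEquiv, nat_card_alternatingGroup, Nat.card_fin]
    rfl
  haveI : Nontrivial H := (nontrivial_iff_ne_bot H).2 hH
  obtain ⟨N, hNn, hN1, hmin⟩ := Solv.exists_minimal_normal (G := H)
  haveI := hNn
  obtain ⟨hNs, hNnc⟩ := minimal_simple H.subtype he ρ hρ hdvd hO hO2 N hN1 hmin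
  haveI := hNs
  have hl := card_list H.subtype he ρ hρ N hNnc
  -- normaliser of a subgroup of order seven
  have h7N : ∀ X : Subgroup H, ∀ Q : Subgroup H, Q ≤ X → Nat.card Q = 7 →
      Nat.card ↥(X ⊓ normalizer (Q : Set H)) ∣ 21 := by
    intro X Q hQX hQ
    have h1 := card_normalizer_seven (X.map ρ) (by rintro _ ⟨x, -, rfl⟩; exact hρA x) (Q.map ρ) (map_mono hQX)
      (by rw [Subgroup.card_map_of_injective hρ]; exact hQ)
    refine dvd_trans ?_ h1
    rw [← Subgroup.card_map_of_injective hρ]
    exact card_dvd_of_le (le_inf (map_mono inf_le_left) ((map_mono inf_le_right).trans (le_normalizer_map ρ)))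
  have hcent : centralizer (N : Set H) = ⊥ := by
    by_contra hC
    set C := centralizer (N : Set H) with hCd
    haveI hCn : C.Normal := Subgroup.normal_centralizer
    obtain ⟨M, hMn, hM1, hMC, hMmin⟩ := Solv.exists_minimal_normal_le C hC
    haveI := hMn
    obtain ⟨hMs, hMnc⟩ := minimal_simple H.subtype he ρ hρ hdvd hO hO2 M hM1 hMmin
    haveI := hMs
    have hl' := card_list H.subtype he ρ hρ M hMnc
    have hinf : N ⊓ M = ⊥ := by
      rcases hmin (N ⊓ M) inferInstance inf_le_left with h | h
      · exact h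
      · exfalso
        have hNC : N ≤ C := (inf_eq_left.1 h).trans hMC
        exact hNnc ⟨⟨fun a b => Subtype.ext (Subgroup.mem_centralizer_iff.1 (hNC b.2) a a.2)⟩⟩
    have hprod : Nat.card N * Nat.card M ∣ 20160 := by
      have hc : ∀ (a : N) (b : M), Commute (a : H) (b : H) := fun a b =>
        Subgroup.mem_centralizer_iff.1 (hMC b.2) a a.2
      let μ : N × M →* H := MonoidHom.noncommCoprod N.subtype M.subtype hc
      have hμ : Function.Injective μ := by
        refine (injective_iff_map_eq_one μ).2 fun ⟨a, b⟩ hab => ?_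
        have hab' : (a : H) * (b : H) = 1 := hab
        have ha : (a : H) ∈ N ⊓ M := ⟨a.2, by rw [eq_inv_of_mul_eq_one_left hab']; exact M.inv_mem b.2⟩
        rw [hinf, Subgroup.mem_bot] at ha
        rw [ha, one_mul] at hab'
        exact Prod.ext (Subtype.ext ha) (Subtype.ext hab')
      have := Subgroup.card_dvd_of_injective μ hμ
      rw [Nat.card_prod] at this
      exact this.trans hdvd
    haveI : Fact (Nat.Prime 5) := ⟨Nat.prime_five⟩
    haveI : Fact (Nat.Prime 7) := ⟨by norm_num⟩
    have key : ∀ A B : Subgroup H, 5 ∣ Nat.card A → 7 ∣ Nat.card B → (∀ a ∈ A, ∀ b ∈ B, a * b = b * a) → False := by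
      intro A B h5 h7 hab
      obtain ⟨a, ha⟩ := exists_prime_orderOf_dvd_card' (G := A) 5 h5
      obtain ⟨b, hb⟩ := exists_prime_orderOf_dvd_card' (G := B) 7 h7
      have hzb : zpowers (b : H) ≤ ⊤ := le_top
      have h21 := h7N ⊤ (zpowers (b : H)) hzb (by rw [Nat.card_zpowers, orderOf_coe, hb])
      have hmem : (a : H) ∈ (⊤ : Subgroup H) ⊓ normalizer (zpowers (b : H) : Set H) := by
        refine ⟨Subgroup.mem_top _, centralizer_le_normalizer _ ?_⟩
        rw [Subgroup.mem_centralizer_iff]
        intro x hx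
        obtain ⟨i, rfl⟩ := mem_zpowers_iff.1 hx
        exact (Commute.zpow_left (hab a a.2 b b.2).symm i).eq
      have h5' := (Subgroup.orderOf_dvd_natCard _ hmem).trans h21
      rw [orderOf_coe, ha] at h5'
      norm_num at h5'
    have hcomm : ∀ a ∈ N, ∀ b ∈ M, a * b = b * a := fun a ha b hb =>
      Subgroup.mem_centralizer_iff.1 (hMC hb) a ha
    rcases hl with h | h | h | h | h <;> rcases hl' with h' | h' | h' | h' | h' <;>
      rw [h, h'] at hprod <;> norm_num at hprod
    · exact key N M (by rw [h]; norm_num) (by rw [h']; norm_num) hcomm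
    · exact key M N (by rw [h']; norm_num) (by rw [h]; norm_num) fun a ha b hb => (hcomm b hb a ha).symm
  have hseven : 7 ∣ Nat.card N → N = ⊤ := by
    intro h7
    haveI : Fact (Nat.Prime 7) := ⟨by norm_num⟩
    obtain ⟨P⟩ := (inferInstance : Nonempty (Sylow 7 N))
    have hP : Nat.card P = 7 := by
      obtain ⟨q, hq⟩ := h7
      have hq7 : ¬ 7 ∣ q := by
        intro h
        have : 7 * 7 ∣ 20160 := ((hq ▸ Nat.mul_dvd_mul_left 7 h : 7 * 7 ∣ Nat.card N)).trans
          ((card_subgroup_dvd_card N).trans hdvd)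
        norm_num at this
      simpa using Small.SmallOrders.sylow_card_eq (G := N) (p := 7) (k := 1) (m := q) (by rw [hq, pow_one]) hq7 P
    have hne := Sylow.normalizer_sup_eq_top P
    set Q := (P : Subgroup N).map N.subtype with hQ
    have hQc : Nat.card Q = 7 := by rw [hQ, Subgroup.card_map_of_injective N.subtype_injective]; exact hP
    have hA := h7N ⊤ Q le_top hQc
    rw [top_inf_eq] at hA
    have hB7 : Nat.card ↥(N ⊓ normalizer (Q : Set H)) = 21 := by
      have h := h7N N Q (map_subtype_le _) hQc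
      have h7' : 7 ∣ Nat.card ↥(N ⊓ normalizer (Q : Set H)) := by
        rw [← hQc]; exact card_dvd_of_le (le_inf (map_subtype_le _) le_normalizer)
      obtain ⟨k, hk⟩ := h7'
      rw [hk] at h
      have hk3 : k ∣ 3 := Nat.dvd_of_mul_dvd_mul_left (by norm_num) (h : 7 * k ∣ 7 * 3)
      rcases (Nat.dvd_prime Nat.prime_three).1 hk3 with rfl | rfl
      · exfalso
        refine Small.SmallOrders.false_of_central P (by rw [hP]; norm_num) ?_ ?_
        · rw [hP]; rcases hl with h | h | h | h | h <;> omega
        · refine Small.SmallOrders.normalizer_le_centralizer _ (p := 7) (by norm_num) hP ?_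
          have hle : Nat.card ↥(normalizer ((P : Subgroup N) : Set N)) ∣ 7 := by
            have hh : (normalizer ((P : Subgroup N) : Set N)).map N.subtype ≤ N ⊓ normalizer (Q : Set H) :=
              le_inf (map_subtype_le _) (le_normalizer_map N.subtype)
            have := card_dvd_of_le hh
            rwa [Subgroup.card_map_of_injective N.subtype_injective, hk, mul_one] at this
          exact Nat.Coprime.coprime_dvd_left hle (by norm_num)
      · omega
    have heq : N ⊓ normalizer (Q : Set H) = normalizer (Q : Set H) :=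
      eq_of_le_of_card_ge inf_le_right (hB7 ▸ Nat.le_of_dvd (by norm_num) hA)
    rw [← hne, eq_comm, sup_eq_right, ← heq]
    exact inf_le_left
  have hconj : Function.Injective (MulAut.conjNormal : H →* MulAut N) := by
    refine (injective_iff_map_eq_one _).2 fun h hh => ?_
    have : h ∈ centralizer (N : Set H) := by
      rw [Subgroup.mem_centralizer_iff]
      intro x hx
      have := congrArg Subtype.val (MulEquiv.congr_fun hh ⟨x, hx⟩)
      rw [MulAut.conjNormal_apply, MulAut.one_apply] at this
      exact (mul_inv_eq_iff_eq_mul.1 this).symm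
    rwa [hcent, Subgroup.mem_bot] at this
  have htop : N = ⊤ → Nonempty (H ≃* N) := fun h => ⟨(Subgroup.topEquiv.symm).trans (MulEquiv.subgroupCongr h.symm)⟩
  rcases ssimple H.subtype he ρ hρ N hNnc with ⟨n, hn5, hn8, ⟨f⟩⟩ | h168
  · have hcard : Nat.card N = n.factorial / 2 := by
      haveI : Nontrivial (Fin n) := Fin.nontrivial_iff_two_le.2 (by omega)
      rw [Nat.card_congr f.toEquiv, nat_card_alternatingGroup, Nat.card_fin]
    interval_cases n
    · -- five
      let a : MulAut N ≃* MulAut ↥(alternatingGroup (Fin 5)) :=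
        MulAut.congr f
      let b : Equiv.Perm (Fin 5) ≃* MulAut ↥(alternatingGroup (Fin 5)) :=
        MulEquiv.ofBijective _ (Cfsg.Agent.S2119.result 5 (by norm_num) (by norm_num))
      let j : H →* Equiv.Perm (Fin 5) := b.symm.toMonoidHom.comp (a.toMonoidHom.comp MulAut.conjNormal)
      have hj : Function.Injective j := b.symm.injective.comp (a.injective.comp hconj)
      by_cases hNt : N = ⊤
      · exact Or.inl ⟨5, le_rfl, by norm_num, ⟨(htop hNt).some.trans f⟩⟩
      · refine Or.inr (Or.inl ⟨MulEquiv.ofBijective j ((Nat.bijective_iff_injective_and_card j).2 ⟨hj, ?_⟩)⟩)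
        have h1 := Subgroup.card_dvd_of_injective j hj
        rw [Nat.card_perm, Nat.card_fin] at h1 ⊢
        have h60 : Nat.card N = 60 := hcard
        obtain ⟨k, hk⟩ := card_subgroup_dvd_card N
        rw [h60] at hk
        rw [hk] at h1
        have hk2 : k ∣ 2 := Nat.dvd_of_mul_dvd_mul_left (by norm_num) (h1 : 60 * k ∣ 60 * 2)
        rcases (Nat.dvd_prime Nat.prime_two).1 hk2 with rfl | rfl
        · exact absurd (eq_top_of_card_eq N (by rw [h60, hk])) hNt
        · rw [hk]; rfl
    · -- six
      have h360 : Nat.card N = 360 := hcard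
      let e := equivMapOfInjective N ρ hρ
      haveI : Nontrivial (N.map ρ) := e.symm.toEquiv.nontrivial
      haveI : IsSimpleGroup (N.map ρ) := IsSimpleGroup.isSimpleGroup_of_surjective e.toMonoidHom e.surjective
      have hnc' : ¬ IsMulCommutative (N.map ρ) := fun h => hNnc ⟨⟨fun x y => e.injective (by
        rw [map_mul, map_mul]; exact h.1.1 _ _)⟩⟩
      set S := N.map ρ with hS
      have hSc : Nat.card S = 360 := by rw [← Nat.card_congr e.toEquiv, h360]
      have horb : ∀ a : Fin 8, (∃ s : S, s • a ≠ a) → Nat.card (orbit S a) = 6 := by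
        intro a ha
        rcases orbit_type S hnc' (by rw [hSc]; norm_num) ha with ⟨k, hk1, hk2, hk, ⟨g⟩⟩ | ⟨h6, -⟩
        · have hk360 : 360 = k.factorial / 2 := by
            haveI : Nontrivial (Fin k) := Fin.nontrivial_iff_two_le.2 (by omega)
            rw [← hSc, Nat.card_congr g.toEquiv, nat_card_alternatingGroup, Nat.card_fin]
          rw [hk]
          interval_cases k <;> simp [Nat.factorial] at hk360 ⊢
        · exact h6
      obtain ⟨a, ha⟩ := moved_exists S hnc'
      have hfix : ∀ x : Fin 8, x ∉ orbit S a → ∀ s : S, s • x = x := by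
        intro x hx
        by_contra hm
        push_neg at hm
        have h1 := horb a ha
        have h2 := horb x hm
        have hdis : Disjoint (orbit S a) (orbit S x) := by
          rw [Set.disjoint_left]
          intro y hy hy'
          apply hx
          rw [← orbit_eq_iff.2 hy, orbit_eq_iff.2 hy']
          exact mem_orbit_self x
        have := Set.ncard_le_ncard (Set.subset_univ (orbit S a ∪ orbit S x))
        rw [Set.ncard_union_eq hdis, ← Nat.card_coe_set_eq, ← Nat.card_coe_set_eq, h1, h2, Set.ncard_univ,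
          Nat.card_fin] at this
        omega
      have hinv : ∀ (h : H) (x : Fin 8), x ∈ orbit S a ↔ ρ h x ∈ orbit S a := by
        have key : ∀ (h : H) (x : Fin 8), ρ h x ∉ orbit S a → x ∉ orbit S a := by
          intro h x hx hxa
          have hfx : ∀ s : S, s • x = x := by
            intro s
            obtain ⟨m, hm, hms⟩ := s.2
            have h1 := hfix _ hx ⟨ρ (h * m * h⁻¹), mem_map_of_mem ρ (hNn.conj_mem m hm h)⟩
            rw [Subgroup.smul_def, Equiv.Perm.smul_def] at h1 ⊢
            simp only [map_mul, map_inv, Equiv.Perm.mul_apply, Equiv.Perm.inv_def, Equiv.symm_apply_apply] at h1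
            rw [← hms]
            exact (ρ h).injective h1
          obtain ⟨s, hs⟩ := ha
          obtain ⟨t, ht⟩ := hxa
          change t • a = x at ht
          apply hs
          have h3 := hfx (t * s * t⁻¹)
          rw [← ht, mul_smul, inv_smul_smul, mul_smul] at h3
          exact smul_left_cancel t h3
        intro h x
        refine ⟨fun hx => by_contra fun hn => key h x hn hx, fun hx => by_contra fun hn => ?_⟩
        refine key h⁻¹ (ρ h x) ?_ hx
        rwa [map_inv, Equiv.Perm.inv_def, Equiv.symm_apply_apply]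
      let r : H →* Equiv.Perm {x // x ∈ orbit S a} :=
        { toFun := fun h => (ρ h).subtypePerm (fun x => (hinv h x).symm)
          map_one' := by ext x; simp
          map_mul' := fun g h => by
            ext x
            show ((ρ (g * h) (x : Fin 8)) : Fin 8).val = _
            rw [map_mul]
            rfl }
      have hr : Function.Injective r := by
        refine (injective_iff_map_eq_one r).2 fun h hh => ?_
        have hOx : ∀ x ∈ orbit S a, ρ h x = x := fun x hx =>
          congrArg Subtype.val (Equiv.Perm.ext_iff.1 hh ⟨x, hx⟩)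
        have : h ∈ centralizer (N : Set H) := by
          rw [Subgroup.mem_centralizer_iff]
          intro m hm
          apply hρ
          rw [map_mul, map_mul]
          ext x
          simp only [Equiv.Perm.mul_apply]
          by_cases hx : x ∈ orbit S a
          · rw [hOx x hx, hOx (ρ m x) ((hinv m x).1 hx)]
          · have h1 : ρ m x = x := hfix x hx ⟨ρ m, mem_map_of_mem ρ hm⟩
            have h2 : ρ h x ∉ orbit S a := fun hc => hx ((hinv h x).2 hc)
            have h3 : ρ m (ρ h x) = ρ h x := hfix _ h2 ⟨ρ m, mem_map_of_mem ρ hm⟩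
            rw [h1, h3]
        rwa [hcent, Subgroup.mem_bot] at this
      have h6 : Fintype.card {x // x ∈ orbit S a} = 6 := by
        rw [← Nat.card_eq_fintype_card]; exact horb a ha
      let r' : H →* Equiv.Perm (Fin 6) := (Fintype.equivFinOfCardEq h6).permCongrHom.toMonoidHom.comp r
      have hr' : Function.Injective r' := (Fintype.equivFinOfCardEq h6).permCongrHom.injective.comp hr
      by_cases hNt : N = ⊤
      · exact Or.inl ⟨6, by norm_num, by norm_num, ⟨(htop hNt).some.trans f⟩⟩
      · refine Or.inr (Or.inr (Or.inl ⟨MulEquiv.ofBijective r' ((Nat.bijective_iff_injective_and_card r').2 ⟨hr', ?_⟩)⟩))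
        have h1 := Subgroup.card_dvd_of_injective r' hr'
        rw [Nat.card_perm, Nat.card_fin] at h1 ⊢
        obtain ⟨k, hk⟩ := card_subgroup_dvd_card N
        rw [h360] at hk
        rw [hk] at h1
        have hk2 : k ∣ 2 := Nat.dvd_of_mul_dvd_mul_left (by norm_num) (h1 : 360 * k ∣ 360 * 2)
        rcases (Nat.dvd_prime Nat.prime_two).1 hk2 with rfl | rfl
        · exact absurd (eq_top_of_card_eq N (by rw [h360, hk])) hNt
        · rw [hk]; rfl
    · exact Or.inl ⟨7, by norm_num, by norm_num,
        ⟨(htop (hseven (by rw [hcard]; decide))).some.trans f⟩⟩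
    · exact Or.inl ⟨8, by norm_num, le_rfl,
        ⟨(htop (hseven (by rw [hcard]; decide))).some.trans f⟩⟩
  · refine Or.inr (Or.inr (Or.inr ?_))
    obtain ⟨g1⟩ := gl_psl (n := Fin 3)
    obtain ⟨hs3, hc3⟩ := Small.PSLThreeTwo.psl_three_two (F := ZMod 2) (ZMod.card 2)
    haveI := hs3
    obtain ⟨i⟩ := Small.Order168Iso.iso (G := N) h168 (H := Matrix.ProjectiveSpecialLinearGroup (Fin 3) (ZMod 2)) hc3
    exact ⟨(htop (hseven (by rw [h168]; norm_num))).some.trans (i.trans g1.symm)⟩

end Cfsg.Agent.Lead.GLFourTwo
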