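import Mathlib
import Cfsg.Agent.Lib.Lead.GLBasic

/-!
Sylow subgroups in the defining characteristic of `GL_2`, `SL_2`; the projective line.
-/

set_option autoImplicit false

namespace Cfsg.Agent.Lead.GL2Sylow

open Matrix
open scoped MatrixGroups LinearAlgebra.Projectivization

variable {F : Type*} [Field F]

/-- Elements of determinant one fixing `v`. -/
def fix1 (v : Fin 2 → F) : Subgroup (GL (Fin 2) F) where
  carrier := {g | (g : Matrix (Fin 2) (Fin 2) F) *ᵥ v = v ∧ Matrix.GeneralLinearGroup.det g = 1}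
  one_mem' := ⟨by simp, map_one _⟩
  mul_mem' := fun {a b} ha hb => ⟨by rw [Units.val_mul, ← Matrix.mulVec_mulVec, hb.1, ha.1],
    by rw [map_mul, ha.2, hb.2, one_mul]⟩
  inv_mem' := fun {a} ha => ⟨by
      conv_lhs => rw [← ha.1]
      exact Cfsg.Agent.Classical.gl_inv_mulVec_cancel a v, by rw [map_inv, ha.2, inv_one]⟩

theorem mem_fix1 {v : Fin 2 → F} {g : GL (Fin 2) F} : g ∈ fix1 v ↔
    (g : Matrix (Fin 2) (Fin 2) F) *ᵥ v = v ∧ Matrix.GeneralLinearGroup.det g = 1 := Iff.rfl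

theorem exists_frame (v : Fin 2 → F) (hv : v ≠ 0) :
    ∃ g : GL (Fin 2) F, (g : Matrix (Fin 2) (Fin 2) F) *ᵥ Pi.single 0 1 = v := by
  by_cases h : v 0 = 0
  · have h1 : v 1 ≠ 0 := fun h1 => hv (by ext i; fin_cases i <;> simp [h, h1])
    refine ⟨Matrix.GeneralLinearGroup.mkOfDetNeZero !![v 0, 1; v 1, 0]
      (by simp [Matrix.det_fin_two, h1]), ?_⟩
    ext i; fin_cases i <;> simp [GLBasic.coe_mkDet, Matrix.mulVec, dotProduct]
  · refine ⟨Matrix.GeneralLinearGroup.mkOfDetNeZero !![v 0, 0; v 1, 1]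
      (by simp [Matrix.det_fin_two, h]), ?_⟩
    ext i; fin_cases i <;> simp [GLBasic.coe_mkDet, Matrix.mulVec, dotProduct]

theorem fix1_map (g : GL (Fin 2) F) (v : Fin 2 → F) :
    (fix1 v).map (MulAut.conj g).toMonoidHom = fix1 ((g : Matrix (Fin 2) (Fin 2) F) *ᵥ v) := by
  ext x
  rw [Subgroup.mem_map]
  constructor
  · rintro ⟨y, hy, rfl⟩
    refine mem_fix1.mpr ⟨?_, ?_⟩
    · show ((g * y * g⁻¹ : GL (Fin 2) F) : Matrix (Fin 2) (Fin 2) F) *ᵥ _ = _
      rw [Units.val_mul, Units.val_mul, ← Matrix.mulVec_mulVec,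
        Cfsg.Agent.Classical.gl_inv_mulVec_cancel, ← Matrix.mulVec_mulVec, hy.1]
    · show Matrix.GeneralLinearGroup.det (g * y * g⁻¹) = 1
      rw [map_mul, map_mul, hy.2, mul_one, map_inv, mul_inv_cancel]
  · intro hx
    refine ⟨g⁻¹ * x * g, mem_fix1.mpr ⟨?_, ?_⟩, ?_⟩
    · rw [Units.val_mul, Units.val_mul, ← Matrix.mulVec_mulVec, ← Matrix.mulVec_mulVec, hx.1,
        Cfsg.Agent.Classical.gl_inv_mulVec_cancel]
    · rw [map_mul, map_mul, hx.2, mul_one, map_inv, inv_mul_cancel]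
    · show g * (g⁻¹ * x * g) * g⁻¹ = x
      group

theorem mem_fix1_single {x : GL (Fin 2) F} :
    x ∈ fix1 (Pi.single 0 1) ↔ (x : Matrix (Fin 2) (Fin 2) F) 0 0 = 1 ∧
      (x : Matrix (Fin 2) (Fin 2) F) 1 0 = 0 ∧ (x : Matrix (Fin 2) (Fin 2) F) 1 1 = 1 := by
  rw [mem_fix1, Units.ext_iff, Matrix.GeneralLinearGroup.val_det_apply, Matrix.det_fin_two,
    Units.val_one]
  constructor
  · rintro ⟨h, hd⟩
    have h0 : (x : Matrix (Fin 2) (Fin 2) F) 0 0 = 1 := by simpa using congrFun h 0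
    have h1 : (x : Matrix (Fin 2) (Fin 2) F) 1 0 = 0 := by simpa using congrFun h 1
    refine ⟨h0, h1, ?_⟩
    rw [h0, h1] at hd
    simpa using hd
  · rintro ⟨h0, h1, h2⟩
    exact ⟨by ext i; fin_cases i <;> simp [h0, h1], by rw [h0, h1, h2]; ring⟩

theorem card_fix1 [Fintype F] {v : Fin 2 → F} (hv : v ≠ 0) :
    Nat.card (fix1 v) = Fintype.card F := by
  obtain ⟨g, rfl⟩ := exists_frame v hv
  rw [← fix1_map]
  rw [Subgroup.card_map_of_injective (MulAut.conj g).injective]
  let e : fix1 (Pi.single 0 (1 : F)) ≃ F :=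
    { toFun := fun x => (x.1 : Matrix (Fin 2) (Fin 2) F) 0 1
      invFun := fun a => ⟨Matrix.GeneralLinearGroup.mkOfDetNeZero !![1, a; 0, 1]
        (by simp [Matrix.det_fin_two]), mem_fix1_single.mpr (by simp [GLBasic.coe_mkDet])⟩
      left_inv := fun x => by
        obtain ⟨h0, h1, h2⟩ := mem_fix1_single.mp x.2
        refine Subtype.ext (Units.ext (Matrix.ext fun i j => ?_))
        fin_cases i <;> fin_cases j <;> simp [GLBasic.coe_mkDet, h0, h1, h2]
      right_inv := fun a => by simp [GLBasic.coe_mkDet] }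
  rw [Nat.card_congr e, Nat.card_eq_fintype_card]

theorem eq_one_of_fix_two {v w : Fin 2 → F} (h : LinearIndependent F ![v, w])
    {g : GL (Fin 2) F} (hv : (g : Matrix (Fin 2) (Fin 2) F) *ᵥ v = v)
    (hw : (g : Matrix (Fin 2) (Fin 2) F) *ᵥ w = w) : g = 1 := by
  have htop := h.span_eq_top_of_card_eq_finrank' (by simp)
  apply Units.ext
  have : (g : Matrix (Fin 2) (Fin 2) F).toLin' = LinearMap.id := by
    refine LinearMap.ext_on_range htop fun i => ?_
    fin_cases i
    exacts [hv, hw]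
  simpa using congrArg LinearMap.toMatrix' this

theorem inf_fix1 {v w : Fin 2 → F} (h : LinearIndependent F ![v, w]) : fix1 v ⊓ fix1 w = ⊥ :=
  eq_bot_iff.mpr fun _ hg => eq_one_of_fix_two h hg.1.1 hg.2.1

/-- The line of `v` as a subgroup of `GL_2` only depends on the point. -/
theorem fix1_smul {v : Fin 2 → F} {c : F} (hc : c ≠ 0) : fix1 (c • v) = fix1 v := by
  ext g
  rw [mem_fix1, mem_fix1, Matrix.mulVec_smul, (smul_right_injective _ hc).eq_iff]

variable [Fintype F] (p : ℕ) [Fact p.Prime] [CharP F p]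

theorem isPGroup_fix1 {v : Fin 2 → F} (hv : v ≠ 0) : IsPGroup p (fix1 v) := by
  obtain ⟨f, _, hF⟩ := FiniteField.card F p
  exact IsPGroup.of_card (n := (f : ℕ)) ((card_fix1 hv).trans hF)

omit [Fintype F] in
theorem det_eq_one_of_pow {g : GL (Fin 2) F} {k : ℕ} (h : g ^ (p ^ k) = 1) :
    Matrix.GeneralLinearGroup.det g = 1 := by
  have h1 : (Matrix.GeneralLinearGroup.det g : F) ^ (p ^ k) = 1 := by
    have := congrArg (fun x => (Matrix.GeneralLinearGroup.det x : F)) h
    simpa using this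
  refine Units.ext ?_
  have : ((Matrix.GeneralLinearGroup.det g : F) - 1) ^ (p ^ k) = 0 := by
    rw [sub_pow_char_pow, h1, one_pow, sub_self]
  simpa using sub_eq_zero.mp (pow_eq_zero_iff (pow_ne_zero _ (Fact.out : p.Prime).ne_zero) |>.mp this)

/-- A `p`-subgroup of `GL_2` fixes a nonzero vector. -/
theorem pGroup_le_fix1 {P : Subgroup (GL (Fin 2) F)} (hP : IsPGroup p P) :
    ∃ v : Fin 2 → F, v ≠ 0 ∧ P ≤ fix1 v := by
  classical
  obtain ⟨f, hp, hF⟩ := FiniteField.card F p
  letI : MulAction P (Fin 2 → F) :=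
    { smul := fun g v => ((g : GL (Fin 2) F) : Matrix (Fin 2) (Fin 2) F) *ᵥ v
      one_smul := fun v => by show _ *ᵥ v = v; simp
      mul_smul := fun a b v => by
        show _ *ᵥ v = _ *ᵥ (_ *ᵥ v)
        rw [Matrix.mulVec_mulVec, Subgroup.coe_mul, Units.val_mul] }
  have hdvd : p ∣ Nat.card (Fin 2 → F) := by
    rw [Nat.card_eq_fintype_card, Fintype.card_fun, hF, ← pow_mul]
    exact dvd_pow_self p (Nat.mul_ne_zero f.ne_zero (by simp))
  have h0 : (0 : Fin 2 → F) ∈ MulAction.fixedPoints P (Fin 2 → F) := fun g =>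
    Matrix.mulVec_zero _
  obtain ⟨v, hv, hv0⟩ := hP.exists_fixed_point_of_prime_dvd_card_of_fixed_point _ hdvd h0
  refine ⟨v, hv0.symm, fun g hg => ⟨hv ⟨g, hg⟩, ?_⟩⟩
  obtain ⟨k, hk⟩ := hP ⟨g, hg⟩
  exact det_eq_one_of_pow p (congrArg Subtype.val hk)

theorem sylow_eq_fix1 (P : Sylow p (GL (Fin 2) F)) :
    ∃ v : Fin 2 → F, v ≠ 0 ∧ (P : Subgroup (GL (Fin 2) F)) = fix1 v := by
  obtain ⟨v, hv, hle⟩ := pGroup_le_fix1 p P.isPGroup'
  exact ⟨v, hv, (P.is_maximal' (isPGroup_fix1 p hv) hle).symm⟩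

/-- The Sylow subgroup attached to a point of the projective line. -/
noncomputable def pointSylow (x : ℙ F (Fin 2 → F)) : Sylow p (GL (Fin 2) F) where
  toSubgroup := fix1 x.rep
  isPGroup' := isPGroup_fix1 p x.rep_nonzero
  is_maximal' := fun {Q} hQ hle => by
    obtain ⟨w, hw, hQw⟩ := pGroup_le_fix1 p hQ
    refine le_antisymm (fun g hg => ?_) hle
    have : fix1 x.rep = fix1 w := Subgroup.eq_of_le_of_card_ge (hle.trans hQw)
      (by rw [card_fix1 x.rep_nonzero, card_fix1 hw])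
    exact this ▸ hQw hg

theorem indep_rep {x y : ℙ F (Fin 2 → F)} (h : x ≠ y) :
    LinearIndependent F ![x.rep, y.rep] :=
  Projectivization.linearIndependent_pair_iff_ne.mpr h

theorem pointSylow_bijective : Function.Bijective (pointSylow (F := F) p) := by
  constructor
  · intro x y h
    by_contra hne
    have h1 : fix1 x.rep = fix1 y.rep := congrArg Sylow.toSubgroup h
    have h2 := inf_fix1 (indep_rep hne)
    rw [← h1, inf_idem] at h2
    have h3 := card_fix1 x.rep_nonzero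
    rw [h2, Subgroup.card_bot] at h3
    exact (Fintype.one_lt_card (α := F)).ne h3
  · intro P
    obtain ⟨v, hv, hP⟩ := sylow_eq_fix1 p P
    refine ⟨Projectivization.mk F v hv, Sylow.ext ?_⟩
    obtain ⟨a, ha⟩ := Projectivization.exists_smul_eq_mk_rep F v hv
    show fix1 _ = _
    rw [hP, ← ha, Units.smul_def, fix1_smul a.ne_zero]

theorem card_sylow : Nat.card (Sylow p (GL (Fin 2) F)) = Fintype.card F + 1 := by
  rw [← Nat.card_congr (Equiv.ofBijective _ (pointSylow_bijective p)),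
    Projectivization.card_of_finrank_two F (Fin 2 → F) (by simp), Nat.card_eq_fintype_card]

theorem sylow_inf (P Q : Sylow p (GL (Fin 2) F)) (h : P ≠ Q) :
    (P : Subgroup (GL (Fin 2) F)) ⊓ (Q : Subgroup (GL (Fin 2) F)) = ⊥ := by
  obtain ⟨x, rfl⟩ := (pointSylow_bijective p).2 P
  obtain ⟨y, rfl⟩ := (pointSylow_bijective p).2 Q
  exact inf_fix1 (indep_rep fun e => h (by rw [e]))

theorem card_normalizer (P : Sylow p (GL (Fin 2) F)) :
    Nat.card (Subgroup.normalizer ((P : Subgroup (GL (Fin 2) F)) : Set (GL (Fin 2) F))) =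
      Fintype.card F * (Fintype.card F - 1) ^ 2 := by
  have h := Subgroup.card_mul_index
    (Subgroup.normalizer ((P : Subgroup (GL (Fin 2) F)) : Set (GL (Fin 2) F)))
  have hi : (Subgroup.normalizer ((P : Subgroup (GL (Fin 2) F)) : Set (GL (Fin 2) F))).index =
      Fintype.card F + 1 := by
    rw [← card_sylow p]; exact (P.card_eq_index_normalizer).symm
  rw [hi, Matrix.card_GL_field] at h
  refine Nat.eq_of_mul_eq_mul_right (Nat.succ_pos (Fintype.card F)) (h.trans ?_)
  have hq : 1 ≤ Fintype.card F := Fintype.card_pos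
  simp only [Fin.prod_univ_two, Fin.val_zero, Fin.val_one, pow_zero, pow_one]
  obtain ⟨r, hr⟩ := Nat.exists_eq_add_of_le hq
  rw [hr, show (1 + r) ^ 2 - 1 = r * (r + 2) by
        rw [Nat.sub_eq_iff_eq_add (Nat.one_le_pow _ _ (by omega))]; ring,
    show (1 + r) ^ 2 - (1 + r) = r * (r + 1) by
        rw [Nat.sub_eq_iff_eq_add (Nat.le_self_pow (by omega) _)]; ring,
    show 1 + r - 1 = r by omega, show (1 + r).succ = r + 2 by omega]
  ring

theorem card_centralizer (P : Sylow p (GL (Fin 2) F)) (a : GL (Fin 2) F) (ha : a ∈ P)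
    (ha1 : a ≠ 1) : Nat.card (Subgroup.centralizer ({a} : Set (GL (Fin 2) F))) =
      Fintype.card F * (Fintype.card F - 1) := by
  obtain ⟨v, hv, hP⟩ := sylow_eq_fix1 p P
  obtain ⟨g, rfl⟩ := exists_frame v hv
  have ha' : a ∈ fix1 ((g : Matrix (Fin 2) (Fin 2) F) *ᵥ Pi.single 0 1) := by
    rw [← hP]; exact ha
  rw [← fix1_map] at ha'
  obtain ⟨b, hb, rfl⟩ := ha'
  have e1 : (Subgroup.centralizer ({b} : Set (GL (Fin 2) F))).map (MulAut.conj g).toMonoidHom =
      Subgroup.centralizer ({(MulAut.conj g).toMonoidHom b} : Set (GL (Fin 2) F)) := by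
    ext x
    rw [Subgroup.mem_map_equiv, Subgroup.mem_centralizer_singleton_iff,
      Subgroup.mem_centralizer_singleton_iff]
    simp only [MulAut.conj_symm_apply, MulEquiv.toMonoidHom_eq_coe, MonoidHom.coe_coe,
      MulAut.conj_apply]
    constructor <;> intro h
    · rw [show x * (g * b * g⁻¹) = g * (g⁻¹ * x * g * b) * g⁻¹ by group, h]; group
    · rw [show g⁻¹ * x * g * b = g⁻¹ * (x * (g * b * g⁻¹)) * g by group, h]; group
  rw [← e1, Subgroup.card_map_of_injective (MulAut.conj g).injective]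
  obtain ⟨b0, b1, b2⟩ := mem_fix1_single.mp hb
  set β := (b : Matrix (Fin 2) (Fin 2) F) 0 1 with hβ
  have hβ0 : β ≠ 0 := fun h0 => ha1 (by
    have : b = 1 := by
      refine Units.ext (Matrix.ext fun i j => ?_)
      fin_cases i <;> fin_cases j <;> simp [b0, b1, b2, ← hβ, h0]
    rw [this, map_one])
  have key : ∀ x : GL (Fin 2) F, x ∈ Subgroup.centralizer ({b} : Set (GL (Fin 2) F)) ↔
      (x : Matrix (Fin 2) (Fin 2) F) 1 0 = 0 ∧
        (x : Matrix (Fin 2) (Fin 2) F) 0 0 = (x : Matrix (Fin 2) (Fin 2) F) 1 1 := by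
    intro x
    rw [Subgroup.mem_centralizer_singleton_iff, Units.ext_iff, Units.val_mul, Units.val_mul]
    constructor
    · intro h
      have e0 := congrFun (congrFun h 0) 0
      have e1 := congrFun (congrFun h 0) 1
      simp only [Matrix.mul_apply, Fin.sum_univ_two, b0, b1, b2, ← hβ] at e0 e1
      have h10 : β * (x : Matrix (Fin 2) (Fin 2) F) 1 0 = 0 := by linear_combination -e0
      refine ⟨(mul_eq_zero.mp h10).resolve_left hβ0, ?_⟩
      have : β * ((x : Matrix (Fin 2) (Fin 2) F) 0 0 - (x : Matrix (Fin 2) (Fin 2) F) 1 1) = 0 := by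
        linear_combination e1
      exact sub_eq_zero.mp ((mul_eq_zero.mp this).resolve_left hβ0)
    · rintro ⟨h1, h2⟩
      ext i j
      fin_cases i <;> fin_cases j <;>
        simp [Matrix.mul_apply, Fin.sum_univ_two, b0, b1, b2, h1, h2, ← hβ] <;> ring
  let e : (Subgroup.centralizer ({b} : Set (GL (Fin 2) F))) ≃ Fˣ × F :=
    { toFun := fun x => (Units.mk0 ((x.1 : Matrix (Fin 2) (Fin 2) F) 0 0) (by
          obtain ⟨h1, h2⟩ := (key x.1).mp x.2
          have hd := (Matrix.GeneralLinearGroup.det x.1).ne_zero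
          rw [Matrix.GeneralLinearGroup.val_det_apply, Matrix.det_fin_two, h1, ← h2] at hd
          intro h0
          simp [h0] at hd), (x.1 : Matrix (Fin 2) (Fin 2) F) 0 1)
      invFun := fun y => ⟨Matrix.GeneralLinearGroup.mkOfDetNeZero !![(y.1 : F), y.2; 0, y.1]
        (by simp [Matrix.det_fin_two]), (key _).mpr (by simp [GLBasic.coe_mkDet])⟩
      left_inv := fun x => by
        obtain ⟨h1, h2⟩ := (key x.1).mp x.2
        refine Subtype.ext (Units.ext (Matrix.ext fun i j => ?_))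
        fin_cases i <;> fin_cases j <;> simp [GLBasic.coe_mkDet, h1, h2]
      right_inv := fun y => by
        refine Prod.ext (Units.ext ?_) ?_ <;> simp [GLBasic.coe_mkDet] }
  rw [Nat.card_congr e, Nat.card_prod, GLBasic.card_units_eq, Nat.card_eq_fintype_card, mul_comm]

theorem sl2_sylow_sup (P Q : Sylow p (Matrix.SpecialLinearGroup (Fin 2) F)) (h : P ≠ Q) :
    (P : Subgroup (Matrix.SpecialLinearGroup (Fin 2) F)) ⊔
      (Q : Subgroup (Matrix.SpecialLinearGroup (Fin 2) F)) = ⊤ := by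
  set ι : Matrix.SpecialLinearGroup (Fin 2) F →* GL (Fin 2) F := SpecialLinearGroup.toGL with hι
  have hinj : Function.Injective ι := fun a b e => Subtype.ext (congrArg Units.val e)
  have key : ∀ R : Sylow p (Matrix.SpecialLinearGroup (Fin 2) F), ∃ x : ℙ F (Fin 2 → F),
      (R : Subgroup (Matrix.SpecialLinearGroup (Fin 2) F)) = (fix1 x.rep).comap ι := by
    intro R
    obtain ⟨v, hv, hle⟩ := pGroup_le_fix1 p (R.isPGroup'.map ι)
    obtain ⟨a, ha⟩ := Projectivization.exists_smul_eq_mk_rep F v hv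
    refine ⟨Projectivization.mk F v hv, (R.is_maximal' ?_ ?_).symm⟩
    · exact (isPGroup_fix1 p (Projectivization.rep_nonzero _)).comap_of_injective ι hinj
    · rw [← ha, Units.smul_def, fix1_smul a.ne_zero]
      exact Subgroup.map_le_iff_le_comap.mp hle
  obtain ⟨x, hx⟩ := key P
  obtain ⟨y, hy⟩ := key Q
  have hxy : x ≠ y := fun e => h (Sylow.ext (by rw [hx, hy, e]))
  have hli := indep_rep hxy
  have hdet : (Matrix.of ![x.rep, y.rep]).transpose.det ≠ 0 := by
    rw [Matrix.det_transpose]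
    have hu : IsUnit (Matrix.of ![x.rep, y.rep]) :=
      Matrix.linearIndependent_rows_iff_isUnit.mp hli
    exact ((Matrix.isUnit_iff_isUnit_det _).mp hu).ne_zero
  set g : GL (Fin 2) F := Matrix.GeneralLinearGroup.mkOfDetNeZero _ hdet with hg
  have hg0 : (g : Matrix (Fin 2) (Fin 2) F) *ᵥ Pi.single 0 1 = x.rep := by
    ext i; fin_cases i <;> simp [hg, GLBasic.coe_mkDet]
  have hg1 : (g : Matrix (Fin 2) (Fin 2) F) *ᵥ Pi.single 1 1 = y.rep := by
    ext i; fin_cases i <;> simp [hg, GLBasic.coe_mkDet]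
  rw [hx, hy, eq_top_iff]
  intro S _
  suffices hS : ∀ T : Matrix.SpecialLinearGroup (Fin 2) F, ∀ S : Matrix.SpecialLinearGroup (Fin 2) F,
      ι S = g * ι T * g⁻¹ → S ∈ (fix1 x.rep).comap ι ⊔ (fix1 y.rep).comap ι by
    have hd : g⁻¹ * ι S * g ∈ (Matrix.GeneralLinearGroup.det : GL (Fin 2) F →* Fˣ).ker := by
      have h1 : ι S ∈ (Matrix.GeneralLinearGroup.det : GL (Fin 2) F →* Fˣ).ker :=
        GLBasic.mem_range_toGL.mp ⟨S, rfl⟩
      rw [MonoidHom.mem_ker] at h1 ⊢
      rw [map_mul, map_mul, h1, mul_one, map_inv, inv_mul_cancel]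
    obtain ⟨T, hT⟩ := GLBasic.mem_range_toGL.mpr hd
    refine hS T S ?_
    rw [show ι T = g⁻¹ * ι S * g from hT]
    group
  intro T
  have hT : T ∈ Subgroup.closure {g : Matrix.SpecialLinearGroup (Fin 2) F |
      ∃ (i j : Fin 2) (h : i ≠ j) (c : F), g = SpecialLinearGroup.transvection h c} := by
    rw [Cfsg.Agent.Classical.sl_closure_transvections]; trivial
  induction hT using Subgroup.closure_induction with
  | mem T hT =>
    obtain ⟨i, j, hij, c, rfl⟩ := hT
    intro S hS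
    have hfix : ι (SpecialLinearGroup.transvection hij c) ∈ fix1 (Pi.single i (1 : F)) := by
      refine mem_fix1.mpr ⟨?_, GLBasic.mem_range_toGL.mp ⟨_, rfl⟩⟩
      exact SpecialLinearGroup.transvection_smul_single_fst hij c
    have hm : ι S ∈ fix1 ((g : Matrix (Fin 2) (Fin 2) F) *ᵥ Pi.single i (1 : F)) := by
      rw [← fix1_map, hS]
      exact Subgroup.mem_map_of_mem _ hfix
    fin_cases i
    · exact Subgroup.mem_sup_left (show ι S ∈ fix1 x.rep by rw [← hg0]; exact hm)
    · exact Subgroup.mem_sup_right (show ι S ∈ fix1 y.rep by rw [← hg1]; exact hm)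
  | one =>
    intro S hS
    rw [map_one, mul_one, mul_inv_cancel] at hS
    rw [show S = 1 from hinj (hS.trans (map_one ι).symm)]
    exact one_mem _
  | mul A B _ _ hA hB =>
    intro S hS
    have hm : g * ι A * g⁻¹ ∈ (Matrix.GeneralLinearGroup.det : GL (Fin 2) F →* Fˣ).ker := by
      have h1 : ι A ∈ (Matrix.GeneralLinearGroup.det : GL (Fin 2) F →* Fˣ).ker :=
        GLBasic.mem_range_toGL.mp ⟨A, rfl⟩
      rw [MonoidHom.mem_ker] at h1 ⊢
      rw [map_mul, map_mul, h1, mul_one, map_inv, mul_inv_cancel]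
    obtain ⟨S1, hS1⟩ := GLBasic.mem_range_toGL.mpr hm
    have h2 : ι (S1⁻¹ * S) = g * ι B * g⁻¹ := by
      rw [map_mul, map_inv, hS, show ι S1 = g * ι A * g⁻¹ from hS1, map_mul]
      group
    rw [show S = S1 * (S1⁻¹ * S) by group]
    exact mul_mem (hA S1 hS1) (hB _ h2)
  | inv A _ hA =>
    intro S hS
    have h2 : ι S⁻¹ = g * ι A * g⁻¹ := by rw [map_inv, hS, map_inv]; group
    simpa using inv_mem (hA _ h2)

omit [Fintype F] p in
theorem sl2_involution (h2 : (2 : F) ≠ 0) (g : Matrix.SpecialLinearGroup (Fin 2) F) (h1 : g ≠ 1)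
    (hg : g * g = 1) : (g : Matrix (Fin 2) (Fin 2) F) = -1 := by
  have hd := g.2
  rw [Matrix.det_fin_two] at hd
  have hm : (g : Matrix (Fin 2) (Fin 2) F) * g = 1 := congrArg Subtype.val hg
  set a := (g : Matrix (Fin 2) (Fin 2) F) 0 0
  set b := (g : Matrix (Fin 2) (Fin 2) F) 0 1
  set c := (g : Matrix (Fin 2) (Fin 2) F) 1 0
  set d := (g : Matrix (Fin 2) (Fin 2) F) 1 1
  have e00 : a * a + b * c = 1 := by
    simpa [Matrix.mul_apply, Fin.sum_univ_two] using congrFun (congrFun hm 0) 0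
  have e01 : a * b + b * d = 0 := by
    simpa [Matrix.mul_apply, Fin.sum_univ_two] using congrFun (congrFun hm 0) 1
  have e10 : c * a + d * c = 0 := by
    simpa [Matrix.mul_apply, Fin.sum_univ_two] using congrFun (congrFun hm 1) 0
  have e11 : c * b + d * d = 1 := by
    simpa [Matrix.mul_apply, Fin.sum_univ_two] using congrFun (congrFun hm 1) 1
  have ht : a + d ≠ 0 := fun h0 => h2 (by linear_combination (-1 : F) * e00 - hd + a * h0)
  have hb : b = 0 := (mul_eq_zero.mp (show b * (a + d) = 0 by linear_combination e01)).resolve_right ht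
  have hc : c = 0 := (mul_eq_zero.mp (show c * (a + d) = 0 by linear_combination e10)).resolve_right ht
  have had : a = d := by
    have : (a + d) * (a - d) = 0 := by linear_combination e00 - e11
    exact sub_eq_zero.mp ((mul_eq_zero.mp this).resolve_left ht)
  rcases mul_eq_zero.mp (show (a - 1) * (a + 1) = 0 by
      linear_combination e00 - c * hb) with h | h
  · exact absurd (Subtype.ext (Matrix.ext fun i j => by
      fin_cases i <;> fin_cases j <;>
        simp [← had, a, b, c, d] at * <;> simp_all [sub_eq_zero])) h1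
  · ext i j
    fin_cases i <;> fin_cases j <;> simp_all [a, b, c, d, eq_neg_iff_add_eq_zero]

end Cfsg.Agent.Lead.GL2Sylow
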