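import Mathlib
import Cfsg.Agent.Lib.Lead.GL2Sylow

/-!
The projective line, small `SL_2` and the tori of `SL_2`.
-/

set_option autoImplicit false

namespace Cfsg.Agent.Lead.ProjLine

open Matrix
open scoped MatrixGroups LinearAlgebra.Projectivization

variable {F : Type*} [Field F]

theorem proj_eq_of_smul {x y : ℙ F (Fin 2 → F)} {v w : Fin 2 → F} (hv : v ≠ 0) (hw : w ≠ 0)
    (hx : Projectivization.mk F v hv = x) (hy : Projectivization.mk F w hw = y)
    (c : F) (h : c • w = v) : x = y := by
  rw [← hx, ← hy]; exact (Projectivization.mk_eq_mk_iff' F v w hv hw).mpr ⟨c, h⟩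

/-- A frame of three distinct points. -/
theorem exists_triple {a b c : ℙ F (Fin 2 → F)} (hab : a ≠ b) (hac : a ≠ c) (hbc : b ≠ c) :
    ∃ (g : GL (Fin 2) F) (v w : Fin 2 → F) (hv : v ≠ 0) (hw : w ≠ 0) (hvw : v + w ≠ 0),
      (g : Matrix (Fin 2) (Fin 2) F) *ᵥ Pi.single 0 1 = v ∧
      (g : Matrix (Fin 2) (Fin 2) F) *ᵥ Pi.single 1 1 = w ∧
      Projectivization.mk F v hv = a ∧ Projectivization.mk F w hw = b ∧
      Projectivization.mk F (v + w) hvw = c := by
  have hli : LinearIndependent F ![a.rep, b.rep] :=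
    Projectivization.linearIndependent_pair_iff_ne.mpr hab
  have htop := hli.span_eq_top_of_card_eq_finrank' (by simp)
  have hc : c.rep ∈ Submodule.span F (Set.range ![a.rep, b.rep]) := by rw [htop]; trivial
  rw [show Set.range ![a.rep, b.rep] = {a.rep, b.rep} by simp [Set.pair_comm],
    Submodule.mem_span_pair] at hc
  obtain ⟨α, β, hαβ⟩ := hc
  have hα : α ≠ 0 := fun h => hbc (proj_eq_of_smul c.rep_nonzero b.rep_nonzero
    c.mk_rep b.mk_rep β (by rw [← hαβ, h]; simp)).symm
  have hβ : β ≠ 0 := fun h => hac (proj_eq_of_smul c.rep_nonzero a.rep_nonzero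
    c.mk_rep a.mk_rep α (by rw [← hαβ, h]; simp)).symm
  have hv : α • a.rep ≠ 0 := smul_ne_zero hα a.rep_nonzero
  have hw : β • b.rep ≠ 0 := smul_ne_zero hβ b.rep_nonzero
  have hli' : LinearIndependent F ![α • a.rep, β • b.rep] := by
    refine LinearIndependent.pair_iff.mpr fun s t h => ?_
    have := LinearIndependent.pair_iff.mp hli (s * α) (t * β) (by rw [← h, smul_smul, smul_smul])
    exact ⟨(mul_eq_zero.mp this.1).resolve_right hα, (mul_eq_zero.mp this.2).resolve_right hβ⟩
  have hdet : (Matrix.of ![α • a.rep, β • b.rep]).transpose.det ≠ 0 := by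
    rw [Matrix.det_transpose]
    exact ((Matrix.isUnit_iff_isUnit_det _).mp
      (Matrix.linearIndependent_rows_iff_isUnit.mp hli')).ne_zero
  refine ⟨Matrix.GeneralLinearGroup.mkOfDetNeZero _ hdet, α • a.rep, β • b.rep, hv, hw,
    by rw [hαβ]; exact c.rep_nonzero, ?_, ?_, ?_, ?_, ?_⟩
  · ext i; fin_cases i <;> simp [GLBasic.coe_mkDet]
  · ext i; fin_cases i <;> simp [GLBasic.coe_mkDet]
  · conv_rhs => rw [← a.mk_rep]
    exact (Projectivization.mk_eq_mk_iff' F _ _ _ _).mpr ⟨α, rfl⟩
  · conv_rhs => rw [← b.mk_rep]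
    exact (Projectivization.mk_eq_mk_iff' F _ _ _ _).mpr ⟨β, rfl⟩
  · conv_rhs => rw [← c.mk_rep]
    exact (Projectivization.mk_eq_mk_iff' F _ _ _ _).mpr ⟨1, by rw [one_smul, hαβ]⟩

theorem scalar_of_fix_triple {g : GL (Fin 2) F} {a b c : ℙ F (Fin 2 → F)}
    (hab : a ≠ b) (hac : a ≠ c) (hbc : b ≠ c)
    (ha : g • a = a) (hb : g • b = b) (hc : g • c = c) :
    ∃ u : Fˣ, g = GeneralLinearGroup.scalar (Fin 2) u := by
  obtain ⟨h, v, w, hv, hw, hvw, h0, h1, rfl, rfl, rfl⟩ := exists_triple hab hac hbc
  rw [Projectivization.smul_mk, Projectivization.mk_eq_mk_iff'] at ha hb hc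
  obtain ⟨l, hl⟩ := ha
  obtain ⟨m, hm⟩ := hb
  obtain ⟨n, hn⟩ := hc
  rw [smul_add, smul_add, ← hl, ← hm] at hn
  have hli : LinearIndependent F ![v, w] := by
    refine LinearIndependent.pair_iff.mpr fun s t hst => ?_
    have hinj := Cfsg.Agent.Classical.gl_mulVec_injective h
    have : (h : Matrix (Fin 2) (Fin 2) F) *ᵥ (s • Pi.single 0 1 + t • Pi.single 1 1) =
        (h : Matrix (Fin 2) (Fin 2) F) *ᵥ 0 := by
      rw [Matrix.mulVec_add, Matrix.mulVec_smul, Matrix.mulVec_smul, h0, h1, hst,
        Matrix.mulVec_zero]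
    have e := hinj this
    exact ⟨by simpa using congrFun e 0, by simpa using congrFun e 1⟩
  have heq := LinearIndependent.pair_iff.mp hli (n - l) (n - m) (by
    rw [sub_smul, sub_smul]; linear_combination (norm := module) hn)
  have hlm : l = m := (sub_eq_zero.mp heq.1).symm.trans (sub_eq_zero.mp heq.2)
  have hl0 : l ≠ 0 := fun h => by
    apply (smul_ne_zero_iff_ne g).mpr hv
    rw [← hl, h, zero_smul]
  refine ⟨Units.mk0 l hl0, Units.ext ?_⟩
  have htop := hli.span_eq_top_of_card_eq_finrank' (by simp)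
  have : (g : Matrix (Fin 2) (Fin 2) F).toLin' =
      ((GeneralLinearGroup.scalar (Fin 2) (Units.mk0 l hl0) : GL (Fin 2) F) :
        Matrix (Fin 2) (Fin 2) F).toLin' := by
    refine LinearMap.ext_on_range htop fun i => ?_
    have hs : ∀ x : Fin 2 → F, ((GeneralLinearGroup.scalar (Fin 2) (Units.mk0 l hl0) :
        GL (Fin 2) F) : Matrix (Fin 2) (Fin 2) F).toLin' x = l • x := fun x => by
      rw [Matrix.toLin'_apply, GeneralLinearGroup.coe_scalar]
      ext k
      simp [Matrix.scalar_apply, Matrix.mulVec_diagonal]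
    rw [hs]
    fin_cases i
    · exact hl.symm
    · rw [hlm]; exact hm.symm
  exact Matrix.toLin'.injective this

theorem pgl_three_transitive :
    MulAction.IsMultiplyPretransitive (Matrix.ProjGenLinGroup (Fin 2) F) (ℙ F (Fin 2 → F)) 3 := by
  refine ⟨fun x y => ?_⟩
  obtain ⟨g, v, w, hv, hw, hvw, g0, g1, ga, gb, gc⟩ := exists_triple
    (fun h => absurd (x.injective h) (by decide) : x 0 ≠ x 1)
    (fun h => absurd (x.injective h) (by decide) : x 0 ≠ x 2)
    (fun h => absurd (x.injective h) (by decide) : x 1 ≠ x 2)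
  obtain ⟨g', v', w', hv', hw', hvw', g0', g1', ga', gb', gc'⟩ := exists_triple
    (fun h => absurd (y.injective h) (by decide) : y 0 ≠ y 1)
    (fun h => absurd (y.injective h) (by decide) : y 0 ≠ y 2)
    (fun h => absurd (y.injective h) (by decide) : y 1 ≠ y 2)
  have key : ∀ u, (g : Matrix (Fin 2) (Fin 2) F) *ᵥ u ≠ 0 →
      (g' * g⁻¹ : GL (Fin 2) F) • ((g : Matrix (Fin 2) (Fin 2) F) *ᵥ u) =
        (g' : Matrix (Fin 2) (Fin 2) F) *ᵥ u := fun u _ => by
    show ((g' * g⁻¹ : GL (Fin 2) F) : Matrix (Fin 2) (Fin 2) F) *ᵥ _ = _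
    rw [Units.val_mul, ← Matrix.mulVec_mulVec, Cfsg.Agent.Classical.gl_inv_mulVec_cancel]
  refine ⟨Matrix.ProjGenLinGroup.mk (g' * g⁻¹), ?_⟩
  ext i
  show Matrix.ProjGenLinGroup.mk (g' * g⁻¹) • x i = y i
  fin_cases i
  · show Matrix.ProjGenLinGroup.mk (g' * g⁻¹) • x 0 = y 0
    rw [← ga, ← ga', Projectivization.PGL.mk_smul_mk]
    congr 1
    rw [← g0, key _ (g0.symm ▸ hv), g0']
  · show Matrix.ProjGenLinGroup.mk (g' * g⁻¹) • x 1 = y 1
    rw [← gb, ← gb', Projectivization.PGL.mk_smul_mk]
    congr 1
    rw [← g1, key _ (g1.symm ▸ hw), g1']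
  · show Matrix.ProjGenLinGroup.mk (g' * g⁻¹) • x 2 = y 2
    rw [← gc, ← gc', Projectivization.PGL.mk_smul_mk]
    congr 1
    rw [← g0, ← g1, ← Matrix.mulVec_add, key _ (by rw [Matrix.mulVec_add, g0, g1]; exact hvw),
      Matrix.mulVec_add, g0', g1']

theorem pgl_sharp (g : Matrix.ProjGenLinGroup (Fin 2) F) (a b c : ℙ F (Fin 2 → F))
    (hab : a ≠ b) (hac : a ≠ c) (hbc : b ≠ c)
    (ha : g • a = a) (hb : g • b = b) (hc : g • c = c) : g = 1 := by
  induction g using Matrix.ProjGenLinGroup.induction_on with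
  | mk g =>
    obtain ⟨u, rfl⟩ := scalar_of_fix_triple hab hac hbc ha hb hc
    exact Matrix.ProjGenLinGroup.mk_scalar u

variable [Fintype F]

theorem sl_three_transitive_iff :
    MulAction.IsMultiplyPretransitive (Matrix.SpecialLinearGroup (Fin 2) F) (ℙ F (Fin 2 → F)) 3 ↔
      ringChar F = 2 := by
  constructor
  · intro h
    by_contra hchar
    obtain ⟨ν, hν⟩ := FiniteField.exists_nonsquare hchar
    have hν0 : ν ≠ 0 := fun e => hν (e ▸ IsSquare.zero)
    have h0 : (![1, 0] : Fin 2 → F) ≠ 0 := fun e => one_ne_zero (congrFun e 0)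
    have h1 : (![0, 1] : Fin 2 → F) ≠ 0 := fun e => one_ne_zero (congrFun e 1)
    have h2 : ∀ t : F, (![1, t] : Fin 2 → F) ≠ 0 := fun t e => one_ne_zero (congrFun e 0)
    let P : ∀ t : F, t ≠ 0 → Fin 3 ↪ ℙ F (Fin 2 → F) := fun t ht =>
      ⟨![Projectivization.mk F _ h0, Projectivization.mk F _ h1, Projectivization.mk F _ (h2 t)], by
        have e01 : Projectivization.mk F _ h0 ≠ Projectivization.mk F _ h1 := fun e => by
          obtain ⟨a, ha⟩ := (Projectivization.mk_eq_mk_iff' F _ _ _ _).mp e
          simpa using congrFun ha 0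
        have e02 : Projectivization.mk F _ h0 ≠ Projectivization.mk F _ (h2 t) := fun e => by
          obtain ⟨a, ha⟩ := (Projectivization.mk_eq_mk_iff' F _ _ _ _).mp e
          have := congrFun ha 0
          simp at this
          simpa [this, ht] using congrFun ha 1
        have e12 : Projectivization.mk F _ h1 ≠ Projectivization.mk F _ (h2 t) := fun e => by
          obtain ⟨a, ha⟩ := (Projectivization.mk_eq_mk_iff' F _ _ _ _).mp e
          have := congrFun ha 0
          simp at this
          simpa [this] using congrFun ha 1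
        intro i j e
        fin_cases i <;> fin_cases j
        · rfl
        · exact absurd e e01
        · exact absurd e e02
        · exact absurd e.symm e01
        · rfl
        · exact absurd e e12
        · exact absurd e.symm e02
        · exact absurd e.symm e12
        · rfl⟩
    obtain ⟨g, hg⟩ := MulAction.exists_smul_eq (Matrix.SpecialLinearGroup (Fin 2) F)
      (P 1 one_ne_zero) (P ν hν0)
    have q0 : g • Projectivization.mk F _ h0 = Projectivization.mk F _ h0 :=
      congrArg (fun e => e 0) hg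
    have q1 : g • Projectivization.mk F _ h1 = Projectivization.mk F _ h1 :=
      congrArg (fun e => e 1) hg
    have q2 : g • Projectivization.mk F _ (h2 1) = Projectivization.mk F _ (h2 ν) :=
      congrArg (fun e => e 2) hg
    rw [Projectivization.smul_mk, Projectivization.mk_eq_mk_iff'] at q0 q1 q2
    obtain ⟨a, ha⟩ := q0
    obtain ⟨d, hd⟩ := q1
    obtain ⟨e, he⟩ := q2
    simp only [Matrix.SpecialLinearGroup.smul_def] at ha hd he
    have g10 : (g : Matrix (Fin 2) (Fin 2) F) 1 0 = 0 := by
      simpa [Matrix.mulVec, dotProduct] using (congrFun ha 1).symm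
    have g01 : (g : Matrix (Fin 2) (Fin 2) F) 0 1 = 0 := by
      simpa [Matrix.mulVec, dotProduct] using (congrFun hd 0).symm
    have he0 : e = (g : Matrix (Fin 2) (Fin 2) F) 0 0 := by
      simpa [Matrix.mulVec, dotProduct, g01] using congrFun he 0
    have he1 : e * ν = (g : Matrix (Fin 2) (Fin 2) F) 1 1 := by
      simpa [Matrix.mulVec, dotProduct, g10] using congrFun he 1
    have hdet := g.2
    rw [Matrix.det_fin_two, g01, ← he0, ← he1, zero_mul, sub_zero] at hdet
    have he' : e ≠ 0 := fun h => by simp [h] at hdet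
    exact hν ⟨e⁻¹, by field_simp; linear_combination hdet⟩
  · intro hchar
    refine ⟨fun x y => ?_⟩
    obtain ⟨g, hg⟩ := (pgl_three_transitive (F := F)).exists_smul_eq x y
    induction g using Matrix.ProjGenLinGroup.induction_on with
    | mk g =>
      obtain ⟨k, hk⟩ := FiniteField.isSquare_of_char_two hchar
        (Matrix.GeneralLinearGroup.det g : F)
      have hk0 : k ≠ 0 := fun h => (Matrix.GeneralLinearGroup.det g).ne_zero (by rw [hk, h, mul_zero])
      let S : Matrix.SpecialLinearGroup (Fin 2) F := ⟨k⁻¹ • (g : Matrix (Fin 2) (Fin 2) F), by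
        rw [Matrix.det_smul, Fintype.card_fin, ← Matrix.GeneralLinearGroup.val_det_apply, hk]
        field_simp⟩
      refine ⟨S, ?_⟩
      rw [← hg]
      ext i
      show S • x i = Matrix.ProjGenLinGroup.mk g • x i
      induction x i using Projectivization.ind with
      | _ v hv =>
        rw [Projectivization.smul_mk, Projectivization.PGL.mk_smul_mk]
        refine (Projectivization.mk_eq_mk_iff' F _ _ _ _).mpr ⟨k⁻¹, ?_⟩
        show k⁻¹ • ((g : Matrix (Fin 2) (Fin 2) F) *ᵥ v) = (k⁻¹ • (g : Matrix (Fin 2) (Fin 2) F)) *ᵥ v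
        rw [Matrix.smul_mulVec]

theorem torus_order (p : ℕ) [Fact p.Prime] [CharP F p]
    (g : Matrix.SpecialLinearGroup (Fin 2) F) (hg : Nat.Coprime (orderOf g) p) :
    orderOf g ∣ Fintype.card F - 1 ∨ orderOf g ∣ Fintype.card F + 1 := by
  classical
  set A : Matrix (Fin 2) (Fin 2) F := (g : Matrix (Fin 2) (Fin 2) F) with hA
  have hinj : Function.Injective (SpecialLinearGroup.toGL :
      Matrix.SpecialLinearGroup (Fin 2) F → GL (Fin 2) F) := fun a b e =>
    Subtype.ext (congrArg Units.val e)
  by_cases hroot : ∃ l : F, Polynomial.eval l A.charpoly = 0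
  · left
    obtain ⟨l, hl⟩ := hroot
    rw [Matrix.eval_charpoly] at hl
    obtain ⟨v, hv, hmul⟩ := Matrix.exists_mulVec_eq_zero_iff.mpr hl
    rw [Matrix.sub_mulVec, sub_eq_zero] at hmul
    have hAv : A *ᵥ v = l • v := by
      rw [← hmul]; ext k; simp [Matrix.scalar_apply, Matrix.mulVec_diagonal]
    have hpow : ∀ k : ℕ, (A ^ k) *ᵥ v = l ^ k • v := by
      intro k
      induction k with
      | zero => simp
      | succ k ih => rw [pow_succ', ← Matrix.mulVec_mulVec, ih, Matrix.mulVec_smul, hAv, smul_smul,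
          ← pow_succ]
    have hl0 : l ≠ 0 := fun h => hv (Cfsg.Agent.Classical.gl_mulVec_injective
      (SpecialLinearGroup.toGL g) (by simpa [h, hA] using hAv))
    have hfix : SpecialLinearGroup.toGL (g ^ (Fintype.card F - 1)) ∈ GL2Sylow.fix1 v := by
      refine GL2Sylow.mem_fix1.mpr ⟨?_, GLBasic.mem_range_toGL.mp ⟨_, rfl⟩⟩
      show (A ^ (Fintype.card F - 1)) *ᵥ v = v
      rw [hpow, FiniteField.pow_card_sub_one_eq_one l hl0, one_smul]
    obtain ⟨j, hj⟩ := GL2Sylow.isPGroup_fix1 p hv ⟨_, hfix⟩
    have hj' : SpecialLinearGroup.toGL (g ^ (Fintype.card F - 1)) ^ (p ^ j) = 1 :=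
      congrArg Subtype.val hj
    rw [← map_pow, ← map_one SpecialLinearGroup.toGL] at hj'
    have hd := orderOf_dvd_of_pow_eq_one (show g ^ ((Fintype.card F - 1) * p ^ j) = 1 by
      rw [pow_mul]; exact hinj hj')
    exact (Nat.Coprime.pow_right j hg).dvd_of_dvd_mul_right hd
  · right
    push_neg at hroot
    have hdeg : A.charpoly.natDegree = 2 := by rw [Matrix.charpoly_natDegree_eq_dim, Fintype.card_fin]
    have hirr : Irreducible A.charpoly := by
      rw [(Matrix.charpoly_monic A).irreducible_iff_roots_eq_zero_of_degree_le_three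
        (by omega) (by omega)]
      refine Multiset.eq_zero_of_forall_notMem fun l hl => hroot l ?_
      exact (Polynomial.mem_roots'.mp hl).2
    haveI : Fact (Irreducible A.charpoly) := ⟨hirr⟩
    let K := AdjoinRoot A.charpoly
    haveI : Module.Finite F K := (Matrix.charpoly_monic A).finite_adjoinRoot
    haveI : Finite K := Module.finite_of_finite F
    let x : K := AdjoinRoot.root A.charpoly
    have hch : A.charpoly = Polynomial.X ^ 2 - Polynomial.C A.trace * Polynomial.X + 1 := by
      rw [Matrix.charpoly_fin_two, hA, Matrix.SpecialLinearGroup.det_coe, map_one]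
    have hx2 : x ^ 2 - algebraMap F K A.trace * x + 1 = 0 := by
      have h : Polynomial.aeval x A.charpoly = 0 :=
        (AdjoinRoot.aeval_eq _).trans AdjoinRoot.mk_self
      have h2 := congrArg (Polynomial.aeval x) hch
      rw [h] at h2
      simpa using h2.symm
    have hfrob : ∀ a : F, algebraMap F K a ^ Fintype.card F = algebraMap F K a := fun a => by
      rw [← map_pow, FiniteField.pow_card]
    obtain ⟨f, hp, hF⟩ := FiniteField.card F p
    haveI : CharP K p := charP_of_injective_algebraMap (algebraMap F K).injective p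
    have hxq : (x ^ Fintype.card F) ^ 2 - algebraMap F K A.trace * x ^ Fintype.card F + 1 = 0 := by
      have h := congrArg (fun z => iterateFrobenius K p f z) hx2
      simp only [map_add, map_sub, map_mul, map_pow, map_one, map_zero, iterateFrobenius_def,
        ← hF] at h
      simpa [hfrob] using h
    have hne : x ^ Fintype.card F ≠ x := fun h => by
      have hmem : x ∈ Set.range (algebraMap F K) := by
        classical
        haveI := Fintype.ofFinite K
        have hq : 1 < Fintype.card F := Fintype.one_lt_card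
        have hP : (Polynomial.X ^ Fintype.card F - Polynomial.X : Polynomial K) ≠ 0 :=
          FiniteField.X_pow_card_sub_X_ne_zero K hq
        by_contra hx
        have hsub : insert x (Finset.univ.image (algebraMap F K)) ⊆
            (Polynomial.X ^ Fintype.card F - Polynomial.X : Polynomial K).roots.toFinset := by
          intro z hz
          rw [Multiset.mem_toFinset, Polynomial.mem_roots hP]
          rcases Finset.mem_insert.mp hz with rfl | hz
          · simp [h]
          · obtain ⟨a, -, rfl⟩ := Finset.mem_image.mp hz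
            simp [hfrob]
        have h1 := Finset.card_le_card hsub
        rw [Finset.card_insert_of_notMem (by simpa using hx),
          Finset.card_image_of_injective _ (algebraMap F K).injective, Finset.card_univ] at h1
        have h2 := (Multiset.toFinset_card_le
          (Polynomial.X ^ Fintype.card F - Polynomial.X : Polynomial K).roots).trans
          (Polynomial.card_roots' _)
        rw [FiniteField.X_pow_card_sub_X_natDegree_eq K hq] at h2
        omega
      obtain ⟨a, ha⟩ := hmem
      refine hroot a ?_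
      apply (algebraMap F K).injective
      rw [map_zero, ← Polynomial.aeval_algebraMap_apply_eq_algebraMap_eval, ha]
      simpa [x, K] using (AdjoinRoot.aeval_eq (R := F) (f := A.charpoly) A.charpoly).trans
        AdjoinRoot.mk_self
    have hsum : x + x ^ Fintype.card F = algebraMap F K A.trace := by
      have : (x ^ Fintype.card F - x) * (x + x ^ Fintype.card F - algebraMap F K A.trace) = 0 := by
        linear_combination hxq - hx2
      exact sub_eq_zero.mp ((mul_eq_zero.mp this).resolve_left (sub_ne_zero.mpr hne))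
    have hx1 : x ^ (Fintype.card F + 1) = 1 := by
      linear_combination x * hsum - hx2
    have hdvd : A.charpoly ∣ Polynomial.X ^ (Fintype.card F + 1) - 1 := by
      rw [← AdjoinRoot.mk_eq_zero, map_sub, map_pow, map_one, AdjoinRoot.mk_X]
      exact sub_eq_zero.mpr hx1
    obtain ⟨r, hr⟩ := hdvd
    have h := congrArg (Polynomial.aeval A) hr
    rw [map_mul, Matrix.aeval_self_charpoly, zero_mul, map_sub, map_pow, map_one,
      Polynomial.aeval_X, sub_eq_zero] at h
    exact orderOf_dvd_of_pow_eq_one (Subtype.ext (by simpa [hA] using h))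

theorem card_SL2_mul :
    (Fintype.card F - 1) * Nat.card (Matrix.SpecialLinearGroup (Fin 2) F) =
      (Fintype.card F ^ 2 - 1) * (Fintype.card F ^ 2 - Fintype.card F) := by
  rw [← GLBasic.card_GL_eq (F := F) 2, Matrix.card_GL_field]
  simp [Fin.prod_univ_two]

theorem sl22 (hF : Fintype.card F = 2) :
    Nonempty (Matrix.SpecialLinearGroup (Fin 2) F ≃* Equiv.Perm (Fin 3)) := by
  classical
  have hc : Subgroup.center (Matrix.SpecialLinearGroup (Fin 2) F) = ⊥ :=
    Subgroup.eq_bot_of_card_eq _ (by rw [GLBasic.card_center_SL, hF]; rfl)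
  set h := MulAction.toPermHom (Matrix.SpecialLinearGroup (Fin 2) F) (ℙ F (Fin 2 → F))
  have hinj : Function.Injective h :=
    (MonoidHom.ker_eq_bot_iff h).mp (Projectivization.SL_mulAction_ker.trans hc)
  have hP : Nat.card (ℙ F (Fin 2 → F)) = 3 := by
    rw [Projectivization.card_of_finrank_two F (Fin 2 → F) (by simp), Nat.card_eq_fintype_card, hF]
  have hbij : Function.Bijective h := by
    rw [Nat.bijective_iff_injective_and_card]
    refine ⟨hinj, ?_⟩
    have := card_SL2_mul (F := F)
    rw [hF] at this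
    rw [Nat.card_perm, hP]
    simpa [Nat.factorial] using this
  exact ⟨(MulEquiv.ofBijective h hbij).trans
    ((Finite.equivFinOfCardEq hP).permCongrHom)⟩

theorem psl23 (hF : Fintype.card F = 3) :
    Nonempty (Matrix.ProjectiveSpecialLinearGroup (Fin 2) F ≃* alternatingGroup (Fin 4)) := by
  classical
  have hP : Nat.card (ℙ F (Fin 2 → F)) = 4 := by
    rw [Projectivization.card_of_finrank_two F (Fin 2 → F) (by simp), Nat.card_eq_fintype_card, hF]
  set h := ((Finite.equivFinOfCardEq hP).permCongrHom.toMonoidHom).comp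
    (Projectivization.PSLAction.toPermHom (K := F) (ι := Fin 2))
  have hinj : Function.Injective h := (Finite.equivFinOfCardEq hP).permCongrHom.injective.comp
    Matrix.ProjectiveSpecialLinearGroup.toPermHom_injective
  have hcard : Nat.card h.range = 12 := by
    rw [← Nat.card_congr (MonoidHom.ofInjective hinj).toEquiv]
    have h1 := GLBasic.card_PSL (F := F) 2
    have h2 := card_SL2_mul (F := F)
    rw [hF] at h1 h2
    rw [show Nat.gcd 2 (3 - 1) = 2 from rfl] at h1
    rw [show (3 ^ 2 - 1) * (3 ^ 2 - 3) = 48 from rfl] at h2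
    rw [← h1, show (3 - 1 : ℕ) = 2 from rfl] at h2
    omega
  have hidx : h.range.index = 2 := by
    have := Subgroup.card_mul_index h.range
    rw [hcard, Nat.card_perm, Nat.card_fin] at this
    norm_num [Nat.factorial] at this
    omega
  exact ⟨(MonoidHom.ofInjective hinj).trans
    (MulEquiv.subgroupCongr (Equiv.Perm.eq_alternatingGroup_of_index_eq_two hidx))⟩

end Cfsg.Agent.Lead.ProjLine
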