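import Cfsg.Agent.Lib.Char.ZStar
import Cfsg.Agent.Lib.Char.CentralizerDEight
import Cfsg.Agent.Lib.Lie.InvCentralizerFour
import Cfsg.Agent.Lib.Classical.KleinNormalizer
import Cfsg.Agent.Lib.Perm.AltAut
import Cfsg.Agent.Lib.Small.Order360
import Cfsg.Agent.Lib.Small.PSLThreeTwo
import Cfsg.Agent.Lib.Solv.DihedralSylowClasses

/-!
# Groups with an involution whose centralizer is dihedral of order eight
-/

set_option autoImplicit false
set_option linter.unusedSectionVars false
set_option linter.style.haveILetI false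

namespace Cfsg.Agent.Lead.CentDEight

open Cfsg DihedralGroup

theorem d8_central : ∀ d : DihedralGroup 4, (∀ c, c * d = d * c) → d = 1 ∨ d = r 2 := by decide

theorem d8_fused : ∀ d : DihedralGroup 4, d * d = 1 → d ≠ 1 → d ≠ r 2 → ∃ c, c * d * c⁻¹ = r 2 * d := by
  decide

theorem d8_self : ∀ d x : DihedralGroup 4, d * d = 1 → d ≠ 1 → d ≠ r 2 → x * d = d * x →
    x = 1 ∨ x = r 2 ∨ x = d ∨ x = r 2 * d := by decide

theorem d8_square : (r 1 : DihedralGroup 4) * r 1 = r 2 := by decide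

theorem d8_gen : ∀ x : DihedralGroup 4, ∃ a b : DihedralGroup 4, a * a = 1 ∧ b * b = 1 ∧ x = a * b := by
  decide

universe u

variable {G : Type u} [Group G] [Finite G] {z : G}
variable (hz : orderOf z = 2) (e : Subgroup.centralizer ({z} : Set G) ≃* DihedralGroup 4)
include hz e

theorem zC : z ∈ Subgroup.centralizer ({z} : Set G) := Subgroup.mem_centralizer_singleton_iff.2 rfl

theorem card_C : Nat.card (Subgroup.centralizer ({z} : Set G)) = 8 := by
  rw [Nat.card_congr e.toEquiv, DihedralGroup.nat_card]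

theorem ez : e ⟨z, zC hz e⟩ = r 2 := by
  refine (d8_central _ fun c => ?_).resolve_left fun h => ?_
  · rw [← e.apply_symm_apply c, ← map_mul, ← map_mul]
    exact congrArg e (Subtype.ext (Subgroup.mem_centralizer_singleton_iff.1 (e.symm c).2))
  · have h1 : (⟨z, zC hz e⟩ : Subgroup.centralizer ({z} : Set G)) = 1 := e.map_eq_one_iff.1 h
    have h2 : z = 1 := congrArg Subtype.val h1
    rw [h2, orderOf_one] at hz
    omega

theorem zz : z * z = 1 := (Char.CentD8.orderOf_two_iff.1 hz).2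

theorem z_ne : z ≠ 1 := (Char.CentD8.orderOf_two_iff.1 hz).1

/-- An element of the centre of the centralizer. -/
theorem eq_of_central {c : G} (hc : c ∈ Subgroup.centralizer ({z} : Set G))
    (hall : ∀ a ∈ Subgroup.centralizer ({z} : Set G), a * c = c * a) : c = 1 ∨ c = z := by
  rcases d8_central (e ⟨c, hc⟩) (fun d => by
    rw [← e.apply_symm_apply d, ← map_mul, ← map_mul]
    exact congrArg e (Subtype.ext (hall _ (e.symm d).2))) with h | h
  · exact Or.inl (congrArg Subtype.val (e.map_eq_one_iff.1 h))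
  · exact Or.inr (congrArg Subtype.val (e.injective (h.trans (ez hz e).symm)))

theorem exists_sylow : ∃ S : Sylow 2 G, (S : Subgroup G) = Subgroup.centralizer ({z} : Set G) := by
  haveI : Fact (Nat.Prime 2) := ⟨Nat.prime_two⟩
  set C := Subgroup.centralizer ({z} : Set G)
  obtain ⟨S, hS⟩ := (IsPGroup.of_card (p := 2) (n := 3) ((card_C hz e).trans (by norm_num)) :
    IsPGroup 2 C).exists_le_sylow
  refine ⟨S, le_antisymm (fun a ha => ?_) hS⟩
  haveI : Nontrivial (S : Subgroup G) := ⟨⟨⟨z, hS (zC hz e)⟩, 1,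
    fun h => z_ne hz e (congrArg Subtype.val h)⟩⟩
  haveI := IsPGroup.center_nontrivial S.2
  obtain ⟨c, hc⟩ := exists_ne (1 : Subgroup.center (S : Subgroup G))
  have hcS : ∀ b ∈ (S : Subgroup G), b * (c : (S : Subgroup G)).1 = (c : (S : Subgroup G)).1 * b :=
    fun b hb => congrArg Subtype.val (Subgroup.mem_center_iff.1 c.2 ⟨b, hb⟩)
  have hcC : (c : (S : Subgroup G)).1 ∈ C :=
    Subgroup.mem_centralizer_singleton_iff.2 ((hcS z (hS (zC hz e))).symm)
  rcases eq_of_central hz e hcC (fun b hb => hcS b (hS hb)) with h | h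
  · exact absurd (Subtype.ext (Subtype.ext h)) hc
  · rw [h] at hcS
    exact Subgroup.mem_centralizer_singleton_iff.2 (hcS a ha)

theorem normalizer_le {g : G}
    (hg : g ∈ Subgroup.normalizer ((Subgroup.centralizer ({z} : Set G) : Subgroup G) : Set G)) :
    g ∈ Subgroup.centralizer ({z} : Set G) := by
  set C := Subgroup.centralizer ({z} : Set G)
  have h1 : g * z * g⁻¹ ∈ C := (Subgroup.mem_normalizer_iff.1 hg z).1 (zC hz e)
  rcases eq_of_central hz e h1 (fun a ha => by
    have h2 : g⁻¹ * a * g ∈ C := by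
      refine (Subgroup.mem_normalizer_iff.1 hg _).2 ?_
      rwa [show g * (g⁻¹ * a * g) * g⁻¹ = a by group]
    calc a * (g * z * g⁻¹) = g * ((g⁻¹ * a * g) * z) * g⁻¹ := by group
      _ = g * (z * (g⁻¹ * a * g)) * g⁻¹ := by rw [Subgroup.mem_centralizer_singleton_iff.1 h2]
      _ = g * z * g⁻¹ * a := by group) with h | h
  · exact absurd (conj_eq_one_iff.1 h) (z_ne hz e)
  · exact Subgroup.mem_centralizer_singleton_iff.2 (mul_inv_eq_iff_eq_mul.1 h)

theorem eq_top_of_le (N : Subgroup G) [N.Normal] (h : Subgroup.centralizer ({z} : Set G) ≤ N) : N = ⊤ := by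
  haveI : Fact (Nat.Prime 2) := ⟨Nat.prime_two⟩
  obtain ⟨S, hS⟩ := exists_sylow hz e
  rw [← Sylow.normalizer_sup_eq_top' S (hS ▸ h), eq_comm]
  exact sup_eq_right.2 fun g hg => h (normalizer_le hz e (hS ▸ hg))

/-- An isolated involution gives the first conclusion. -/
theorem isolated (hiso : ∀ g : G, g * z * g⁻¹ ∈ Subgroup.centralizer ({z} : Set G) → g * z * g⁻¹ = z) :
    Subgroup.centralizer ({z} : Set G) ⊔ oddCore G = ⊤ := by
  obtain ⟨S, hS⟩ := exists_sylow hz e
  have hodd := Char.oddInvol_of_isolated_sylow hz (P := S)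
    (show z ∈ (S : Subgroup G) from hS.ge (zC hz e)) (fun g hg => hiso g (hS.le hg))
  have hcore := Char.zStar hodd
  refine top_le_iff.1 fun g _ => ?_
  have h1 : z * (g * z * g⁻¹) ∈ oddCore G := by
    have := hcore g
    rwa [inv_eq_of_mul_eq_one_right (zz hz e), mul_assoc, mul_assoc, ← mul_assoc g z g⁻¹] at this
  have h2 : (g * z * g⁻¹) * (g * z * g⁻¹) = 1 := by rw [conj_mul, zz hz e, mul_one, mul_inv_cancel]
  obtain ⟨c, hc, hce⟩ := Char.exists_zpowers_conj (zz hz e) h2 (hodd.odd g)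
  have hcO : c ∈ oddCore G := Subgroup.zpowers_le.2 h1 hc
  have h3 : c⁻¹ * g ∈ Subgroup.centralizer ({z} : Set G) := by
    refine Subgroup.mem_centralizer_singleton_iff.2 ?_
    calc c⁻¹ * g * z = c⁻¹ * (g * z * g⁻¹) * g := by group
      _ = c⁻¹ * (c * z * c⁻¹) * g := by rw [hce]
      _ = z * (c⁻¹ * g) := by group
  rw [show g = c * (c⁻¹ * g) by group]
  exact Subgroup.mul_mem _ (Subgroup.mem_sup_right hcO) (Subgroup.mem_sup_left h3)

section fused

variable {g : G} (hgC : g * z * g⁻¹ ∈ Subgroup.centralizer ({z} : Set G)) (hne : g * z * g⁻¹ ≠ z)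
include hgC hne

theorem centralizer_ne_top : Subgroup.centralizer ({z} : Set G) ≠ ⊤ := fun h => hne (by
  rw [mul_inv_eq_iff_eq_mul]
  exact Subgroup.mem_centralizer_singleton_iff.1 (h ▸ Subgroup.mem_top g))

theorem not_two_group (h : IsPGroup 2 G) : False := by
  haveI : Fact (Nat.Prime 2) := ⟨Nat.prime_two⟩
  obtain ⟨S, hS⟩ := exists_sylow hz e
  refine centralizer_ne_top hz e hgC hne (top_le_iff.1 ?_)
  rw [← hS]
  exact le_of_eq (S.3 (h.to_subgroup ⊤) le_top)

theorem exists_four : ∃ V : Subgroup G, IsKleinFour V ∧ V ≤ Subgroup.centralizer ({z} : Set G) ∧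
    Subgroup.centralizer (V : Set G) ≤ V ∧ z ∈ V ∧ g * z * g⁻¹ ∈ V ∧
    (∀ x ∈ V, x ≠ 1 → IsConj z x) ∧ z ∈ commutator G := by
  classical
  set C := Subgroup.centralizer ({z} : Set G)
  set u := g * z * g⁻¹ with hu
  have hu2 : u * u = 1 := by rw [hu, conj_mul, zz hz e, mul_one, mul_inv_cancel]
  have hu1 : u ≠ 1 := fun h => z_ne hz e (conj_eq_one_iff.1 h)
  set d := e ⟨u, hgC⟩ with hd
  have hd2 : d * d = 1 := by
    rw [hd, ← map_mul, show (⟨u, hgC⟩ : C) * ⟨u, hgC⟩ = 1 from Subtype.ext hu2, map_one]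
  have hd1 : d ≠ 1 := fun h => hu1 (congrArg Subtype.val (e.map_eq_one_iff.1 h))
  have hdz : d ≠ r 2 := fun h => hne (congrArg Subtype.val (e.injective (h.trans (ez hz e).symm)))
  obtain ⟨c, hc⟩ := d8_fused d hd2 hd1 hdz
  set a : G := ((e.symm c : C) : G) with ha
  have hau : a * u * a⁻¹ = z * u := by
    have h1 : e.symm c * ⟨u, hgC⟩ * (e.symm c)⁻¹ = ⟨z, zC hz e⟩ * ⟨u, hgC⟩ := e.injective (by
      rw [map_mul, map_mul, map_inv, e.apply_symm_apply, ← hd, hc, map_mul, ez hz e])
    exact congrArg Subtype.val h1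
  let V := C ⊓ Subgroup.centralizer ({u} : Set G)
  have hzu : u * z = z * u := Subgroup.mem_centralizer_singleton_iff.1 hgC
  have hmem : ∀ x, x ∈ V ↔ x = 1 ∨ x = z ∨ x = u ∨ x = z * u := by
    intro x
    refine ⟨fun ⟨hxC, hxu⟩ => ?_, ?_⟩
    · have hxd : e ⟨x, hxC⟩ * d = d * e ⟨x, hxC⟩ := by
        rw [hd, ← map_mul, ← map_mul]
        exact congrArg e (Subtype.ext (Subgroup.mem_centralizer_singleton_iff.1 hxu))
      rcases d8_self d _ hd2 hd1 hdz hxd with h | h | h | h
      · exact Or.inl (congrArg Subtype.val (e.map_eq_one_iff.1 h))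
      · exact Or.inr (Or.inl (congrArg Subtype.val (e.injective (h.trans (ez hz e).symm))))
      · exact Or.inr (Or.inr (Or.inl (congrArg Subtype.val (e.injective h))))
      · refine Or.inr (Or.inr (Or.inr ?_))
        have h1 : (⟨x, hxC⟩ : C) = ⟨z, zC hz e⟩ * ⟨u, hgC⟩ := e.injective (by rw [h, map_mul, ez hz e])
        exact congrArg Subtype.val h1
    · rintro (rfl | rfl | rfl | rfl)
      · exact V.one_mem
      · exact ⟨zC hz e, Subgroup.mem_centralizer_singleton_iff.2 hzu.symm⟩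
      · exact ⟨hgC, Subgroup.mem_centralizer_singleton_iff.2 rfl⟩
      · exact V.mul_mem ⟨zC hz e, Subgroup.mem_centralizer_singleton_iff.2 hzu.symm⟩
          ⟨hgC, Subgroup.mem_centralizer_singleton_iff.2 rfl⟩
  have hzuu : (z * u) * (z * u) = 1 := by
    rw [mul_assoc z u (z * u), ← mul_assoc u z u, hzu, mul_assoc z u u, hu2, mul_one, zz hz e]
  have hcard : Nat.card V = 4 := by
    have h1 : (V : Set G) = {1, z, u, z * u} := Set.ext fun x => by simp [hmem]
    rw [← SetLike.coe_sort_coe, Nat.card_coe_set_eq, h1, Set.ncard_eq_toFinset_card']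
    have e1 : z * u ≠ z := fun h => hu1 (mul_eq_left.1 h)
    have e2 : z * u ≠ u := fun h => z_ne hz e (mul_eq_right.1 h)
    have e3 : z * u ≠ 1 := fun h => hne (by
      rw [← inv_eq_of_mul_eq_one_right h, inv_eq_of_mul_eq_one_right (zz hz e)])
    simp [z_ne hz e, hu1, Ne.symm (z_ne hz e), Ne.symm hu1, Ne.symm e1, Ne.symm e2, Ne.symm e3,
      Ne.symm hne]
  have hexp : ∀ x ∈ V, x * x = 1 := fun x hx => by
    rcases (hmem x).1 hx with rfl | rfl | rfl | rfl
    · exact one_mul 1
    · exact zz hz e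
    · exact hu2
    · exact hzuu
  refine ⟨V, ⟨hcard, ?_⟩, inf_le_left, fun x hx => ?_, (hmem z).2 (by simp), (hmem u).2 (by simp), ?_, ?_⟩
  · haveI : Nontrivial V := Finite.one_lt_card_iff_nontrivial.1 (by omega)
    exact (Monoid.exponent_eq_prime_iff Nat.prime_two).2 fun x hx => orderOf_eq_prime
      (by rw [pow_two]; exact Subtype.ext (hexp x x.2)) hx
  · exact ⟨Subgroup.mem_centralizer_singleton_iff.2 (Subgroup.mem_centralizer_iff.1 hx z ((hmem z).2 (by simp))).symm,
      Subgroup.mem_centralizer_singleton_iff.2 (Subgroup.mem_centralizer_iff.1 hx u ((hmem u).2 (by simp))).symm⟩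
  · intro x hx hx1
    rcases (hmem x).1 hx with rfl | rfl | rfl | rfl
    · exact absurd rfl hx1
    · exact IsConj.refl _
    · exact isConj_iff.2 ⟨g, rfl⟩
    · exact isConj_iff.2 ⟨a * g, by rw [← hau, hu]; group⟩
  · have h2 : a * u * a⁻¹ * u⁻¹ ∈ commutator G := by
      rw [← commutatorElement_def, commutator_def]
      exact Subgroup.commutator_mem_commutator (Subgroup.mem_top a) (Subgroup.mem_top u)
    rwa [hau, mul_inv_cancel_right] at h2

theorem oddCore_eq_bot : oddCore G = ⊥ := by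
  classical
  obtain ⟨V, _, -, -, hzV, huV, hconj, -⟩ := exists_four hz e hgC hne
  have hfix : ∀ w ∈ V, w ≠ 1 → ∀ x ∈ oddCore G, w * x = x * w → x = 1 := by
    intro w hw hw1 x hx hwx
    obtain ⟨k, rfl⟩ := isConj_iff.1 (hconj w hw hw1)
    set y := k⁻¹ * x * k with hy
    have hyC : y ∈ Subgroup.centralizer ({z} : Set G) := by
      refine Subgroup.mem_centralizer_singleton_iff.2 ?_
      calc y * z = k⁻¹ * (x * (k * z * k⁻¹)) * k := by rw [hy]; group
        _ = k⁻¹ * ((k * z * k⁻¹) * x) * k := by rw [hwx]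
        _ = z * y := by rw [hy]; group
    have hyO : y ∈ oddCore G := by
      have := (inferInstance : (oddCore G).Normal).conj_mem x hx k⁻¹
      rwa [inv_inv] at this
    have h1 : orderOf y ∣ 8 := card_C hz e ▸ Subgroup.orderOf_dvd_natCard _ hyC
    have h2 : (orderOf y).Coprime 8 := by
      rw [show 8 = 2 ^ 3 by norm_num]
      exact (Fusion.mem_pPrimeCore_orderOf hyO).pow_right 3
    have h3 : y = 1 := orderOf_eq_one_iff.1 (Nat.eq_one_of_dvd_coprimes h2 dvd_rfl h1)
    calc x = k * y * k⁻¹ := by rw [hy]; group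
      _ = 1 := by rw [h3]; group
  have hu2 : (g * z * g⁻¹) * (g * z * g⁻¹) = 1 := by rw [conj_mul, zz hz e, mul_one, mul_inv_cancel]
  have hu1 : g * z * g⁻¹ ≠ 1 := fun h => z_ne hz e (conj_eq_one_iff.1 h)
  have hinv : ∀ w ∈ V, w ≠ 1 → w * w = 1 → ∀ x ∈ oddCore G, w * x * w⁻¹ = x⁻¹ := by
    intro w hw hw1 hw2 x hx
    have hwi : w⁻¹ = w := inv_eq_of_mul_eq_one_right hw2
    let f : oddCore G → oddCore G := fun y =>
      ⟨(y : G)⁻¹ * (w * y * w⁻¹), mul_mem (inv_mem y.2) ((inferInstance : (oddCore G).Normal).conj_mem _ y.2 w)⟩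
    have hf : Function.Injective f := by
      intro a b hab
      have hab' : (a : G)⁻¹ * (w * a * w⁻¹) = (b : G)⁻¹ * (w * b * w⁻¹) := congrArg Subtype.val hab
      have h : w * ((a : G) * (b : G)⁻¹) = ((a : G) * (b : G)⁻¹) * w := by
        have h2 : w * (a : G) * w⁻¹ = (a : G) * ((b : G)⁻¹ * (w * b * w⁻¹)) :=
          inv_mul_eq_iff_eq_mul.1 hab'
        calc w * ((a : G) * (b : G)⁻¹) = (w * (a : G) * w⁻¹) * (w * (b : G)⁻¹) := by group
          _ = ((a : G) * ((b : G)⁻¹ * (w * b * w⁻¹))) * (w * (b : G)⁻¹) := by rw [h2]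
          _ = (a : G) * (b : G)⁻¹ * w := by group
      have := hfix w hw hw1 _ (mul_mem a.2 (inv_mem b.2)) h
      exact Subtype.ext (mul_inv_eq_one.1 this)
    obtain ⟨y, hy⟩ := Finite.injective_iff_surjective.1 hf ⟨x, hx⟩
    have hy' : x = (y : G)⁻¹ * (w * y * w⁻¹) := (congrArg Subtype.val hy).symm
    rw [hy', hwi]
    calc w * ((y : G)⁻¹ * (w * y * w)) * w = w * (y : G)⁻¹ * w * y * (w * w) := by group
      _ = ((y : G)⁻¹ * (w * y * w))⁻¹ := by rw [hw2, mul_one, mul_inv_rev, mul_inv_rev, mul_inv_rev, inv_inv, hwi]; group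
  rw [eq_bot_iff]
  intro x hx
  rw [Subgroup.mem_bot]
  refine hfix _ (V.mul_mem hzV huV) (fun h => hne ?_) x hx ?_
  · rw [← inv_eq_of_mul_eq_one_right h, inv_eq_of_mul_eq_one_right (zz hz e)]
  · rw [← mul_inv_eq_iff_eq_mul]
    calc z * (g * z * g⁻¹) * x * (z * (g * z * g⁻¹))⁻¹
        = z * ((g * z * g⁻¹) * x * (g * z * g⁻¹)⁻¹) * z⁻¹ := by group
      _ = z * x⁻¹ * z⁻¹ := by rw [hinv _ huV hu1 hu2 x hx]
      _ = x := by rw [hinv z hzV (z_ne hz e) (zz hz e) _ (inv_mem hx), inv_inv]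

theorem not_npc (hn : HasNormalPComplement 2 G) : False := by
  haveI : Fact (Nat.Prime 2) := ⟨Nat.prime_two⟩
  obtain ⟨P, N, hN, hc⟩ := hn
  haveI := hN
  have h1 : N ≤ oddCore G := Fusion.le_pPrimeCore (by
    rw [← hc.index_eq_card]
    exact ((Nat.Prime.coprime_iff_not_dvd Nat.prime_two).2 P.not_dvd_index).symm)
  rw [oddCore_eq_bot hz e hgC hne, le_bot_iff] at h1
  have h2 := hc.sup_eq_top
  rw [h1, bot_sup_eq] at h2
  exact not_two_group hz e hgC hne ((P.2.of_equiv ((MulEquiv.subgroupCongr h2).trans Subgroup.topEquiv)))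

/-- One class of involutions. -/
theorem one_class (hcl : ∀ a b : G, orderOf a = 2 → orderOf b = 2 → IsConj a b) :
    Nonempty (G ≃* Matrix.SpecialLinearGroup (Fin 3) (ZMod 2)) ∨
      Nonempty (G ≃* ↥(alternatingGroup (Fin 6))) := by
  classical
  letI := Fintype.ofFinite G
  haveI : Fact (Nat.Prime 2) := ⟨Nat.prime_two⟩
  set C := Subgroup.centralizer ({z} : Set G)
  have hkey : ∀ (N : Subgroup G) (x : G), N.Normal → x ∈ N → orderOf x = 2 → N = ⊤ := by
    intro N x hN hx hx2
    haveI := hN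
    refine eq_top_of_le hz e N fun c hc => ?_
    obtain ⟨a, b, ha, hb, hab⟩ := d8_gen (e ⟨c, hc⟩)
    have hinvol : ∀ d : DihedralGroup 4, d * d = 1 → ((e.symm d : C) : G) ∈ N := by
      intro d hd
      by_cases h1 : ((e.symm d : C) : G) = 1
      · rw [h1]; exact N.one_mem
      · have h2 : orderOf ((e.symm d : C) : G) = 2 := Char.CentD8.orderOf_two_iff.2 ⟨h1, by
          rw [← Subgroup.coe_mul, ← map_mul, hd, map_one, Subgroup.coe_one]⟩
        obtain ⟨k, hk⟩ := isConj_iff.1 (hcl x _ hx2 h2)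
        rw [← hk]; exact hN.conj_mem x hx k
    have h3 : c = ((e.symm a : C) : G) * ((e.symm b : C) : G) := by
      rw [← Subgroup.coe_mul, ← map_mul, ← hab, e.symm_apply_apply]
    rw [h3]; exact N.mul_mem (hinvol a ha) (hinvol b hb)
  obtain ⟨V, -, -, -, -, -, -, hzc⟩ := exists_four hz e hgC hne
  have hperf : commutator G = ⊤ := hkey _ z inferInstance hzc hz
  haveI : Nontrivial G := ⟨⟨z, 1, z_ne hz e⟩⟩
  haveI : IsSimpleGroup G := ⟨fun N hN => by
    haveI := hN
    rcases Nat.coprime_or_dvd_of_prime Nat.prime_two (Nat.card N) with h | h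
    · exact Or.inl (le_bot_iff.1 (oddCore_eq_bot hz e hgC hne ▸ Fusion.le_pPrimeCore h.symm))
    · obtain ⟨x, hx⟩ := exists_prime_orderOf_dvd_card' (G := N) 2 h
      exact Or.inr (hkey N x hN x.2 (by rwa [Subgroup.orderOf_coe]))⟩
  rcases Char.CentD8.main hperf z hz e with h | h
  · left
    haveI : Finite (Matrix.SpecialLinearGroup (Fin 3) (ZMod 2)) := Subtype.finite
    obtain ⟨hs, hc⟩ := Small.PSLThreeTwo.psl_three_two (F := ZMod 2) (ZMod.card 2)
    haveI := hs
    obtain ⟨f⟩ := Small.Order168Iso.iso h hc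
    obtain ⟨-, h2⟩ := Small.SchurSLFinal.center_cyclic (K := ZMod 2) 3
    rw [ZMod.card, show Nat.gcd 3 (2 - 1) = 1 from rfl] at h2
    have hbot : Subgroup.center (Matrix.SpecialLinearGroup (Fin 3) (ZMod 2)) = ⊥ :=
      Subgroup.eq_bot_of_card_eq _ h2
    exact ⟨f.trans ((QuotientGroup.quotientMulEquivOfEq hbot).trans QuotientGroup.quotientBot)⟩
  · right
    haveI : IsSimpleGroup (alternatingGroup (Fin 6)) := alternatingGroup.isSimpleGroup (by simp)
    exact Small.Order360.iso h (by rw [nat_card_alternatingGroup, Nat.card_fin]; rfl)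

/-- A subgroup of index two. -/
theorem index_two (N : Subgroup G) [N.Normal] (hN2 : N.index = 2) :
    Nonempty (G ≃* Equiv.Perm (Fin 4)) ∨ Nonempty (G ≃* Equiv.Perm (Fin 5)) := by
  classical
  haveI : Fact (Nat.Prime 2) := ⟨Nat.prime_two⟩
  obtain ⟨V, hK, hVC, hVself, hzV, -, hconj, -⟩ := exists_four hz e hgC hne
  haveI := hK
  set C := Subgroup.centralizer ({z} : Set G) with hCdef
  obtain ⟨S, hS⟩ := exists_sylow hz e
  have hzN : z ∈ N := by
    have h1 : ((e.symm (r 1) : C) : G) * ((e.symm (r 1) : C) : G) = z := by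
      rw [← Subgroup.coe_mul, ← map_mul, d8_square, ← ez hz e, e.symm_apply_apply]
    rw [← h1]; exact Subgroup.mul_self_mem_of_index_two hN2 _
  have hconjN : ∀ k : G, k * z * k⁻¹ ∈ N := fun k => ‹N.Normal›.conj_mem z hzN k
  have hVN : V ≤ N := fun x hx => by
    by_cases h : x = 1
    · rw [h]; exact N.one_mem
    · obtain ⟨k, hk⟩ := isConj_iff.1 (hconj x hx h); rw [← hk]; exact hconjN k
  have hV4 : Nat.card V = 4 := IsKleinFour.card_four
  have hNtop : N ≠ ⊤ := fun h => by rw [h, Subgroup.index_top] at hN2; omega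
  have hCN : ¬ C ≤ N := fun h => hNtop (eq_top_of_le hz e N h)
  -- two-subgroups of `N`
  have h24 : ∀ T : Subgroup G, IsPGroup 2 T → T ≤ N → Nat.card T ≤ 4 := by
    intro T hT hTN
    obtain ⟨S', hS'⟩ := hT.exists_le_sylow
    have hS8 : Nat.card (S' : Subgroup G) = 8 := by
      rw [S'.card_eq_multiplicity, ← S.card_eq_multiplicity, hS, card_C hz e]
    have hd := Subgroup.card_dvd_of_le hS'
    rw [hS8] at hd
    by_contra hlt
    have hle := Nat.le_of_dvd (by norm_num) hd
    have h8 : Nat.card T = 8 := by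
      revert hd
      obtain ⟨n, hn⟩ : ∃ n, Nat.card T = n := ⟨_, rfl⟩
      rw [hn] at hlt hle ⊢
      interval_cases n <;> norm_num
    have hTS : T = (S' : Subgroup G) := Subgroup.eq_of_le_of_card_ge hS' (by rw [hS8, h8])
    obtain ⟨k, hk⟩ := MulAction.exists_smul_eq G S' S
    refine hCN fun c hc => ?_
    have h1 : c ∈ ((k • S' : Sylow 2 G) : Subgroup G) := by rw [hk, hS]; exact hc
    rw [Sylow.coe_subgroup_smul, Subgroup.mem_pointwise_smul_iff_inv_smul_mem, ← hTS] at h1
    have h2 := ‹N.Normal›.conj_mem _ (hTN h1) k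
    simpa [MulAut.conj_apply, mul_assoc] using h2
  have hCV : C ⊓ N = V :=
    (Subgroup.eq_of_le_of_card_ge (le_inf hVC hVN) (by
      rw [hV4]
      exact h24 _ ((IsPGroup.of_card (p := 2) (n := 3) ((card_C hz e).trans (by norm_num))).to_le inf_le_left)
        inf_le_right)).symm
  set z' : N := ⟨z, hzN⟩
  have hCz' : Subgroup.centralizer ({z'} : Set N) = V.subgroupOf N := by
    ext x
    rw [Subgroup.mem_subgroupOf, ← hCV, Subgroup.mem_inf, hCdef, Subgroup.mem_centralizer_singleton_iff,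
      Subgroup.mem_centralizer_singleton_iff]
    simp [z', Subtype.ext_iff]
  set V' := V.subgroupOf N with hV'
  have hV'4 : Nat.card V' = 4 := by rw [hV', Nat.card_congr (Subgroup.subgroupOfEquivOfLe hVN).toEquiv, hV4]
  have hz' : orderOf z' = 2 := by rw [Subgroup.orderOf_mk, hz]
  have hGN : Nat.card N * 2 = Nat.card G := hN2 ▸ N.card_mul_index
  have h8G : 8 ∣ Nat.card G := card_C hz e ▸ Subgroup.card_subgroup_dvd_card C
  have hnot4 : Nat.card N ≠ 4 := fun h => by
    rw [h] at hGN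
    exact not_two_group hz e hgC hne (IsPGroup.of_card (n := 3) (by rw [← hGN]; norm_num))
  have hNV : ¬ ∀ x ∈ N, x * z = z * x := fun h => by
    have h1 : N ≤ V := fun x hx => hCV ▸ ⟨Subgroup.mem_centralizer_singleton_iff.2 (h x hx), hx⟩
    exact hnot4 (by rw [le_antisymm h1 hVN, hV4])
  have hnc : ¬ HasNormalPComplement 2 N := by
    rintro ⟨P, K, hK', hc⟩
    haveI := hK'
    have h1 : K ≤ oddCore N := Fusion.le_pPrimeCore (by
      rw [← hc.index_eq_card]
      exact ((Nat.Prime.coprime_iff_not_dvd Nat.prime_two).2 P.not_dvd_index).symm)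
    rw [Char.oddCore_normal_eq_bot (oddCore_eq_bot hz e hgC hne) N, le_bot_iff] at h1
    have h2 := hc.sup_eq_top
    rw [h1, bot_sup_eq] at h2
    have h3 := h24 N (P.2.of_equiv ((MulEquiv.subgroupCongr h2).trans Subgroup.topEquiv)) le_rfl
    have h4 := Subgroup.card_le_of_le hVN
    omega
  by_cases hex : ∃ E : Subgroup N, E.Normal ∧ IsElementaryAbelian 2 E ∧ (Nat.card E = 2 ∨ Nat.card E = 4)
  · obtain ⟨E, hE, hEab, hc2 | hc4⟩ := hex
    · exfalso
      obtain ⟨⟨k, hk⟩, hk2⟩ := exists_prime_orderOf_dvd_card' (G := E) 2 (by rw [hc2])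
      rw [Subgroup.orderOf_mk] at hk2
      have hcent : ∀ x : N, x * k = k * x := fun x => by
        have h1 := hE.conj_mem k hk x
        have hEk : Subgroup.zpowers k = E := Subgroup.eq_of_le_of_card_ge (Subgroup.zpowers_le.2 hk)
          (by rw [Nat.card_zpowers, hk2, hc2])
        rw [← hEk, Subgroup.mem_zpowers_iff] at h1
        obtain ⟨n, hn⟩ := h1
        rw [← zpow_mod_orderOf, hk2] at hn
        rcases Int.emod_two_eq_zero_or_one n with e' | e' <;> simp only [Nat.cast_ofNat, e', zpow_zero, zpow_one] at hn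
        · exact absurd (conj_eq_one_iff.1 hn.symm) (fun h => by simp [h] at hk2)
        · exact mul_inv_eq_iff_eq_mul.1 hn.symm
      have hkV : k ∈ V' := by
        rw [← hCz']
        exact Subgroup.mem_centralizer_singleton_iff.2 (hcent z').symm
      have hk1 : (k : G) ≠ 1 := fun h => by
        have : k = 1 := Subtype.ext h
        simp [this] at hk2
      obtain ⟨c, hc⟩ := isConj_iff.1 (hconj (k : G) hkV hk1)
      refine hNV fun x hx => ?_
      have h1 : (c * x * c⁻¹) * (k : G) = (k : G) * (c * x * c⁻¹) :=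
        congrArg Subtype.val (hcent ⟨_, ‹N.Normal›.conj_mem x hx c⟩)
      rw [← hc] at h1
      have := congrArg (fun t => c⁻¹ * t * c) h1
      simpa [mul_assoc] using this
    · left
      have huniq : ∀ E' : Subgroup N, E'.Normal → Nat.card E' = 4 → E' = V' := by
        intro E' hE' h4
        haveI := hE'
        have hp : IsPGroup 2 (E' ⊔ V' : Subgroup N) := IsPGroup.to_sup_of_normal_left
          (IsPGroup.of_card (n := 2) (h4.trans (by norm_num)))
          (IsPGroup.of_card (n := 2) (hV'4.trans (by norm_num)))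
        have h1 := h24 _ (hp.map N.subtype) (Subgroup.map_subtype_le _)
        rw [Subgroup.card_map_of_injective N.subtype_injective] at h1
        have e1 : E' = E' ⊔ V' := Subgroup.eq_of_le_of_card_ge le_sup_left (by rw [h4]; exact h1)
        have e2 : V' = E' ⊔ V' := Subgroup.eq_of_le_of_card_ge le_sup_right (by rw [hV'4]; exact h1)
        rw [e1, ← e2]
      have hV'n : V'.Normal := huniq E hE hc4 ▸ hE
      haveI hVn : V.Normal := ⟨fun x hx k => by
        have h1 := huniq (V'.map (MulAut.conjNormal k : MulAut N).toMonoidHom)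
          (hV'n.map _ (MulAut.conjNormal k : MulAut N).surjective)
          (by rw [Subgroup.card_map_of_injective]; exacts [hV'4, (MulAut.conjNormal k : MulAut N).injective])
        have h2 : (MulAut.conjNormal k : MulAut N) ⟨x, hVN hx⟩ ∈ V' :=
          h1 ▸ Subgroup.mem_map_of_mem _ (show (⟨x, hVN hx⟩ : N) ∈ V' from hx)
        rwa [hV', Subgroup.mem_subgroupOf, MulAut.conjNormal_apply] at h2⟩
      refine Classical.equiv_symm_four V hVself ?_
      have h1 := Classical.card_dvd_of_klein_normal V hVself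
      have hne8 : Nat.card G ≠ 8 := fun h => not_two_group hz e hgC hne (IsPGroup.of_card (n := 3) (by rw [h]; norm_num))
      obtain ⟨m, hm⟩ := h8G
      have := Nat.le_of_dvd (by norm_num) h1
      have hpos : 0 < Nat.card G := Nat.card_pos
      rcases (by omega : m = 1 ∨ m = 2 ∨ m = 3) with rfl | rfl | rfl
      · omega
      · rw [hm] at h1; norm_num at h1
      · omega
  · right
    have hne' : ∀ E : Subgroup N, E.Normal → IsElementaryAbelian 2 E → Nat.card E ≠ 2 ∧ Nat.card E ≠ 4 :=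
      fun E h1 h2 => ⟨fun h => hex ⟨E, h1, h2, Or.inl h⟩, fun h => hex ⟨E, h1, h2, Or.inr h⟩⟩
    obtain ⟨f5⟩ := Lie.InvFour.alt_five_of_centralizer_four z' hz' (by rw [hCz', hV'4])
      (fun c hc => by
        rw [hCz'] at hc
        refine Subtype.ext ?_
        have h1 := (Monoid.exponent_dvd_iff_forall_pow_eq_one (G := V)).1 IsKleinFour.exponent_two.dvd ⟨c, hc⟩
        exact (congrArg Subtype.val h1 :)) hnc hne'
    have hcard : Nat.card N = 60 := by
      rw [Nat.card_congr f5.toEquiv, nat_card_alternatingGroup, Nat.card_fin]; rfl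
    have hsurj : Function.Surjective
        (MulAut.conjNormal : Equiv.Perm (Fin 5) →* MulAut ↥(alternatingGroup (Fin 5))) := fun σ => by
      obtain ⟨π, hπ⟩ := Perm.AltAut.exists_perm_of_ne_six (n := 5) (by norm_num) (by norm_num) σ
      exact ⟨π, hπ.symm⟩
    let E5 : Equiv.Perm (Fin 5) ≃* MulAut ↥(alternatingGroup (Fin 5)) :=
      MulEquiv.ofBijective _ ⟨Perm.AltAut.conjNormal_injective (n := 5) (by norm_num), hsurj⟩
    let ψ : G →* Equiv.Perm (Fin 5) :=
      ((MulAut.congr f5).trans E5.symm).toMonoidHom.comp MulAut.conjNormal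
    have hinj : Function.Injective ψ := by
      refine (injective_iff_map_eq_one ψ).2 fun k hk => ?_
      have hk' : (MulAut.conjNormal k : MulAut N) = 1 :=
        ((MulAut.congr f5).trans E5.symm).map_eq_one_iff.1 hk
      have hcomm : ∀ x ∈ N, k * x = x * k := fun x hx => by
        have h1 := congrArg Subtype.val (DFunLike.congr_fun hk' (⟨x, hx⟩ : N))
        rw [MulAut.conjNormal_apply] at h1
        exact mul_inv_eq_iff_eq_mul.1 h1
      have hkV : k ∈ V := hVself (Subgroup.mem_centralizer_iff.2 fun x hx => (hcomm x (hVN hx)).symm)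
      by_contra hk1
      obtain ⟨c, hc⟩ := isConj_iff.1 (hconj k hkV hk1)
      refine hNV fun x hx => ?_
      have h1 := hcomm _ (‹N.Normal›.conj_mem x hx c)
      rw [← hc] at h1
      have := congrArg (fun t => c⁻¹ * t * c) h1
      simpa [mul_assoc] using this.symm
    exact ⟨MulEquiv.ofBijective ψ ((Nat.bijective_iff_injective_and_card ψ).2 ⟨hinj, by
      rw [← hGN, hcard, Nat.card_perm, Nat.card_fin]; rfl⟩)⟩

end fused

theorem classification :
    Subgroup.centralizer ({z} : Set G) ⊔ oddCore G = ⊤ ∨ Nonempty (G ≃* Equiv.Perm (Fin 4)) ∨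
      Nonempty (G ≃* Equiv.Perm (Fin 5)) ∨
      Nonempty (G ≃* Matrix.SpecialLinearGroup (Fin 3) (ZMod 2)) ∨
      Nonempty (G ≃* ↥(alternatingGroup (Fin 6))) := by
  by_cases hiso : ∀ g : G, g * z * g⁻¹ ∈ Subgroup.centralizer ({z} : Set G) → g * z * g⁻¹ = z
  · exact Or.inl (isolated hz e hiso)
  simp only [not_forall] at hiso
  obtain ⟨g, hgC, hne⟩ := hiso
  obtain ⟨S, hS⟩ := exists_sylow hz e
  let ι : DihedralGroup 4 →* G := (Subgroup.centralizer ({z} : Set G)).subtype.comp e.symm.toMonoidHom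
  have hι : Function.Injective ι := (Subgroup.subtype_injective _).comp e.symm.injective
  have hrange : ι.range = (S : Subgroup G) := by
    rw [hS, MonoidHom.range_comp, MonoidHom.range_eq_top.2 e.symm.surjective, ← MonoidHom.range_eq_map,
      Subgroup.range_subtype]
  rcases Solv.DihedralClasses.main S (dvd_refl 4) ι hι hrange with ⟨h1, -⟩ | ⟨-, ⟨N, hN, hi⟩, -⟩ | ⟨-, hc⟩
  · letI := Fintype.ofFinite G
    exact Or.inr (Or.inr (Or.inr (one_class hz e hgC hne
      (fun _ _ ha hb => Char.CentD8.isConj_of_one_class h1 ha hb))))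
  · haveI := hN
    rcases index_two hz e hgC hne N hi with h | h
    · exact Or.inr (Or.inl h)
    · exact Or.inr (Or.inr (Or.inl h))
  · exact (not_npc hz e hgC hne hc).elim

end Cfsg.Agent.Lead.CentDEight

namespace Cfsg.Agent.Lead.CentDEight

/-- `PSL(3, 2)` is `SL(3, 2)`. -/
noncomputable def sl_three_two : Matrix.ProjectiveSpecialLinearGroup (Fin 3) (ZMod 2) ≃*
    Matrix.SpecialLinearGroup (Fin 3) (ZMod 2) :=
  (QuotientGroup.quotientMulEquivOfEq (Subgroup.eq_bot_of_card_eq _ (by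
    haveI : Fact (Nat.Prime 2) := ⟨Nat.prime_two⟩
    haveI : Finite (Matrix.SpecialLinearGroup (Fin 3) (ZMod 2)) := Subtype.finite
    obtain ⟨-, h2⟩ := Small.SchurSLFinal.center_cyclic (K := ZMod 2) 3
    rwa [ZMod.card, show Nat.gcd 3 (2 - 1) = 1 from rfl] at h2))).trans QuotientGroup.quotientBot

end Cfsg.Agent.Lead.CentDEight
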