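import Cfsg.Agent.Lib.Lead.SL2Counts
import Mathlib

/-!
Degrees determine the kind of an irreducible character of SL(2,q), q ≥ 4.
-/

set_option autoImplicit false

namespace Cfsg.Agent.Lead.SL2

open Cfsg Cfsg.Agent.Lead.GL2
open scoped ComplexConjugate Matrix

universe u

variable {F : Type u} [Field F] [Fintype F] [DecidableEq F] [Fintype (MulChar F ℂ)]
  {ψ : Matrix.SpecialLinearGroup (Fin 2) F → ℂ}

theorem deg_one (hq : 4 ≤ Fintype.card F) (hψ : IsIrrCharacter (Matrix.SpecialLinearGroup (Fin 2) F) ψ) :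
    ψ 1 = 1 ↔ ψ = fun _ => 1 := by
  constructor
  · intro h1
    obtain ⟨n, hn, hk⟩ := kind hψ
    rw [hn, Nat.cast_eq_one] at h1
    cases hk with
    | one h _ => exact h
    | st h hm => omega
    | prin γ _ _ hm => omega
    | cusp χ _ _ _ _ hm => omega
    | halfPs φ hodd _ hm => rw [Nat.odd_iff] at hodd; omega
    | halfCusp χ φ _ _ _ hodd _ hm => rw [Nat.odd_iff] at hodd; omega
  · intro h; simp [h]

theorem deg_q (hq : 4 ≤ Fintype.card F) (hψ : IsIrrCharacter (Matrix.SpecialLinearGroup (Fin 2) F) ψ) :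
    ψ 1 = (Fintype.card F : ℂ) ↔ ψ = St0 := by
  constructor
  · intro h1
    obtain ⟨n, hn, hk⟩ := kind hψ
    rw [hn, Nat.cast_inj] at h1
    cases hk with
    | one _ hm => omega
    | st h hm => exact h
    | prin γ _ _ hm => omega
    | cusp χ _ _ _ _ hm => omega
    | halfPs φ hodd _ hm => omega
    | halfCusp χ φ _ _ _ hodd _ hm => omega
  · intro h; rw [h, St0_one_val]

theorem deg_R (hq : 4 ≤ Fintype.card F) (hψ : IsIrrCharacter (Matrix.SpecialLinearGroup (Fin 2) F) ψ) :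
    ψ 1 = (Fintype.card F : ℂ) + 1 ↔ ∃ γ : MulChar F ℂ, γ ^ 2 ≠ 1 ∧ ψ = R γ := by
  constructor
  · intro h1
    obtain ⟨n, hn, hk⟩ := kind hψ
    rw [hn, ← Nat.cast_one, ← Nat.cast_add, Nat.cast_inj] at h1
    cases hk with
    | one _ hm => omega
    | st h hm => omega
    | prin γ hγ h hm => exact ⟨γ, hγ, h⟩
    | cusp χ _ _ _ _ hm => omega
    | halfPs φ hodd _ hm => omega
    | halfCusp χ φ _ _ _ hodd _ hm => omega
  · rintro ⟨γ, -, rfl⟩; exact R_one_val γ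

theorem deg_free (hq : 4 ≤ Fintype.card F) (hψ : IsIrrCharacter (Matrix.SpecialLinearGroup (Fin 2) F) ψ) :
    ψ 1 = (Fintype.card F : ℂ) - 1 ↔
      ∃ χ, IsIrrCharacter (GL (Fin 2) F) χ ∧ IsCusp χ ∧ ¬ Fixed χ ∧ ψ = res χ := by
  constructor
  · intro h1
    obtain ⟨n, hn, hk⟩ := kind hψ
    rw [hn, ← Nat.cast_one, ← Nat.cast_sub (by omega), Nat.cast_inj] at h1
    cases hk with
    | one _ hm => omega
    | st h hm => omega
    | prin γ hγ h hm => omega
    | cusp χ hχ hc hf h hm => exact ⟨χ, hχ, hc, hf, h⟩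
    | halfPs φ hodd _ hm => omega
    | halfCusp χ φ _ _ _ hodd _ hm => omega
  · rintro ⟨χ, hχ, hc, -, rfl⟩
    rw [res, toGL2, map_one, (cusp_values hχ hc).1, Nat.cast_sub (by omega), Nat.cast_one]

theorem half_plus_val (hodd : Odd (Fintype.card F)) {φ : Matrix.SpecialLinearGroup (Fin 2) F → ℂ}
    (h : Halves (ps (eta : MulChar F ℂ) 1) ψ φ) : ψ 1 = (((Fintype.card F + 1) / 2 : ℕ) : ℂ) := by
  have h2 := (h.one_val hodd).2
  rw [ps_one_val] at h2
  obtain ⟨k, hk⟩ := hodd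
  rw [show (Fintype.card F + 1) / 2 = k + 1 by omega]
  rw [hk] at h2
  push_cast at h2 ⊢
  linear_combination h2 / 2

theorem half_minus_val (hodd : Odd (Fintype.card F)) {χ : GL (Fin 2) F → ℂ}
    {φ : Matrix.SpecialLinearGroup (Fin 2) F → ℂ} (hχ : IsIrrCharacter (GL (Fin 2) F) χ)
    (hc : IsCusp χ) (h : Halves χ ψ φ) : ψ 1 = (((Fintype.card F - 1) / 2 : ℕ) : ℂ) := by
  have h2 := (h.one_val hodd).2
  rw [(cusp_values hχ hc).1] at h2
  obtain ⟨k, hk⟩ := hodd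
  rw [show (Fintype.card F - 1) / 2 = k by omega]
  rw [hk, Nat.add_sub_cancel] at h2
  push_cast at h2 ⊢
  linear_combination h2 / 2

theorem deg_half_plus (hodd : Odd (Fintype.card F)) (hq : 5 ≤ Fintype.card F)
    (hψ : IsIrrCharacter (Matrix.SpecialLinearGroup (Fin 2) F) ψ) :
    ψ 1 = (((Fintype.card F + 1) / 2 : ℕ) : ℂ) ↔ ∃ φ, Halves (ps (eta : MulChar F ℂ) 1) ψ φ := by
  have ho := Nat.odd_iff.1 hodd
  constructor
  · intro h1
    obtain ⟨n, hn, hk⟩ := kind hψ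
    rw [hn, Nat.cast_inj] at h1
    cases hk with
    | one _ hm => omega
    | st h hm => omega
    | prin γ hγ h hm => omega
    | cusp χ _ _ _ _ hm => omega
    | halfPs φ _ h hm => exact ⟨φ, h⟩
    | halfCusp χ φ _ _ _ _ _ hm => omega
  · rintro ⟨φ, h⟩; exact half_plus_val hodd h

theorem deg_half_minus (hodd : Odd (Fintype.card F)) (hq : 5 ≤ Fintype.card F)
    (hψ : IsIrrCharacter (Matrix.SpecialLinearGroup (Fin 2) F) ψ) :
    ψ 1 = (((Fintype.card F - 1) / 2 : ℕ) : ℂ) ↔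
      ∃ χ φ, IsIrrCharacter (GL (Fin 2) F) χ ∧ IsCusp χ ∧ Halves χ ψ φ := by
  have ho := Nat.odd_iff.1 hodd
  constructor
  · intro h1
    obtain ⟨n, hn, hk⟩ := kind hψ
    rw [hn, Nat.cast_inj] at h1
    cases hk with
    | one _ hm => omega
    | st h hm => omega
    | prin γ hγ h hm => omega
    | cusp χ _ _ _ _ hm => omega
    | halfPs φ _ h hm => omega
    | halfCusp χ φ hχ hc _ _ h hm => exact ⟨χ, φ, hχ, hc, h⟩
  · rintro ⟨χ, φ, hχ, hc, h⟩; exact half_minus_val hodd hχ hc h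

theorem card_pair {a b : Matrix.SpecialLinearGroup (Fin 2) F → ℂ}
    (ha : IsIrrCharacter (Matrix.SpecialLinearGroup (Fin 2) F) a)
    (hb : IsIrrCharacter (Matrix.SpecialLinearGroup (Fin 2) F) b) (hab : a ≠ b)
    {P : IrrCharacter (Matrix.SpecialLinearGroup (Fin 2) F) → Prop}
    (hP : ∀ χ : IrrCharacter (Matrix.SpecialLinearGroup (Fin 2) F),
      P χ ↔ ((χ : Matrix.SpecialLinearGroup (Fin 2) F → ℂ) = a ∨
        (χ : Matrix.SpecialLinearGroup (Fin 2) F → ℂ) = b)) :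
    Nat.card {χ // P χ} = 2 := by
  classical
  rw [Nat.card_congr (Equiv.subtypeEquivRight (q := fun χ =>
      χ ∈ ({⟨a, ha⟩, ⟨b, hb⟩} : Finset (IrrCharacter (Matrix.SpecialLinearGroup (Fin 2) F))))
    (fun χ => by simp [hP, Subtype.ext_iff])),
    Nat.card_eq_fintype_card, Fintype.card_coe, Finset.card_pair (fun h => hab (congrArg Subtype.val h))]

theorem card_single {a : Matrix.SpecialLinearGroup (Fin 2) F → ℂ}
    (ha : IsIrrCharacter (Matrix.SpecialLinearGroup (Fin 2) F) a)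
    {P : IrrCharacter (Matrix.SpecialLinearGroup (Fin 2) F) → Prop}
    (hP : ∀ χ : IrrCharacter (Matrix.SpecialLinearGroup (Fin 2) F),
      P χ ↔ (χ : Matrix.SpecialLinearGroup (Fin 2) F → ℂ) = a) :
    Nat.card {χ // P χ} = 1 := by
  rw [Nat.card_eq_one_iff_unique]
  exact ⟨⟨fun x y => Subtype.ext (Subtype.ext (((hP _).1 x.2).trans ((hP _).1 y.2).symm))⟩,
    ⟨⟨⟨a, ha⟩, (hP _).2 rfl⟩⟩⟩

end Cfsg.Agent.Lead.SL2
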