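import Cfsg.Agent.Lib.Lead.SL2Deg
import Mathlib

/-!
Induction from the Borel subgroup of SL(2,q), and the case q = 3.
-/

set_option autoImplicit false

namespace Cfsg.Agent.Lead.SL2

open Cfsg Cfsg.Agent.Lead.GL2
open scoped ComplexConjugate Matrix

universe u

variable {F : Type u} [Field F] [Fintype F] [DecidableEq F]

/-- Coset representatives of the Borel subgroup of SL(2). -/
def repSL : Option F → Matrix.SpecialLinearGroup (Fin 2) F
  | none => 1
  | some t => ⟨!![t, -1; 1, 0], by simp [Matrix.det_fin_two]⟩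

omit [Fintype F] [DecidableEq F] in
theorem toGL2_repSL (o : Option F) :
    ∃ d : Fˣ, toGL2 (repSL o) = rep o * up 1 d 0 := by
  cases o with
  | none => exact ⟨1, by rw [repSL, toGL2, map_one, rep, one_mul, show up (1 : Fˣ) 1 0 = (1 : GL (Fin 2) F) from
      ext2 (by simp [mat, up]) (by simp [mat, up]) (by simp [mat, up]) (by simp [mat, up])]⟩
  | some t =>
    refine ⟨-1, ext2 ?_ ?_ ?_ ?_⟩ <;> simp [mat, rep, up, Matrix.mul_apply, Fin.sum_univ_two] <;> rfl

theorem repSL_bijective :
    Function.Bijective fun o : Option F => (repSL o : Matrix.SpecialLinearGroup (Fin 2) F ⧸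
      ((upperTriangularGL 2 F).comap Matrix.SpecialLinearGroup.toGL)) := by
  have key : ∀ o : Option F, (toGL2 (repSL o) : GL (Fin 2) F ⧸ upperTriangularGL 2 F) =
      ((rep o : GL (Fin 2) F) : GL (Fin 2) F ⧸ upperTriangularGL 2 F) := by
    intro o
    obtain ⟨d, hd⟩ := toGL2_repSL o
    rw [hd]
    exact QuotientGroup.mk_mul_of_mem _ (up_mem _ _ _)
  constructor
  · intro o o' h
    refine rep_bijective.1 ?_
    show (rep o : GL (Fin 2) F ⧸ upperTriangularGL 2 F) = rep o'
    rw [← key, ← key]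
    refine QuotientGroup.eq.2 ?_
    have h2 := Subgroup.mem_comap.1 (QuotientGroup.eq.1 h)
    rw [map_mul, map_inv] at h2
    exact h2
  · intro q
    induction q using QuotientGroup.induction_on with
    | H g => ?_
    obtain ⟨o, ho⟩ := rep_bijective.2 (toGL2 g : GL (Fin 2) F ⧸ upperTriangularGL 2 F)
    refine ⟨o, QuotientGroup.eq.2 (Subgroup.mem_comap.2 ?_)⟩
    rw [map_mul, map_inv]
    exact QuotientGroup.eq.1 ((key o).trans ho)

theorem indSL_eq_R (α : MulChar F ℂ) :
    indFun ((upperTriangularGL 2 F).comap Matrix.SpecialLinearGroup.toGL)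
      (fun b => α (((b : Matrix.SpecialLinearGroup (Fin 2) F) : Matrix (Fin 2) (Fin 2) F) 0 0)) = R α := by
  set H := (upperTriangularGL 2 F).comap Matrix.SpecialLinearGroup.toGL
  have hlam : ∀ b : H, α (((b : Matrix.SpecialLinearGroup (Fin 2) F) : Matrix (Fin 2) (Fin 2) F) 0 0) =
      lam α 1 ⟨toGL2 b.1, b.2⟩ := by
    intro b
    have h11 := (borel_diag_ne (g := toGL2 b.1) b.2).2
    rw [lam]
    show _ = α _ * (1 : MulChar F ℂ) _
    rw [MulChar.one_apply (isUnit_iff_ne_zero.2 h11), mul_one]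
    rfl
  funext g
  rw [R, res, ps, indFun_eq_sum_reps _ _ (lam_conj α 1) rep rep_bijective,
    indFun_eq_sum_reps H _ (fun h k => by
      rw [hlam, hlam, ← lam_conj α 1 ⟨toGL2 h.1, h.2⟩ ⟨toGL2 k.1, k.2⟩]
      congr 1
      refine Subtype.ext ?_
      show toGL2 ((k⁻¹ * h * k : H) : Matrix.SpecialLinearGroup (Fin 2) F) =
        (toGL2 k.1)⁻¹ * toGL2 h.1 * toGL2 k.1
      simp [toGL2]) repSL repSL_bijective]
  refine Finset.sum_congr rfl fun o _ => ?_
  obtain ⟨d, hd⟩ := toGL2_repSL o
  set m := (rep o)⁻¹ * toGL2 g * rep o with hm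
  have hc : toGL2 ((repSL o)⁻¹ * g * repSL o) = (up 1 d 0)⁻¹ * m * up 1 d 0 := by
    rw [toGL2, map_mul, map_mul, map_inv, ← toGL2, ← toGL2, hd, hm]; group
  have hiff : (repSL o)⁻¹ * g * repSL o ∈ H ↔ m ∈ upperTriangularGL 2 F := by
    show toGL2 _ ∈ upperTriangularGL 2 F ↔ _
    rw [hc]
    constructor
    · intro h
      have := mul_mem (mul_mem (up_mem 1 d (0 : F)) h) (inv_mem (up_mem 1 d (0 : F)))
      simpa [mul_assoc] using this
    · intro h; exact mul_mem (mul_mem (inv_mem (up_mem _ _ _)) h) (up_mem _ _ _)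
  by_cases h : m ∈ upperTriangularGL 2 F
  · rw [Char.extendByZero_mem _ _ (hiff.2 h), Char.extendByZero_mem _ _ h, hlam,
      ← lam_conj α 1 ⟨m, h⟩ ⟨up 1 d 0, up_mem _ _ _⟩]
    congr 1
    exact Subtype.ext hc
  · rw [Char.extendByZero_not_mem _ _ (fun hh => h (hiff.1 hh)), Char.extendByZero_not_mem _ _ h]

/-- For q = 3 the free cuspidal restriction vanishes on elliptic elements. -/
theorem free_elliptic_three (h3 : Fintype.card F = 3) [Fintype (MulChar F ℂ)] {χ : GL (Fin 2) F → ℂ}
    (hχ : IsIrrCharacter (GL (Fin 2) F) χ) (hc : IsCusp χ) (hf : ¬ Fixed χ)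
    {g : Matrix.SpecialLinearGroup (Fin 2) F}
    (hg : ∀ (c : F) (v : Fin 2 → F), v ≠ 0 → (g : Matrix (Fin 2) (Fin 2) F).mulVec v ≠ c • v) :
    res χ g = 0 := by
  classical
  have hodd : Odd (Fintype.card F) := by rw [h3]; decide
  have hψ := res_irr_free hχ hf
  set ψ := res χ
  let T : Matrix.SpecialLinearGroup (Fin 2) F → Prop := fun s =>
    ((s : Matrix (Fin 2) (Fin 2) F) 0 0 + (s : Matrix (Fin 2) (Fin 2) F) 1 1) ^ 2 = 4
  let f : Matrix.SpecialLinearGroup (Fin 2) F → ℂ := fun s => ψ s * conj (ψ s)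
  have hcard : (uPlus F).card = 8 := by have := card_uPlus (F := F); rw [h3] at this; omega
  have hall : ∑ s, f s = 24 := by
    have h1 := Char.irr_self hψ
    rw [classInner, card_SL2_val, hcard, h3] at h1
    have e : (((8 * 3 : ℕ) : ℂ))⁻¹ * ∑ s, f s = 1 := h1
    push_cast at e
    linear_combination 24 * e
  have hmul : ∀ s, f (zSL * s) = f s := by
    intro s
    simp only [f]
    rw [central_mul hψ, map_mul, (omega_sq hψ).2]
    linear_combination (ψ s * conj (ψ s)) * (omega_sq hψ).1
  have hd : ψ 1 = 2 := by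
    rw [show ψ 1 = χ 1 by simp [ψ, res, toGL2], (cusp_values hχ hc).1, h3]; norm_num
  have hT : ∑ s, (if T s then f s else 0) = 24 := by
    rw [sum_split hodd _ (fun s hs => if_neg hs), if_pos (by simp [T]; norm_num),
      if_pos (by simp [T, zSL]; norm_num),
      Finset.sum_congr rfl (g := fun _ => (2 : ℂ)), Finset.sum_const, hcard]
    · have hz := hmul 1
      rw [mul_one] at hz
      rw [hz]
      simp only [f, hd, map_ofNat]
      norm_num
    · intro s hs
      obtain ⟨P, hP⟩ := uPlus_conj hs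
      have ht : T s := by
        simp only [uPlus, Finset.mem_filter, Finset.mem_univ, true_and] at hs
        simp only [T, hs.1]; norm_num
      have ht' : T (zSL * s) := by
        simp only [T, mat_zSL_mul, Matrix.neg_apply] at ht ⊢
        linear_combination ht
      rw [if_pos ht, if_pos ht', hmul]
      have hv : ψ s = -1 := by
        rw [hP, show ψ (conjSL P (uSL 1)) = ψ (uSL 1) from
          res_conj (Char.isClassFunction_character (Char.irr_isCharacter hχ)) P _]
        show χ (toGL2 (uSL 1)) = -1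
        rw [toGL2_uSL, (cusp_values hχ hc).2]
      simp only [f, hv, map_neg, map_one]; norm_num
  have hzero : ∑ s, (if T s then (0 : ℝ) else Complex.normSq (ψ s)) = 0 := by
    have e : ((∑ s, (if T s then (0 : ℝ) else Complex.normSq (ψ s)) : ℝ) : ℂ) =
        ∑ s, f s - ∑ s, (if T s then f s else 0) := by
      rw [Complex.ofReal_sum, ← Finset.sum_sub_distrib]
      refine Finset.sum_congr rfl fun s _ => ?_
      split_ifs <;> simp [f, Complex.mul_conj]
    rw [hall, hT, sub_self] at e
    exact_mod_cast e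
  have := (Finset.sum_eq_zero_iff_of_nonneg (fun s _ => by
    split_ifs
    · exact le_rfl
    · exact Complex.normSq_nonneg _)).1 hzero g (Finset.mem_univ _)
  rw [if_neg (fun h : T g => noEigen_trace (two_ne_zero' hodd) hg h)] at this
  exact Complex.normSq_eq_zero.1 this

end Cfsg.Agent.Lead.SL2
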