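import Mathlib
import Cfsg.Prelude.Def_ClassicalGeometry
import Cfsg.Agent.Lib.Small.SymplecticElems
import Cfsg.Agent.Lib.Small.ClassicalHom
import Cfsg.Agent.Lib.Lead.GLBasic

/-!
Symplectic transvections, transitivity, the centre, the Levi subgroup.
-/

set_option autoImplicit false

namespace Cfsg.Agent.Lead.Symp

open Matrix Cfsg

variable {R : Type*} [CommRing R] {m : ℕ}

theorem form_eq (u v : Fin m ⊕ Fin m → R) :
    sympForm m R u v = ∑ i, (u (.inr i) * v (.inl i) - u (.inl i) * v (.inr i)) := by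
  simp [sympForm, Matrix.J, dotProduct, Matrix.fromBlocks_mulVec, Fintype.sum_sum_type,
    Finset.sum_sub_distrib, Matrix.neg_mulVec]
  ring

theorem form_self (v : Fin m ⊕ Fin m → R) : sympForm m R v v = 0 := by
  simp [form_eq, mul_comm]

theorem form_swap (u v : Fin m ⊕ Fin m → R) : sympForm m R v u = - sympForm m R u v := by
  rw [form_eq, form_eq, ← Finset.sum_neg_distrib]
  exact Finset.sum_congr rfl fun i _ => by ring

theorem trans_mulVec (v x : Fin m ⊕ Fin m → R) (c : R) :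
    sympTransvection m v c *ᵥ x = x + (c * sympForm m R x v) • v := by
  rw [sympTransvection, Matrix.add_mulVec, Matrix.one_mulVec, Matrix.smul_mulVec,
    Matrix.vecMulVec_mulVec, sympForm, dotProduct_comm x]
  ext k
  simp
  ring

theorem trans_mem (v : Fin m ⊕ Fin m → R) (c : R) :
    sympTransvection m v c ∈ symplecticGroup (Fin m) R := by
  rw [SymplecticGroup.mem_iff]
  have h0 : v ⬝ᵥ (J (Fin m) R *ᵥ v) = 0 := form_self v
  have h1 : J (Fin m) R *ᵥ (J (Fin m) R *ᵥ v) = -v := by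
    rw [Matrix.mulVec_mulVec, J_squared, Matrix.neg_mulVec, Matrix.one_mulVec]
  have h2 : (J (Fin m) R *ᵥ v) ᵥ* J (Fin m) R = v := by
    rw [← Matrix.mulVec_transpose, J_transpose, Matrix.neg_mulVec, h1, neg_neg]
  rw [sympTransvection, Matrix.transpose_add, Matrix.transpose_one, Matrix.transpose_smul,
    Matrix.transpose_vecMulVec, Matrix.add_mul, Matrix.one_mul, Matrix.smul_mul,
    Matrix.vecMulVec_mul, h2, Matrix.mul_add, Matrix.mul_one, Matrix.mul_smul, Matrix.add_mul,
    Matrix.mul_vecMulVec, h1, Matrix.smul_mul, Matrix.vecMulVec_mul_vecMulVec, h0, zero_smul,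
    Matrix.vecMulVec_zero, smul_zero, add_zero, Matrix.neg_vecMulVec]
  ext i j
  simp

theorem trans_add (v : Fin m ⊕ Fin m → R) (c d : R) :
    sympTransvection m v c * sympTransvection m v d = sympTransvection m v (c + d) := by
  refine Matrix.ext_of_mulVec_single fun i => ?_
  rw [← Matrix.mulVec_mulVec, trans_mulVec, trans_mulVec, trans_mulVec]
  have h := form_self v
  set e : Fin m ⊕ Fin m → R := Pi.single i 1
  have : sympForm m R (e + (d * sympForm m R e v) • v) v = sympForm m R e v := by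
    rw [sympForm, add_dotProduct, smul_dotProduct, ← sympForm, ← sympForm, h, smul_zero, add_zero]
  rw [this]
  module

theorem sp2_iff (A : Matrix (Fin 1 ⊕ Fin 1) (Fin 1 ⊕ Fin 1) R) :
    A ∈ symplecticGroup (Fin 1) R ↔ A.det = 1 := by
  have hd : A.det = A (.inl 0) (.inl 0) * A (.inr 0) (.inr 0) -
      A (.inl 0) (.inr 0) * A (.inr 0) (.inl 0) := by
    rw [← Matrix.det_submatrix_equiv_self finSumFinEquiv.symm A, Matrix.det_fin_two]
    rfl
  rw [SymplecticGroup.mem_iff, hd]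
  constructor
  · intro h
    have := congrFun (congrFun h (.inr 0)) (.inl 0)
    simp [Matrix.mul_apply, Matrix.J, Fintype.sum_sum_type] at this
    linear_combination this
  · intro h
    ext i j
    rcases i with i | i <;> rcases j with j | j <;> fin_cases i <;> fin_cases j <;>
      simp [Matrix.mul_apply, Matrix.J, Fintype.sum_sum_type] <;>
      first | ring1 | linear_combination h | linear_combination -h

variable {F : Type*} [Field F]

/-- The subgroup generated by transvections. -/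
abbrev transGroup (m : ℕ) (F : Type*) [Field F] : Subgroup (symplecticGroup (Fin m) F) :=
  Subgroup.closure {A : symplecticGroup (Fin m) F | ∃ (w : Fin m ⊕ Fin m → F) (c : F),
    (A : Matrix (Fin m ⊕ Fin m) (Fin m ⊕ Fin m) F) = sympTransvection m w c}

theorem exists_form_ne {u : Fin m ⊕ Fin m → F} (hu : u ≠ 0) :
    ∃ z, sympForm m F u z ≠ 0 := by
  obtain ⟨k, hk⟩ := Function.ne_iff.mp hu
  rcases k with k | k
  · exact ⟨Pi.single (.inr k) 1, by simpa [form_eq, Pi.single_apply, Sum.inr.injEq] using hk⟩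
  · exact ⟨Pi.single (.inl k) 1, by simpa [form_eq, Pi.single_apply, Sum.inl.injEq] using hk⟩

theorem exists_both_ne {u u' : Fin m ⊕ Fin m → F} (hu : u ≠ 0) (hu' : u' ≠ 0) :
    ∃ z, sympForm m F u z ≠ 0 ∧ sympForm m F z u' ≠ 0 := by
  obtain ⟨z, hz⟩ := exists_form_ne hu
  obtain ⟨w, hw⟩ := exists_form_ne hu'
  rw [← neg_ne_zero, ← form_swap] at hw
  by_cases h1 : sympForm m F z u' = 0
  · by_cases h2 : sympForm m F u w = 0
    · refine ⟨z + w, ?_, ?_⟩
      · rwa [sympForm, Matrix.mulVec_add, dotProduct_add, ← sympForm, ← sympForm, h2, add_zero]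
      · rwa [sympForm, add_dotProduct, ← sympForm, ← sympForm, h1, zero_add]
    · exact ⟨w, h2, hw⟩
  · exact ⟨z, hz, h1⟩

theorem exists_step {u u' : Fin m ⊕ Fin m → F} (h : sympForm m F u u' ≠ 0) :
    ∃ A ∈ transGroup m F, (A : Matrix (Fin m ⊕ Fin m) (Fin m ⊕ Fin m) F) *ᵥ u = u' ∧
      ∀ x, sympForm m F x u = sympForm m F x u' →
        (A : Matrix (Fin m ⊕ Fin m) (Fin m ⊕ Fin m) F) *ᵥ x = x := by
  refine ⟨⟨sympTransvection m (u' - u) (sympForm m F u u')⁻¹, trans_mem _ _⟩,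
    Subgroup.subset_closure ⟨_, _, rfl⟩, ?_, ?_⟩
  · show sympTransvection m _ _ *ᵥ u = u'
    rw [trans_mulVec, sympForm, sympForm, Matrix.mulVec_sub, dotProduct_sub, ← sympForm, ← sympForm,
      form_self, sub_zero, inv_mul_cancel₀ h, one_smul, add_sub_cancel]
  · intro x hx
    show sympTransvection m _ _ *ᵥ x = x
    rw [trans_mulVec, sympForm, sympForm, Matrix.mulVec_sub, dotProduct_sub, ← sympForm, ← sympForm,
      ← sympForm, hx, sub_self, mul_zero, zero_smul, add_zero]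

theorem exists_move {u u' : Fin m ⊕ Fin m → F} (hu : u ≠ 0) (hu' : u' ≠ 0) :
    ∃ A ∈ transGroup m F, (A : Matrix (Fin m ⊕ Fin m) (Fin m ⊕ Fin m) F) *ᵥ u = u' := by
  obtain ⟨z, h1, h2⟩ := exists_both_ne hu hu'
  obtain ⟨A, hA, hAu, -⟩ := exists_step h1
  obtain ⟨B, hB, hBu, -⟩ := exists_step h2
  exact ⟨B * A, mul_mem hB hA, by rw [Submonoid.coe_mul, ← Matrix.mulVec_mulVec, hAu, hBu]⟩

theorem form_preserved {A : Matrix (Fin m ⊕ Fin m) (Fin m ⊕ Fin m) F}
    (hA : A ∈ symplecticGroup (Fin m) F) (u v : Fin m ⊕ Fin m → F) :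
    sympForm m F (A *ᵥ u) (A *ᵥ v) = sympForm m F u v := by
  rw [SymplecticGroup.mem_iff'] at hA
  rw [sympForm, sympForm, Matrix.mulVec_mulVec, ← Matrix.vecMul_transpose, ← Matrix.dotProduct_mulVec,
    Matrix.mulVec_mulVec, ← Matrix.mul_assoc, hA]

theorem exists_pair {u v u' v' : Fin m ⊕ Fin m → F} (h : sympForm m F u v = 1)
    (h' : sympForm m F u' v' = 1) :
    ∃ A ∈ transGroup m F, (A : Matrix (Fin m ⊕ Fin m) (Fin m ⊕ Fin m) F) *ᵥ u = u' ∧
      (A : Matrix (Fin m ⊕ Fin m) (Fin m ⊕ Fin m) F) *ᵥ v = v' := by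
  have hu : u ≠ 0 := fun e => by simp [e, sympForm] at h
  have hu' : u' ≠ 0 := fun e => by simp [e, sympForm] at h'
  obtain ⟨A, hA, hAu⟩ := exists_move hu hu'
  set w := (A : Matrix (Fin m ⊕ Fin m) (Fin m ⊕ Fin m) F) *ᵥ v with hw
  have hw1 : sympForm m F u' w = 1 := by rw [← hAu, hw, form_preserved A.2, h]
  suffices ∃ B ∈ transGroup m F, (B : Matrix (Fin m ⊕ Fin m) (Fin m ⊕ Fin m) F) *ᵥ u' = u' ∧
      (B : Matrix (Fin m ⊕ Fin m) (Fin m ⊕ Fin m) F) *ᵥ w = v' by
    obtain ⟨B, hB, hB1, hB2⟩ := this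
    exact ⟨B * A, mul_mem hB hA, by rw [Submonoid.coe_mul, ← Matrix.mulVec_mulVec, hAu, hB1],
      by rw [Submonoid.coe_mul, ← Matrix.mulVec_mulVec, ← hw, hB2]⟩
  by_cases h0 : sympForm m F w v' = 0
  · have e1 : sympForm m F u' (u' + w) = 1 := by
      rw [sympForm, Matrix.mulVec_add, dotProduct_add, ← sympForm, ← sympForm, form_self, hw1,
        zero_add]
    have e2 : sympForm m F w (u' + w) = -1 := by
      rw [sympForm, Matrix.mulVec_add, dotProduct_add, ← sympForm, ← sympForm, form_self,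
        form_swap u' w, hw1, add_zero]
    have e3 : sympForm m F (u' + w) v' = 1 := by
      rw [sympForm, add_dotProduct, ← sympForm, ← sympForm, h', h0, add_zero]
    obtain ⟨B, hB, hBw, hBfix⟩ := exists_step (show sympForm m F w (u' + w) ≠ 0 by rw [e2]; simp)
    obtain ⟨C, hC, hCw, hCfix⟩ := exists_step (show sympForm m F (u' + w) v' ≠ 0 by rw [e3]; simp)
    refine ⟨C * B, mul_mem hC hB, ?_, ?_⟩
    · rw [Submonoid.coe_mul, ← Matrix.mulVec_mulVec, hBfix u' (hw1.trans e1.symm),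
        hCfix u' (e1.trans h'.symm)]
    · rw [Submonoid.coe_mul, ← Matrix.mulVec_mulVec, hBw, hCw]
  · obtain ⟨B, hB, hBw, hBfix⟩ := exists_step h0
    exact ⟨B, hB, hBfix u' (hw1.trans h'.symm), hBw⟩

theorem conj_trans (v : Fin m ⊕ Fin m → F) (A : Matrix (Fin m ⊕ Fin m) (Fin m ⊕ Fin m) F) (a : F)
    (hA : A ∈ symplecticGroup (Fin m) F) (hav : A *ᵥ v = a • v) (c : F) :
    ∃ d, A * sympTransvection m v c * A⁻¹ = sympTransvection m v d := by
  refine ⟨c * a ^ 2, ?_⟩
  have hu : IsUnit A.det := SymplecticGroup.symplectic_det hA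
  have key : A * sympTransvection m v c = sympTransvection m v (c * a ^ 2) * A := by
    refine Matrix.ext_of_mulVec_single fun i => ?_
    set x : Fin m ⊕ Fin m → F := Pi.single i 1
    rw [← Matrix.mulVec_mulVec, ← Matrix.mulVec_mulVec, trans_mulVec, trans_mulVec,
      Matrix.mulVec_add, Matrix.mulVec_smul, hav]
    have : sympForm m F (A *ᵥ x) (a • v) = sympForm m F x v := by
      rw [← hav, form_preserved hA]
    rw [sympForm, Matrix.mulVec_smul, dotProduct_smul, ← sympForm, smul_eq_mul] at this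
    rw [← this, smul_smul]
    congr 2
    ring
  rw [key, Matrix.mul_assoc, Matrix.mul_nonsing_inv _ hu, Matrix.mul_one]

theorem card_center [Fintype F] (hm : 1 ≤ m) :
    Nat.card (Subgroup.center (symplecticGroup (Fin m) F)) = Nat.gcd 2 (Fintype.card F - 1) := by
  classical
  rw [Nat.gcd_comm, ← GLBasic.card_powKer 2]
  have hmem : ∀ u : (powMonoidHom 2 : Fˣ →* Fˣ).ker, ((u : Fˣ) : F) • (1 : Matrix (Fin m ⊕ Fin m)
      (Fin m ⊕ Fin m) F) ∈ symplecticGroup (Fin m) F := fun u => by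
    have h : ((u : Fˣ) : F) * (u : Fˣ) = 1 := by
      have := congrArg Units.val u.2
      simpa [pow_two] using this
    rw [SymplecticGroup.mem_iff]
    simp [Matrix.smul_mul, Matrix.mul_smul, smul_smul, h]
  refine (Nat.card_congr (Equiv.ofBijective (fun u : (powMonoidHom 2 : Fˣ →* Fˣ).ker =>
    (⟨⟨_, hmem u⟩, Subgroup.mem_center_iff.mpr fun g => Subtype.ext (by
      simp [Matrix.smul_mul, Matrix.mul_smul])⟩ :
      Subgroup.center (symplecticGroup (Fin m) F))) ⟨?_, ?_⟩)).symm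
  · intro u u' h
    have := congrArg (fun z : Subgroup.center (symplecticGroup (Fin m) F) =>
      (z.1.1 : Matrix (Fin m ⊕ Fin m) (Fin m ⊕ Fin m) F) (.inl ⟨0, hm⟩) (.inl ⟨0, hm⟩)) h
    exact Subtype.ext (Units.ext (by simpa using this))
  · intro g
    obtain ⟨c, hc, hg⟩ := Cfsg.Agent.Small.sp_center_smul m g.1 g.2
    have hc0 : c ≠ 0 := left_ne_zero_of_mul_eq_one hc
    refine ⟨⟨Units.mk0 c hc0, Units.ext (by simpa [pow_two] using hc)⟩, ?_⟩
    exact Subtype.ext (Subtype.ext hg.symm)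

end Cfsg.Agent.Lead.Symp
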