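import Mathlib
import Cfsg.Prelude.Def_ClassicalGeometry
import Cfsg.Agent.Lib.Lead.SympBasic

/-!
Reflections, Siegel elements, unitary transvections, small facts about forms.
-/

set_option autoImplicit false

namespace Cfsg.Agent.Lead.Forms

open Matrix Cfsg

variable {F : Type*} [Field F] {n : ℕ}

theorem polarVec_dot (Q : QuadraticForm F (Fin n → F)) (v x : Fin n → F) :
    polarVec ⇑Q v ⬝ᵥ x = QuadraticMap.polar ⇑Q v x := by
  conv_rhs => rw [show x = ∑ j, x j • (Pi.single j 1 : Fin n → F) from pi_eq_sum_univ' x]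
  rw [← QuadraticMap.polarBilin_apply_apply, map_sum]
  simp [dotProduct, polarVec, mul_comm]

theorem siegel_mulVec (Q : QuadraticForm F (Fin n → F)) (u v x : Fin n → F) (c : F) :
    siegelMatrix ⇑Q u v c *ᵥ x = x + (c * QuadraticMap.polar ⇑Q u x) • v -
      (c * QuadraticMap.polar ⇑Q v x) • u := by
  rw [siegelMatrix, Matrix.add_mulVec, Matrix.one_mulVec, Matrix.smul_mulVec, Matrix.sub_mulVec,
    Matrix.vecMulVec_mulVec, Matrix.vecMulVec_mulVec, polarVec_dot, polarVec_dot]
  simp [smul_sub, smul_smul]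
  abel

theorem quad_add (Q : QuadraticForm F (Fin n → F)) (a b : Fin n → F) :
    Q (a + b) = Q a + Q b + QuadraticMap.polar ⇑Q a b := by
  simp [QuadraticMap.polar]

theorem siegel_main (Q : QuadraticForm F (Fin n → F)) (u v : Fin n → F) (hu : Q u = 0) (hv : Q v = 0)
    (huv : QuadraticMap.polar ⇑Q u v = 0) :
    (∀ c x, Q ((siegelMatrix ⇑Q u v c).mulVec x) = Q x) ∧
    (∀ c, (siegelMatrix ⇑Q u v c).mulVec u = u ∧ (siegelMatrix ⇑Q u v c).mulVec v = v) ∧
    ∀ c d, siegelMatrix ⇑Q u v c * siegelMatrix ⇑Q u v d = siegelMatrix ⇑Q u v (c + d) := by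
  have hvu : QuadraticMap.polar ⇑Q v u = 0 := by rw [QuadraticMap.polar_comm]; exact huv
  have huu : QuadraticMap.polar ⇑Q u u = 0 := by rw [QuadraticMap.polar_self, hu, smul_zero]
  have hvv : QuadraticMap.polar ⇑Q v v = 0 := by rw [QuadraticMap.polar_self, hv, smul_zero]
  refine ⟨fun c x => ?_, fun c => ⟨?_, ?_⟩, fun c d => ?_⟩
  · rw [siegel_mulVec, sub_eq_add_neg, ← neg_smul, quad_add, quad_add, QuadraticMap.map_smul,
      QuadraticMap.map_smul, hu, hv, QuadraticMap.polar_add_left, QuadraticMap.polar_smul_left,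
      QuadraticMap.polar_smul_right, QuadraticMap.polar_smul_right, QuadraticMap.polar_smul_right,
      hvu, QuadraticMap.polar_comm (⇑Q) x v, QuadraticMap.polar_comm (⇑Q) x u]
    simp only [smul_eq_mul]
    ring
  · rw [siegel_mulVec, huu, hvu]; simp
  · rw [siegel_mulVec, huv, hvv]; simp
  · refine Matrix.ext_of_mulVec_single fun i => ?_
    rw [← Matrix.mulVec_mulVec, siegel_mulVec, siegel_mulVec, siegel_mulVec]
    set x : Fin n → F := Pi.single i 1
    have e : ∀ w : Fin n → F, QuadraticMap.polar ⇑Q w u = 0 → QuadraticMap.polar ⇑Q w v = 0 →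
        QuadraticMap.polar ⇑Q w (x + (d * QuadraticMap.polar ⇑Q u x) • v -
          (d * QuadraticMap.polar ⇑Q v x) • u) = QuadraticMap.polar ⇑Q w x := fun w h1 h2 => by
      rw [QuadraticMap.polar_sub_right, QuadraticMap.polar_add_right,
        QuadraticMap.polar_smul_right, QuadraticMap.polar_smul_right, h1, h2]
      simp
    rw [e u huu huv, e v hvu hvv]
    module

theorem refl_mulVec (Q : QuadraticForm F (Fin n → F)) (v x : Fin n → F) :
    reflectionMatrix ⇑Q v *ᵥ x = x - ((Q v)⁻¹ * QuadraticMap.polar ⇑Q v x) • v := by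
  rw [reflectionMatrix, Matrix.sub_mulVec, Matrix.one_mulVec, Matrix.smul_mulVec,
    Matrix.vecMulVec_mulVec, polarVec_dot]
  simp [smul_smul]

theorem refl_main (Q : QuadraticForm F (Fin n → F)) (v : Fin n → F) (hv : Q v ≠ 0) :
    (∀ x, Q ((reflectionMatrix ⇑Q v).mulVec x) = Q x) ∧
    (reflectionMatrix ⇑Q v).mulVec v = -v ∧
    (∀ x, QuadraticMap.polar ⇑Q v x = 0 → (reflectionMatrix ⇑Q v).mulVec x = x) ∧
    (reflectionMatrix ⇑Q v).det = -1 := by
  refine ⟨fun x => ?_, ?_, fun x hx => ?_, ?_⟩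
  · rw [refl_mulVec, sub_eq_add_neg, ← neg_smul, quad_add, QuadraticMap.map_smul,
      QuadraticMap.polar_smul_right, QuadraticMap.polar_comm (⇑Q) x v]
    simp only [smul_eq_mul]
    field_simp
    ring
  · rw [refl_mulVec, QuadraticMap.polar_self]
    simp only [nsmul_eq_mul]
    rw [show (Q v)⁻¹ * (((2 : ℕ) : F) * Q v) = 2 by field_simp; norm_num, two_smul]
    abel
  · rw [refl_mulVec, hx, mul_zero, zero_smul, sub_zero]
  · rw [reflectionMatrix, sub_eq_add_neg, ← neg_smul,
      ← Matrix.smul_vecMulVec, Matrix.vecMulVec_eq Unit,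
      Matrix.det_one_add_replicateCol_mul_replicateRow, dotProduct_smul, smul_eq_mul, polarVec_dot,
      QuadraticMap.polar_self]
    simp only [nsmul_eq_mul]
    field_simp
    norm_num

theorem isometry_det (Q : QuadraticForm F (Fin n → F)) (hQ : (QuadraticMap.polarBilin Q).Nondegenerate) :
    (∀ g : ↥(isometryGroup F ⇑Q), ((g : Matrix.GeneralLinearGroup (Fin n) F) :
        Matrix (Fin n) (Fin n) F).det = 1 ∨ ((g : Matrix.GeneralLinearGroup (Fin n) F) :
        Matrix (Fin n) (Fin n) F).det = -1) ∧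
    ((∃ v, Q v ≠ 0) → ∃ g : ↥(isometryGroup F ⇑Q), ((g : Matrix.GeneralLinearGroup (Fin n) F) :
        Matrix (Fin n) (Fin n) F).det = -1) := by
  constructor
  · intro g
    set G := ((g : Matrix.GeneralLinearGroup (Fin n) F) : Matrix (Fin n) (Fin n) F) with hG
    have hg : ∀ x, Q (G *ᵥ x) = Q x := fun x => g.2 x x
    set B : Matrix (Fin n) (Fin n) F := LinearMap.toMatrix₂' F (QuadraticMap.polarBilin Q) with hB
    have hB0 : B.det ≠ 0 := by
      rw [← Matrix.nondegenerate_iff_det_ne_zero, hB,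
        LinearMap.nondegenerate_toMatrix₂'_iff]
      exact hQ
    have hcomp : Gᵀ * B * G = B := by
      rw [hB, LinearMap.mul_toMatrix₂'_mul]
      congr 1
      refine LinearMap.ext₂ fun x y => ?_
      simp only [Matrix.transpose_transpose, LinearMap.compl₁₂_apply, Matrix.toLin'_apply,
        QuadraticMap.polarBilin_apply_apply, QuadraticMap.polar, ← Matrix.mulVec_add, hg]
    have := congrArg Matrix.det hcomp
    rw [Matrix.det_mul, Matrix.det_mul, Matrix.det_transpose] at this
    have h1 : (G.det - 1) * (G.det + 1) = 0 := by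
      have h2 : B.det * ((G.det - 1) * (G.det + 1)) = 0 := by linear_combination this
      exact (mul_eq_zero.mp h2).resolve_left hB0
    rcases mul_eq_zero.mp h1 with h | h
    · exact Or.inl (sub_eq_zero.mp h)
    · exact Or.inr (eq_neg_of_add_eq_zero_left h)
  · rintro ⟨v, hv⟩
    obtain ⟨h1, -, -, h4⟩ := refl_main Q v hv
    refine ⟨⟨Matrix.GeneralLinearGroup.mkOfDetNeZero (reflectionMatrix ⇑Q v) (by rw [h4]; simp),
      fun x _ => h1 x⟩, ?_⟩
    exact h4

theorem sesq_zero {V : Type*} [AddCommGroup V] [Module F V] (σ : F →+* F) (hσ : σ ≠ RingHom.id F)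
    (B : V →ₛₗ[σ] V →ₗ[F] F) (hS : B.IsSymm) (h0 : ∀ v : V, B v v = 0) : B = 0 := by
  obtain ⟨a, ha⟩ : ∃ a, σ a ≠ a := by
    by_contra h
    push Not at h
    exact hσ (RingHom.ext h)
  have hneg : ∀ v w : V, σ (B v w) = - B v w := fun v w => by
    rw [hS.eq v w]
    have := h0 (v + w)
    simp only [map_add, LinearMap.add_apply, h0] at this
    linear_combination this
  refine LinearMap.ext fun v => LinearMap.ext fun w => ?_
  simp only [LinearMap.zero_apply]
  by_contra hne
  have h1 := hneg v (a • w)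
  rw [map_smul, smul_eq_mul, map_mul, hneg v w] at h1
  exact ha (mul_right_cancel₀ (neg_ne_zero.mpr hne) (by linear_combination h1))

theorem card_norm_fibre [Fintype F] {q : ℕ} (hF : Fintype.card F = q ^ 2) (μ : F) (hμ : μ ≠ 0)
    (hμq : μ ^ q = μ) : Nat.card {x : F // x ^ (q + 1) = μ} = q + 1 := by
  classical
  have hq : 2 ≤ q := by
    rcases Nat.lt_or_ge q 2 with h | h
    · have := Fintype.one_lt_card (α := F)
      interval_cases q <;> omega
    · exact h
  have hfac : q ^ 2 - 1 = (q + 1) * (q - 1) := by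
    obtain ⟨r, rfl⟩ := Nat.exists_eq_add_of_le hq
    rw [Nat.sub_eq_iff_eq_add (Nat.one_le_pow _ _ (by omega))]
    rw [show 2 + r - 1 = r + 1 by omega]
    ring
  set f : Fˣ →* Fˣ := powMonoidHom (q + 1)
  have hker : Nat.card f.ker = q + 1 := by
    rw [GLBasic.card_powKer, hF, hfac]
    exact Nat.gcd_eq_right (dvd_mul_right _ _)
  have hker' : Nat.card (powMonoidHom (q - 1) : Fˣ →* Fˣ).ker = q - 1 := by
    rw [GLBasic.card_powKer, hF, hfac]
    exact Nat.gcd_eq_right (dvd_mul_left _ _)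
  have hle : f.range ≤ (powMonoidHom (q - 1) : Fˣ →* Fˣ).ker := by
    rintro _ ⟨x, rfl⟩
    show (x ^ (q + 1)) ^ (q - 1) = 1
    rw [← pow_mul, ← hfac, ← hF, ← GLBasic.card_units_eq, pow_card_eq_one']
  have hrange : f.range = (powMonoidHom (q - 1) : Fˣ →* Fˣ).ker := by
    refine Subgroup.eq_of_le_of_card_ge hle (le_of_eq ?_)
    rw [hker']
    have := Subgroup.card_mul_index f.ker
    rw [hker, Subgroup.index_ker, GLBasic.card_units_eq, hF, hfac] at this
    exact (Nat.eq_of_mul_eq_mul_left (by omega) this).symm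
  have hm : Units.mk0 μ hμ ∈ f.range := by
    rw [hrange]
    refine Units.ext ?_
    show μ ^ (q - 1) = 1
    refine mul_left_cancel₀ hμ ?_
    rw [mul_one, ← pow_succ', show q - 1 + 1 = q by omega, hμq]
  obtain ⟨x₀, hx₀⟩ := hm
  have hx₀' : (x₀ : F) ^ (q + 1) = μ := congrArg Units.val hx₀
  refine Eq.trans ?_ hker
  exact Nat.card_congr
    { toFun := fun x => ⟨Units.mk0 x.1 (fun h => hμ (by rw [← x.2, h, zero_pow (by omega)])) * x₀⁻¹,
        Units.ext (by simp [f, mul_pow, x.2, hx₀', hμ])⟩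
      invFun := fun u => ⟨((u.1 * x₀ : Fˣ) : F), by
        have : ((u.1 : Fˣ) : F) ^ (q + 1) = 1 := congrArg Units.val u.2
        simp [mul_pow, this, hx₀']⟩
      left_inv := fun x => Subtype.ext (by simp)
      right_inv := fun u => Subtype.ext (Units.ext (by simp)) }

theorem partner {V : Type*} [AddCommGroup V] [Module F V] [FiniteDimensional F V]
    (B : LinearMap.BilinForm F V) (hB : B.Nondegenerate)
    (hform : B.IsAlt ∨ (B.IsSymm ∧ (2 : F) ≠ 0)) (x : V) (Z : Submodule F V) (hxZ : x ∉ Z)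
    (hx : B x x = 0) (hxz : ∀ z ∈ Z, B x z = 0) :
    ∃ y : V, B y y = 0 ∧ B x y = 1 ∧ ∀ z ∈ Z, B z y = 0 := by
  obtain ⟨φ, hφx, hφZ⟩ := Submodule.exists_dual_map_eq_bot_of_notMem (R := F) hxZ inferInstance
  have hφz : ∀ z ∈ Z, φ z = 0 := fun z hz => by
    have : φ z ∈ Submodule.map φ Z := ⟨z, hz, rfl⟩
    rw [hφZ] at this; simpa using this
  obtain ⟨y, hy⟩ := (B.flip.toDual hB.flip).surjective ((φ x)⁻¹ • φ)
  have hy' : ∀ w, B w y = (φ x)⁻¹ * φ w := fun w => by
    have := LinearMap.congr_fun hy w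
    simpa [LinearMap.BilinForm.toDual_def] using this
  rcases hform with hA | ⟨hS, h2⟩
  · exact ⟨y, hA y, by rw [hy', inv_mul_cancel₀ hφx],
      fun z hz => by rw [hy', hφz z hz, mul_zero]⟩
  · refine ⟨y + (-(B y y) / 2) • x, ?_, ?_, fun z hz => ?_⟩
    · have hxy : B x y = 1 := by rw [hy', inv_mul_cancel₀ hφx]
      simp only [map_add, map_smul, LinearMap.add_apply, LinearMap.smul_apply, smul_eq_mul,
        hS.eq y x, hxy, hx]
      field_simp
      ring
    · simp [hy', hx, inv_mul_cancel₀ hφx]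
    · simp [hy', hφz z hz, hS.eq z x, hxz z hz]

theorem char_two_isotropic [Finite F] [CharP F 2] {V : Type*} [AddCommGroup V] [Module F V]
    [FiniteDimensional F V] (Q : QuadraticForm F V) (h3 : 3 ≤ Module.finrank F V) :
    ∃ v : V, v ≠ 0 ∧ Q v = 0 := by
  obtain ⟨v, hv⟩ : ∃ v : V, v ≠ 0 := by
    haveI : Nontrivial V := Module.nontrivial_of_finrank_pos (R := F) (by omega)
    exact exists_ne 0
  by_cases hQv : Q v = 0
  · exact ⟨v, hv, hQv⟩
  set φ : V →ₗ[F] F := QuadraticMap.polarBilin Q v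
  have h2 : 2 ≤ Module.finrank F (LinearMap.ker φ) := by
    have := LinearMap.finrank_range_add_finrank_ker φ
    have h1 := (LinearMap.range φ).finrank_le
    rw [Module.finrank_self] at h1
    omega
  obtain ⟨w, hw, hwv⟩ : ∃ w ∈ LinearMap.ker φ, w ∉ Submodule.span F {v} := by
    by_contra h
    push Not at h
    have := Submodule.finrank_mono h
    rw [finrank_span_singleton hv] at this
    omega
  obtain ⟨t, ht⟩ := FiniteField.isSquare_of_char_two (CharP.eq F (ringChar.charP F) ‹CharP F 2›)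
    (Q w / Q v)
  refine ⟨w + t • v, fun h => hwv ?_, ?_⟩
  · rw [eq_neg_of_add_eq_zero_left h]
    exact neg_mem (Submodule.smul_mem _ _ (Submodule.mem_span_singleton_self v))
  · have hp : QuadraticMap.polar (⇑Q) w v = 0 := by
      rw [QuadraticMap.polar_comm]; exact hw
    have e : Q (w + t • v) = Q w + Q (t • v) + QuadraticMap.polar (⇑Q) w (t • v) := by
      simp [QuadraticMap.polar]
    rw [e, QuadraticMap.map_smul, QuadraticMap.polar_smul_right, hp, smul_zero, add_zero,
      smul_eq_mul, ← ht, div_mul_cancel₀ _ hQv, CharTwo.add_self_eq_zero]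

theorem plane_isotropic [Fintype F] (h2 : (2 : F) ≠ 0) (α : F) (hα : ¬ IsSquare α) :
    ((∃ x y : F, (x ≠ 0 ∨ y ≠ 0) ∧ x ^ 2 + y ^ 2 = 0) ↔ Fintype.card F % 4 = 1) ∧
    ((∃ x y : F, (x ≠ 0 ∨ y ≠ 0) ∧ x ^ 2 + α * y ^ 2 = 0) ↔ Fintype.card F % 4 = 3) := by
  classical
  have hchar : ringChar F ≠ 2 := fun h => h2 (by
    haveI := ringChar.of_eq h
    exact CharP.cast_eq_zero F 2)
  have hodd : Fintype.card F % 2 = 1 := FiniteField.odd_card_of_char_ne_two hchar
  have hα0 : α ≠ 0 := fun h => hα (h ▸ IsSquare.zero)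
  have key : ∀ β : F, β ≠ 0 → ((∃ x y : F, (x ≠ 0 ∨ y ≠ 0) ∧ x ^ 2 + β * y ^ 2 = 0) ↔
      IsSquare (-β)) := fun β hβ => by
    constructor
    · rintro ⟨x, y, hne, h⟩
      have hy : y ≠ 0 := fun hy => by
        subst hy
        simp at h
        simp [h] at hne
      exact ⟨x / y, by field_simp; linear_combination -h⟩
    · rintro ⟨r, hr⟩
      exact ⟨r, 1, Or.inr one_ne_zero, by linear_combination -hr⟩
  have hneg : IsSquare (-α) ↔ ¬ IsSquare (-1 : F) := by
    rw [← quadraticChar_one_iff_isSquare (neg_ne_zero.mpr hα0),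
      ← quadraticChar_one_iff_isSquare (neg_ne_zero.mpr one_ne_zero), neg_eq_neg_one_mul α, map_mul,
      quadraticChar_neg_one_iff_not_isSquare.mpr hα]
    rcases quadraticChar_dichotomy (F := F) (neg_ne_zero.mpr one_ne_zero) with h | h <;>
      simp [h]
  constructor
  · have := key 1 one_ne_zero
    simp only [one_mul] at this
    rw [this, FiniteField.isSquare_neg_one_iff]
    omega
  · rw [key α hα0, hneg, FiniteField.isSquare_neg_one_iff]
    omega

theorem diag_inequivalent (h2 : (2 : F) ≠ 0) (n : ℕ) (α : F) (hα : ¬ IsSquare α) :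
    ¬ (QuadraticMap.weightedSumSquares F (fun _ : Fin (n + 1) => (1 : F))).Equivalent
      (QuadraticMap.weightedSumSquares F (fun i : Fin (n + 1) => if i = Fin.last n then α else (1 : F))) := by
  rintro ⟨e⟩
  haveI : Invertible (2 : F) := invertibleOfNonzero h2
  set w : Fin (n + 1) → F := fun i => if i = Fin.last n then α else 1
  have hd : ∀ u : Fin (n + 1) → F,
      QuadraticForm.toMatrix' (QuadraticMap.weightedSumSquares F u) = Matrix.diagonal u := fun u => by
    ext i j
    rw [QuadraticForm.toMatrix', LinearMap.toMatrix₂'_apply, QuadraticMap.associated_apply]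
    by_cases h : i = j
    · subst h
      simp [Pi.single_apply, Matrix.diagonal, mul_add, add_mul, Finset.sum_add_distrib,
        ← two_mul]
      field_simp
      ring
    · simp [Pi.single_apply, Matrix.diagonal, h, Ne.symm h, mul_add, add_mul,
        Finset.sum_add_distrib]
  set L : (Fin (n + 1) → F) →ₗ[F] (Fin (n + 1) → F) := e.toLinearEquiv.toLinearMap with hL
  have hcomp : (QuadraticMap.weightedSumSquares F w).comp L =
      QuadraticMap.weightedSumSquares F (fun _ : Fin (n + 1) => (1 : F)) :=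
    QuadraticMap.ext fun x => by simp [hL]
  have h := congrArg QuadraticForm.toMatrix' hcomp
  rw [QuadraticForm.toMatrix'_comp, hd, hd] at h
  have := congrArg Matrix.det h
  rw [Matrix.det_mul, Matrix.det_mul, Matrix.det_transpose, Matrix.det_diagonal,
    Matrix.det_diagonal, Finset.prod_const_one] at this
  simp only [w, Finset.prod_ite_eq', Finset.mem_univ, if_true] at this
  exact hα ⟨(LinearMap.toMatrix' L).det⁻¹, by
    have hd0 : (LinearMap.toMatrix' L).det ≠ 0 := fun h0 => by simp [h0] at this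
    field_simp
    linear_combination this⟩

theorem unitary_trans [Fintype F] {q : ℕ} (hF : Fintype.card F = q ^ 2) (n : ℕ) (v : Fin n → F)
    (hv : v ≠ 0) (hv0 : hermForm n F q v v = 0) (c : F) :
    (∀ x y : Fin n → F, hermForm n F q ((unitaryTransvection n q v c).mulVec x)
      ((unitaryTransvection n q v c).mulVec y) = hermForm n F q x y) ↔ (c = 0 ∨ c ^ (q - 1) = -1) := by
  obtain ⟨p, hp⟩ := CharP.exists F
  obtain ⟨f, hpp, hcard⟩ := FiniteField.card F p
  haveI : Fact p.Prime := ⟨hpp⟩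
  obtain ⟨k, -, hk⟩ : ∃ k ≤ (f : ℕ), q = p ^ k :=
    (Nat.dvd_prime_pow hpp).mp (hcard ▸ hF ▸ dvd_pow_self q two_ne_zero)
  have hadd : ∀ a b : F, (a + b) ^ q = a ^ q + b ^ q := fun a b => hk ▸ add_pow_char_pow ..
  have hsum : ∀ (g : Fin n → F), (∑ i, g i) ^ q = ∑ i, g i ^ q := fun g =>
    hk ▸ sum_pow_char_pow p k _ _
  have hinv : ∀ a : F, (a ^ q) ^ q = a := fun a => by
    rw [← pow_mul, ← pow_two, ← hF, FiniteField.pow_card]
  have hq0 : q ≠ 0 := hk ▸ pow_ne_zero _ hpp.ne_zero
  have hT : ∀ x, unitaryTransvection n q v c *ᵥ x = fun i => x i + c * hermForm n F q x v * v i :=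
    fun x => by
      rw [unitaryTransvection, Matrix.add_mulVec, Matrix.one_mulVec, Matrix.smul_mulVec,
        Matrix.vecMulVec_mulVec]
      funext i
      simp [hermForm, dotProduct, mul_comm]
      ring
  have hsw : ∀ x y, hermForm n F q x y ^ q = hermForm n F q y x := fun x y => by
    rw [hermForm, hsum]
    exact Finset.sum_congr rfl fun i _ => by rw [mul_pow, hinv, mul_comm]
  have hexp : ∀ x y, hermForm n F q ((unitaryTransvection n q v c).mulVec x)
      ((unitaryTransvection n q v c).mulVec y) = hermForm n F q x y +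
        hermForm n F q x v * hermForm n F q v y * (c + c ^ q) +
        c * c ^ q * hermForm n F q x v * hermForm n F q v y * hermForm n F q v v := fun x y => by
    have e : ∀ (a b : Fin n → F) (r t : F), hermForm n F q (fun i => a i + r * v i) (fun i => b i + t * v i) =
        hermForm n F q a b + t ^ q * hermForm n F q a v + r * hermForm n F q v b +
          r * t ^ q * hermForm n F q v v := fun a b r t => by
      simp only [hermForm, Finset.mul_sum, ← Finset.sum_add_distrib]
      refine Finset.sum_congr rfl fun i _ => ?_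
      rw [hadd, mul_pow]
      ring
    rw [hT, hT, e, mul_pow, hsw]
    ring
  have hiff : c + c ^ q = 0 ↔ (c = 0 ∨ c ^ (q - 1) = -1) := by
    constructor
    · intro h
      refine (em (c = 0)).imp id fun hc => mul_left_cancel₀ hc ?_
      rw [← pow_succ', Nat.sub_add_cancel (Nat.one_le_iff_ne_zero.mpr hq0)]
      linear_combination h
    · rintro (rfl | h)
      · rw [zero_pow hq0, add_zero]
      · conv_lhs => arg 2; rw [← Nat.sub_add_cancel (Nat.one_le_iff_ne_zero.mpr hq0), pow_succ, h]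
        ring
  rw [← hiff]
  constructor
  · intro h
    obtain ⟨j, hj⟩ := Function.ne_iff.mp hv
    have := h (Pi.single j 1) (Pi.single j 1)
    rw [hexp, hv0] at this
    have e1 : hermForm n F q (Pi.single j 1) v = v j ^ q := by simp [hermForm, Pi.single_apply]
    have e2 : hermForm n F q v (Pi.single j 1) = v j := by
      simp [hermForm, Pi.single_apply, ite_pow, hq0]
    rw [e1, e2] at this
    have h3 : v j ^ q * v j * (c + c ^ q) = 0 := by linear_combination this
    exact (mul_eq_zero.mp h3).resolve_left (mul_ne_zero (pow_ne_zero _ hj) hj)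
  · intro h x y
    rw [hexp, h, hv0]
    ring

theorem levi_iso (m : ℕ) : Nonempty (↥(stabilizing (spToMat m F)
      {v : Fin m ⊕ Fin m → F | ∀ i : Fin m, v (Sum.inr i) = 0} ⊓ stabilizing (spToMat m F)
      {v : Fin m ⊕ Fin m → F | ∀ i : Fin m, v (Sum.inl i) = 0}) ≃* Matrix.GeneralLinearGroup (Fin m) F) := by
  refine ⟨((MonoidHom.ofInjective (Cfsg.Agent.Small.spHom_injective (F := F) m)).trans
    (MulEquiv.subgroupCongr ?_)).symm⟩
  ext g
  constructor
  · rintro ⟨A, rfl⟩
    have hinj := Cfsg.Agent.Classical.gl_mulVec_injective A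
    have hinj' : ∀ v, ((A⁻¹ : GL (Fin m) F) : Matrix (Fin m) (Fin m) F)ᵀ *ᵥ v = 0 → v = 0 := fun v hv => by
      have := congrArg ((A : Matrix (Fin m) (Fin m) F)ᵀ *ᵥ ·) hv
      simp only [Matrix.mulVec_mulVec, Matrix.mulVec_zero] at this
      rwa [Cfsg.Agent.Small.gl_transpose_inv, Matrix.one_mulVec] at this
    have e : ∀ v, spToMat m F (Cfsg.Agent.Small.spHom m F A) *ᵥ v =
        Sum.elim ((A : Matrix (Fin m) (Fin m) F) *ᵥ (v ∘ Sum.inl))
          (((A⁻¹ : GL (Fin m) F) : Matrix (Fin m) (Fin m) F)ᵀ *ᵥ (v ∘ Sum.inr)) := fun v => by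
      show Matrix.fromBlocks _ _ _ _ *ᵥ v = _
      rw [Matrix.fromBlocks_mulVec, Matrix.zero_mulVec, Matrix.zero_mulVec, add_zero, zero_add]
    refine Subgroup.mem_inf.mpr ⟨fun v => ?_, fun v => ?_⟩ <;>
      simp only [Set.mem_ofPred_eq, e, Sum.elim_inr, Sum.elim_inl]
    · constructor
      · intro h i
        rw [show v ∘ Sum.inr = 0 from funext h, Matrix.mulVec_zero]; rfl
      · intro h i
        exact congrFun (hinj' (v ∘ Sum.inr) (funext h)) i
    · constructor
      · intro h i
        rw [show v ∘ Sum.inl = 0 from funext h, Matrix.mulVec_zero]; rfl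
      · intro h i
        exact congrFun (@hinj (v ∘ Sum.inl) 0 ((funext h).trans (Matrix.mulVec_zero _).symm)) i
  · intro hg
    obtain ⟨hW, hU⟩ := Subgroup.mem_inf.mp hg
    set M := (g : Matrix (Fin m ⊕ Fin m) (Fin m ⊕ Fin m) F) with hM
    have h21 : M.toBlocks₂₁ = 0 := by
      ext i j
      have := (hW (Pi.single (.inl j) 1)).mp (fun k => by simp)
      simpa [Matrix.toBlocks₂₁] using this i
    have h12 : M.toBlocks₁₂ = 0 := by
      ext i j
      have := (hU (Pi.single (.inr j) 1)).mp (fun k => by simp)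
      simpa [Matrix.toBlocks₁₂] using this i
    have hmem : Matrix.fromBlocks M.toBlocks₁₁ M.toBlocks₁₂ M.toBlocks₂₁ M.toBlocks₂₂ ∈
        symplecticGroup (Fin m) F := by rw [Matrix.fromBlocks_toBlocks]; exact g.2
    rw [SymplecticGroup.mem_iff', h21, h12, Matrix.J] at hmem
    simp [Matrix.fromBlocks_multiply, Matrix.fromBlocks_transpose] at hmem
    obtain ⟨-, hDA⟩ := hmem
    have hu : IsUnit M.toBlocks₁₁.det := by
      refine IsUnit.of_mul_eq_one (M.toBlocks₂₂ᵀ).det ?_
      rw [mul_comm, ← Matrix.det_mul, hDA, Matrix.det_one]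
    refine ⟨Matrix.GeneralLinearGroup.mkOfDetNeZero M.toBlocks₁₁ hu.ne_zero, Subtype.ext ?_⟩
    show Matrix.fromBlocks _ 0 0 _ = M
    conv_rhs => rw [← Matrix.fromBlocks_toBlocks M, h21, h12]
    congr 1
    have h : ((Matrix.GeneralLinearGroup.mkOfDetNeZero M.toBlocks₁₁ hu.ne_zero)⁻¹ :
        GL (Fin m) F).1 = M.toBlocks₂₂ᵀ := Units.inv_eq_of_mul_eq_one_left hDA
    rw [h, Matrix.transpose_transpose]

end Cfsg.Agent.Lead.Forms
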