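import Mathlib

/-!
Automorphisms of a p-group leaving a series with cyclic factors invariant, and common invariant
cyclic steps for abelian automorphism groups of exponent dividing p - 1.
-/

set_option autoImplicit false

namespace Cfsg.Agent.Lead.SupCore

variable {T : Type*} [Group T] [Finite T] {p : ℕ} [Fact p.Prime]

theorem exists_pow_eq_one_of_series (hT : IsPGroup p T) (D : ℕ → Subgroup T) (m : ℕ) (h0 : D 0 = ⊥)
    (hm : D m = ⊤) (hmono : Monotone D) (γ : MulAut T)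
    (h : ∀ i < m, ∀ x ∈ D (i + 1), x⁻¹ * γ x ∈ D i) : ∃ n, γ ^ p ^ n = 1 := by
  obtain ⟨N, hN⟩ := IsPGroup.iff_card.1 hT
  have key : ∀ i ≤ m, ∀ x ∈ D i, (γ ^ p ^ (N * i)) x = x := by
    intro i
    induction i with
    | zero =>
      intro _ x hx
      rw [h0, Subgroup.mem_bot] at hx
      rw [hx, map_one]
    | succ i ih =>
      intro hi x hx
      set δ := γ ^ p ^ (N * i) with hδ
      have hstep : ∀ k : ℕ, x⁻¹ * (γ ^ k) x ∈ D i := by
        intro k
        induction k with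
        | zero => simp
        | succ k ihk =>
          have hy : (γ ^ k) x ∈ D (i + 1) := by
            simpa using (D (i + 1)).mul_mem hx (hmono (Nat.le_succ i) ihk)
          have h2 := (D i).mul_mem ihk (h i hi _ hy)
          rw [pow_succ', MulAut.mul_apply]
          simpa [mul_assoc] using h2
      have hc : x⁻¹ * δ x ∈ D i := hstep _
      have hfix : δ (x⁻¹ * δ x) = x⁻¹ * δ x := ih (Nat.le_of_succ_le hi) _ hc
      have hiter : ∀ k : ℕ, (δ ^ k) x = x * (x⁻¹ * δ x) ^ k := by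
        intro k
        induction k with
        | zero => simp
        | succ k ihk => rw [pow_succ', MulAut.mul_apply, ihk, map_mul, map_pow, hfix, pow_succ' (x⁻¹ * δ x), ← mul_assoc x, mul_inv_cancel_left]
      have := hiter (p ^ N)
      rw [← hN, pow_card_eq_one', mul_one, hN, hδ, ← pow_mul, ← pow_add] at this
      rwa [show N * (i + 1) = N * i + N by ring]
  refine ⟨N * m, MulEquiv.ext fun x => ?_⟩
  rw [key m le_rfl x (hm.ge (Subgroup.mem_top x))]
  rfl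

variable (A : Subgroup (MulAut T)) (D : ℕ → Subgroup T)

theorem cyclic_factor (m : ℕ) (hnorm : ∀ i, (D i).Normal) (hinv : ∀ i, ∀ α ∈ A, ∀ x ∈ D i, α x ∈ D i)
    (hcyc : ∀ i < m, ∃ y ∈ D (i + 1), ∀ d ∈ D (i + 1), ∃ j : ℤ, (y ^ j)⁻¹ * d ∈ D i)
    (i : ℕ) (hi : i < m) {α : MulAut T} (hα : α ∈ A) :
    ∃ k : ℤ, ∀ d ∈ D (i + 1), ((α d : T) : T ⧸ D i) = (QuotientGroup.mk d : T ⧸ D i) ^ k := by
  haveI := hnorm i
  obtain ⟨y, hy, hgen⟩ := hcyc i hi
  obtain ⟨k, hk⟩ := hgen _ (hinv (i + 1) α hα y hy)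
  refine ⟨k, fun d hd => ?_⟩
  obtain ⟨j, hj⟩ := hgen d hd
  have h1 : (QuotientGroup.mk d : T ⧸ D i) = (QuotientGroup.mk y : T ⧸ D i) ^ j := by
    rw [← QuotientGroup.mk_zpow]; exact (QuotientGroup.eq.2 hj).symm
  have h2 : ((α y : T) : T ⧸ D i) = (QuotientGroup.mk y : T ⧸ D i) ^ k := by
    rw [← QuotientGroup.mk_zpow]; exact (QuotientGroup.eq.2 hk).symm
  have h3 : ((α d : T) : T ⧸ D i) = ((α (y ^ j) : T) : T ⧸ D i) := by
    refine (QuotientGroup.eq.2 ?_).symm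
    rw [← map_inv, ← map_mul]
    exact hinv i α hα _ hj
  rw [h3, map_zpow, QuotientGroup.mk_zpow, h2, h1, ← zpow_mul, ← zpow_mul, mul_comm]

theorem commutator_stab (m : ℕ) (hnorm : ∀ i, (D i).Normal) (hinv : ∀ i, ∀ α ∈ A, ∀ x ∈ D i, α x ∈ D i)
    (hcyc : ∀ i < m, ∃ y ∈ D (i + 1), ∀ d ∈ D (i + 1), ∃ j : ℤ, (y ^ j)⁻¹ * d ∈ D i)
    {α β : MulAut T} (hα : α ∈ A) (hβ : β ∈ A) :
    ∀ i < m, ∀ x ∈ D (i + 1), x⁻¹ * (α * β * α⁻¹ * β⁻¹) x ∈ D i := by
  intro i hi x hx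
  haveI := hnorm i
  obtain ⟨k, hk⟩ := cyclic_factor A D m hnorm hinv hcyc i hi hα
  obtain ⟨l, hl⟩ := cyclic_factor A D m hnorm hinv hcyc i hi hβ
  have hd : (α⁻¹ * β⁻¹) x ∈ D (i + 1) := hinv (i + 1) _ (A.mul_mem (A.inv_mem hα) (A.inv_mem hβ)) x hx
  have e1 : ((α (β ((α⁻¹ * β⁻¹) x)) : T) : T ⧸ D i) = ((β (α ((α⁻¹ * β⁻¹) x)) : T) : T ⧸ D i) := by
    rw [hk _ (hinv _ β hβ _ hd), hl _ hd, hl _ (hinv _ α hα _ hd), hk _ hd, ← zpow_mul, ← zpow_mul,
      mul_comm]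
  have e2 : β (α ((α⁻¹ * β⁻¹) x)) = x := by
    rw [← MulAut.mul_apply, ← MulAut.mul_apply, show β * α * (α⁻¹ * β⁻¹) = (1 : MulAut T) by group]
    rfl
  rw [e2] at e1
  have := QuotientGroup.eq.1 e1.symm
  rwa [← MulAut.mul_apply, ← MulAut.mul_apply, ← mul_assoc] at this

theorem power_stab (hT : IsPGroup p T) (m : ℕ) (hnorm : ∀ i, (D i).Normal)
    (hinv : ∀ i, ∀ α ∈ A, ∀ x ∈ D i, α x ∈ D i)
    (hcyc : ∀ i < m, ∃ y ∈ D (i + 1), ∀ d ∈ D (i + 1), ∃ j : ℤ, (y ^ j)⁻¹ * d ∈ D i)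
    {α : MulAut T} (hα : α ∈ A) (N : ℕ) (hN : Nat.card T = p ^ N) :
    ∀ i < m, ∀ x ∈ D (i + 1), x⁻¹ * (α ^ ((p - 1) * p ^ N)) x ∈ D i := by
  intro i hi x hx
  haveI := hnorm i
  have hp : p.Prime := Fact.out
  obtain ⟨k, hk⟩ := cyclic_factor A D m hnorm hinv hcyc i hi hα
  have hpowQ : ∀ z : T, (QuotientGroup.mk z : T ⧸ D i) ^ p ^ N = 1 := fun z => by
    rw [← QuotientGroup.mk_pow, ← hN, pow_card_eq_one', QuotientGroup.mk_one]
  have hiter : ∀ n : ℕ, ∀ d ∈ D (i + 1), (α ^ n) d ∈ D (i + 1) ∧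
      (((α ^ n) d : T) : T ⧸ D i) = (QuotientGroup.mk d : T ⧸ D i) ^ (k ^ n) := by
    intro n
    induction n with
    | zero => intro d hd; simp [hd]
    | succ n ihn =>
      intro d hd
      obtain ⟨h1, h2⟩ := ihn d hd
      rw [pow_succ', MulAut.mul_apply]
      exact ⟨hinv _ α hα _ h1, by rw [hk _ h1, h2, ← zpow_mul, pow_succ]⟩
  by_cases hk1 : (p : ℤ) ∣ k
  · obtain ⟨y, hy, hgen⟩ := hcyc i hi
    have hy' : α⁻¹ y ∈ D (i + 1) := hinv _ _ (A.inv_mem hα) y hy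
    obtain ⟨j, hj⟩ := hgen _ hy'
    have h1 : ((α⁻¹ y : T) : T ⧸ D i) = (QuotientGroup.mk y : T ⧸ D i) ^ j := by
      rw [← QuotientGroup.mk_zpow]; exact (QuotientGroup.eq.2 hj).symm
    have h2 := hk _ hy'
    rw [MulAut.apply_inv_self, h1, ← zpow_mul] at h2
    have hy1 : (QuotientGroup.mk y : T ⧸ D i) = 1 := by
      rw [← orderOf_eq_one_iff]
      obtain ⟨a, ha, hay⟩ := (Nat.dvd_prime_pow hp).1 (orderOf_dvd_of_pow_eq_one (hpowQ y))
      rcases Nat.eq_zero_or_pos a with rfl | hapos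
      · simpa using hay
      · exfalso
        have h3 : (QuotientGroup.mk y : T ⧸ D i) ^ (j * k - 1) = 1 := by
          rw [zpow_sub, ← h2, zpow_one, mul_inv_cancel]
        rw [← orderOf_dvd_iff_zpow_eq_one, hay] at h3
        have h4 : (p : ℤ) ∣ j * k - 1 := dvd_trans (by exact_mod_cast dvd_pow_self p hapos.ne') h3
        have h5 : (p : ℤ) ∣ 1 := by
          have := dvd_sub (dvd_mul_of_dvd_right hk1 j) h4
          simpa using this
        exact hp.one_lt.ne' (by exact_mod_cast Int.eq_one_of_dvd_one (by positivity) h5)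
    have htriv : ∀ d ∈ D (i + 1), (QuotientGroup.mk d : T ⧸ D i) = 1 := by
      intro d hd
      obtain ⟨l, hl⟩ := hgen d hd
      rw [← (QuotientGroup.eq.2 hl : (QuotientGroup.mk (y ^ l) : T ⧸ D i) = QuotientGroup.mk d),
        QuotientGroup.mk_zpow, hy1, one_zpow]
    exact QuotientGroup.eq.1 ((htriv x hx).trans (htriv _ (hiter _ x hx).1).symm)
  · obtain ⟨h1, h2⟩ := hiter ((p - 1) * p ^ N) x hx
    refine QuotientGroup.eq.1 ?_
    rw [h2]
    have hu : IsUnit ((k : ℤ) : ZMod (p ^ (N + 1))) := by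
      have hco : IsCoprime k ((p ^ (N + 1) : ℕ) : ℤ) := by
        push_cast
        exact ((Nat.prime_iff_prime_int.1 hp).coprime_iff_not_dvd.2 hk1).symm.pow_right
      exact (ZMod.coe_int_isUnit_iff_isCoprime _ _).2 hco.symm
    obtain ⟨u, hu⟩ := hu
    have hpow := congrArg Units.val (ZMod.pow_totient u)
    rw [Units.val_pow_eq_pow_val, hu, Nat.totient_prime_pow_succ hp, Units.val_one, mul_comm,
      ← Int.cast_pow] at hpow
    have hdvd : ((p ^ (N + 1) : ℕ) : ℤ) ∣ k ^ ((p - 1) * p ^ N) - 1 := by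
      rw [← ZMod.intCast_zmod_eq_zero_iff_dvd, Int.cast_sub, hpow, Int.cast_one, sub_self]
    obtain ⟨t, ht⟩ := hdvd
    rw [show k ^ ((p - 1) * p ^ N) = ((p ^ (N + 1) : ℕ) : ℤ) * t + 1 by linarith, zpow_add_one, zpow_mul,
      zpow_natCast, pow_succ, pow_mul, hpowQ, one_pow, one_zpow, one_mul]

theorem eigen {V : Type*} [AddCommGroup V] [Module (ZMod p) V] (f : V →+ V)
    (hf : ∀ x : V, f^[p - 1] x = x) (v : V) (hv : v ≠ 0) :
    ∃ (d : ℕ) (w : V), w ≠ 0 ∧ f w = d • w := by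
  classical
  let w : (ZMod p)ˣ → V := fun u => ∑ i ∈ Finset.range (p - 1), ((u : ZMod p) ^ i) • f^[i] v
  have hp : p.Prime := Fact.out
  have hfu : ∀ u : (ZMod p)ˣ, (u : ZMod p) • f (w u) = w u := by
    intro u
    show (u : ZMod p) • f (∑ i ∈ Finset.range (p - 1), ((u : ZMod p) ^ i) • f^[i] v) = _
    rw [map_sum, Finset.smul_sum]
    have hterm : ∀ i, (u : ZMod p) • f (((u : ZMod p) ^ i) • f^[i] v) =
        ((u : ZMod p) ^ (i + 1)) • f^[i + 1] v := fun i => by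
      rw [ZMod.map_smul f, smul_smul, ← pow_succ', Function.iterate_succ_apply']
    rw [Finset.sum_congr rfl fun i _ => hterm i]
    have hg : ((u : ZMod p) ^ (p - 1)) • f^[p - 1] v = ((u : ZMod p) ^ 0) • f^[0] v := by
      rw [hf, ZMod.pow_card_sub_one_eq_one u.ne_zero, pow_zero, Function.iterate_zero_apply]
    have h1 := Finset.sum_range_succ' (fun i => ((u : ZMod p) ^ i) • f^[i] v) (p - 1)
    rw [Finset.sum_range_succ, hg] at h1
    exact (add_right_cancel h1).symm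
  have hsum : ∑ u : (ZMod p)ˣ, w u = -v := by
    show ∑ u : (ZMod p)ˣ, ∑ i ∈ Finset.range (p - 1), ((u : ZMod p) ^ i) • f^[i] v = _
    rw [Finset.sum_comm]
    have hi : ∀ i ∈ Finset.range (p - 1), (∑ u : (ZMod p)ˣ, ((u : ZMod p) ^ i) • f^[i] v) =
        if i = 0 then -v else 0 := by
      intro i hi
      rw [← Finset.sum_smul]
      have := FiniteField.sum_pow_units (ZMod p) i
      simp only [ZMod.card] at this
      rw [this]
      rcases Nat.eq_zero_or_pos i with rfl | hpos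
      · simp
      · rw [if_neg, if_neg hpos.ne', zero_smul]
        intro hd
        have := Nat.le_of_dvd hpos hd
        have := Finset.mem_range.1 hi
        omega
    rw [Finset.sum_congr rfl hi, Finset.sum_ite_eq' (Finset.range (p - 1)) 0 fun _ => -v,
      if_pos (Finset.mem_range.2 (Nat.sub_pos_of_lt hp.one_lt))]
  obtain ⟨u, hu⟩ : ∃ u, w u ≠ 0 := by
    by_contra h
    push Not at h
    simp [h, hv] at hsum
  refine ⟨((u⁻¹ : (ZMod p)ˣ) : ZMod p).val, w u, hu, ?_⟩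
  rw [← Nat.cast_smul_eq_nsmul (ZMod p), ZMod.natCast_zmod_val]
  conv_rhs => rw [← hfu u, smul_smul, Units.inv_mul, one_smul]

theorem inf_center_ne_bot' (hT : IsPGroup p T) (N : Subgroup T) [N.Normal] (hN : N ≠ ⊥) :
    ∃ z ∈ N, z ∈ Subgroup.center T ∧ z ≠ 1 := by
  have hfix := (hT.of_equiv (ConjAct.toConjAct (G := T))).exists_fixed_point_of_prime_dvd_card_of_fixed_point N
    ?_ (a := (1 : N)) ?_
  · obtain ⟨b, hb, hne⟩ := hfix
    refine ⟨b, b.2, Subgroup.mem_center_iff.2 fun t => ?_, fun h => hne (Subtype.ext h.symm)⟩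
    have := congrArg Subtype.val (hb (ConjAct.toConjAct t))
    change ConjAct.toConjAct t • (b : T) = b at this
    rw [ConjAct.toConjAct_smul, mul_inv_eq_iff_eq_mul] at this
    exact this
  · obtain ⟨n, hn⟩ := IsPGroup.iff_card.1 (hT.to_subgroup N)
    rw [hn]
    refine dvd_pow_self p ?_
    rintro rfl
    exact hN (Subgroup.eq_bot_of_card_eq N (by rw [hn, pow_zero]))
  · intro g
    exact Subtype.ext (show g • (1 : T) = 1 from smul_one g)

/-- A proper invariant normal subgroup extends by a cyclic invariant step. -/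
theorem exists_step (hT : IsPGroup p T) (H : Subgroup (MulAut T)) (hab : IsMulCommutative ↥H)
    (hexp : ∀ h ∈ H, h ^ (p - 1) = 1) (C : Subgroup T) (hCn : C.Normal)
    (hCi : ∀ h ∈ H, ∀ x ∈ C, h x ∈ C) (hC : C ≠ ⊤) :
    ∃ x ∉ C, (C ⊔ Subgroup.zpowers x).Normal ∧ ∀ h ∈ H, ∀ y ∈ C ⊔ Subgroup.zpowers x, h y ∈ C ⊔ Subgroup.zpowers x := by
  classical
  obtain ⟨M, ⟨hMn, hMi, hCM⟩, hmin⟩ : ∃ M : Subgroup T, (M.Normal ∧ (∀ h ∈ H, ∀ x ∈ M, h x ∈ M) ∧ C < M) ∧
      ∀ M' : Subgroup T, (M'.Normal ∧ (∀ h ∈ H, ∀ x ∈ M', h x ∈ M') ∧ C < M') → ¬ M' < M := by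
    have hwf : WellFounded ((· < ·) : Subgroup T → Subgroup T → Prop) := wellFounded_lt
    exact hwf.has_min {M | M.Normal ∧ (∀ h ∈ H, ∀ x ∈ M, h x ∈ M) ∧ C < M}
      ⟨⊤, inferInstance, fun _ _ x _ => Subgroup.mem_top _, lt_top_iff_ne_top.2 hC⟩
  have hinvC : ∀ h ∈ H, ∀ x, h x ∈ C ↔ x ∈ C := fun h hh x => ⟨fun hx => by
    simpa using hCi _ (H.inv_mem hh) _ hx, hCi h hh x⟩
  let π := QuotientGroup.mk' C
  have hQ : IsPGroup p (T ⧸ C) := hT.to_quotient C
  have hbet : ∀ K : Subgroup T, C ≤ K → K ≤ M → (∀ h ∈ H, ∀ x ∈ K, h x ∈ K) → K.Normal → C < K → K = M :=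
    fun K h1 h2 h3 h4 h5 => eq_of_le_of_not_lt h2 (hmin K ⟨h4, h3, h5⟩)
  obtain ⟨x0, hx0M, hx0C⟩ := SetLike.exists_of_lt hCM
  have hne : ∀ {x : T}, x ∉ C → π x ≠ 1 := fun hx h => hx ((QuotientGroup.eq_one_iff _).1 h)
  -- centrality
  have hcent : ∀ x ∈ M, π x ∈ Subgroup.center (T ⧸ C) := by
    let K : Subgroup T := M ⊓ (Subgroup.center (T ⧸ C)).comap π
    have hCK : C ≤ K := le_inf hCM.le fun x hx => by
      rw [Subgroup.mem_comap, show π x = 1 from (QuotientGroup.eq_one_iff _).2 hx]; exact one_mem _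
    have hKn : K.Normal := inferInstanceAs (M ⊓ (Subgroup.center (T ⧸ C)).comap π).Normal
    have hKi : ∀ h ∈ H, ∀ x ∈ K, h x ∈ K := by
      rintro h hh x ⟨hxM, hx⟩
      refine ⟨hMi h hh x hxM, Subgroup.mem_center_iff.2 fun q => ?_⟩
      obtain ⟨t, rfl⟩ := QuotientGroup.mk'_surjective C q
      have h1 := Subgroup.mem_center_iff.1 hx (π (h⁻¹ t))
      rw [← map_mul, ← map_mul] at h1
      have h2 := hCi h hh _ (QuotientGroup.eq.1 h1)
      rw [map_mul, map_inv, map_mul, map_mul, MulAut.apply_inv_self] at h2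
      rw [← map_mul, ← map_mul]
      exact QuotientGroup.eq.2 h2
    haveI : (M.map π).Normal := hMn.map π (QuotientGroup.mk'_surjective C)
    obtain ⟨z, hzM, hzc, hz1⟩ := inf_center_ne_bot' hQ (M.map π) (fun h => hne hx0C (by
      have : π x0 ∈ M.map π := ⟨x0, hx0M, rfl⟩
      rwa [h, Subgroup.mem_bot] at this))
    obtain ⟨z, hz, rfl⟩ := hzM
    have hlt : C < K := lt_of_le_of_ne hCK fun h => hz1 ((QuotientGroup.eq_one_iff _).2 (h ▸ ⟨hz, hzc⟩ : z ∈ C))
    intro x hx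
    rw [← hbet K hCK inf_le_left hKi hKn hlt] at hx
    exact hx.2
  have hcomm : ∀ x ∈ M, ∀ q : T ⧸ C, q * π x = π x * q := fun x hx => Subgroup.mem_center_iff.1 (hcent x hx)
  have hbetn : ∀ K : Subgroup T, C ≤ K → K ≤ M → K.Normal := by
    intro K hCK hKM
    constructor
    intro x hx t
    have h1 : π (t * x * t⁻¹) = π x := by
      rw [map_mul, map_mul, hcomm x (hKM hx), mul_assoc, ← map_mul, mul_inv_cancel, map_one, mul_one]
    have h2 := K.mul_mem hx (hCK (QuotientGroup.eq.1 h1.symm))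
    rwa [← mul_assoc, mul_inv_cancel, one_mul] at h2
  -- exponent p
  have hexpM : ∀ x ∈ M, π x ^ p = 1 := by
    let K : Subgroup T :=
      { carrier := {x | x ∈ M ∧ π x ^ p = 1}
        one_mem' := ⟨M.one_mem, by rw [map_one, one_pow]⟩
        mul_mem' := fun {a b} ha hb => ⟨M.mul_mem ha.1 hb.1, by
          rw [map_mul, (Commute.mul_pow (hcomm b hb.1 (π a)) p), ha.2, hb.2, one_mul]⟩
        inv_mem' := fun {a} ha => ⟨M.inv_mem ha.1, by rw [map_inv, inv_pow, ha.2, inv_one]⟩ }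
    have hCK : C ≤ K := fun x hx => ⟨hCM.le hx, by rw [show π x = 1 from (QuotientGroup.eq_one_iff _).2 hx, one_pow]⟩
    have hKM : K ≤ M := fun x hx => hx.1
    have hKi : ∀ h ∈ H, ∀ x ∈ K, h x ∈ K := by
      rintro h hh x ⟨hxM, hx⟩
      refine ⟨hMi h hh x hxM, ?_⟩
      rw [← map_pow] at hx ⊢
      rw [← map_pow h]
      exact (QuotientGroup.eq_one_iff _).2 (hCi h hh _ ((QuotientGroup.eq_one_iff _).1 hx))
    obtain ⟨n, hn⟩ := IsPGroup.iff_orderOf.1 hQ (π x0)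
    have hn0 : n ≠ 0 := by
      rintro rfl
      exact hne hx0C (orderOf_eq_one_iff.1 (by rw [hn, pow_zero]))
    have hlt : C < K := by
      refine lt_of_le_of_ne hCK fun h => ?_
      have h1 : x0 ^ p ^ (n - 1) ∈ K := ⟨M.pow_mem hx0M _, by
        rw [map_pow, ← pow_mul, ← pow_succ, Nat.sub_add_cancel (Nat.pos_of_ne_zero hn0), ← hn, pow_orderOf_eq_one]⟩
      rw [← h, ← QuotientGroup.eq_one_iff, QuotientGroup.mk_pow] at h1
      have h2 := orderOf_dvd_of_pow_eq_one h1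
      rw [show orderOf (QuotientGroup.mk x0 : T ⧸ C) = p ^ n from hn,
        Nat.pow_dvd_pow_iff_le_right (Fact.out : p.Prime).one_lt] at h2
      omega
    intro x hx
    rw [← hbet K hCK hKM hKi (hbetn K hCK hKM) hlt] at hx
    exact hx.2
  -- scalars
  have hscalar : ∀ h ∈ H, ∃ d : ℕ, ∀ x ∈ M, π (h x) = π x ^ d := by
    intro h hh
    let W : Subgroup (T ⧸ C) := M.map π
    haveI hWc : IsMulCommutative ↥W := ⟨⟨fun a b => by
      obtain ⟨x, hx, hxb⟩ := b.2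
      refine Subtype.ext ?_
      show (a : T ⧸ C) * (b : T ⧸ C) = (b : T ⧸ C) * a
      rw [← hxb]; exact hcomm x hx _⟩⟩
    letI : CommGroup ↥W := { (inferInstance : Group ↥W) with mul_comm := hWc.is_comm.comm }
    have hWp : ∀ a : ↥W, a ^ p = 1 := fun a => by
      obtain ⟨x, hx, hxa⟩ := a.2
      refine Subtype.ext ?_
      rw [SubgroupClass.coe_pow, ← hxa]; exact hexpM x hx
    letI : Module (ZMod p) (Additive ↥W) := AddCommGroup.zmodModule fun a => by
      apply Additive.toMul.injective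
      rw [toMul_nsmul, toMul_zero]; exact hWp _
    let hQ0 : T ⧸ C →* T ⧸ C := QuotientGroup.map C C h.toMonoidHom fun x hx => hCi h hh x hx
    have hQ0mk : ∀ x : T, hQ0 (π x) = π (h x) := fun x => rfl
    have hW : ∀ a : ↥W, hQ0 a ∈ W := fun a => by
      obtain ⟨x, hx, hxa⟩ := a.2
      rw [← hxa, hQ0mk]; exact ⟨h x, hMi h hh x hx, rfl⟩
    let f0 : ↥W →* ↥W := (hQ0.comp W.subtype).codRestrict W hW
    let f : Additive ↥W →+ Additive ↥W := MonoidHom.toAdditive f0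
    have hfit : ∀ n : ℕ, ∀ (x : T) (hx : x ∈ M),
        ((Additive.toMul (f^[n] (Additive.ofMul (⟨π x, x, hx, rfl⟩ : ↥W))) : ↥W) : T ⧸ C) = π ((h ^ n) x) := by
      intro n
      induction n with
      | zero => intro x hx; rfl
      | succ n ihn =>
        intro x hx
        rw [Function.iterate_succ_apply', pow_succ', MulAut.mul_apply, ← hQ0mk, ← ihn x hx]
        rfl
    have hfper : ∀ a : Additive ↥W, f^[p - 1] a = a := fun a => by
      obtain ⟨x, hx, hxa⟩ := (Additive.toMul a).2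
      have ha : a = Additive.ofMul (⟨π x, x, hx, rfl⟩ : ↥W) := by
        apply Additive.toMul.injective; exact Subtype.ext hxa.symm
      rw [ha]
      apply Additive.toMul.injective
      refine Subtype.ext ?_
      rw [hfit (p - 1) x hx, hexp h hh]; rfl
    obtain ⟨d, w, hw, hwd⟩ := eigen f hfper (Additive.ofMul (⟨π x0, x0, hx0M, rfl⟩ : ↥W)) (fun h0 => hne hx0C
      (congrArg Subtype.val (congrArg Additive.toMul h0)))
    refine ⟨d, ?_⟩
    let K : Subgroup T :=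
      { carrier := {x | x ∈ M ∧ π (h x) = π x ^ d}
        one_mem' := ⟨M.one_mem, by rw [map_one, map_one, one_pow]⟩
        mul_mem' := fun {a b} ha hb => ⟨M.mul_mem ha.1 hb.1, by
          rw [map_mul h, map_mul π, map_mul π, Commute.mul_pow (hcomm b hb.1 (π a)) d, ha.2, hb.2]⟩
        inv_mem' := fun {a} ha => ⟨M.inv_mem ha.1, by rw [map_inv h, map_inv π, map_inv π, inv_pow, ha.2]⟩ }
    have hone : ∀ {x : T}, x ∈ C → π x = 1 := fun hx => (QuotientGroup.eq_one_iff _).2 hx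
    have hCK : C ≤ K := fun x hx => ⟨hCM.le hx, by rw [hone hx, hone (hCi h hh x hx), one_pow]⟩
    have hKM : K ≤ M := fun x hx => hx.1
    have hKi : ∀ g ∈ H, ∀ x ∈ K, g x ∈ K := by
      rintro g hg x ⟨hxM, hx⟩
      refine ⟨hMi g hg x hxM, ?_⟩
      have hc : h * g = g * h := congrArg Subtype.val (hab.is_comm.comm (⟨h, hh⟩ : ↥H) ⟨g, hg⟩)
      rw [← MulAut.mul_apply, hc, MulAut.mul_apply]
      rw [← map_pow] at hx ⊢
      rw [← map_pow g]
      refine QuotientGroup.eq.2 ?_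
      rw [← map_inv, ← map_mul]
      exact hCi g hg _ (QuotientGroup.eq.1 hx)
    obtain ⟨z, hz, hzw⟩ := (Additive.toMul w).2
    have hw' : w = Additive.ofMul (⟨π z, z, hz, rfl⟩ : ↥W) := by
      apply Additive.toMul.injective; exact Subtype.ext hzw.symm
    have hzK : z ∈ K := ⟨hz, by
      have h1 := congrArg (fun a => ((Additive.toMul a : ↥W) : T ⧸ C)) hwd
      simp only [toMul_nsmul, SubgroupClass.coe_pow] at h1
      rw [hw'] at h1
      exact (hfit 1 z hz).symm.trans h1⟩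
    have hlt : C < K := lt_of_le_of_ne hCK fun he => hw (by
      rw [hw']
      apply Additive.toMul.injective
      exact Subtype.ext (hone (he ▸ hzK : z ∈ C)))
    intro x hx
    rw [← hbet K hCK hKM hKi (hbetn K hCK hKM) hlt] at hx
    exact hx.2
  have hLM : C ⊔ Subgroup.zpowers x0 ≤ M := sup_le hCM.le (Subgroup.zpowers_le.2 hx0M)
  refine ⟨x0, hx0C, hbetn _ le_sup_left hLM, fun h hh y hy => ?_⟩
  obtain ⟨d, hd⟩ := hscalar h hh
  have hle : C ⊔ Subgroup.zpowers x0 ≤ (C ⊔ Subgroup.zpowers x0).comap h.toMonoidHom := by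
    refine sup_le (fun c hc => Subgroup.mem_sup_left (hCi h hh c hc)) (Subgroup.zpowers_le.2 ?_)
    have h1 := hd x0 hx0M
    rw [← map_pow] at h1
    have h2 := Subgroup.mul_mem_sup (QuotientGroup.eq.1 h1.symm) (Subgroup.one_mem (Subgroup.zpowers x0))
    rw [mul_one] at h2
    have h3 := (C ⊔ Subgroup.zpowers x0).mul_mem
      (Subgroup.pow_mem _ (Subgroup.mem_sup_right (Subgroup.mem_zpowers x0)) d) h2
    rw [mul_inv_cancel_left] at h3
    exact h3
  exact hle hy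

end Cfsg.Agent.Lead.SupCore
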