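import Cfsg.Agent.Lib.Classical.SymplecticCount
import Cfsg.Agent.Lib.Classical.Forms
import Cfsg.Agent.Lib.Classical.Elusive.Cases

/-!
# Elements of odd prime order outside every symplectic similitude group
-/

set_option autoImplicit false
set_option linter.style.haveILetI false

namespace Cfsg.Agent.Lead.SympDerangement

open Matrix Module Cfsg.Geo
open Cfsg.Agent.Classical

universe u

variable {F : Type u} [Field F] {n : ℕ} {f : (Fin n → F) → (Fin n → F) → F}

/-- The bilinear map of a form given as a function. -/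
def formMap (hb : IsBilinearForm f) : (Fin n → F) →ₗ[F] (Fin n → F) →ₗ[F] F :=
  LinearMap.mk₂ F f hb.add_left hb.smul_left hb.add_right hb.smul_right

theorem formMap_apply (hb : IsBilinearForm f) (u v : Fin n → F) : formMap hb u v = f u v := rfl

theorem formMap_altND (hf : IsSymplecticForm f) : SpCount.IsAltND (formMap hf.bilinear) :=
  ⟨hf.alternating, fun v hv => by
    by_contra h0
    obtain ⟨x, hx⟩ := (hf.nondegenerate v h0).2
    exact hx (hv x)⟩

theorem even_finrank : ∀ (N : ℕ) {V : Type u} [AddCommGroup V] [Module F V] [FiniteDimensional F V]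
    {B : V →ₗ[F] V →ₗ[F] F}, SpCount.IsAltND B → finrank F V ≤ N → Even (finrank F V) := by
  intro N
  induction N with
  | zero => intro V _ _ _ B _ h; rw [Nat.le_zero.mp h]; exact Even.zero
  | succ N ih =>
    intro V _ _ _ B hB h
    by_cases h0 : finrank F V = 0
    · rw [h0]; exact Even.zero
    haveI : Nontrivial V := Module.nontrivial_of_finrank_pos (R := F) (Nat.pos_of_ne_zero h0)
    obtain ⟨v, hv⟩ := exists_ne (0 : V)
    obtain ⟨w, hw⟩ := SpCount.exists_pair hB hv
    have hd := SpCount.finrank_comp hB hw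
    rw [hd]
    exact Even.add even_two (ih (SpCount.res_isAltND hB hw) (by omega))

variable (hf : IsSymplecticForm f)

include hf

/-- The form transported by an invertible matrix. -/
theorem isSymplecticForm_comp (g : GL (Fin n) F) :
    IsSymplecticForm (fun u v => f ((g : Matrix (Fin n) (Fin n) F) *ᵥ u) ((g : Matrix (Fin n) (Fin n) F) *ᵥ v)) := by
  have hs : ∀ v : Fin n → F, v ≠ 0 → (g : Matrix (Fin n) (Fin n) F) *ᵥ v ≠ 0 := fun v hv e => hv (by
    have := congrArg (((g⁻¹ : GL (Fin n) F) : Matrix (Fin n) (Fin n) F) *ᵥ ·) e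
    simpa [Matrix.mulVec_mulVec] using this)
  refine ⟨⟨fun x y v => by simp only [Matrix.mulVec_add, hf.bilinear.add_left],
    fun c x v => by simp only [Matrix.mulVec_smul, hf.bilinear.smul_left],
    fun v x y => by simp only [Matrix.mulVec_add, hf.bilinear.add_right],
    fun c v x => by simp only [Matrix.mulVec_smul, hf.bilinear.smul_right]⟩,
    fun v w => hf.skew _ _, fun v => hf.alternating _, fun v hv => ?_⟩
  obtain ⟨⟨x, hx⟩, ⟨y, hy⟩⟩ := hf.nondegenerate _ (hs v hv)
  refine ⟨⟨((g⁻¹ : GL (Fin n) F) : Matrix (Fin n) (Fin n) F) *ᵥ x, ?_⟩,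
    ⟨((g⁻¹ : GL (Fin n) F) : Matrix (Fin n) (Fin n) F) *ᵥ y, ?_⟩⟩
  · simpa [Matrix.mulVec_mulVec] using hx
  · simpa [Matrix.mulVec_mulVec] using hy

variable {X : Module.End F (Fin n → F)} {μ : F} (hX : ∀ u v, f (X u) (X v) = μ * f u v)

include hX

/-- The eigenspace of `a` embeds in the dual of the cokernel of `X - μ / a`. -/
theorem finrank_ker_le {a b : F} (hab : a * b = μ) (ha : a ≠ 0) :
    finrank F (LinearMap.ker (X - a • (1 : Module.End F (Fin n → F)))) ≤
      finrank F (LinearMap.ker (X - b • (1 : Module.End F (Fin n → F)))) := by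
  obtain ⟨A, hA⟩ : ∃ A, A = X - a • (1 : Module.End F (Fin n → F)) := ⟨_, rfl⟩
  obtain ⟨C, hC⟩ : ∃ C, C = X - b • (1 : Module.End F (Fin n → F)) := ⟨_, rfl⟩
  rw [← hA, ← hC]
  have hmem : ∀ u ∈ LinearMap.ker A, formMap hf.bilinear u ∈ (LinearMap.range C).dualAnnihilator := by
    intro u hu
    rw [Submodule.mem_dualAnnihilator]
    rintro _ ⟨w, rfl⟩
    have h1 : X u = a • u := by
      rw [hA, LinearMap.mem_ker, LinearMap.sub_apply, sub_eq_zero] at hu
      simpa using hu
    have h2 : a * f u (X w) = μ * f u w := by rw [← hX u w, h1, hf.bilinear.smul_left]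
    have h3 : f u (X w) = b * f u w := mul_left_cancel₀ ha (by rw [h2, ← hab, mul_assoc])
    rw [formMap_apply, hC, LinearMap.sub_apply, LinearMap.smul_apply, Module.End.one_apply, sub_eq_add_neg,
      hf.bilinear.add_right, ← neg_smul, hf.bilinear.smul_right, h3]
    ring
  let Φ : LinearMap.ker A →ₗ[F] (LinearMap.range C).dualAnnihilator :=
    LinearMap.codRestrict _ ((formMap hf.bilinear).comp (LinearMap.ker A).subtype) fun u => hmem u u.2
  have hΦ : Function.Injective Φ := by
    rw [injective_iff_map_eq_zero]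
    intro u hu
    exact Subtype.ext ((formMap_altND hf).nondeg _ fun w =>
      LinearMap.congr_fun (congrArg Subtype.val hu) w)
  have h1 := LinearMap.finrank_le_finrank_of_injective hΦ
  have h2 := Subspace.finrank_add_finrank_dualAnnihilator_eq (LinearMap.range C)
  have h3 := LinearMap.finrank_range_add_finrank_ker C
  omega

theorem finrank_ker_eq {a b : F} (hab : a * b = μ) (ha : a ≠ 0) (hb : b ≠ 0) :
    finrank F (LinearMap.ker (X - a • (1 : Module.End F (Fin n → F)))) =
      finrank F (LinearMap.ker (X - b • (1 : Module.End F (Fin n → F)))) :=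
  le_antisymm (finrank_ker_le hf hX hab ha) (finrank_ker_le hf hX (by rw [mul_comm, hab]) hb)

/-- The fixed space of an isometry split by its image has even dimension. -/
theorem even_fixed (hμ : μ = 1)
    (hsplit : ∀ w, (X - 1) ((X - 1) w) = 0 → (X - 1) w = 0) :
    Even (finrank F (LinearMap.ker (X - 1))) := by
  obtain ⟨A, hA⟩ : ∃ A, A = X - 1 := ⟨_, rfl⟩
  rw [← hA] at hsplit ⊢
  have hc : IsCompl (LinearMap.ker A) (LinearMap.range A) := by
    have hd : Disjoint (LinearMap.ker A) (LinearMap.range A) := by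
      rw [Submodule.disjoint_def]
      rintro _ hu ⟨w, rfl⟩
      exact hsplit w hu
    refine ⟨hd, codisjoint_iff.mpr (Submodule.eq_top_of_finrank_eq ?_)⟩
    have h3 := Submodule.finrank_sup_add_finrank_inf_eq (LinearMap.ker A) (LinearMap.range A)
    rw [hd.eq_bot, finrank_bot, add_zero, add_comm, LinearMap.finrank_range_add_finrank_ker] at h3
    exact h3
  have horth : ∀ u ∈ LinearMap.ker A, ∀ w, f u (A w) = 0 := by
    intro u hu w
    have h1 : X u = u := by
      rw [hA, LinearMap.mem_ker, LinearMap.sub_apply, sub_eq_zero] at hu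
      simpa using hu
    have h2 : f u (X w) = f u w := by
      have := hX u w
      rwa [h1, hμ, one_mul] at this
    rw [hA, LinearMap.sub_apply, Module.End.one_apply, ← formMap_apply hf.bilinear, map_sub, formMap_apply,
      formMap_apply, h2, sub_self]
  refine even_finrank (finrank F (LinearMap.ker A))
    (B := (formMap hf.bilinear).compl₁₂ (LinearMap.ker A).subtype (LinearMap.ker A).subtype)
    ⟨fun v => hf.alternating _, fun v hv => Subtype.ext ((formMap_altND hf).nondeg _ fun w => ?_)⟩ le_rfl
  obtain ⟨y, hy, z, ⟨t, rfl⟩, rfl⟩ := Submodule.mem_sup.mp (hc.sup_eq_top ▸ Submodule.mem_top : w ∈ _ ⊔ _)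
  have h1 : f (v : Fin n → F) y = 0 := hv ⟨y, hy⟩
  rw [map_add, formMap_apply, formMap_apply, h1, horth _ v.2, add_zero]

/-- No symplectic isometry has a single nilpotent block of size three and otherwise fixes everything. -/
theorem no_rank_one_square (hμ : μ = 1) {φ : Module.Dual F (Fin n → F)} {z : Fin n → F}
    (hφ : φ ≠ 0) (hz : z ≠ 0) (hsq : ∀ u, (X - 1) ((X - 1) u) = φ u • z)
    (hcube : ∀ u, (X - 1) ((X - 1) ((X - 1) u)) = 0) : False := by
  obtain ⟨M, hM⟩ : ∃ M, M = X - 1 := ⟨_, rfl⟩
  rw [← hM] at hsq hcube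
  have hg : ∀ u, X u = u + M u := fun u => by rw [hM]; simp
  have hiso : ∀ u v, f (X u) (X v) = f u v := fun u v => by rw [hX, hμ, one_mul]
  have hadd := hf.bilinear
  have h0 : ∀ u, f (M (M u)) (M u) = 0 := by
    intro u
    have h1 := hiso (M (M u)) u
    rw [hg (M (M u)), hcube, add_zero, hg u, hadd.add_right] at h1
    linear_combination h1
  have h1 : ∀ u, f (M (M u)) u = 0 := by
    intro u
    have h2 := hiso (M u) u
    rw [hg (M u), hg u, hadd.add_left, hadd.add_right, hadd.add_right, hf.alternating, h0] at h2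
    linear_combination h2
  have h2 : ∀ u, φ u = 0 ∨ f z u = 0 := fun u => by
    have := h1 u
    rw [hsq, hadd.smul_left, mul_eq_zero] at this
    exact this
  obtain ⟨u, hu⟩ : ∃ u, φ u ≠ 0 := by
    by_contra! hcon
    exact hφ (LinearMap.ext hcon)
  obtain ⟨w, hw⟩ := (hf.nondegenerate z hz).2
  have hu' : f z u = 0 := (h2 u).resolve_left hu
  have hw' : φ w = 0 := (h2 w).resolve_right hw
  rcases h2 (u + w) with h | h
  · rw [map_add, hw', add_zero] at h; exact hu h
  · rw [hadd.add_right, hu', zero_add] at h; exact hw h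

end Cfsg.Agent.Lead.SympDerangement
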