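import Mathlib
import Cfsg.Prelude.Def_Classical
import Cfsg.Agent.Lib.Lead.FormsBasic

/-!
Counting values of the standard quadratic and Hermitian forms.
-/

set_option autoImplicit false

namespace Cfsg.Agent.Lead.FormsCount

open Cfsg

variable {F : Type*} [Field F] [Fintype F]

theorem card_linear_solutions {m : ℕ} (x : Fin m → F) (hx : x ≠ 0) (c : F) :
    Nat.card {y : Fin m → F // ∑ i, x i * y i = c} = Fintype.card F ^ (m - 1) := by
  classical
  let L : (Fin m → F) →ₗ[F] F :=
    { toFun := fun y => ∑ i, x i * y i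
      map_add' := fun a b => by simp [mul_add, Finset.sum_add_distrib]
      map_smul' := fun r a => by simp [Finset.mul_sum, mul_left_comm] }
  obtain ⟨k, hk⟩ := Function.ne_iff.mp hx
  have hsurj : Function.Surjective L := fun t => ⟨Pi.single k (t / x k), by
    show ∑ i, x i * (Pi.single k (t / x k) : Fin m → F) i = t
    rw [Finset.sum_eq_single k (fun b _ hb => by simp [hb]) (by simp), Pi.single_eq_same,
      mul_div_cancel₀ _ hk]⟩
  obtain ⟨y₀, hy₀⟩ := hsurj c
  have e : {y : Fin m → F // ∑ i, x i * y i = c} ≃ LinearMap.ker L :=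
    { toFun := fun y => ⟨y.1 - y₀, by
        rw [LinearMap.mem_ker, map_sub, hy₀, sub_eq_zero]; exact y.2⟩
      invFun := fun z => ⟨z.1 + y₀, by
        show L (z.1 + y₀) = c
        rw [map_add, hy₀, LinearMap.mem_ker.mp z.2, zero_add]⟩
      left_inv := fun y => by simp
      right_inv := fun z => by simp }
  have hd := LinearMap.finrank_range_add_finrank_ker L
  rw [LinearMap.range_eq_top.mpr hsurj, finrank_top, Module.finrank_self,
    Module.finrank_fintype_fun_eq_card, Fintype.card_fin] at hd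
  rw [Nat.card_congr e, Module.natCard_eq_pow_finrank (K := F), Nat.card_eq_fintype_card,
    show Module.finrank F (LinearMap.ker L) = m - 1 by omega]

theorem card_hyperbolic [DecidableEq F] (m : ℕ) (c : F) :
    (Nat.card {v : Fin m ⊕ Fin m → F // quadFormPlus m F v = c} : ℤ) =
      ((Fintype.card F : ℤ) ^ m - 1) * (Fintype.card F : ℤ) ^ (m - 1) +
        (if c = 0 then (Fintype.card F : ℤ) ^ m else 0) := by
  classical
  let e : {v : Fin m ⊕ Fin m → F // quadFormPlus m F v = c} ≃
      Σ x : Fin m → F, {y : Fin m → F // ∑ i, x i * y i = c} :=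
    { toFun := fun v => ⟨fun i => v.1 (.inl i), ⟨fun i => v.1 (.inr i), v.2⟩⟩
      invFun := fun p => ⟨Sum.elim p.1 p.2.1, p.2.2⟩
      left_inv := fun v => Subtype.ext (funext fun i => by cases i <;> rfl)
      right_inv := fun p => rfl }
  rw [Nat.card_congr e, Nat.card_sigma, ← Finset.add_sum_erase _ _ (Finset.mem_univ (0 : Fin m → F)),
    Finset.sum_congr rfl (fun x hx => card_linear_solutions x (Finset.ne_of_mem_erase hx) c),
    Finset.sum_const, Finset.card_erase_of_mem (Finset.mem_univ _), Finset.card_univ,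
    Fintype.card_fun, Fintype.card_fin, smul_eq_mul]
  have hq : 1 ≤ Fintype.card F ^ m := Nat.one_le_pow _ _ Fintype.card_pos
  have h0 : Nat.card {y : Fin m → F // ∑ i, (0 : Fin m → F) i * y i = c} =
      if c = 0 then Fintype.card F ^ m else 0 := by
    split_ifs with h
    · rw [Nat.card_congr (Equiv.subtypeUnivEquiv fun y => by simp [h]), Nat.card_fun,
        Nat.card_eq_fintype_card, Nat.card_fin]
    · haveI : IsEmpty {y : Fin m → F // ∑ i, (0 : Fin m → F) i * y i = c} :=
        ⟨fun y => h (by simpa using y.2.symm)⟩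
      exact Nat.card_of_isEmpty
  rw [h0]
  push_cast [Nat.cast_sub hq]
  ring

theorem card_plus (m : ℕ) (hm : 1 ≤ m) :
    Nat.card {v : Fin m ⊕ Fin m → F // quadFormPlus m F v = 0} =
      Fintype.card F ^ (2 * m - 1) + Fintype.card F ^ m - Fintype.card F ^ (m - 1) := by
  classical
  have h := card_hyperbolic (F := F) m 0
  rw [if_pos rfl] at h
  obtain ⟨k, rfl⟩ := Nat.exists_eq_add_of_le hm
  have h1 : Fintype.card F ^ (1 + k - 1) ≤ Fintype.card F ^ (1 + k) :=
    Nat.pow_le_pow_right Fintype.card_pos (by omega)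
  rw [← Nat.cast_inj (R := ℤ), h, Nat.cast_sub (le_trans h1 (Nat.le_add_left _ _))]
  push_cast
  rw [show 2 * (1 + k) - 1 = 2 * k + 1 by omega, show 1 + k - 1 = k by omega]
  ring

theorem card_minus (m : ℕ) (hm : 1 ≤ m) (a b : F)
    (hab : ∀ z₁ z₂ : F, z₁ ^ 2 + a * z₁ * z₂ + b * z₂ ^ 2 = 0 → z₁ = 0 ∧ z₂ = 0) :
    Nat.card {v : (Fin (m - 1) ⊕ Fin (m - 1)) ⊕ Fin 2 → F // quadFormMinus (m - 1) F a b v = 0} =
      Fintype.card F ^ (2 * m - 1) + Fintype.card F ^ (m - 1) - Fintype.card F ^ m := by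
  classical
  obtain ⟨k, rfl⟩ := Nat.exists_eq_add_of_le hm
  rw [show 1 + k - 1 = k by omega]
  let N : (Fin 2 → F) → F := fun z => z 0 ^ 2 + a * z 0 * z 1 + b * z 1 ^ 2
  let e : {v : (Fin k ⊕ Fin k) ⊕ Fin 2 → F // quadFormMinus k F a b v = 0} ≃
      Σ z : Fin 2 → F, {w : Fin k ⊕ Fin k → F // quadFormPlus k F w = - N z} :=
    { toFun := fun v => ⟨fun i => v.1 (.inr i), ⟨fun i => v.1 (.inl i), eq_neg_of_add_eq_zero_left v.2⟩⟩
      invFun := fun p => ⟨Sum.elim p.2.1 p.1, by
        show quadFormPlus k F p.2.1 + N p.1 = 0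
        rw [p.2.2, neg_add_cancel]⟩
      left_inv := fun v => Subtype.ext (funext fun i => by cases i <;> rfl)
      right_inv := fun p => rfl }
  have hN : ∀ z : Fin 2 → F, - N z = 0 ↔ z = 0 := fun z => by
    constructor
    · intro h
      obtain ⟨h0, h1⟩ := hab _ _ (neg_eq_zero.mp h)
      ext i; fin_cases i <;> assumption
    · rintro rfl; simp [N]
  have hint : (Nat.card {v : (Fin k ⊕ Fin k) ⊕ Fin 2 → F // quadFormMinus k F a b v = 0} : ℤ) =
      (Fintype.card F : ℤ) ^ 2 * (((Fintype.card F : ℤ) ^ k - 1) * (Fintype.card F : ℤ) ^ (k - 1)) +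
        (Fintype.card F : ℤ) ^ k := by
    rw [Nat.card_congr e, Nat.card_sigma, Nat.cast_sum]
    simp only [card_hyperbolic, hN]
    rw [Finset.sum_add_distrib, Finset.sum_const, Finset.card_univ, Finset.sum_ite_eq' Finset.univ 0,
      if_pos (Finset.mem_univ _), Fintype.card_fun, Fintype.card_fin, nsmul_eq_mul]
    push_cast; ring
  have hq : 1 ≤ Fintype.card F := Fintype.card_pos
  have h1 : Fintype.card F ^ (1 + k) ≤ Fintype.card F ^ (2 * (1 + k) - 1) :=
    Nat.pow_le_pow_right hq (by omega)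
  rw [← Nat.cast_inj (R := ℤ), hint, Nat.cast_sub (le_trans h1 (Nat.le_add_right _ _))]
  push_cast
  rcases Nat.eq_zero_or_pos k with rfl | hk
  · ring
  · obtain ⟨l, rfl⟩ := Nat.exists_eq_add_of_le hk
    rw [show 2 * (1 + (1 + l)) - 1 = 2 * l + 3 by omega, show (1 + l) - 1 = l by omega]
    ring

theorem card_odd (m : ℕ) :
    Nat.card {v : Unit ⊕ (Fin m ⊕ Fin m) → F // quadFormOdd m F v = 0} =
      Fintype.card F ^ (2 * m) := by
  classical
  let e : {v : Unit ⊕ (Fin m ⊕ Fin m) → F // quadFormOdd m F v = 0} ≃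
      Σ x : F, {w : Fin m ⊕ Fin m → F // quadFormPlus m F w = - x ^ 2} :=
    { toFun := fun v => ⟨v.1 (.inl ()), ⟨fun i => v.1 (.inr i), eq_neg_of_add_eq_zero_right v.2⟩⟩
      invFun := fun p => ⟨Sum.elim (fun _ => p.1) p.2.1, by
        show p.1 ^ 2 + quadFormPlus m F p.2.1 = 0
        rw [p.2.2, add_neg_cancel]⟩
      left_inv := fun v => Subtype.ext (funext fun i => by cases i <;> rfl)
      right_inv := fun p => rfl }
  rw [← Nat.cast_inj (R := ℤ), Nat.card_congr e, Nat.card_sigma, Nat.cast_sum]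
  simp only [card_hyperbolic, neg_eq_zero, pow_eq_zero_iff two_ne_zero]
  rw [Finset.sum_add_distrib, Finset.sum_const, Finset.card_univ, Finset.sum_ite_eq' Finset.univ 0,
    if_pos (Finset.mem_univ _), nsmul_eq_mul]
  rcases Nat.eq_zero_or_pos m with rfl | hm
  · simp
  · obtain ⟨l, rfl⟩ := Nat.exists_eq_add_of_le hm
    rw [show 1 + l - 1 = l by omega]
    push_cast; ring

theorem card_herm [DecidableEq F] {q : ℕ} (hF : Fintype.card F = q ^ 2) : ∀ (n : ℕ) (c : F), c ^ q = c →
    (q : ℤ) * Nat.card {v : Fin n → F // hermForm n F q v v = c} =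
      (q : ℤ) ^ (2 * n) + (if c = 0 then (-(q : ℤ)) ^ n * ((q : ℤ) - 1) else -(-(q : ℤ)) ^ n) := by
  classical
  have hq : 2 ≤ q := by
    rcases Nat.lt_or_ge q 2 with h | h
    · have := Fintype.one_lt_card (α := F)
      interval_cases q <;> omega
    · exact h
  intro n
  induction n with
  | zero =>
    intro c hc
    split_ifs with h
    · rw [Nat.card_congr (Equiv.subtypeUnivEquiv fun v => by simp [hermForm, h]), Nat.card_fun]
      simp
    · haveI : IsEmpty {v : Fin 0 → F // hermForm 0 F q v v = c} :=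
        ⟨fun v => h (by simpa [hermForm] using v.2.symm)⟩
      simp
  | succ n ih =>
    intro c hc
    obtain ⟨p, hp⟩ := CharP.exists F
    obtain ⟨f, hpp, hcard⟩ := FiniteField.card F p
    haveI : Fact p.Prime := ⟨hpp⟩
    obtain ⟨k, -, hk⟩ : ∃ k ≤ (f : ℕ), q = p ^ k :=
      (Nat.dvd_prime_pow hpp).mp (hcard ▸ hF ▸ dvd_pow_self q two_ne_zero)
    have hfixN : ∀ x : F, (x ^ (q + 1)) ^ q = x ^ (q + 1) := fun x => by
      rw [← pow_mul, show (q + 1) * q = q ^ 2 + q by ring, pow_add, ← hF, FiniteField.pow_card,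
        pow_succ']
    have hfix : ∀ x : F, (c - x ^ (q + 1)) ^ q = c - x ^ (q + 1) := fun x => by
      conv_rhs => rw [← hc, ← hfixN x]
      exact hk ▸ sub_pow_char_pow ..
    let e : {v : Fin (n + 1) → F // hermForm (n + 1) F q v v = c} ≃
        Σ x : F, {w : Fin n → F // hermForm n F q w w = c - x ^ (q + 1)} :=
      { toFun := fun v => ⟨v.1 0, ⟨fun i => v.1 i.succ, by
          have := v.2
          simp only [hermForm, Fin.sum_univ_succ] at this ⊢
          rw [pow_succ']; exact eq_sub_of_add_eq' this⟩⟩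
        invFun := fun p => ⟨Fin.cons p.1 p.2.1, by
          have := p.2.2
          simp only [hermForm, Fin.sum_univ_succ, Fin.cons_zero, Fin.cons_succ] at this ⊢
          rw [this, pow_succ']; ring⟩
        left_inv := fun v => Subtype.ext (funext fun i => by cases i using Fin.cases <;> simp)
        right_inv := fun p => rfl }
    have hcount : (Finset.univ.filter fun x : F => c - x ^ (q + 1) = 0).card =
        if c = 0 then 1 else q + 1 := by
      split_ifs with h
      · rw [Finset.card_eq_one]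
        exact ⟨0, by ext x; simp [h]⟩
      · refine Eq.trans ?_ (Forms.card_norm_fibre hF c h hc)
        rw [Nat.card_eq_fintype_card, Fintype.card_subtype]
        exact congrArg Finset.card (Finset.filter_congr fun x _ => by rw [sub_eq_zero, eq_comm])
    rw [Nat.card_congr e, Nat.card_sigma, Nat.cast_sum, Finset.mul_sum,
      Finset.sum_congr rfl (fun x _ => ih _ (hfix x)), Finset.sum_add_distrib, Finset.sum_const,
      Finset.card_univ, Finset.sum_ite, Finset.sum_const, Finset.sum_const, Finset.filter_not,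
      Finset.card_sdiff_of_subset (Finset.filter_subset _ _), Finset.card_univ, hcount, hF]
    have hq1 : q + 1 ≤ q ^ 2 := by nlinarith
    have hq0 : 1 ≤ q ^ 2 := by omega
    split_ifs with h <;>
      simp only [nsmul_eq_mul, Nat.cast_sub hq1, Nat.cast_sub hq0] <;>
      push_cast <;> ring

theorem card_herm_one {q : ℕ} (hF : Fintype.card F = q ^ 2) (n : ℕ) :
    Nat.card {v : Fin n → F // hermForm n F q v v = 1} =
      (if Even n then q ^ (n - 1) * (q ^ n - 1) else q ^ (n - 1) * (q ^ n + 1)) := by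
  classical
  have h := card_herm hF n 1 (one_pow q)
  rw [if_neg one_ne_zero] at h
  have hq : 0 < q := by
    rcases Nat.eq_zero_or_pos q with rfl | h
    · simp at hF
    · exact h
  refine (Nat.eq_of_mul_eq_mul_left hq ?_)
  rw [← Nat.cast_inj (R := ℤ), Nat.cast_mul, h]
  rcases n with _ | n
  · simp
  have hpow : 1 ≤ q ^ (n + 1) := Nat.one_le_pow _ _ hq
  split_ifs with he
  · rw [he.neg_pow]; push_cast [Nat.cast_sub hpow, Nat.add_sub_cancel]; ring
  · rw [(Nat.not_even_iff_odd.mp he).neg_pow]; push_cast [Nat.add_sub_cancel]; ring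

theorem card_herm_zero {q : ℕ} (hF : Fintype.card F = q ^ 2) (n : ℕ) :
    Nat.card {v : Fin n → F // hermForm n F q v v = 0} =
      (if Even n then (q ^ n - 1) * (q ^ (n - 1) + 1) else (q ^ n + 1) * (q ^ (n - 1) - 1)) + 1 := by
  classical
  have h := card_herm hF n 0 (by
    rw [zero_pow]; rintro rfl; simp at hF)
  rw [if_pos rfl] at h
  have hq : 0 < q := by
    rcases Nat.eq_zero_or_pos q with rfl | h
    · simp at hF
    · exact h
  refine (Nat.eq_of_mul_eq_mul_left hq ?_)
  rw [← Nat.cast_inj (R := ℤ), Nat.cast_mul, h]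
  rcases n with _ | n
  · simp
  have hpow : 1 ≤ q ^ (n + 1) := Nat.one_le_pow _ _ hq
  have hpow' : 1 ≤ q ^ n := Nat.one_le_pow _ _ hq
  split_ifs with he
  · rw [he.neg_pow]; push_cast [Nat.cast_sub hpow, Nat.add_sub_cancel]; ring
  · rw [(Nat.not_even_iff_odd.mp he).neg_pow]; push_cast [Nat.cast_sub hpow', Nat.add_sub_cancel]; ring

end Cfsg.Agent.Lead.FormsCount
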