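import Cfsg.Agent.Lib.Lead.SympDerangement

/-!
# Primes dividing the index of the symplectic similitudes in the special linear group
-/

set_option autoImplicit false
set_option linter.style.haveILetI false

namespace Cfsg.Agent.Lead.SympDerangement

open Matrix Module Cfsg.Geo
open Cfsg.Agent.Classical

universe u

variable {F : Type u} [Field F] [Fintype F] {n : ℕ} {f : (Fin n → F) → (Fin n → F) → F}

/-- The isometries of a form given as a function. -/
def isoGroup (f : (Fin n → F) → (Fin n → F) → F) : Subgroup (GL (Fin n) F) where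
  carrier := {g | ∀ u v, f ((g : Matrix (Fin n) (Fin n) F) *ᵥ u) ((g : Matrix (Fin n) (Fin n) F) *ᵥ v) = f u v}
  mul_mem' {a b} ha hb u v := by
    rw [Units.val_mul, ← Matrix.mulVec_mulVec, ← Matrix.mulVec_mulVec, ha, hb]
  one_mem' u v := by simp
  inv_mem' {a} ha u v := by
    rw [← ha (((a⁻¹ : GL (Fin n) F) : Matrix (Fin n) (Fin n) F) *ᵥ u) (((a⁻¹ : GL (Fin n) F) : Matrix (Fin n) (Fin n) F) *ᵥ v)]
    simp [Matrix.mulVec_mulVec]

theorem card_isoGroup (hf : IsSymplecticForm f) {m : ℕ} (hn : n = 2 * m) :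
    Nat.card ↥(isoGroup f) = Fintype.card F ^ (m ^ 2) *
      ∏ i ∈ Finset.range m, (Fintype.card F ^ (2 * (i + 1)) - 1) := by
  classical
  have hB := formMap_altND hf
  have hV : finrank F (Fin n → F) = 2 * m := by rw [Module.finrank_fin_fun, hn]
  rw [← SpCount.card_fam m hB hV]
  obtain ⟨f₀⟩ := SpCount.exists_fam m hB hV
  obtain ⟨b, hbdef⟩ : ∃ b, b = SpCount.famBasis hB hV f₀ := ⟨_, rfl⟩
  have hb : ∀ i, b i = f₀.1 i := fun i => by rw [hbdef, SpCount.famBasis, Basis.coe_mk]
  refine Nat.card_congr (Equiv.ofBijective (fun g : ↥(isoGroup f) =>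
    (⟨fun i => ((g : GL (Fin n) F) : Matrix (Fin n) (Fin n) F) *ᵥ f₀.1 i, fun i j => by
      rw [formMap_apply, g.2, ← formMap_apply hf.bilinear, f₀.2]⟩ : SpCount.SpFam (formMap hf.bilinear) m)) ⟨?_, ?_⟩)
  · intro g g' h
    refine Subtype.ext (Units.ext (Matrix.toLin'.injective (b.ext fun i => ?_)))
    rw [Matrix.toLin'_apply, Matrix.toLin'_apply, hb]
    exact congrFun (congrArg Subtype.val h) i
  · intro t
    obtain ⟨b', hb'def⟩ : ∃ b', b' = SpCount.famBasis hB hV t := ⟨_, rfl⟩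
    have hb' : ∀ i, b' i = t.1 i := fun i => by rw [hb'def, SpCount.famBasis, Basis.coe_mk]
    obtain ⟨e, he⟩ : ∃ e, e = b.equiv b' (Equiv.refl _) := ⟨_, rfl⟩
    have hei : ∀ i, e (f₀.1 i) = t.1 i := fun i => by
      rw [he, ← hb, Basis.equiv_apply, Equiv.refl_apply, hb']
    obtain ⟨g, hg⟩ : ∃ g : GL (Fin n) F, (g : Matrix (Fin n) (Fin n) F) = LinearMap.toMatrix' e.toLinearMap :=
      ⟨⟨LinearMap.toMatrix' e.toLinearMap, LinearMap.toMatrix' e.symm.toLinearMap,
        by rw [← LinearMap.toMatrix'_comp]; simp, by rw [← LinearMap.toMatrix'_comp]; simp⟩, rfl⟩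
    have hgv : ∀ v, (g : Matrix (Fin n) (Fin n) F) *ᵥ v = e v := fun v => by
      rw [hg, ← Matrix.toLin'_apply, Matrix.toLin'_toMatrix']; rfl
    have hiso : (formMap hf.bilinear).compl₁₂ e.toLinearMap e.toLinearMap = formMap hf.bilinear := by
      refine b.ext fun i => b.ext fun j => ?_
      rw [LinearMap.compl₁₂_apply, hb, hb, LinearEquiv.coe_coe, hei, hei, t.2, f₀.2]
    refine ⟨⟨g, fun u v => ?_⟩, Subtype.ext (funext fun i => by
      show (g : Matrix (Fin n) (Fin n) F) *ᵥ f₀.1 i = t.1 i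
      rw [hgv, hei])⟩
    rw [hgv, hgv]
    exact LinearMap.congr_fun (LinearMap.congr_fun hiso u) v

theorem sq_det_of_iso (hf : IsSymplecticForm f) {g : GL (Fin n) F} (hg : g ∈ isoGroup f) :
    Matrix.GeneralLinearGroup.det g ^ 2 = 1 := by
  have h := gram_comp (RingEquiv.refl F) (semiForm_of_bilinear hf.bilinear) (g : Matrix (Fin n) (Fin n) F)
  rw [show (fun u v => f ((g : Matrix (Fin n) (Fin n) F) *ᵥ u) ((g : Matrix (Fin n) (Fin n) F) *ᵥ v)) = f from
    funext fun u => funext fun v => hg u v, show (g : Matrix (Fin n) (Fin n) F).map (RingEquiv.refl F) =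
      (g : Matrix (Fin n) (Fin n) F) from Matrix.ext fun i j => rfl] at h
  have h2 := congrArg Matrix.det h
  rw [Matrix.det_mul, Matrix.det_mul, Matrix.det_transpose] at h2
  have h0 := det_gram_ne_zero (RingEquiv.refl F) (semiForm_of_bilinear hf.bilinear) hf.nondegenerate
  refine Units.ext ?_
  rw [Units.val_pow_eq_pow_val, Units.val_one, Matrix.GeneralLinearGroup.val_det_apply]
  refine mul_left_cancel₀ h0 ?_
  linear_combination -h2

theorem prod_range_two_mul (g : ℕ → ℕ) : ∀ m : ℕ,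
    ∏ k ∈ Finset.range (2 * m), g k = (∏ i ∈ Finset.range m, g (2 * i)) * ∏ i ∈ Finset.range m, g (2 * i + 1) := by
  intro m
  induction m with
  | zero => simp
  | succ m ih =>
    rw [show 2 * (m + 1) = 2 * m + 1 + 1 by ring, Finset.prod_range_succ, Finset.prod_range_succ, ih,
      Finset.prod_range_succ, Finset.prod_range_succ]
    ring

/-- A prime divisor other than the characteristic divides some `q ^ j - 1` with `j` odd. -/
theorem exists_odd_exponent (p : ℕ) [Fact p.Prime] [CharP F p] (hf : IsSymplecticForm f) {m : ℕ} (hn : n = 2 * m)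
    (hm : 0 < m) {r : ℕ} (hr : r.Prime) (hr2 : r ≠ 2) (hrp : r ≠ p)
    (h : r ∣ ((similarityGroup f).comap
      (Matrix.SpecialLinearGroup.toGL : Matrix.SpecialLinearGroup (Fin n) F →* GL (Fin n) F)).index) :
    ∃ j, Odd j ∧ 3 ≤ j ∧ j < n ∧ r ∣ Fintype.card F ^ j - 1 := by
  classical
  obtain ⟨S, hS⟩ : ∃ S, S = (similarityGroup f).comap
      (Matrix.SpecialLinearGroup.toGL : Matrix.SpecialLinearGroup (Fin n) F →* GL (Fin n) F) := ⟨_, rfl⟩
  rw [← hS] at h
  haveI : Nonempty (Fin n) := ⟨⟨0, by omega⟩⟩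
  let d : GL (Fin n) F →* Fˣ := Matrix.GeneralLinearGroup.det
  have hsurj : Function.Surjective d := fun c => by
    refine ⟨Matrix.GeneralLinearGroup.mkOfDetNeZero
      (Matrix.diagonal (Function.update (1 : Fin n → F) ⟨0, by omega⟩ (c : F))) ?_, ?_⟩
    · rw [Matrix.det_diagonal, Finset.prod_update_of_mem (Finset.mem_univ _)]
      simp
    · apply Units.ext
      simp [d, Matrix.GeneralLinearGroup.val_det_apply, Matrix.GeneralLinearGroup.mkOfDetNeZero,
        Finset.prod_update_of_mem]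
  have hker : Nat.card ↥d.ker = Nat.card (Matrix.SpecialLinearGroup (Fin n) F) :=
    (Nat.card_congr (Equiv.ofBijective (fun A : Matrix.SpecialLinearGroup (Fin n) F =>
      (⟨Matrix.SpecialLinearGroup.toGL A, Units.ext A.2⟩ : d.ker))
      ⟨fun A B hAB => Matrix.SpecialLinearGroup.toGL_injective (congrArg Subtype.val hAB),
        fun g => ⟨⟨(g.1 : Matrix (Fin n) (Fin n) F), congrArg Units.val g.2⟩, Subtype.ext (Units.ext rfl)⟩⟩)).symm
  have hGL : Nat.card (GL (Fin n) F) = (Fintype.card F - 1) * Nat.card (Matrix.SpecialLinearGroup (Fin n) F) := by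
    rw [Subgroup.card_eq_card_quotient_mul_card_subgroup d.ker, hker,
      Nat.card_congr (QuotientGroup.quotientKerEquivOfSurjective d hsurj).toEquiv, Nat.card_units,
      Nat.card_eq_fintype_card]
  obtain ⟨D, hD⟩ : ∃ D : ↥(isoGroup f) →* Fˣ, D = d.comp (isoGroup f).subtype := ⟨_, rfl⟩
  have hiso : Nat.card ↥(isoGroup f) = Nat.card ↥D.range * Nat.card ↥D.ker := by
    rw [Subgroup.card_eq_card_quotient_mul_card_subgroup D.ker,
      Nat.card_congr (QuotientGroup.quotientKerEquivRange D).toEquiv]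
  have hrange : Nat.card ↥D.range ≤ 2 := by
    have hle : ∀ x : ↥D.range, ((x : Fˣ) : F) ∈ ({1, -1} : Finset F) := by
      rintro ⟨x, g, rfl⟩
      have h2 : ((D g : Fˣ) : F) ^ 2 = 1 := by
        rw [← Units.val_pow_eq_pow_val, hD]
        exact congrArg Units.val (sq_det_of_iso hf g.2)
      simpa using sq_eq_one_iff.mp h2
    haveI : Fintype ↥D.range := Fintype.ofFinite _
    rw [Nat.card_eq_fintype_card, ← Finset.card_univ]
    exact (Finset.card_le_card_of_injOn (fun x : ↥D.range => ((x : Fˣ) : F)) (fun x _ => hle x)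
      (fun x _ y _ hxy => Subtype.ext (Units.ext hxy))).trans Finset.card_le_two
  have hdvd : Nat.card ↥D.ker ∣ Nat.card ↥S := by
    let φ : ↥D.ker →* ↥S :=
      { toFun := fun g => ⟨⟨((g : ↥(isoGroup f)) : GL (Fin n) F).val, by
          have h1 := MonoidHom.mem_ker.mp g.2
          have h2 : D (g : ↥(isoGroup f)) = d ((g : ↥(isoGroup f)) : GL (Fin n) F) := (DFunLike.congr_fun hD _).trans rfl
          rw [h2] at h1
          exact congrArg Units.val h1⟩, by
          rw [hS]
          show _ ∈ similarityGroup f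
          refine ⟨1, fun u v => ?_⟩
          rw [Units.val_one, one_mul]
          exact (g : ↥(isoGroup f)).2 u v⟩
        map_one' := rfl
        map_mul' := fun _ _ => rfl }
    refine Subgroup.card_dvd_of_injective φ fun a b hab => Subtype.ext (Subtype.ext (Units.ext ?_))
    exact congrArg (fun x : ↥S => ((x : Matrix.SpecialLinearGroup (Fin n) F) : Matrix (Fin n) (Fin n) F)) hab
  obtain ⟨e, he⟩ := hdvd
  obtain ⟨q, hq⟩ : ∃ q, q = Fintype.card F := ⟨_, rfl⟩
  have hq2 : 2 ≤ q := hq ▸ Fintype.one_lt_card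
  obtain ⟨N, hN⟩ : ∃ N, Nat.card (GL (Fin n) F) = q ^ N * ∏ k ∈ Finset.range n, (q ^ (k + 1) - 1) := by
    refine ⟨∑ j : Fin n, (j : ℕ), ?_⟩
    rw [Matrix.card_GL_field, Elusive.prod_pow_sub (F := F) n n le_rfl, Finset.prod_pow_eq_pow_sum, ← hq]
    congr 1
    rw [Fin.prod_univ_eq_prod_range (fun k => q ^ (n - k) - 1) n, ← Finset.prod_range_reflect]
    refine Finset.prod_congr rfl fun k hk => ?_
    rw [Finset.mem_range] at hk
    congr 2
    omega
  have key : q ^ N * (Nat.card ↥D.range * ∏ i ∈ Finset.range m, (q ^ (2 * i + 1) - 1)) =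
      S.index * (e * (q - 1) * q ^ (m ^ 2)) := by
    have hpos : 0 < ∏ i ∈ Finset.range m, (q ^ (2 * (i + 1)) - 1) :=
      Finset.prod_pos fun i _ => Nat.sub_pos_of_lt (Nat.one_lt_pow (by omega) (by omega))
    refine Nat.eq_of_mul_eq_mul_right hpos ?_
    have hI := card_isoGroup hf hn
    rw [← hq] at hI hGL
    rw [← S.card_mul_index, he] at hGL
    calc q ^ N * (Nat.card ↥D.range * ∏ i ∈ Finset.range m, (q ^ (2 * i + 1) - 1)) *
          ∏ i ∈ Finset.range m, (q ^ (2 * (i + 1)) - 1)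
        = Nat.card ↥D.range * (q ^ N * ∏ k ∈ Finset.range n, (q ^ (k + 1) - 1)) := by
          rw [show Finset.range n = Finset.range (2 * m) from congrArg Finset.range hn, prod_range_two_mul (fun k => q ^ (k + 1) - 1) m]
          simp only [show ∀ i, 2 * i + 1 + 1 = 2 * (i + 1) from fun i => by ring]
          ring
      _ = Nat.card ↥D.range * ((q - 1) * (Nat.card ↥D.ker * e * S.index)) := by rw [← hN, hGL]
      _ = S.index * (e * (q - 1)) * Nat.card ↥(isoGroup f) := by rw [hiso]; ring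
      _ = _ := by rw [hI]; ring
  obtain ⟨m', rfl⟩ : ∃ m', m = m' + 1 := ⟨m - 1, by omega⟩
  rw [Finset.prod_range_succ', mul_zero, zero_add, pow_one] at key
  have key' : q ^ N * (Nat.card ↥D.range * ∏ i ∈ Finset.range m', (q ^ (2 * (i + 1) + 1) - 1)) =
      S.index * (e * q ^ ((m' + 1) ^ 2)) := by
    refine Nat.eq_of_mul_eq_mul_right (show 0 < q - 1 by omega) ?_
    calc _ = _ := by ring
      _ = _ := key
      _ = _ := by ring
  have hrd : r ∣ q ^ N * (Nat.card ↥D.range * ∏ i ∈ Finset.range m', (q ^ (2 * (i + 1) + 1) - 1)) :=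
    key' ▸ h.mul_right _
  rcases hr.dvd_mul.mp hrd with h1 | h1
  · obtain ⟨c, -, hc⟩ := FiniteField.card F p
    rw [hq, hc, ← pow_mul] at h1
    exact absurd ((Nat.prime_dvd_prime_iff_eq hr Fact.out).mp (hr.dvd_of_dvd_pow h1)) hrp
  rcases hr.dvd_mul.mp h1 with h2 | h2
  · have hpos : 0 < Nat.card ↥D.range := Nat.card_pos
    have := Nat.le_of_dvd hpos h2
    have := hr.two_le
    omega
  obtain ⟨i, hi, h3⟩ := (hr.prime.dvd_finsetProd_iff _).mp h2
  rw [Finset.mem_range] at hi
  exact ⟨2 * (i + 1) + 1, ⟨i + 1, rfl⟩, by omega, by omega, hq ▸ h3⟩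

end Cfsg.Agent.Lead.SympDerangement
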