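import Cfsg.Agent.Lib.Lead.PairSylow

set_option autoImplicit false

namespace Cfsg.Agent.Lead

open Equiv

/-- A Sylow 2-subgroup of the alternating group of degree at least 6 is its own normaliser. -/
theorem sylow_two_alt_normalizer {n : ℕ} (hn : 6 ≤ n) (T : Sylow 2 (alternatingGroup (Fin n)))
    (g : alternatingGroup (Fin n))
    (hg : ∀ x ∈ (T : Subgroup (alternatingGroup (Fin n))),
      g * x * g⁻¹ ∈ (T : Subgroup (alternatingGroup (Fin n)))) :
    g ∈ (T : Subgroup (alternatingGroup (Fin n))) := by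
  obtain ⟨S, hS⟩ := (T.2.map (alternatingGroup (Fin n)).subtype).exists_le_sylow
  have hle : (T : Subgroup _) ≤ (S : Subgroup (Perm (Fin n))).comap (alternatingGroup (Fin n)).subtype :=
    Subgroup.map_le_iff_le_comap.1 hS
  have heq : (S : Subgroup (Perm (Fin n))).comap (alternatingGroup (Fin n)).subtype = T :=
    T.3 (S.2.comap_of_injective _ Subtype.val_injective) hle
  rw [← heq, Subgroup.mem_comap]
  refine mem_sylow_two_perm_of_normalize_even hn S _ (fun x hx hsx => ?_)
  have hxA : x ∈ alternatingGroup (Fin n) := hsx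
  have h1 : (⟨x, hxA⟩ : alternatingGroup (Fin n)) ∈ (T : Subgroup _) := by
    rw [← heq]; exact hx
  have h2 := hg _ h1
  rw [← heq] at h2
  exact h2

/-- An odd-index subgroup contains a Sylow 2-subgroup. -/
theorem exists_sylow_two_le_of_odd_index {G : Type*} [Group G] [Finite G] (H : Subgroup G)
    (hH : Odd H.index) : ∃ T : Sylow 2 G, (T : Subgroup G) ≤ H := by
  obtain ⟨Q⟩ := (inferInstance : Nonempty (Sylow 2 H))
  refine ⟨Sylow.ofCard ((Q : Subgroup H).map H.subtype) ?_, ?_⟩
  · rw [Subgroup.card_subtype, Sylow.card_eq_multiplicity, ← H.card_mul_index,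
      Nat.factorization_mul Nat.card_pos.ne' H.index_ne_zero_of_finite, Finsupp.add_apply,
      Nat.factorization_eq_zero_of_not_dvd (n := H.index) hH.not_two_dvd_nat, add_zero]
  · exact Subgroup.map_subtype_le _

end Cfsg.Agent.Lead
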