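import Mathlib

/-!
Sylow 2-subgroups of symmetric groups through a pairing of the points, their self-normalisation
in symmetric and alternating groups.
-/

set_option autoImplicit false

namespace Cfsg.Agent.Lead

open Equiv

variable {m r n : ℕ} (e : (Fin m × Fin 2) ⊕ Fin r ≃ Fin n)

/-- The permutation of `(i, b)` to `(σ i, d i b)`. -/
def pairPerm (d : Fin m → Perm (Fin 2)) (σ : Perm (Fin m)) : Perm (Fin m × Fin 2) where
  toFun x := (σ x.1, d x.1 x.2)
  invFun x := (σ.symm x.1, (d (σ.symm x.1)).symm x.2)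
  left_inv x := by simp
  right_inv x := by simp

/-- Lift to the points, fixing the unpaired ones. -/
def pairLift (d : Fin m → Perm (Fin 2)) (σ : Perm (Fin m)) : Perm (Fin n) :=
  e.permCongr (Equiv.sumCongr (pairPerm d σ) (Equiv.refl _))

theorem pairLift_inl (d : Fin m → Perm (Fin 2)) (σ : Perm (Fin m)) (i : Fin m) (b : Fin 2) :
    pairLift e d σ (e (.inl (i, b))) = e (.inl (σ i, d i b)) := by
  simp [pairLift, pairPerm, Equiv.permCongr_apply]

theorem pairLift_inr (d : Fin m → Perm (Fin 2)) (σ : Perm (Fin m)) (c : Fin r) :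
    pairLift e d σ (e (.inr c)) = e (.inr c) := by
  simp [pairLift, Equiv.permCongr_apply]

theorem perm_ext_pairing {f g : Perm (Fin n)}
    (h1 : ∀ i b, f (e (.inl (i, b))) = g (e (.inl (i, b))))
    (h2 : ∀ c, f (e (.inr c)) = g (e (.inr c))) : f = g := by
  ext x
  obtain ⟨y, rfl⟩ := e.surjective x
  rcases y with ⟨i, b⟩ | c
  · rw [h1]
  · rw [h2]

theorem pairLift_mul (d d' : Fin m → Perm (Fin 2)) (σ σ' : Perm (Fin m)) :
    pairLift e d σ * pairLift e d' σ' = pairLift e (fun i => d (σ' i) * d' i) (σ * σ') := by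
  apply perm_ext_pairing e <;> intros <;> simp [pairLift_inl, pairLift_inr]

theorem pairLift_one : pairLift e (fun _ => 1) 1 = 1 := by
  apply perm_ext_pairing e <;> intros <;> simp [pairLift_inl, pairLift_inr]

theorem pairLift_inj {d d' : Fin m → Perm (Fin 2)} {σ σ' : Perm (Fin m)}
    (h : pairLift e d σ = pairLift e d' σ') : d = d' ∧ σ = σ' := by
  have key : ∀ i b, σ i = σ' i ∧ d i b = d' i b := by
    intro i b
    have := congrArg (fun f : Perm (Fin n) => f (e (.inl (i, b)))) h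
    simpa [pairLift_inl, Prod.ext_iff] using this
  exact ⟨funext fun i => Equiv.ext fun b => (key i b).2, Equiv.ext fun i => (key i 0).1⟩

/-- The stabiliser of the pairing inducing an element of `P` on the pairs. -/
def pairGroup (P : Subgroup (Perm (Fin m))) : Subgroup (Perm (Fin n)) where
  carrier := {g | ∃ d, ∃ σ ∈ P, g = pairLift e d σ}
  one_mem' := ⟨fun _ => 1, 1, P.one_mem, (pairLift_one e).symm⟩
  mul_mem' := by
    rintro _ _ ⟨d, σ, hσ, rfl⟩ ⟨d', σ', hσ', rfl⟩
    exact ⟨_, _, P.mul_mem hσ hσ', pairLift_mul e d d' σ σ'⟩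
  inv_mem' := by
    rintro _ ⟨d, σ, hσ, rfl⟩
    refine ⟨fun i => (d (σ⁻¹ i))⁻¹, σ⁻¹, P.inv_mem hσ, inv_eq_of_mul_eq_one_right ?_⟩
    rw [pairLift_mul, ← pairLift_one e]
    congr 1
    · funext i; simp
    · simp

theorem mem_pairGroup {P : Subgroup (Perm (Fin m))} {g : Perm (Fin n)} :
    g ∈ pairGroup e P ↔ ∃ d, ∃ σ ∈ P, g = pairLift e d σ := Iff.rfl

theorem pairGroup_mono {P Q : Subgroup (Perm (Fin m))} (h : P ≤ Q) :
    pairGroup e P ≤ pairGroup e Q := by
  rintro _ ⟨d, σ, hσ, rfl⟩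
  exact ⟨d, σ, h hσ, rfl⟩

theorem card_pairGroup (P : Subgroup (Perm (Fin m))) :
    Nat.card (pairGroup e P) = 2 ^ m * Nat.card P := by
  have hb : Function.Bijective (fun x : (Fin m → Perm (Fin 2)) × P =>
      (⟨pairLift e x.1 x.2, x.1, x.2, x.2.2, rfl⟩ : pairGroup e P)) := by
    refine ⟨?_, ?_⟩
    · rintro ⟨d, σ⟩ ⟨d', σ'⟩ h
      obtain ⟨h1, h2⟩ := pairLift_inj e (Subtype.ext_iff.1 h)
      exact Prod.ext h1 (Subtype.ext h2)
    · rintro ⟨_, d, σ, hσ, rfl⟩
      exact ⟨(d, ⟨σ, hσ⟩), rfl⟩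
  rw [← Nat.card_eq_of_bijective _ hb, Nat.card_prod, Nat.card_fun, Nat.card_perm, Nat.card_fin,
    Nat.card_fin, Nat.factorial_two]

/-- A set of points which is a union of pairs. -/
def PairClosed (s : Finset (Fin n)) : Prop :=
  (∀ i b b', e (.inl (i, b)) ∈ s → e (.inl (i, b')) ∈ s) ∧ ∀ c, e (.inr c) ∉ s

theorem pairClosed_support {P : Subgroup (Perm (Fin m))} {g : Perm (Fin n)}
    (hg : g ∈ pairGroup e P) : PairClosed e g.support := by
  obtain ⟨d, σ, -, rfl⟩ := hg
  refine ⟨fun i b b' hb => ?_, fun c => by simp [Perm.mem_support, pairLift_inr]⟩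
  rw [Perm.mem_support, pairLift_inl] at hb ⊢
  intro h
  apply hb
  simp only [EmbeddingLike.apply_eq_iff_eq, Sum.inl.injEq, Prod.mk.injEq] at h ⊢
  refine ⟨h.1, ?_⟩
  have key : ∀ f : Perm (Fin 2), ∀ x y : Fin 2, f y = y → f x = x := by decide
  exact key (d i) b b' h.2

theorem PairClosed.inter {s t : Finset (Fin n)} (hs : PairClosed e s) (ht : PairClosed e t) :
    PairClosed e (s ∩ t) := by
  refine ⟨fun i b b' hb => ?_, fun c hc => hs.2 c (Finset.mem_inter.1 hc).1⟩
  rw [Finset.mem_inter] at hb ⊢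
  exact ⟨hs.1 i b b' hb.1, ht.1 i b b' hb.2⟩

/-- The `i`-th pair. -/
def pairSet (i : Fin m) : Finset (Fin n) := {e (.inl (i, 0)), e (.inl (i, 1))}

theorem mem_pairSet {i : Fin m} {x : Fin n} :
    x ∈ pairSet e i ↔ ∃ b, x = e (.inl (i, b)) := by
  simp [pairSet, Fin.exists_fin_two]

theorem disjoint_pairSet {i j : Fin m} (h : i ≠ j) : Disjoint (pairSet e i) (pairSet e j) := by
  rw [Finset.disjoint_left]
  intro x hx hy
  obtain ⟨b, rfl⟩ := (mem_pairSet e).1 hx
  obtain ⟨c, hc⟩ := (mem_pairSet e).1 hy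
  simp only [EmbeddingLike.apply_eq_iff_eq, Sum.inl.injEq, Prod.mk.injEq] at hc
  exact h hc.1

/-- The transposition of the `i`-th pair. -/
def pairSwap (i : Fin m) : Perm (Fin n) := swap (e (.inl (i, 0))) (e (.inl (i, 1)))

theorem pairSwap_mem (P : Subgroup (Perm (Fin m))) (i : Fin m) :
    pairSwap e i ∈ pairGroup e P := by
  refine ⟨fun j => if j = i then swap 0 1 else 1, 1, P.one_mem, ?_⟩
  apply perm_ext_pairing e
  · intro j b
    rw [pairLift_inl]
    rcases eq_or_ne j i with rfl | hj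
    · fin_cases b <;> simp [pairSwap]
    · rw [if_neg hj, pairSwap, swap_apply_of_ne_of_ne] <;> simp [hj]
  · intro c
    rw [pairLift_inr, pairSwap, swap_apply_of_ne_of_ne] <;> simp

theorem support_pairSwap (i : Fin m) : (pairSwap e i).support = pairSet e i :=
  Perm.support_swap (by simp)

theorem sign_pairSwap (i : Fin m) : Perm.sign (pairSwap e i) = -1 :=
  Perm.sign_swap (by simp)

theorem isSwap_pairSwap (i : Fin m) : (pairSwap e i).IsSwap :=
  ⟨_, _, by simp, rfl⟩

theorem support_two_pairSwap {i j : Fin m} (h : i ≠ j) :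
    (pairSwap e i * pairSwap e j).support = pairSet e i ∪ pairSet e j := by
  have hd : Perm.Disjoint (pairSwap e i) (pairSwap e j) := by
    rw [Perm.disjoint_iff_disjoint_support, support_pairSwap, support_pairSwap]
    exact disjoint_pairSet e h
  rw [hd.support_mul, support_pairSwap, support_pairSwap]

/-- A permutation mapping every pair to a union of pairs stabilises the pairing. -/
theorem exists_pairLift_of_maps (hr : r ≤ 1) (g : Perm (Fin n))
    (hg : ∀ i, PairClosed e ((pairSet e i).map g.toEmbedding)) :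
    ∃ d σ, g = pairLift e d σ := by
  have h0 : ∀ i b, ∃ j b', g (e (.inl (i, b))) = e (.inl (j, b')) := by
    intro i b
    obtain ⟨y, hy⟩ := e.surjective (g (e (.inl (i, b))))
    rcases y with ⟨j, b'⟩ | c
    · exact ⟨j, b', hy.symm⟩
    · refine absurd ?_ ((hg i).2 c)
      rw [Finset.mem_map]
      exact ⟨_, (mem_pairSet e).2 ⟨b, rfl⟩, hy.symm⟩
  choose t s hts using h0
  have hsame : ∀ i b, t i b = t i 0 := by
    intro i b
    have hmem : e (.inl (t i 0, s i 0 + 1)) ∈ (pairSet e i).map g.toEmbedding := by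
      refine (hg i).1 (t i 0) (s i 0) _ ?_
      rw [Finset.mem_map]
      exact ⟨_, (mem_pairSet e).2 ⟨0, rfl⟩, hts i 0⟩
    rw [Finset.mem_map] at hmem
    obtain ⟨x, hx, hgx⟩ := hmem
    obtain ⟨c, rfl⟩ := (mem_pairSet e).1 hx
    simp only [Equiv.coe_toEmbedding, hts, EmbeddingLike.apply_eq_iff_eq, Sum.inl.injEq,
      Prod.mk.injEq] at hgx
    have hc : c ≠ 0 := by
      rintro rfl
      have key : ∀ x : Fin 2, x ≠ x + 1 := by decide
      exact key _ hgx.2
    rcases eq_or_ne b 0 with rfl | hb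
    · rfl
    · have : b = c := by omega
      rw [this, hgx.1]
  have hsinj : ∀ i, Function.Injective (s i) := by
    intro i b b' hbb
    have h1 : g (e (.inl (i, b))) = g (e (.inl (i, b'))) := by
      rw [hts, hts, hsame i b, hsame i b', hbb]
    simpa using g.injective h1
  have htinj : Function.Injective (fun i => t i 0) := by
    intro i j hij
    obtain ⟨b, hb⟩ := Finite.surjective_of_injective (hsinj j) (s i 0)
    have h1 : g (e (.inl (i, 0))) = g (e (.inl (j, b))) := by
      rw [hts, hts, hsame j b, hb]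
      simp only at hij
      rw [hij]
    simpa using congrArg Prod.fst (Sum.inl.inj (e.injective (g.injective h1)))
  refine ⟨fun i => Equiv.ofBijective (s i) (Finite.injective_iff_bijective.1 (hsinj i)),
    Equiv.ofBijective _ (Finite.injective_iff_bijective.1 htinj), ?_⟩
  apply perm_ext_pairing e
  · intro i b
    rw [pairLift_inl, hts, hsame i b]
    rfl
  · intro c
    rw [pairLift_inr]
    obtain ⟨y, hy⟩ := e.surjective (g (e (.inr c)))
    rcases y with ⟨j, b⟩ | c'
    · obtain ⟨i, hi⟩ := Finite.surjective_of_injective htinj j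
      obtain ⟨b', hb'⟩ := Finite.surjective_of_injective (hsinj i) b
      simp only at hi
      have h1 : g (e (.inl (i, b'))) = g (e (.inr c)) := by
        rw [hts, hsame i b', hi, hb', hy]
      simp at h1
    · rw [← hy, show c' = c from Fin.ext (by omega)]

/-- The component on the pairs of a conjugate. -/
theorem conj_component {d d' d₀ : Fin m → Perm (Fin 2)} {σ τ ρ : Perm (Fin m)}
    (h : pairLift e d τ * pairLift e d' σ * (pairLift e d τ)⁻¹ = pairLift e d₀ ρ) :
    ρ = τ * σ * τ⁻¹ := by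
  have h' := eq_mul_of_mul_inv_eq h
  rw [pairLift_mul, pairLift_mul] at h'
  have := (pairLift_inj e h').2
  rw [this]
  group

theorem pairing_exists (n : ℕ) :
    Nonempty ((Fin (n / 2) × Fin 2) ⊕ Fin (n % 2) ≃ Fin n) :=
  ⟨Fintype.equivFinOfCardEq (by simp; omega)⟩

theorem factorization_two_factorial (n : ℕ) :
    n.factorial.factorization 2 = n / 2 + (n / 2).factorial.factorization 2 := by
  rw [Nat.factorization_def _ Nat.prime_two, Nat.factorization_def _ Nat.prime_two]
  conv_lhs => rw [← Nat.div_add_mod n 2]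
  rw [padicValNat_factorial_mul_add _ (Nat.mod_lt n two_pos), padicValNat_factorial_mul, add_comm]

/-- A Sylow 2-subgroup of the symmetric group compatible with a pairing. -/
noncomputable def pairSylow (e : (Fin (n / 2) × Fin 2) ⊕ Fin (n % 2) ≃ Fin n)
    (P : Sylow 2 (Perm (Fin (n / 2)))) : Sylow 2 (Perm (Fin n)) :=
  Sylow.ofCard (pairGroup e P) (by
    rw [card_pairGroup, Sylow.card_eq_multiplicity, Nat.card_perm, Nat.card_perm, Nat.card_fin,
      Nat.card_fin, factorization_two_factorial n, pow_add])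

theorem coe_pairSylow (e : (Fin (n / 2) × Fin 2) ⊕ Fin (n % 2) ≃ Fin n)
    (P : Sylow 2 (Perm (Fin (n / 2)))) :
    (pairSylow e P : Subgroup (Perm (Fin n))) = pairGroup e P := rfl

/-- Every Sylow 2-subgroup is conjugate to the one of a pairing. -/
theorem exists_conj_pairSylow (S : Sylow 2 (Perm (Fin n))) :
    ∃ (e : (Fin (n / 2) × Fin 2) ⊕ Fin (n % 2) ≃ Fin n) (P : Sylow 2 (Perm (Fin (n / 2))))
      (h : Perm (Fin n)),
      ∀ x, x ∈ (S : Subgroup (Perm (Fin n))) ↔ h⁻¹ * x * h ∈ pairGroup e P := by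
  obtain ⟨e⟩ := pairing_exists n
  obtain ⟨P⟩ := (inferInstance : Nonempty (Sylow 2 (Perm (Fin (n / 2)))))
  obtain ⟨h, hh⟩ := MulAction.exists_smul_eq (Perm (Fin n)) (pairSylow e P) S
  refine ⟨e, P, h, fun x => ?_⟩
  rw [← hh, Sylow.coe_subgroup_smul, Subgroup.mem_pointwise_smul_iff_inv_smul_mem,
    coe_pairSylow, ← map_inv, MulAut.smul_def, MulAut.conj_apply, inv_inv]

/-- A Sylow 2-subgroup of a symmetric group is its own normaliser. -/
theorem mem_sylow_two_perm_of_normalize : ∀ (n : ℕ) (S : Sylow 2 (Perm (Fin n))) (g : Perm (Fin n)),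
    (∀ x ∈ (S : Subgroup (Perm (Fin n))), g * x * g⁻¹ ∈ (S : Subgroup (Perm (Fin n)))) →
    g ∈ (S : Subgroup (Perm (Fin n))) := by
  intro n
  induction n using Nat.strong_induction_on with
  | _ n ih =>
    intro S g hg
    obtain ⟨e, P, h, hS⟩ := exists_conj_pairSylow S
    rw [hS]
    set k := h⁻¹ * g * h
    have hk : ∀ x ∈ pairGroup e P, k * x * k⁻¹ ∈ pairGroup e P := by
      intro x hx
      have h1 := (hS _).1 (hg (h * x * h⁻¹) ((hS _).2 (by simpa [mul_assoc] using hx)))
      simpa [k, mul_assoc] using h1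
    obtain ⟨d, τ, hk'⟩ := exists_pairLift_of_maps e (by omega) k (fun i => by
      have := pairClosed_support e (hk _ (pairSwap_mem e P i))
      rwa [Perm.support_conj, support_pairSwap] at this)
    rcases Nat.eq_zero_or_pos (n / 2) with h0 | h0
    · refine ⟨d, τ, ?_, hk'⟩
      have : τ = 1 := Equiv.ext fun i => absurd i.2 (by omega)
      rw [this]; exact one_mem _
    · refine ⟨d, τ, ih (n / 2) (by omega) P τ (fun σ hσ => ?_), hk'⟩
      obtain ⟨d₀, ρ, hρ, heq⟩ := hk (pairLift e (fun _ => 1) σ) ⟨_, σ, hσ, rfl⟩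
      rw [hk'] at heq
      rw [← conj_component e heq]
      exact hρ

/-- Even part of a Sylow 2-subgroup is self-normalising in the alternating group, degree ≥ 6. -/
theorem mem_sylow_two_perm_of_normalize_even (hn : 6 ≤ n) (S : Sylow 2 (Perm (Fin n)))
    (g : Perm (Fin n))
    (hg : ∀ x ∈ (S : Subgroup (Perm (Fin n))), Perm.sign x = 1 →
      g * x * g⁻¹ ∈ (S : Subgroup (Perm (Fin n)))) :
    g ∈ (S : Subgroup (Perm (Fin n))) := by
  obtain ⟨e, P, h, hS⟩ := exists_conj_pairSylow S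
  rw [hS]
  set k := h⁻¹ * g * h
  have hk : ∀ x ∈ pairGroup e P, Perm.sign x = 1 → k * x * k⁻¹ ∈ pairGroup e P := by
    intro x hx hsx
    have h1 := (hS _).1 (hg (h * x * h⁻¹) ((hS _).2 (by simpa [mul_assoc] using hx))
      (by simp [hsx, mul_comm]))
    simpa [k, mul_assoc] using h1
  have hpc : ∀ i j, i ≠ j →
      PairClosed e ((pairSet e i ∪ pairSet e j).map k.toEmbedding) := by
    intro i j hij
    have := pairClosed_support e (hk _ (mul_mem (pairSwap_mem e P i) (pairSwap_mem e P j))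
      (by simp [sign_pairSwap]))
    rwa [Perm.support_conj, support_two_pairSwap e hij] at this
  obtain ⟨d, τ, hk'⟩ := exists_pairLift_of_maps e (by omega) k (fun i => by
    obtain ⟨j, hj, l, hl, hjl⟩ : ∃ j, i ≠ j ∧ ∃ l, i ≠ l ∧ j ≠ l := by
      have h3 : 2 < Fintype.card (Fin (n / 2)) := by simp; omega
      have h4 : 1 < ((Finset.univ : Finset (Fin (n / 2))).erase i).card := by
        rw [Finset.card_erase_of_mem (Finset.mem_univ i), Finset.card_univ]; omega
      obtain ⟨j, hj, l, hl, hjl⟩ := Finset.one_lt_card.1 h4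
      simp only [Finset.mem_erase] at hj hl
      exact ⟨j, hj.1.symm, l, hl.1.symm, hjl⟩
    have hi : pairSet e i = (pairSet e i ∪ pairSet e j) ∩ (pairSet e i ∪ pairSet e l) := by
      rw [← Finset.union_inter_distrib_left,
        Finset.disjoint_iff_inter_eq_empty.1 (disjoint_pairSet e hjl), Finset.union_empty]
    rw [hi, Finset.map_inter]
    exact (hpc i j hj).inter e (hpc i l hl))
  refine ⟨d, τ, mem_sylow_two_perm_of_normalize _ P τ (fun σ hσ => ?_), hk'⟩
  obtain ⟨x, hx, hsx, d₁, hx'⟩ : ∃ x, x ∈ pairGroup e P ∧ Perm.sign x = 1 ∧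
      ∃ d₁, x = pairLift e d₁ σ := by
    rcases Int.units_eq_one_or (Perm.sign (pairLift e (fun _ => 1) σ)) with h1 | h1
    · exact ⟨_, ⟨_, σ, hσ, rfl⟩, h1, _, rfl⟩
    · obtain ⟨d₂, ρ, -, h2⟩ := pairSwap_mem e (⊥ : Subgroup (Perm (Fin (n / 2)))) ⟨0, by omega⟩
      have hρ1 : ρ = 1 := by
        have hm : pairSwap e ⟨0, by omega⟩ ∈ pairGroup e (⊥ : Subgroup (Perm (Fin (n / 2)))) :=
          pairSwap_mem e _ _
        obtain ⟨d₃, ρ₃, hρ₃, h3⟩ := hm
        rw [(pairLift_inj e (h2.symm.trans h3)).2]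
        exact Subgroup.mem_bot.1 hρ₃
      refine ⟨pairSwap e ⟨0, by omega⟩ * pairLift e (fun _ => 1) σ,
        mul_mem (pairSwap_mem e P _) ⟨_, σ, hσ, rfl⟩, by simp [sign_pairSwap, h1],
        fun i => d₂ (σ i) * 1, ?_⟩
      rw [h2, hρ1, pairLift_mul, one_mul]
  obtain ⟨d₀, ρ, hρ, heq⟩ := hk x hx hsx
  rw [hk', hx'] at heq
  rw [← conj_component e heq]
  exact hρ

end Cfsg.Agent.Lead
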