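import Mathlib
import Cfsg.Prelude.Def_ClassicalGeometry
import Cfsg.Agent.Lib.Small.Hermitian

/-!
Classification of alternating, Hermitian and symmetric forms; Witt's lemma for alternating forms.
-/

set_option autoImplicit false

namespace Cfsg.Agent.Lead.FormsClass

open Matrix Module

universe u v

variable {F : Type u} [Field F]

/-- Extend an isometry between proper subspaces by one dimension. -/
theorem witt_step {V : Type v} [AddCommGroup V] [Module F V] [FiniteDimensional F V]
    (B : LinearMap.BilinForm F V) (hB : B.Nondegenerate) (hA : B.IsAlt) (X Y : Submodule F V)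
    (φ : X ≃ₗ[F] Y) (hφ : ∀ x x' : X, B (φ x : V) (φ x' : V) = B (x : V) (x' : V))
    (v : V) (hv : v ∉ X) :
    ∃ w : V, w ∉ Y ∧ ∀ x : X, B w (φ x : V) = B v (x : V) := by
  obtain ⟨ψ', hψ'⟩ := LinearMap.exists_extend ((B v).comp (X.subtype.comp φ.symm.toLinearMap))
  obtain ⟨w₀, hw₀⟩ := (B.toDual hB).surjective ψ'
  have h0 : ∀ x : X, B w₀ (φ x : V) = B v (x : V) := fun x => by
    have h1 : B w₀ (φ x : V) = ψ' (φ x : V) := by
      rw [← hw₀, LinearMap.BilinForm.toDual_def]
    have h2 := LinearMap.congr_fun hψ' (φ x)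
    rw [h1]
    simpa using h2
  by_contra hno
  push Not at hno
  have hshift : ∀ k ∈ B.orthogonal Y, k ∈ Y := by
    intro k hk
    have hw : w₀ ∈ Y := by
      by_contra h
      obtain ⟨x, hx⟩ := hno w₀ h
      exact hx (h0 x)
    have hz : ∀ x : X, B k (φ x : V) = 0 := fun x => by
      have := hk (φ x : V) (φ x).2
      exact hA.isRefl _ _ this
    have : w₀ + k ∈ Y := by
      by_contra h
      obtain ⟨x, hx⟩ := hno (w₀ + k) h
      exact hx (by rw [map_add, LinearMap.add_apply, h0, hz, add_zero])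
    simpa using Y.sub_mem this hw
  have hw : w₀ ∈ Y := by
    by_contra h
    obtain ⟨x, hx⟩ := hno w₀ h
    exact hx (h0 x)
  set x₀ : X := φ.symm ⟨w₀, hw⟩ with hx₀
  have hd : v - (x₀ : V) ∈ B.orthogonal X := fun x hx => by
    refine hA.isRefl _ _ ?_
    have := h0 ⟨x, hx⟩
    rw [show w₀ = (φ x₀ : V) by rw [hx₀, LinearEquiv.apply_symm_apply], hφ] at this
    rw [map_sub, LinearMap.sub_apply, this, sub_self]
  have hle : B.orthogonal X ≤ X := by
    have hmap : (B.orthogonal Y).comap Y.subtype ≤ ((B.orthogonal X).comap X.subtype).map φ.toLinearMap := by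
      intro y hy
      refine ⟨φ.symm y, fun x hx => ?_, φ.apply_symm_apply y⟩
      have := hy (φ ⟨x, hx⟩ : V) (φ ⟨x, hx⟩).2
      show B x ((φ.symm y : X) : V) = 0
      rw [← hφ ⟨x, hx⟩ (φ.symm y), LinearEquiv.apply_symm_apply]
      exact this
    have h1 : finrank F ((B.orthogonal Y).comap Y.subtype) = finrank F (B.orthogonal Y) :=
      (Submodule.comapSubtypeEquivOfLe (fun k hk => hshift k hk)).finrank_eq
    have h2 := Submodule.finrank_mono hmap
    rw [LinearEquiv.finrank_map_eq, h1, LinearMap.BilinForm.finrank_orthogonal hB,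
      ← φ.finrank_eq, ← LinearMap.BilinForm.finrank_orthogonal hB X] at h2
    have h3 : finrank F ((B.orthogonal X).comap X.subtype) =
        finrank F ↥(X ⊓ B.orthogonal X) := by
      rw [← Submodule.map_comap_subtype, Submodule.finrank_map_subtype_eq]
    rw [h3] at h2
    exact inf_eq_right.mp (Submodule.eq_of_le_of_finrank_le inf_le_right h2)
  exact hv (by simpa using X.add_mem (hle hd) x₀.2)

theorem witt_alt {V : Type v} [AddCommGroup V] [Module F V] [FiniteDimensional F V]
    (B : LinearMap.BilinForm F V) (hB : B.Nondegenerate) (hA : B.IsAlt) :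
    ∀ (d : ℕ) (X Y : Submodule F V), finrank F V - finrank F X ≤ d → ∀ (φ : X ≃ₗ[F] Y),
      (∀ x x' : X, B (φ x : V) (φ x' : V) = B (x : V) (x' : V)) →
      ∃ g : V ≃ₗ[F] V, (∀ u v : V, B (g u) (g v) = B u v) ∧ ∀ x : X, g (x : V) = (φ x : V) := by
  intro d
  induction d with
  | zero =>
    intro X Y hd φ hφ
    have hX : X = ⊤ := Submodule.eq_top_of_finrank_eq (le_antisymm X.finrank_le (by omega))
    have hY : Y = ⊤ := Submodule.eq_top_of_finrank_eq (by rw [← φ.finrank_eq, hX, finrank_top])
    refine ⟨(LinearEquiv.ofTop X hX).symm.trans (φ.trans (LinearEquiv.ofTop Y hY)), fun u v => ?_,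
      fun x => ?_⟩
    · exact hφ _ _
    · rfl
  | succ d ih =>
    intro X Y hd φ hφ
    by_cases hX : X = ⊤
    · exact ih X Y (by rw [hX, finrank_top]; omega) φ hφ
    obtain ⟨v, hv⟩ : ∃ v, v ∉ X := by
      by_contra h
      push Not at h
      exact hX (eq_top_iff.mpr fun z _ => h z)
    obtain ⟨w, hw, hwB⟩ := witt_step B hB hA X Y φ hφ v hv
    set L : X × F →ₗ[F] V := LinearMap.coprod X.subtype (LinearMap.toSpanSingleton F V v)
    set M : X × F →ₗ[F] V :=
      LinearMap.coprod (Y.subtype.comp φ.toLinearMap) (LinearMap.toSpanSingleton F V w)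
    have hL : Function.Injective L := by
      rw [← LinearMap.ker_eq_bot, LinearMap.ker_eq_bot']
      rintro ⟨x, t⟩ h
      have h' : (x : V) + t • v = 0 := by simpa [L] using h
      by_cases ht : t = 0
      · subst ht; simp at h'; simp [h']
      · exact absurd (by
          rw [show v = t⁻¹ • (-(x : V)) by
            rw [← eq_neg_of_add_eq_zero_right h', inv_smul_smul₀ ht]]
          exact X.smul_mem _ (X.neg_mem x.2)) hv
    have hM : Function.Injective M := by
      rw [← LinearMap.ker_eq_bot, LinearMap.ker_eq_bot']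
      rintro ⟨x, t⟩ h
      have h' : (φ x : V) + t • w = 0 := by simpa [M] using h
      by_cases ht : t = 0
      · subst ht; simp at h'; simp [h']
      · exact absurd (by
          rw [show w = t⁻¹ • (-(φ x : V)) by
            rw [← eq_neg_of_add_eq_zero_right h', inv_smul_smul₀ ht]]
          exact Y.smul_mem _ (Y.neg_mem (φ x).2)) hw
    set φ' := (LinearEquiv.ofInjective L hL).symm.trans (LinearEquiv.ofInjective M hM)
    have hφ' : ∀ a b : LinearMap.range L,
        B (φ' a : V) (φ' b : V) = B (a : V) (b : V) := by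
      intro a b
      obtain ⟨⟨x, t⟩, rfl⟩ := (LinearEquiv.ofInjective L hL).surjective a
      obtain ⟨⟨x', t'⟩, rfl⟩ := (LinearEquiv.ofInjective L hL).surjective b
      simp only [φ', LinearEquiv.trans_apply, LinearEquiv.symm_apply_apply,
        LinearEquiv.ofInjective_apply]
      have e1 : B (φ x : V) w = B (x : V) v := by
        rw [← hA.neg_eq w, ← hA.neg_eq v, hwB]
      simp [L, M, hφ, hwB, e1, hA.self_eq_zero]
    have hlt : finrank F X < finrank F (LinearMap.range L) := by
      rw [LinearMap.finrank_range_of_inj hL, Module.finrank_prod, Module.finrank_self]; omega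
    obtain ⟨g, hg, hgx⟩ := ih _ _ (by omega) φ' hφ'
    refine ⟨g, hg, fun x => ?_⟩
    have := hgx (LinearEquiv.ofInjective L hL (x, 0))
    simpa [φ', L, M] using this

theorem alt_basis : ∀ (d : ℕ) {V : Type v} [AddCommGroup V] [Module F V] [FiniteDimensional F V]
    (B : LinearMap.BilinForm F V), B.IsAlt → finrank F V = d →
    ∃ (m k : ℕ) (b : Module.Basis ((Fin m ⊕ Fin m) ⊕ Fin k) F V),
      (∀ i j : Fin m, B (b (Sum.inl (Sum.inl i))) (b (Sum.inl (Sum.inr j))) = if i = j then 1 else 0) ∧
      (∀ i j : Fin m, B (b (Sum.inl (Sum.inl i))) (b (Sum.inl (Sum.inl j))) = 0) ∧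
      (∀ i j : Fin m, B (b (Sum.inl (Sum.inr i))) (b (Sum.inl (Sum.inr j))) = 0) ∧
      (∀ (j : Fin k) (v : V), B (b (Sum.inr j)) v = 0) := by
  intro d
  induction d using Nat.strong_induction_on with
  | _ d ih =>
  intro V _ _ _ B hA hd
  by_cases hzero : B = 0
  · exact ⟨0, finrank F V, (Module.finBasis F V).reindex (Equiv.emptySum _ _).symm,
      fun i => i.elim0, fun i => i.elim0, fun i => i.elim0, fun j v => by simp [hzero]⟩
  obtain ⟨e, f, hef⟩ : ∃ e f, B e f = 1 := by
    obtain ⟨e, he⟩ : ∃ e, B e ≠ 0 := by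
      by_contra h; push Not at h; exact hzero (LinearMap.ext h)
    obtain ⟨f, hf⟩ : ∃ f, B e f ≠ 0 := by
      by_contra h; push Not at h; exact he (LinearMap.ext h)
    exact ⟨e, (B e f)⁻¹ • f, by rw [map_smul, smul_eq_mul, inv_mul_cancel₀ hf]⟩
  have hfe : B f e = -1 := by rw [← hA.neg_eq e f, hef]
  set W : Submodule F V := LinearMap.ker (B e) ⊓ LinearMap.ker (B f)
  have hWmem : ∀ w : W, B e w = 0 ∧ B f w = 0 := fun w => ⟨w.2.1, w.2.2⟩
  have hWmem' : ∀ w : W, B (w : V) e = 0 ∧ B (w : V) f = 0 := fun w =>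
    ⟨hA.isRefl _ _ (hWmem w).1, hA.isRefl _ _ (hWmem w).2⟩
  let Φ : ((F × F) × W) ≃ₗ[F] V :=
    { toFun := fun p => p.1.1 • e + p.1.2 • f + (p.2 : V)
      map_add' := fun p q => by simp [add_smul]; abel
      map_smul' := fun c p => by simp [smul_smul]
      invFun := fun v => ((-B f v, B e v), ⟨v + B f v • e - B e v • f, by
        refine ⟨?_, ?_⟩
        · show B e (v + B f v • e - B e v • f) = 0
          simp [hef, hA.self_eq_zero]
        · show B f (v + B f v • e - B e v • f) = 0
          simp [hfe, hA.self_eq_zero]⟩)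
      left_inv := fun p => by
        obtain ⟨⟨a, b⟩, w⟩ := p
        refine Prod.ext (Prod.ext ?_ ?_) (Subtype.ext ?_)
        · simp [hfe, hA.self_eq_zero, (hWmem w).2]
        · simp [hef, hA.self_eq_zero, (hWmem w).1]
        · simp [hef, hfe, hA.self_eq_zero, (hWmem w).1, (hWmem w).2]
          abel
      right_inv := fun v => by simp }
  have hdim : finrank F W + 2 = d := by
    rw [← hd, ← Φ.finrank_eq, Module.finrank_prod, Module.finrank_prod, Module.finrank_self]
    omega
  obtain ⟨m, k, b, h1, h2, h3, h4⟩ := ih (finrank F W) (by omega)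
    (LinearMap.BilinForm.restrict B W) (fun x => hA (x : V)) rfl
  let E : ((Fin (m + 1) ⊕ Fin (m + 1)) ⊕ Fin k) → V := Sum.elim (Sum.elim
    (Fin.cons e fun i => (b (.inl (.inl i)) : V)) (Fin.cons f fun i => (b (.inl (.inr i)) : V)))
    fun j => (b (.inr j) : V)
  have hspan : ⊤ ≤ Submodule.span F (Set.range E) := by
    intro v _
    rw [← Φ.apply_symm_apply v]
    generalize Φ.symm v = p
    have he : e ∈ Submodule.span F (Set.range E) := Submodule.subset_span ⟨.inl (.inl 0), rfl⟩
    have hf : f ∈ Submodule.span F (Set.range E) := Submodule.subset_span ⟨.inl (.inr 0), rfl⟩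
    have hw : (p.2 : V) ∈ Submodule.span F (Set.range E) := by
      rw [← congrArg Subtype.val (b.sum_repr p.2), Submodule.coe_sum]
      refine Submodule.sum_mem _ fun i _ => ?_
      rw [Submodule.coe_smul]
      refine Submodule.smul_mem _ _ (Submodule.subset_span ?_)
      rcases i with (i | i) | i
      · exact ⟨.inl (.inl i.succ), rfl⟩
      · exact ⟨.inl (.inr i.succ), rfl⟩
      · exact ⟨.inr i, rfl⟩
    exact add_mem (add_mem (Submodule.smul_mem _ _ he) (Submodule.smul_mem _ _ hf)) hw
  have hcard : Fintype.card ((Fin (m + 1) ⊕ Fin (m + 1)) ⊕ Fin k) = finrank F V := by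
    have := Module.finrank_eq_card_basis b
    simp at this ⊢
    omega
  refine ⟨m + 1, k, basisOfTopLeSpanOfCardEqFinrank E hspan hcard, ?_, ?_, ?_, ?_⟩
  all_goals simp only [coe_basisOfTopLeSpanOfCardEqFinrank]
  · intro i j
    cases i using Fin.cases <;> cases j using Fin.cases <;>
      simp [E, hef, (hWmem _).1, (hWmem' _).2, Fin.succ_ne_zero, (Fin.succ_ne_zero _).symm]
    exact h1 _ _
  · intro i j
    cases i using Fin.cases <;> cases j using Fin.cases <;>
      simp [E, hA.self_eq_zero, (hWmem _).1, (hWmem' _).1]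
    exact h2 _ _
  · intro i j
    cases i using Fin.cases <;> cases j using Fin.cases <;>
      simp [E, hA.self_eq_zero, (hWmem _).2, (hWmem' _).2]
    exact h3 _ _
  · intro j v
    rw [← Φ.apply_symm_apply v]
    show B (E (.inr j)) ((Φ.symm v).1.1 • e + (Φ.symm v).1.2 • f + ((Φ.symm v).2 : V)) = 0
    simp only [E, Sum.elim_inr, map_add, map_smul, (hWmem' _).1, (hWmem' _).2, smul_zero, zero_add]
    exact h4 j (Φ.symm v).2

theorem herm_basis [Finite F] {V : Type v} [AddCommGroup V] [Module F V] [FiniteDimensional F V]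
    (σ : F →+* F) (hσ : σ ≠ RingHom.id F) (hσ2 : ∀ a : F, σ (σ a) = a) (B : V →ₛₗ[σ] V →ₗ[F] F)
    (hS : B.IsSymm) (hB : B.Nondegenerate) :
    ∃ b : Module.Basis (Fin (Module.finrank F V)) F V, ∀ i j, B (b i) (b j) = if i = j then 1 else 0 := by
  classical
  haveI := Fintype.ofFinite F
  obtain ⟨a, ha⟩ : ∃ a, σ a ≠ a := by
    by_contra h; push Not at h; exact hσ (RingHom.ext h)
  set K : Subfield F := σ.eqLocusField (RingHom.id F) with hK
  have hfix : ∀ {x : F}, x ∈ K ↔ σ x = x := Iff.rfl
  set q := Fintype.card K with hq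
  have hdec : ∀ x : F, (x - σ x) / (a - σ a) ∈ K ∧ x - (x - σ x) / (a - σ a) * a ∈ K := fun x => by
    have hd : a - σ a ≠ 0 := sub_ne_zero.mpr (Ne.symm ha)
    have h1 : (x - σ x) / (a - σ a) ∈ K := by
      rw [hfix, map_div₀, map_sub, map_sub, hσ2, hσ2, ← neg_sub x, ← neg_sub a, neg_div_neg_eq]
    refine ⟨h1, ?_⟩
    rw [hfix, map_sub, map_mul, hfix.mp h1]
    field_simp
    ring
  let e : K × K ≃ F :=
    { toFun := fun p => (p.1 : F) + (p.2 : F) * a
      invFun := fun x => (⟨_, (hdec x).2⟩, ⟨_, (hdec x).1⟩)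
      left_inv := fun p => by
        have hd : a - σ a ≠ 0 := sub_ne_zero.mpr (Ne.symm ha)
        have h1 : ((p.1 : F) + p.2 * a - σ ((p.1 : F) + p.2 * a)) / (a - σ a) = p.2 := by
          rw [map_add, map_mul, hfix.mp p.1.2, hfix.mp p.2.2]
          field_simp
          ring
        refine Prod.ext (Subtype.ext ?_) (Subtype.ext h1)
        show (p.1 : F) + p.2 * a - ((p.1 : F) + p.2 * a - σ ((p.1 : F) + p.2 * a)) / (a - σ a) * a = p.1
        rw [h1]; ring
      right_inv := fun x => by simp }
  have hF : Fintype.card F = q ^ 2 := by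
    rw [← Fintype.card_congr e, Fintype.card_prod, pow_two]
  obtain ⟨p, hp⟩ := CharP.exists F
  obtain ⟨f, hpp, hcard⟩ := FiniteField.card F p
  haveI : Fact p.Prime := ⟨hpp⟩
  obtain ⟨l, -, hl⟩ : ∃ l ≤ (f : ℕ), q = p ^ l :=
    (Nat.dvd_prime_pow hpp).mp (hcard ▸ hF ▸ dvd_pow_self q two_ne_zero)
  have hKq : ∀ x : F, x ∈ K → x ^ q = x := fun x hx => by
    have := congrArg Subtype.val (FiniteField.pow_card (⟨x, hx⟩ : K))
    simpa using this
  have hsub : ∀ u v : F, (u + v) ^ q = u ^ q + v ^ q := fun u v => hl ▸ add_pow_char_pow ..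
  have hsub' : ∀ u v : F, (u - v) ^ q = u ^ q - v ^ q := fun u v => hl ▸ sub_pow_char_pow ..
  have haq : a ^ q = σ a := by
    have hq1 : 1 < q := Fintype.one_lt_card
    have hs : a + σ a ∈ K := by rw [hfix, map_add, hσ2, add_comm]
    have ht : a * σ a ∈ K := by rw [hfix, map_mul, hσ2, mul_comm]
    have h := congrArg (· ^ q) (show a * a - (a + σ a) * a + a * σ a = 0 by ring)
    simp only [hsub, hsub', mul_pow, hKq _ hs, zero_pow (by omega : q ≠ 0)] at h
    rw [← mul_pow a (σ a), hKq _ ht] at h
    have hne : a ^ q ≠ a := fun hne => by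
      have hall : ∀ x : F, x ^ q = x := fun x => by
        rw [← e.apply_symm_apply x]
        show ((e.symm x).1.1 + (e.symm x).2.1 * a) ^ q = (e.symm x).1.1 + (e.symm x).2.1 * a
        rw [hsub, mul_pow, hne, hKq _ (e.symm x).1.2, hKq _ (e.symm x).2.2]
      have hP : (Polynomial.X ^ q - Polynomial.X : Polynomial F) ≠ 0 :=
        FiniteField.X_pow_card_sub_X_ne_zero F hq1
      have hsub : (Finset.univ : Finset F) ⊆
          (Polynomial.X ^ q - Polynomial.X : Polynomial F).roots.toFinset := fun z _ => by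
        rw [Multiset.mem_toFinset, Polynomial.mem_roots hP]
        simp [hall]
      have h1 := (Finset.card_le_card hsub).trans ((Multiset.toFinset_card_le _).trans
        (Polynomial.card_roots' _))
      rw [FiniteField.X_pow_card_sub_X_natDegree_eq F hq1, Finset.card_univ, hF] at h1
      nlinarith
    have hs' := hKq _ hs
    rw [hsub] at hs'
    have : (a ^ q - a) * (a ^ q - σ a) = 0 := by linear_combination h + a ^ q * hs'
    exact sub_eq_zero.mp ((mul_eq_zero.mp this).resolve_left (sub_ne_zero.mpr hne))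
  have hpow : ∀ x : F, σ x = x ^ q := fun x => by
    rw [← e.apply_symm_apply x]
    show σ ((e.symm x).1.1 + (e.symm x).2.1 * a) = ((e.symm x).1.1 + (e.symm x).2.1 * a) ^ q
    rw [hsub, mul_pow, haq, hKq _ (e.symm x).1.2, hKq _ (e.symm x).2.2, map_add, map_mul,
      hfix.mp (e.symm x).1.2, hfix.mp (e.symm x).2.2]
  letI : StarRing F := Cfsg.Agent.Small.Hermitian.starRingOfInvolution σ hσ2
  set n := Module.finrank F V
  let b₀ := Module.finBasis F V
  let H : Matrix (Fin n) (Fin n) F := Matrix.of fun i j => B (b₀ i) (b₀ j)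
  have hH : Hᴴ = H := by
    ext i j
    show σ (B (b₀ j) (b₀ i)) = B (b₀ i) (b₀ j)
    exact hS.eq _ _
  have hu : IsUnit H := by
    rw [Matrix.isUnit_iff_isUnit_det, isUnit_iff_ne_zero]
    intro hd
    obtain ⟨c, hc, hc0⟩ := Matrix.exists_mulVec_eq_zero_iff.mpr hd
    refine hc (funext fun k => ?_)
    have hz : ∑ j, c j • b₀ j = 0 := by
      refine hB.2 _ fun x => ?_
      have hi : ∀ i, B (b₀ i) (∑ j, c j • b₀ j) = 0 := fun i => by
        have h := congrFun hc0 i
        simpa [Matrix.mulVec, dotProduct, H, mul_comm] using h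
      rw [← b₀.sum_repr x, map_sum B, LinearMap.coe_sum, Finset.sum_apply]
      refine Finset.sum_eq_zero fun i _ => ?_
      rw [LinearMap.map_smulₛₗ, LinearMap.smul_apply, hi, smul_zero]
    exact Fintype.linearIndependent_iff.mp b₀.linearIndependent c hz k
  obtain ⟨P, hP, hPH⟩ := Cfsg.Agent.Small.Hermitian.exists_congr_one (fun x => hpow x) hF n H hH hu
  let E : Fin n → V := fun k => ∑ i, P i k • b₀ i
  have hgram : ∀ k l, B (E k) (E l) = if k = l then 1 else 0 := fun k l => by
    have := congrFun (congrFun hPH k) l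
    rw [Matrix.one_apply] at this
    rw [← this]
    simp only [E, map_sum, LinearMap.map_smulₛₗ, LinearMap.coe_sum, Finset.sum_apply,
      LinearMap.smul_apply, map_smul, smul_eq_mul, Matrix.mul_apply, Matrix.conjTranspose_apply,
      Finset.mul_sum, Finset.sum_mul]
    refine Finset.sum_congr rfl fun i _ => Finset.sum_congr rfl fun j _ => ?_
    show _ = σ (P j k) * B (b₀ j) (b₀ i) * P i l
    ring
  have hli : LinearIndependent F E := by
    rw [Fintype.linearIndependent_iff]
    intro c hc i
    have := congrArg (B (E i)) hc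
    simpa [map_sum, hgram] using this
  rcases Nat.eq_zero_or_pos n with hn | hn
  · exact ⟨b₀, fun i => absurd i.2 (by omega)⟩
  haveI : Nonempty (Fin n) := ⟨⟨0, hn⟩⟩
  exact ⟨basisOfLinearIndependentOfCardEqFinrank hli (Fintype.card_fin n), fun i j => by
    simp only [coe_basisOfLinearIndependentOfCardEqFinrank]; exact hgram i j⟩

theorem sym_basis [Finite F] (h2 : (2 : F) ≠ 0) (α : F) (hα : ¬ IsSquare α) :
    ∀ (n : ℕ) {V : Type v} [AddCommGroup V] [Module F V] [FiniteDimensional F V]
      (B : LinearMap.BilinForm F V), B.IsSymm → B.Nondegenerate → finrank F V = n + 1 →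
      ∃ b : Module.Basis (Fin (n + 1)) F V, (∀ i j, i ≠ j → B (b i) (b j) = 0) ∧
        (∀ i, i ≠ Fin.last n → B (b i) (b i) = 1) ∧
        (B (b (Fin.last n)) (b (Fin.last n)) = 1 ∨ B (b (Fin.last n)) (b (Fin.last n)) = α) := by
  classical
  haveI := Fintype.ofFinite F
  haveI : Invertible (2 : F) := invertibleOfNonzero h2
  have hodd : Fintype.card F % 2 = 1 := FiniteField.odd_card_of_char_ne_two fun h => h2 (by
    haveI := ringChar.of_eq h
    exact CharP.cast_eq_zero F 2)
  intro n
  induction n with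
  | zero =>
    intro V _ _ _ B hS hB hd
    obtain ⟨v, hv⟩ := Module.finrank_pos_iff_exists_ne_zero (R := F) (M := V) |>.mp (by omega)
    have hspan : ∀ x : V, ∃ c : F, c • v = x := (finrank_eq_one_iff_of_nonzero' v hv).mp hd
    have hvv : B v v ≠ 0 := fun h => hv (hB.1 v fun x => by
      obtain ⟨c, rfl⟩ := hspan x
      simp [h])
    obtain ⟨c, hc0, hc⟩ : ∃ c : F, c ≠ 0 ∧ (c * c * B v v = 1 ∨ c * c * B v v = α) := by
      by_cases hs : IsSquare (B v v)
      · obtain ⟨r, hr⟩ := hs
        have hr0 : r ≠ 0 := fun h => hvv (by simp [hr, h])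
        exact ⟨r⁻¹, inv_ne_zero hr0, Or.inl (by rw [hr]; field_simp)⟩
      · have hα0 : α ≠ 0 := fun h => hα (h ▸ IsSquare.zero)
        obtain ⟨r, hr⟩ : IsSquare (α / B v v) := by
          rw [← quadraticChar_one_iff_isSquare (div_ne_zero hα0 hvv), div_eq_mul_inv, map_mul,
            quadraticChar_neg_one_iff_not_isSquare.mpr hα,
            quadraticChar_neg_one_iff_not_isSquare.mpr (fun h => hs (by simpa using h.inv))]
          ring
        have hr0 : r ≠ 0 := fun h => div_ne_zero hα0 hvv (by simp [hr, h])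
        exact ⟨r, hr0, Or.inr (by rw [← hr]; field_simp)⟩
    have hcv : c • v ≠ 0 := smul_ne_zero hc0 hv
    refine ⟨FiniteDimensional.basisSingleton (Fin 1) hd (c • v) hcv, fun i j h => absurd (Fin.ext (by omega)) h,
      fun i h => absurd (Fin.ext (by omega)) h, ?_⟩
    simp only [FiniteDimensional.basisSingleton_apply, map_smul, LinearMap.smul_apply, smul_eq_mul]
    rcases hc with hc | hc
    · left; linear_combination hc
    · right; linear_combination hc
  | succ n ih =>
    intro V _ _ _ B hS hB hd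
    obtain ⟨o, ho⟩ := LinearMap.BilinForm.exists_orthogonal_basis (B := B) (LinearMap.BilinForm.isSymm_iff.mp hS)
    have hne : ∀ i, B (o i) (o i) ≠ 0 := fun i h => by
      refine o.ne_zero i (hB.1 _ fun x => ?_)
      rw [← o.sum_repr x, map_sum]
      refine Finset.sum_eq_zero fun j _ => ?_
      rw [map_smul]
      by_cases hj : i = j
      · subst hj; simp [h]
      · rw [ho hj, smul_zero]
    let i0 : Fin (finrank F V) := ⟨0, by omega⟩
    let i1 : Fin (finrank F V) := ⟨1, by omega⟩
    have h01 : i0 ≠ i1 := by simp [i0, i1]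
    set a := B (o i0) (o i0)
    set c := B (o i1) (o i1)
    obtain ⟨x, y, hxy⟩ := FiniteField.exists_root_sum_quadratic
      (f := Polynomial.C a * Polynomial.X ^ 2 + Polynomial.C (0 : F) * Polynomial.X + Polynomial.C (-1))
      (g := Polynomial.C c * Polynomial.X ^ 2 + Polynomial.C (0 : F) * Polynomial.X + Polynomial.C 0)
      (Polynomial.degree_quadratic (hne i0)) (Polynomial.degree_quadratic (hne i1)) hodd
    simp at hxy
    set v := x • o i0 + y • o i1 with hv
    have hv1 : B v v = 1 := by
      simp [hv, ho h01, ho (Ne.symm h01)]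
      linear_combination hxy
    have hv0 : v ≠ 0 := fun h => by simp [h] at hv1
    set W := B.orthogonal (Submodule.span F {v})
    have hc := LinearMap.BilinForm.isCompl_span_singleton_orthogonal (B := B) (x := v)
      (by rw [hv1]; exact one_ne_zero)
    have hdW : finrank F W = n + 1 := by
      have := Submodule.finrank_add_eq_of_isCompl hc
      rw [finrank_span_singleton hv0] at this
      show finrank F (B.orthogonal (Submodule.span F {v})) = n + 1
      omega
    have hWv : ∀ w : W, B v w = 0 ∧ B (w : V) v = 0 := fun w => by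
      have h := w.2 v (Submodule.mem_span_singleton_self v)
      exact ⟨h, by rw [hS.eq]; exact h⟩
    have hWnd : (LinearMap.BilinForm.restrict B W).Nondegenerate := by
      have key : ∀ w : W, (∀ w' : W, B (w : V) w' = 0) → w = 0 := fun w hw => Subtype.ext (by
        refine hB.1 _ fun x => ?_
        obtain ⟨s, hs, t, ht, rfl⟩ := Submodule.mem_sup.mp
          (show x ∈ Submodule.span F {v} ⊔ W by rw [hc.sup_eq_top]; trivial)
        obtain ⟨r, rfl⟩ := Submodule.mem_span_singleton.mp hs
        rw [map_add, map_smul, (hWv w).2, smul_zero, zero_add]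
        exact hw ⟨t, ht⟩)
      exact ⟨fun w hw => key w hw, fun w hw => key w fun w' => by rw [hS.eq]; exact hw w'⟩
    obtain ⟨b, h1, h2', h3⟩ := ih (LinearMap.BilinForm.restrict B W)
      ⟨fun x y => hS.eq (x : V) (y : V)⟩ hWnd hdW
    let E : Fin (n + 2) → V := Fin.cons v fun i => (b i : V)
    have hspan : ⊤ ≤ Submodule.span F (Set.range E) := by
      rw [← hc.sup_eq_top]
      refine sup_le ((Submodule.span_singleton_le_iff_mem _ _).mpr
        (Submodule.subset_span ⟨0, rfl⟩)) fun w hw => ?_
      have := congrArg Subtype.val (b.sum_repr ⟨w, hw⟩)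
      rw [show w = ((⟨w, hw⟩ : W) : V) from rfl, ← this, Submodule.coe_sum]
      refine Submodule.sum_mem _ fun i _ => ?_
      rw [Submodule.coe_smul]
      exact Submodule.smul_mem _ _ (Submodule.subset_span ⟨i.succ, rfl⟩)
    refine ⟨basisOfTopLeSpanOfCardEqFinrank E hspan (by simp [hd]), ?_, ?_, ?_⟩
    all_goals simp only [coe_basisOfTopLeSpanOfCardEqFinrank]
    · intro i j hij
      cases i using Fin.cases <;> cases j using Fin.cases
      · exact absurd rfl hij
      · exact (hWv _).1
      · exact (hWv _).2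
      · exact h1 _ _ fun h => hij (congrArg Fin.succ h)
    · intro i hi
      cases i using Fin.cases
      · exact hv1
      · exact h2' _ fun h => hi ((congrArg Fin.succ h).trans (Fin.succ_last _))
    · rw [← Fin.succ_last]
      exact h3

end Cfsg.Agent.Lead.FormsClass
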