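import Cfsg.Prelude.Def_LocalEven
import Cfsg.Agent.Lib.Fusion.Sections
import Cfsg.Agent.Lib.Solv.Coprime
import Cfsg.Agent.Lib.Solv.ThompsonFPF

/-!
# A section isomorphic to the symmetric group of degree four

A four-group acted on as `S₃` by the group normalising it gives a section `S₄`.
-/

set_option autoImplicit false

universe u

open scoped commutatorElement

namespace Cfsg.Agent.SFour

variable {G : Type u} [Group G] [Finite G]

theorem mem_normalizer_of_forall {U : Subgroup G} {g : G} (h : ∀ u ∈ U, g * u * g⁻¹ ∈ U) :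
    g ∈ Subgroup.normalizer (U : Set G) := by
  refine Solv.mem_normalizer_of_map_conj ?_
  refine Subgroup.eq_of_le_of_card_ge ?_ (le_of_eq ?_)
  · rintro _ ⟨u, hu, rfl⟩
    exact h u hu
  · exact (Subgroup.card_map_of_injective (MulAut.conj g).injective).symm

/-- The automorphism group of a group of order four and exponent two has order at most six. -/
theorem card_mulAut_le {U : Type*} [Group U] [Finite U] (hU : Nat.card U = 4) :
    Nat.card (MulAut U) ≤ 6 := by
  classical
  let f : MulAut U → Equiv.Perm {x : U // x ≠ 1} := fun φ =>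
    φ.toEquiv.subtypeEquiv fun x => (MulEquiv.map_ne_one_iff φ).symm
  have hf : Function.Injective f := by
    intro φ ψ h
    ext x
    by_cases hx : x = 1
    · simp [hx]
    · exact congrArg Subtype.val (congrArg (fun e : Equiv.Perm {x : U // x ≠ 1} => e ⟨x, hx⟩) h)
  have h3 : Nat.card {x : U // x ≠ 1} = 3 := by
    have := Fintype.ofFinite U
    rw [Nat.card_eq_fintype_card, Fintype.card_subtype_compl, Fintype.card_subtype_eq,
      ← Nat.card_eq_fintype_card, hU]
  have := Nat.card_le_card_of_injective f hf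
  rwa [Nat.card_perm, h3] at this

theorem involves_sfour (U : Subgroup G) (hU : Nat.card U = 4) (r a : G)
    (hrU : ∀ u ∈ U, r * u * r⁻¹ ∈ U) (haU : ∀ u ∈ U, a * u * a⁻¹ ∈ U)
    (hro : Odd (orderOf r)) (hfix : ∀ u ∈ U, r * u * r⁻¹ = u → u = 1)
    (ha : ∃ u ∈ U, a * u * a⁻¹ ≠ u) (ha2 : ∀ u ∈ U, a * (a * u * a⁻¹) * a⁻¹ = u) :
    Cfsg.Involves (Equiv.Perm (Fin 4)) G := by
  haveI : Fact (Nat.Prime 3) := ⟨by norm_num⟩
  set N : Subgroup G := Subgroup.normalizer (U : Set G) with hN
  let g : N →* MulAut U := U.normalizerMonoidHom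
  have hg : ∀ (n : N) (u : U), ((g n u : U) : G) = (n : G) * u * (n : G)⁻¹ := fun n u => rfl
  let r' : N := ⟨r, mem_normalizer_of_forall hrU⟩
  let a' : N := ⟨a, mem_normalizer_of_forall haU⟩
  obtain ⟨u0, hu0, hu0'⟩ := ha
  have hu0ne : u0 ≠ 1 := fun h => hu0' (by rw [h]; group)
  have hgr1 : g r' ≠ 1 := fun h => hu0ne (hfix u0 hu0 (by
    have := congrArg (fun φ : MulAut U => ((φ ⟨u0, hu0⟩ : U) : G)) h
    exact this))
  have hga1 : g a' ≠ 1 := fun h => hu0' (by
    have := congrArg (fun φ : MulAut U => ((φ ⟨u0, hu0⟩ : U) : G)) h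
    exact this)
  have hga2 : g a' ^ 2 = 1 := by
    ext u
    rw [pow_two]
    exact ha2 u u.2
  have h2 : orderOf (g a') = 2 := orderOf_eq_prime hga2 hga1
  have hle := card_mulAut_le hU
  have hrodd : Odd (orderOf (g r')) := by
    refine hro.of_dvd_nat ?_
    rw [show r = (r' : G) from rfl, Subgroup.orderOf_coe]
    exact orderOf_map_dvd g r'
  have h2d : 2 ∣ Nat.card (MulAut U) := h2 ▸ orderOf_dvd_natCard _
  have hrd : orderOf (g r') ∣ Nat.card (MulAut U) := orderOf_dvd_natCard _
  have hr1 : orderOf (g r') ≠ 1 := fun h => hgr1 (orderOf_eq_one_iff.1 h)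
  have hpos : 0 < Nat.card (MulAut U) := Nat.card_pos
  have h3 : orderOf (g r') = 3 ∧ Nat.card (MulAut U) = 6 := by
    have hcop : Nat.Coprime 2 (orderOf (g r')) := (Nat.coprime_two_left).2 hrodd
    have hd := Nat.le_of_dvd hpos (hcop.mul_dvd_of_dvd_of_dvd h2d hrd)
    obtain ⟨k, hk⟩ := hrodd
    constructor <;> omega
  obtain ⟨h3, hcard⟩ := h3
  have hsurj : Function.Surjective g := by
    rw [← MonoidHom.range_eq_top]
    refine Subgroup.eq_top_of_le_card _ ?_
    rw [hcard]
    refine Nat.le_of_dvd Nat.card_pos ?_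
    have ha3 : 2 ∣ Nat.card g.range :=
      h2 ▸ Subgroup.orderOf_dvd_natCard g.range ⟨a', rfl⟩
    have hr3 : 3 ∣ Nat.card g.range :=
      h3 ▸ Subgroup.orderOf_dvd_natCard g.range ⟨r', rfl⟩
    exact (Nat.Coprime.mul_dvd_of_dvd_of_dvd (by norm_num) ha3 hr3 : 2 * 3 ∣ _)
  -- the subgroup of order three
  set Z : Subgroup (MulAut U) := Subgroup.zpowers (g r') with hZ
  have hZc : Nat.card Z = 3 := by rw [hZ, Nat.card_zpowers, h3]
  have hZi : Z.index = 2 := by
    have := Subgroup.card_mul_index Z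
    rw [hZc, hcard] at this
    omega
  haveI : Z.Normal := Subgroup.normal_of_index_eq_two hZi
  set L : Subgroup N := Z.comap g with hL
  haveI : L.Normal := Subgroup.Normal.comap inferInstance g
  obtain ⟨P⟩ := (inferInstance : Nonempty (Sylow 3 N))
  have hPL : (P : Subgroup N) ≤ L := by
    intro x hx
    rw [hL, Subgroup.mem_comap]
    obtain ⟨k, hk⟩ := P.2 ⟨x, hx⟩
    have hk' : x ^ 3 ^ k = 1 := congrArg Subtype.val hk
    obtain ⟨j, hj⟩ : Odd (3 ^ k) := Odd.pow (by decide)
    have h : g x = ((g x) ^ 2) ^ (j + 1) := by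
      rw [← pow_mul, show 2 * (j + 1) = 3 ^ k + 1 by omega, pow_succ, ← map_pow, hk', map_one,
        one_mul]
    rw [h]
    exact Subgroup.pow_mem _ (Subgroup.sq_mem_of_index_two hZi (g x)) _
  have hPZ : (P : Subgroup N).map g = Z := by
    refine Subgroup.eq_of_le_of_card_ge (Subgroup.map_le_iff_le_comap.2 hPL) ?_
    rw [hZc]
    have hd : Nat.card ((P : Subgroup N).map g) ∣ 3 :=
      (Subgroup.card_dvd_of_le (Subgroup.map_le_iff_le_comap.2 hPL)).trans hZc.dvd
    rcases (Nat.dvd_prime (by norm_num)).1 hd with h | h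
    · exfalso
      have hker : (P : Subgroup N) ≤ g.ker := by
        have := Subgroup.card_eq_one.1 h
        rwa [Subgroup.map_eq_bot_iff] at this
      have h6 : g.ker.index = 6 := by
        rw [Subgroup.index_ker, MonoidHom.range_eq_top.2 hsurj, Subgroup.card_top, hcard]
      exact P.not_dvd_index ((by norm_num : 3 ∣ 6).trans (h6 ▸ Subgroup.index_dvd_of_le hker))
    · rw [h]
  set Y : Subgroup N := Subgroup.normalizer ((P : Subgroup N) : Set N) with hY
  have hYg : Y.map g = ⊤ := by
    have h := congrArg (Subgroup.map g) (Sylow.normalizer_sup_eq_top' P hPL)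
    rw [Subgroup.map_sup, Subgroup.map_top_of_surjective g hsurj, hL,
      Subgroup.map_comap_eq_self_of_surjective hsurj] at h
    have hle : Z ≤ Y.map g := hPZ.ge.trans (Subgroup.map_mono Subgroup.le_normalizer)
    exact (sup_eq_left.2 hle).symm.trans h
  set U' : Subgroup N := U.subgroupOf N with hU'
  haveI : U'.Normal := by rw [hU', hN]; infer_instance
  have hU'c : Nat.card U' = 4 := by
    rw [← hU]
    exact Nat.card_congr (Subgroup.subgroupOfEquivOfLe Subgroup.le_normalizer).toEquiv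
  have hUY : U' ⊓ Y = ⊥ := by
    rw [Subgroup.eq_bot_iff_forall]
    rintro x ⟨hxU, hxY⟩
    have hrZ : g r' ∈ (P : Subgroup N).map g := hPZ ▸ Subgroup.mem_zpowers _
    obtain ⟨q, hqP, hq⟩ := hrZ
    have hc : ⁅x, q⁆ ∈ U' ⊓ (P : Subgroup N) := by
      refine ⟨?_, ?_⟩
      · rw [commutatorElement_def, mul_assoc, mul_assoc]
        refine U'.mul_mem hxU ?_
        rw [← mul_assoc]
        exact Subgroup.Normal.conj_mem inferInstance _ (U'.inv_mem hxU) q
      · exact (P : Subgroup N).mul_mem ((Subgroup.mem_normalizer_iff.1 hxY q).1 hqP)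
          ((P : Subgroup N).inv_mem hqP)
    have hbot : U' ⊓ (P : Subgroup N) = ⊥ := by
      refine Solv.coprime_inf ?_
      obtain ⟨k, hk⟩ := IsPGroup.iff_card.1 P.2
      rw [hU'c, hk]
      exact (Nat.Coprime.pow_right k (by norm_num))
    rw [hbot, Subgroup.mem_bot, commutatorElement_eq_one_iff_mul_comm] at hc
    have hx : (x : G) ∈ U := hxU
    have h1 : ((g r' ⟨x, hx⟩ : U) : G) = (x : G) := by
      rw [← hq, hg]
      show ((q * x * q⁻¹ : N) : G) = x
      rw [← hc, mul_inv_cancel_right]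
    exact Subtype.ext (hfix x hx h1)
  set X : Subgroup N := U' ⊔ Y with hX
  have hXc : Nat.card X = 4 * Nat.card Y := by
    have h := Solv.card_sup_mul_card_inf' U' Y (le_top.trans (Subgroup.normalizer_eq_top (H := U')).ge)
    rw [hUY, Subgroup.card_bot, mul_one, hU'c] at h
    exact h
  set Y' : Subgroup X := Y.subgroupOf X with hY'
  have hY'c : Nat.card Y' = Nat.card Y :=
    Nat.card_congr (Subgroup.subgroupOfEquivOfLe le_sup_right).toEquiv
  have hYi : Y'.index = 4 := by
    have h := Subgroup.card_mul_index Y'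
    rw [hY'c, hXc, mul_comm 4] at h
    exact Nat.eq_of_mul_eq_mul_left Nat.card_pos h
  let φ : X →* Equiv.Perm (X ⧸ Y') := MulAction.toPermHom X (X ⧸ Y')
  -- the kernel acts trivially on `U`
  let h : Y →* MulAut U := g.comp Y.subtype
  have hh : Function.Surjective h := by
    intro z
    obtain ⟨y, hy, hy'⟩ := (hYg.ge (Subgroup.mem_top z) : z ∈ Y.map g)
    exact ⟨⟨y, hy⟩, hy'⟩
  have hkc : Nat.card φ.ker ≤ Nat.card h.ker := by
    have hmem : ∀ k : X, k ∈ φ.ker → ∀ x : X, x⁻¹ * k * x ∈ Y' := by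
      intro k hk x
      have := congrArg (fun e : Equiv.Perm (X ⧸ Y') => e (x : X ⧸ Y')) (MonoidHom.mem_ker.1 hk)
      simp only [φ, MulAction.toPermHom_apply, MulAction.toPerm_apply, Equiv.Perm.coe_one, id] at this
      rw [MulAction.Quotient.smul_coe, eq_comm, QuotientGroup.eq, smul_eq_mul] at this
      rwa [mul_assoc]
    have hy : ∀ k : φ.ker, ((k : X) : N) ∈ Y := fun k => by
      have := hmem k k.2 1
      simp only [inv_one, one_mul, mul_one] at this
      exact this
    have hk1 : ∀ k : φ.ker, h ⟨_, hy k⟩ = 1 := fun k => by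
      ext u
      let un : N := ⟨u, Subgroup.le_normalizer u.2⟩
      have hun : un ∈ U' := u.2
      have h1 : un⁻¹ * ((k : X) : N) * un ∈ Y := hmem k k.2 ⟨un, Subgroup.mem_sup_left hun⟩
      have h2 : un⁻¹ * (((k : X) : N) * un * ((k : X) : N)⁻¹) ∈ U' ⊓ Y := by
        refine ⟨U'.mul_mem (U'.inv_mem hun) (Subgroup.Normal.conj_mem inferInstance _ hun _), ?_⟩
        have := Y.mul_mem h1 (Y.inv_mem (hy k))
        simp only [mul_assoc] at this ⊢
        exact this
      rw [hUY, Subgroup.mem_bot, inv_mul_eq_one] at h2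
      show ((g ((k : X) : N) u : U) : G) = u
      rw [hg]
      exact (congrArg Subtype.val h2).symm
    refine Nat.card_le_card_of_injective
      (fun k : φ.ker => (⟨⟨_, hy k⟩, hk1 k⟩ : h.ker)) fun k l hkl => ?_
    exact Subtype.ext (Subtype.ext (congrArg (fun t : h.ker => ((t : Y) : N)) hkl))
  have hc4 : Nat.card (X ⧸ Y') = 4 := by rw [← Subgroup.index_eq_card, hYi]
  have hc24 : Nat.card (Equiv.Perm (X ⧸ Y')) = 24 := by
    rw [Nat.card_perm, hc4]; decide
  have hφ : Function.Surjective φ := by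
    rw [← MonoidHom.range_eq_top]
    refine Subgroup.eq_top_of_le_card _ ?_
    rw [hc24]
    have e1 := Subgroup.card_mul_index φ.ker
    rw [Subgroup.index_ker, hXc] at e1
    have e2 := Subgroup.card_mul_index h.ker
    rw [Subgroup.index_ker, MonoidHom.range_eq_top.2 hh, Subgroup.card_top, hcard] at e2
    have hp : 0 < Nat.card φ.ker := Nat.card_pos
    have e3 : Nat.card φ.ker * Nat.card φ.range = 24 * Nat.card h.ker := by omega
    refine le_of_mul_le_mul_left (a := Nat.card φ.ker) ?_ hp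
    rw [e3, mul_comm (Nat.card φ.ker)]
    exact Nat.mul_le_mul_left 24 hkc
  let e : (X ⧸ Y') ≃ Fin 4 := Finite.equivFinOfCardEq hc4
  let ψ : Equiv.Perm (X ⧸ Y') →* Equiv.Perm (Fin 4) := e.permCongrHom.toMonoidHom
  let eX := X.equivMapOfInjective N.subtype N.subtype_injective
  exact Fusion.involves_of_surjective ((ψ.comp φ).comp eX.symm.toMonoidHom)
    ((e.permCongrHom.surjective.comp hφ).comp eX.symm.surjective)

end Cfsg.Agent.SFour
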