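import Cfsg.Agent.Lib.Local.FS.SmallCenterBasic

/-!
# Nonabelian `p`-groups with an abelian subgroup of index `p`

Group theory for a subgroup `S` with an abelian subgroup `A` of index `p`: the endomorphism
`a ↦ ⁅x, a⁆` of `A` for `x ∈ S`, whose image is `⁅S, S⁆` and whose kernel is `Z(S)` when `x ∉ A`.
-/

set_option autoImplicit false

open scoped commutatorElement

namespace Cfsg.Agent.Local.FS.AbIdx

open Cfsg Cfsg.FusionSystem Cfsg.Agent.Fusion Cfsg.Agent.Local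
open Cfsg.Agent.Local.FS.SmallCenter (zS zS_le comm_zS commutator_le_self)

variable {Ω : Type*} [Group Ω] {S A : Subgroup Ω} {p : ℕ}

/-- An abelian subgroup `A` of index `p` in the nonabelian `p`-group `S`. -/
structure Datum (p : ℕ) (S A : Subgroup Ω) : Prop where
  isP : IsPGroup p S
  le : A ≤ S
  comm : ∀ a ∈ A, ∀ b ∈ A, a * b = b * a
  index : (A.subgroupOf S).index = p
  na : ∃ x ∈ S, ∃ y ∈ S, x * y ≠ y * x

theorem datum_of (hS : IsPGroup p S) (hna : ¬ IsMulCommutative ↥S)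
    (hA : A ≤ S ∧ IsMulCommutative ↥A ∧ (A.subgroupOf S).index = p) : Datum p S A := by
  refine ⟨hS, hA.1, fun a ha b hb => ?_, hA.2.2, ?_⟩
  · haveI := hA.2.1
    exact congrArg Subtype.val (mul_comm' (⟨a, ha⟩ : A) ⟨b, hb⟩)
  · by_contra h
    simp only [not_exists, not_and, not_not] at h
    exact hna ⟨⟨fun a b => Subtype.ext (h a a.2 b b.2)⟩⟩

variable [Finite S] [Fact p.Prime]

/-- Cardinality of the image of a subgroup. -/
theorem card_map_mul {G H : Type*} [Group G] [Group H] (f : G →* H) (K : Subgroup G) :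
    Nat.card (K.map f) * Nat.card ↥(K ⊓ f.ker) = Nat.card K := by
  have h := ((f.comp K.subtype).ker).index_mul_card
  rw [Subgroup.index_ker] at h
  have h1 : (f.comp K.subtype).range = K.map f := by
    rw [MonoidHom.range_comp, Subgroup.range_subtype]
  have h2 : (f.comp K.subtype).ker.map K.subtype = K ⊓ f.ker := by
    ext g
    constructor
    · rintro ⟨k, hk, rfl⟩
      exact ⟨k.2, hk⟩
    · rintro ⟨hg, hg'⟩
      exact ⟨⟨g, hg⟩, hg', rfl⟩
  rw [h1, ← Nat.card_congr ((f.comp K.subtype).ker.equivMapOfInjective _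
    K.subtype_injective).toEquiv.symm, h2] at h
  exact h

variable (d : Datum p S A)
include d

omit [Fact p.Prime] in
theorem Datum.card_S : Nat.card S = p * Nat.card A := by
  rw [← Nat.card_congr (Subgroup.subgroupOfEquivOfLe d.le).toEquiv, ← d.index]
  exact (Subgroup.index_mul_card _).symm

theorem Datum.lt : A < S := by
  refine lt_of_le_of_ne d.le fun h => ?_
  have h1 := d.index
  rw [h, Subgroup.subgroupOf_self, Subgroup.index_top] at h1
  exact (Fact.out : p.Prime).ne_one h1.symm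

theorem Datum.eq_of_lt {X : Subgroup Ω} (h : A < X) (hX : X ≤ S) : X = S := by
  by_contra hne
  haveI := finite_of_le hX
  have h1 := card_lt_of_lt h hX
  have h2 := card_lt_of_lt (lt_of_le_of_ne hX hne) le_rfl
  obtain ⟨k, hk⟩ := Subgroup.card_dvd_of_le h.le
  obtain ⟨l, hl⟩ := Subgroup.card_dvd_of_le hX
  rw [d.card_S, hk, mul_comm p, mul_assoc] at hl
  have h4 : k * l = p := (Nat.eq_of_mul_eq_mul_left
    (haveI := finite_of_le d.le; Nat.card_pos (α := A)) hl).symm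
  rcases (Nat.Prime.eq_one_or_self_of_dvd Fact.out k ⟨l, h4.symm⟩) with rfl | rfl
  · rw [mul_one] at hk; omega
  · rw [hk, d.card_S, mul_comm] at h2; omega

theorem Datum.le_normalizer : S ≤ Subgroup.normalizer (A : Set Ω) := by
  have h := lt_inf_normalizer d.isP d.lt le_rfl
  exact (d.eq_of_lt h inf_le_left).ge.trans inf_le_right

theorem Datum.conj_mem {s a : Ω} (hs : s ∈ S) (ha : a ∈ A) : s * a * s⁻¹ ∈ A :=
  conj_mem_of_normalizer (d.le_normalizer hs) ha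

theorem Datum.commutator_mem {s a : Ω} (hs : s ∈ S) (ha : a ∈ A) : ⁅s, a⁆ ∈ A := by
  rw [commutatorElement_def]; exact A.mul_mem (d.conj_mem hs ha) (A.inv_mem ha)

theorem Datum.pow_mem {x : Ω} (hx : x ∈ S) : x ^ p ∈ A := by
  haveI : (A.subgroupOf S).Normal := (Subgroup.normal_subgroupOf_iff_le_normalizer d.le).2 d.le_normalizer
  have h := Subgroup.pow_index_mem (A.subgroupOf S) (⟨x, hx⟩ : S)
  rw [d.index] at h
  exact h

theorem Datum.exists_pow {x y : Ω} (hx : x ∈ S) (hxA : x ∉ A) (hy : y ∈ S) :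
    ∃ a ∈ A, ∃ i : ℕ, y = a * x ^ i := by
  haveI hn : (A.subgroupOf S).Normal := (Subgroup.normal_subgroupOf_iff_le_normalizer d.le).2 d.le_normalizer
  have hc : Nat.card (S ⧸ A.subgroupOf S) = p := by rw [← Subgroup.index_eq_card, d.index]
  have hne : ((⟨x, hx⟩ : S) : S ⧸ A.subgroupOf S) ≠ 1 := fun h =>
    hxA ((QuotientGroup.eq_one_iff (N := A.subgroupOf S) (⟨x, hx⟩ : S)).1 h)
  obtain ⟨i, hi⟩ := Submonoid.mem_powers_iff _ _ |>.1
    (mem_powers_of_prime_card hc hne (g' := ((⟨y, hy⟩ : S) : S ⧸ A.subgroupOf S)))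
  refine ⟨y * (x ^ i)⁻¹, ?_, i, by group⟩
  have h1 : ((⟨y, hy⟩ * (⟨x, hx⟩ ^ i)⁻¹ : S) : S ⧸ A.subgroupOf S) = 1 := by
    rw [QuotientGroup.mk_mul, QuotientGroup.mk_inv, QuotientGroup.mk_pow, hi, mul_inv_cancel]
  exact (QuotientGroup.eq_one_iff (N := A.subgroupOf S) _).1 h1

theorem Datum.pow_notMem {x : Ω} (hx : x ∈ S) (hxA : x ∉ A) {i : ℕ} (hi : ¬ p ∣ i) :
    x ^ i ∉ A := fun h =>
  hxA (SmallCenter.mem_of_pow_coprime h (d.pow_mem hx)
    (Nat.Coprime.symm (((Fact.out : p.Prime).coprime_iff_not_dvd).2 hi)))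

theorem Datum.pow_mem_iff {x : Ω} (hx : x ∈ S) (hxA : x ∉ A) {i : ℕ} : x ^ i ∈ A ↔ p ∣ i := by
  refine ⟨fun h => by_contra fun hi => d.pow_notMem hx hxA hi h, ?_⟩
  rintro ⟨k, rfl⟩
  rw [pow_mul]; exact A.pow_mem (d.pow_mem hx) k

theorem Datum.centralizer_A {y : Ω} (hy : y ∈ S) (h : ∀ a ∈ A, a * y = y * a) : y ∈ A := by
  by_contra hyA
  obtain ⟨u, hu, v, hv, hne⟩ := d.na
  obtain ⟨a, ha, i, rfl⟩ := d.exists_pow hy hyA hu
  obtain ⟨b, hb, j, rfl⟩ := d.exists_pow hy hyA hv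
  have hc : ∀ c ∈ A, ∀ n : ℕ, Commute c (y ^ n) := fun c hc n => Commute.pow_right (h c hc) n
  exact hne ((Commute.mul_left ((Commute.mul_right (d.comm a ha b hb) (hc a ha j)))
    ((Commute.mul_right (hc b hb i).symm (Commute.pow_pow_self y i j)))).eq)

theorem Datum.zS_le : zS S ≤ A := fun z hz => d.centralizer_A (SmallCenter.zS_le hz)
  fun a ha => (comm_zS hz (d.le ha))

/-- An element of `A` commuting with some element outside `A` is central. -/
theorem Datum.mem_zS {x a : Ω} (hx : x ∈ S) (hxA : x ∉ A) (ha : a ∈ A) (h : x * a = a * x) :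
    a ∈ zS S := by
  refine mem_centralizerIn.2 ⟨d.le ha, fun y hy => ?_⟩
  obtain ⟨b, hb, i, rfl⟩ := d.exists_pow hx hxA hy
  exact (Commute.mul_left (d.comm b hb a ha) (Commute.pow_left h i)).eq

theorem Datum.zS_sup_inf {x : Ω} (hx : x ∈ S) (hxA : x ∉ A) :
    (zS S ⊔ Subgroup.zpowers x) ⊓ A = zS S := by
  refine le_antisymm (fun y hy => ?_) (le_inf le_sup_left d.zS_le)
  refine d.mem_zS hx hxA hy.2 ?_
  have hle : zS S ⊔ Subgroup.zpowers x ≤ Subgroup.centralizer ({x} : Set Ω) := by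
    refine sup_le (fun z hz => Subgroup.mem_centralizer_iff.2 ?_)
      (Subgroup.zpowers_le.2 (Subgroup.mem_centralizer_iff.2 ?_))
    · rintro _ rfl; exact comm_zS hz hx
    · rintro _ rfl; rfl
  exact Subgroup.mem_centralizer_iff.1 (hle hy.1) x rfl

omit [Finite S] [Fact p.Prime] d in
theorem sup_zpowers_le {x : Ω} (hx : x ∈ S) : zS S ⊔ Subgroup.zpowers x ≤ S :=
  sup_le inf_le_left (Subgroup.zpowers_le.2 hx)

/-- A subgroup of `S` is generated by its intersection with `A` and any of its elements outside. -/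
theorem Datum.le_sup {P R : Subgroup Ω} (hP : P ≤ S) {x : Ω} (hx : x ∈ P) (hxA : x ∉ A)
    (h : P ⊓ A ≤ R) : P ≤ R ⊔ Subgroup.zpowers x := fun y hy => by
  obtain ⟨a, ha, i, rfl⟩ := d.exists_pow (hP hx) hxA (hP hy)
  have haP : a ∈ P := by
    have := P.mul_mem hy (P.inv_mem (P.pow_mem hx i))
    rwa [mul_inv_cancel_right] at this
  exact Subgroup.mul_mem_sup (h ⟨haP, ha⟩) (Subgroup.pow_mem _ (Subgroup.mem_zpowers x) i)

theorem Datum.card_inf {P : Subgroup Ω} (hP : P ≤ S) {x : Ω} (hx : x ∈ P) (hxA : x ∉ A) :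
    Nat.card P = p * Nat.card ↥(P ⊓ A) := by
  have hp : p.Prime := Fact.out
  haveI := finite_of_le hP
  have h1 : A.relIndex P ≤ A.relIndex S :=
    Subgroup.relIndex_le_of_le_right hP (by rw [Subgroup.relIndex, d.index]; exact hp.ne_zero)
  have h2 : A.relIndex P * Nat.card ↥(P ⊓ A) = Nat.card P := by
    rw [← Subgroup.inf_relIndex_right, inf_comm A P]
    have := ((P ⊓ A).subgroupOf P).index_mul_card
    rwa [Nat.card_congr (Subgroup.subgroupOfEquivOfLe inf_le_left).toEquiv] at this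
  have h3 : A.relIndex P ≠ 1 := fun h => hxA (Subgroup.relIndex_eq_one.1 h hx)
  obtain ⟨k, hk⟩ := IsPGroup.iff_card.1 (d.isP.to_le hP)
  obtain ⟨j, -, hj⟩ := (Nat.dvd_prime_pow hp).1 (hk ▸ Dvd.intro _ h2)
  rw [show A.relIndex S = p from d.index, hj] at h1
  have hj1 : j ≤ 1 := (Nat.pow_le_pow_iff_right hp.one_lt).1 (h1.trans (pow_one p).ge)
  interval_cases j
  · exact absurd (hj.trans (pow_zero p)) h3
  · rw [← h2, hj, pow_one]

theorem Datum.card_zS_sup {x : Ω} (hx : x ∈ S) (hxA : x ∉ A) :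
    Nat.card ↥(zS S ⊔ Subgroup.zpowers x) = p * Nat.card (zS S) := by
  rw [d.card_inf (sup_zpowers_le hx) (Subgroup.mem_sup_right (Subgroup.mem_zpowers x)) hxA,
    d.zS_sup_inf hx hxA]

/-! ### The endomorphism `a ↦ ⁅x, a⁆` of `A` -/

/-- The endomorphism `a ↦ ⁅x, a⁆` of `A`. -/
def Datum.th {x : Ω} (hx : x ∈ S) : A →* A :=
  MonoidHom.mk' (fun a => ⟨⁅x, (a : Ω)⁆, d.commutator_mem hx a.2⟩) fun a b => Subtype.ext (by
    show ⁅x, (a : Ω) * b⁆ = ⁅x, (a : Ω)⁆ * ⁅x, (b : Ω)⁆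
    have h1 := d.comm _ (A.inv_mem a.2) _ (d.commutator_mem hx b.2)
    calc ⁅x, (a : Ω) * b⁆
        = x * a * x⁻¹ * (⁅x, (b : Ω)⁆ * (a : Ω)⁻¹) := by simp only [commutatorElement_def]; group
      _ = _ := by rw [← h1]; simp only [commutatorElement_def]; group)

theorem Datum.th_apply {x : Ω} (hx : x ∈ S) (a : A) : (d.th hx a : Ω) = ⁅x, (a : Ω)⁆ := rfl

theorem Datum.ker_th {x : Ω} (hx : x ∈ S) (hxA : x ∉ A) :
    (d.th hx).ker = (zS S).subgroupOf A := by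
  ext a
  rw [MonoidHom.mem_ker, Subgroup.mem_subgroupOf, Subtype.ext_iff, d.th_apply,
    OneMemClass.coe_one, commutatorElement_eq_one_iff_mul_comm]
  exact ⟨d.mem_zS hx hxA a.2, fun h => comm_zS h hx⟩

theorem Datum.commutator_le {x : Ω} (hx : x ∈ S) (hxA : x ∉ A) :
    ⁅S, S⁆ ≤ (d.th hx).range.map A.subtype := by
  set R := (d.th hx).range.map A.subtype
  have hR : ∀ a ∈ A, ⁅x, a⁆ ∈ R := fun a ha => ⟨_, ⟨⟨a, ha⟩, rfl⟩, rfl⟩
  have hpw : ∀ i : ℕ, ∀ a ∈ A, ⁅x ^ i, a⁆ ∈ R := by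
    intro i
    induction i with
    | zero => intro a _; simp
    | succ i ih =>
      intro a ha
      rw [show ⁅x ^ (i + 1), a⁆ = ⁅x, x ^ i * a * (x ^ i)⁻¹⁆ * ⁅x ^ i, a⁆ by
        simp only [commutatorElement_def, pow_succ']; group]
      exact R.mul_mem (hR _ (d.conj_mem (S.pow_mem hx i) ha)) (ih a ha)
  refine Subgroup.commutator_le.2 fun s hs t ht => ?_
  obtain ⟨a, ha, i, rfl⟩ := d.exists_pow hx hxA hs
  obtain ⟨b, hb, j, rfl⟩ := d.exists_pow hx hxA ht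
  have hb' : x ^ i * b * (x ^ i)⁻¹ ∈ A := d.conj_mem (S.pow_mem hx i) hb
  have ha' : x ^ j * a⁻¹ * (x ^ j)⁻¹ ∈ A := d.conj_mem (S.pow_mem hx j) (A.inv_mem ha)
  rw [show ⁅a * x ^ i, b * x ^ j⁆ = a * (x ^ i * b * (x ^ i)⁻¹) *
      ((x ^ i * x ^ j) * (x ^ i)⁻¹ * a⁻¹ * (x ^ j)⁻¹) * b⁻¹ by
    simp only [commutatorElement_def]; group,
    (Commute.pow_pow_self x i j).eq, mul_inv_cancel_right,
    show a * (x ^ i * b * (x ^ i)⁻¹) * (x ^ j * a⁻¹ * (x ^ j)⁻¹) * b⁻¹ = ⁅x ^ i, b⁆ * ⁅x ^ j, a⁻¹⁆ by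
      rw [d.comm a ha _ hb', mul_assoc (x ^ i * b * (x ^ i)⁻¹) a, d.comm a ha _ ha', mul_assoc,
        d.comm _ (A.mul_mem ha' ha) _ (A.inv_mem hb)]
      simp only [commutatorElement_def]; group]
  exact R.mul_mem (hpw i b hb) (hpw j _ (A.inv_mem ha))

theorem Datum.map_range_th {x : Ω} (hx : x ∈ S) (hxA : x ∉ A) :
    (d.th hx).range.map A.subtype = ⁅S, S⁆ := by
  refine le_antisymm ?_ (d.commutator_le hx hxA)
  rintro _ ⟨_, ⟨a, rfl⟩, rfl⟩
  exact Subgroup.commutator_mem_commutator hx (d.le a.2)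

theorem Datum.commutator_le_A : ⁅S, S⁆ ≤ A := by
  obtain ⟨x, hx, hxA⟩ := SetLike.exists_of_lt d.lt
  exact (d.commutator_le hx hxA).trans (Subgroup.map_subtype_le _)

theorem Datum.range_th {x : Ω} (hx : x ∈ S) (hxA : x ∉ A) :
    (d.th hx).range = ⁅S, S⁆.subgroupOf A := by
  rw [← d.map_range_th hx hxA, Subgroup.subgroupOf,
    Subgroup.comap_map_eq_self_of_injective A.subtype_injective]

theorem Datum.card_commutator_mul : Nat.card ↥⁅S, S⁆ * Nat.card (zS S) = Nat.card A := by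
  obtain ⟨x, hx, hxA⟩ := SetLike.exists_of_lt d.lt
  have h := card_map_mul (d.th hx) ⊤
  rw [top_inf_eq, d.ker_th hx hxA, ← MonoidHom.range_eq_map, d.range_th hx hxA,
    Nat.card_congr (Subgroup.subgroupOfEquivOfLe d.commutator_le_A).toEquiv,
    Nat.card_congr (Subgroup.subgroupOfEquivOfLe d.zS_le).toEquiv, Subgroup.card_top] at h
  exact h

theorem Datum.card_zS_sup_commutator (hc : Nat.card ↥(⁅S, S⁆ ⊓ zS S) = p) :
    Nat.card ↥(zS S ⊔ ⁅S, S⁆) * p = Nat.card A := by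
  have hle : zS S ⊔ ⁅S, S⁆ ≤ A := sup_le d.zS_le d.commutator_le_A
  set Z' := (zS S).subgroupOf A
  set D' := ⁅S, S⁆.subgroupOf A
  haveI : Z'.Normal := ⟨fun z hz w => by
    show (w : Ω) * z * (w : Ω)⁻¹ ∈ zS S
    rw [comm_zS (show (z : Ω) ∈ zS S from hz) (d.le w.2), mul_inv_cancel_right]; exact hz⟩
  have hbot : Z'.map (QuotientGroup.mk' Z') = ⊥ := by
    rw [Subgroup.map_eq_bot_iff, QuotientGroup.ker_mk']
  have h1 := card_map_mul (QuotientGroup.mk' Z') D'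
  have h2 := card_map_mul (QuotientGroup.mk' Z') (Z' ⊔ D')
  rw [QuotientGroup.ker_mk'] at h1 h2
  rw [Subgroup.map_sup, hbot, bot_sup_eq, inf_eq_right.2 le_sup_left, ← Subgroup.subgroupOf_sup d.zS_le
    d.commutator_le_A, Nat.card_congr (Subgroup.subgroupOfEquivOfLe d.zS_le).toEquiv,
    Nat.card_congr (Subgroup.subgroupOfEquivOfLe hle).toEquiv] at h2
  rw [show D' ⊓ Z' = (⁅S, S⁆ ⊓ zS S).subgroupOf A from rfl,
    Nat.card_congr (Subgroup.subgroupOfEquivOfLe (inf_le_left.trans d.commutator_le_A)).toEquiv, hc,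
    Nat.card_congr (Subgroup.subgroupOfEquivOfLe d.commutator_le_A).toEquiv] at h1
  rw [← h2, ← d.card_commutator_mul, ← h1]
  ring

/-- The elements `a` of `A` with `⁅x, a⁆ ∈ R`. -/
def Datum.pre {x : Ω} (hx : x ∈ S) (R : Subgroup Ω) : Subgroup Ω :=
  ((R.subgroupOf A).comap (d.th hx)).map A.subtype

theorem Datum.mem_pre {x : Ω} (hx : x ∈ S) {R : Subgroup Ω} {a : Ω} :
    a ∈ d.pre hx R ↔ a ∈ A ∧ ⁅x, a⁆ ∈ R := by
  constructor
  · rintro ⟨b, hb, rfl⟩
    exact ⟨b.2, hb⟩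
  · rintro ⟨ha, h⟩
    exact ⟨⟨a, ha⟩, h, rfl⟩

theorem Datum.card_pre {x : Ω} (hx : x ∈ S) (hxA : x ∉ A) (R : Subgroup Ω) :
    Nat.card (d.pre hx R) = Nat.card (zS S) * Nat.card ↥(⁅S, S⁆ ⊓ R) := by
  have h := card_map_mul (d.th hx) ((R.subgroupOf A).comap (d.th hx))
  have h1 : (R.subgroupOf A).comap (d.th hx) ⊓ (d.th hx).ker = (zS S).subgroupOf A := by
    rw [← d.ker_th hx hxA, inf_eq_right]
    exact Subgroup.ker_le_comap _ _
  have h2 : ((R.subgroupOf A).comap (d.th hx)).map (d.th hx) = (⁅S, S⁆ ⊓ R).subgroupOf A := by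
    rw [Subgroup.map_comap_eq, d.range_th hx hxA]
    rfl
  rw [h1, h2, Nat.card_congr (Subgroup.subgroupOfEquivOfLe d.zS_le).toEquiv,
    Nat.card_congr (Subgroup.subgroupOfEquivOfLe (inf_le_left.trans d.commutator_le_A)).toEquiv] at h
  rw [mul_comm, h, Datum.pre]
  exact (Nat.card_congr (((R.subgroupOf A).comap (d.th hx)).equivMapOfInjective _
    A.subtype_injective).toEquiv).symm

theorem Datum.mem_pre_conj {x a : Ω} (hx : x ∈ S) (ha : a ∈ d.pre hx (zS S)) (i : ℕ) :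
    a * x ^ i * a⁻¹ = ⁅a, x⁆ ^ i * x ^ i ∧ ⁅a, x⁆ ∈ zS S := by
  obtain ⟨-, h⟩ := (d.mem_pre hx).1 ha
  have h' : ⁅a, x⁆ ∈ zS S := by
    rw [← commutatorElement_inv]; exact (zS S).inv_mem h
  refine ⟨?_, h'⟩
  rw [← _root_.conj_pow, show a * x * a⁻¹ = ⁅a, x⁆ * x by simp only [commutatorElement_def]; group,
    Commute.mul_pow (comm_zS h' hx).symm]

theorem Datum.commutator_mem_zS {x a : Ω} (hx : x ∈ S) (hxA : x ∉ A) (ha : a ∈ d.pre hx (zS S))
    {y : Ω} (hy : y ∈ S) : ⁅a, y⁆ ∈ zS S := by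
  obtain ⟨b, hb, i, rfl⟩ := d.exists_pow hx hxA hy
  obtain ⟨h1, h2⟩ := d.mem_pre_conj hx ha i
  have haA : a ∈ A := ((d.mem_pre hx).1 ha).1
  have h3 : ⁅a, x⁆ ^ i ∈ zS S := (zS S).pow_mem h2 i
  rw [show ⁅a, b * x ^ i⁆ = a * b * a⁻¹ * (a * x ^ i * a⁻¹) * (x ^ i)⁻¹ * b⁻¹ by
    simp only [commutatorElement_def]; group, d.comm a haA b hb, h1, mul_inv_cancel_right,
    show b * (⁅a, x⁆ ^ i * x ^ i) * (x ^ i)⁻¹ = b * ⁅a, x⁆ ^ i by group,
    comm_zS h3 (d.le hb), mul_inv_cancel_right]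
  exact h3

omit [Fact p.Prime] d in
theorem mem_Z2 {y : Ω} :
    y ∈ (Subgroup.upperCentralSeries ↥S 2).map S.subtype ↔
      y ∈ S ∧ ∀ s ∈ S, ⁅y, s⁆ ∈ zS S := by
  have key : ∀ w : S, w ∈ Subgroup.upperCentralSeries ↥S 1 ↔ (w : Ω) ∈ zS S := fun w => by
    rw [Subgroup.upperCentralSeries_one, ← SmallCenter.subgroupOf_zS]; rfl
  constructor
  · rintro ⟨w, hw, rfl⟩
    exact ⟨w.2, fun s hs => (key _).1 (Subgroup.mem_upperCentralSeries_succ_iff.1 hw ⟨s, hs⟩)⟩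
  · rintro ⟨hy, h⟩
    exact ⟨⟨y, hy⟩, Subgroup.mem_upperCentralSeries_succ_iff.2 fun w => (key _).2 (h w w.2), rfl⟩

/-- With `|Z(S) ∩ ⁅S, S⁆| = p` and `A` the only abelian subgroup of index `p`, `Z₂(S)` lies in `A`. -/
theorem Datum.Z2_eq (huniq : ∀ B : Subgroup Ω, B ≤ S → IsMulCommutative ↥B →
      (B.subgroupOf S).index = p → B = A) (hc : Nat.card ↥(⁅S, S⁆ ⊓ zS S) = p)
    {x : Ω} (hx : x ∈ S) (hxA : x ∉ A) :
    (Subgroup.upperCentralSeries ↥S 2).map S.subtype = d.pre hx (zS S) := by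
  have hA : ∀ z ∈ (Subgroup.upperCentralSeries ↥S 2).map S.subtype, z ∈ A := by
    intro z hz
    by_contra hzA
    obtain ⟨hzS, hz⟩ := mem_Z2.1 hz
    haveI := finite_of_le (SmallCenter.zS_le (S := S))
    have hpre : d.pre hzS (zS S) = A := le_antisymm (fun a ha => ((d.mem_pre hzS).1 ha).1)
      fun a ha => (d.mem_pre hzS).2 ⟨ha, hz a (d.le ha)⟩
    have hcard : Nat.card A = p * Nat.card (zS S) := by
      rw [← hpre, d.card_pre hzS hzA, hc, mul_comm]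
    set B := zS S ⊔ Subgroup.zpowers z
    have hBS : B ≤ S := sup_zpowers_le hzS
    have hidx : (B.subgroupOf S).index = p := by
      have h := (B.subgroupOf S).index_mul_card
      rw [Nat.card_congr (Subgroup.subgroupOfEquivOfLe hBS).toEquiv, d.card_zS_sup hzS hzA,
        d.card_S, hcard] at h
      exact Nat.eq_of_mul_eq_mul_right (Nat.mul_pos (Fact.out : p.Prime).pos Nat.card_pos) h
    have hle : B ≤ Subgroup.centralizer (B : Set Ω) := by
      refine sup_le (fun y hy => Subgroup.mem_centralizer_iff.2 fun w hw => comm_zS hy (hBS hw))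
        (Subgroup.zpowers_le.2 (Subgroup.mem_centralizer_iff.2 fun w hw => ?_))
      have hwc : B ≤ Subgroup.centralizer ({z} : Set Ω) := sup_le
        (fun y hy => Subgroup.mem_centralizer_iff.2 (by rintro _ rfl; exact comm_zS hy hzS))
        (Subgroup.zpowers_le.2 (Subgroup.mem_centralizer_iff.2 (by rintro _ rfl; rfl)))
      exact (Subgroup.mem_centralizer_iff.1 (hwc hw) z rfl).symm
    have hB := huniq B hBS ⟨⟨fun a b => Subtype.ext
      (Subgroup.mem_centralizer_iff.1 (hle b.2) a a.2)⟩⟩ hidx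
    exact hzA (hB ▸ Subgroup.mem_sup_right (Subgroup.mem_zpowers z))
  refine le_antisymm (fun z hz => (d.mem_pre hx).2 ⟨hA z hz, ?_⟩) fun a ha => mem_Z2.2
    ⟨d.le ((d.mem_pre hx).1 ha).1, fun s hs => d.commutator_mem_zS hx hxA ha hs⟩
  rw [← commutatorElement_inv]
  exact (zS S).inv_mem ((mem_Z2.1 hz).2 x hx)

/-! ### The lower central series -/

/-- `|θ^{k+1}(A)| p^k ≥ |θ(A)|` when `|Z(S) ∩ ⁅S, S⁆| = p`. -/
theorem Datum.exists_iterate (hc : Nat.card ↥(⁅S, S⁆ ⊓ zS S) = p) (k : ℕ) :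
    ∃ I : Subgroup Ω, I ≤ ⁅S, S⁆ ∧ I ≤ Subgroup.lowerCentralSeries S (k + 1) ∧
      Nat.card ↥⁅S, S⁆ ≤ Nat.card I * p ^ k := by
  obtain ⟨x, hx, hxA⟩ := SetLike.exists_of_lt d.lt
  induction k with
  | zero => exact ⟨⁅S, S⁆, le_rfl, le_rfl, by simp⟩
  | succ k ih =>
    obtain ⟨I, hI, hIL, hcard⟩ := ih
    haveI := finite_of_le d.le
    haveI := finite_of_le ((commutator_le_self (S := S)))
    refine ⟨((I.subgroupOf A).map (d.th hx)).map A.subtype, ?_, ?_, hcard.trans ?_⟩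
    · rw [← d.map_range_th hx hxA]
      exact Subgroup.map_mono (Subgroup.map_le_range _ _)
    · rintro _ ⟨_, ⟨a, ha, rfl⟩, rfl⟩
      show ⁅x, (a : Ω)⁆ ∈ ⁅Subgroup.lowerCentralSeries S (k + 1), S⁆
      rw [Subgroup.commutator_comm]
      exact Subgroup.commutator_mem_commutator hx (hIL ha)
    · have h := card_map_mul (d.th hx) (I.subgroupOf A)
      have h1 : Nat.card ↥(I.subgroupOf A ⊓ (d.th hx).ker) ≤ p := by
        rw [d.ker_th hx hxA, ← hc, ← Nat.card_congr (Subgroup.subgroupOfEquivOfLe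
          ((inf_le_left : ⁅S, S⁆ ⊓ zS S ≤ _).trans d.commutator_le_A)).toEquiv]
        exact Subgroup.card_le_of_le fun a ha => ⟨hI ha.1, ha.2⟩
      rw [Nat.card_congr (Subgroup.subgroupOfEquivOfLe (hI.trans d.commutator_le_A)).toEquiv] at h
      have h2 : Nat.card ↥(((I.subgroupOf A).map (d.th hx)).map A.subtype) =
          Nat.card ↥((I.subgroupOf A).map (d.th hx)) :=
        (Nat.card_congr (((I.subgroupOf A).map (d.th hx)).equivMapOfInjective _
          A.subtype_injective).toEquiv).symm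
      rw [h2, pow_succ', ← mul_assoc, ← h]
      exact Nat.mul_le_mul_right _ (Nat.mul_le_mul_left _ h1)

end Cfsg.Agent.Local.FS.AbIdx
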