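import Cfsg.Agent.Lib.Lead.AbelianIndexEssential

/-!
# Trivial core and `A` not essential

The maps of the system act on `Z(S)` as automorphisms of `S` do, except on the abelian essential
subgroups. The complement `C` of `Z(S) ∩ ⁅S, S⁆` in `Z(S)` that these fix is normal in the system.
-/

set_option autoImplicit false

open scoped commutatorElement

namespace Cfsg.Agent.Local.FS.AbIdx

open Cfsg Cfsg.FusionSystem Cfsg.Agent.Fusion Cfsg.Agent.Local
open Cfsg.Agent.Local.FS.SmallCenter (zS comm_zS)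

variable {Ω : Type*} [Group Ω] {S A : Subgroup Ω} [Finite S] {p : ℕ} [Fact p.Prime]
  {F : FusionSystem S}

variable (F) in
/-- `f` acts on the central elements of `R` as an automorphism of `S` does. -/
def Agree (R : Subgroup Ω) (f : Ω → Ω) : Prop :=
  ∃ β ∈ F.autGroup S, ∀ r ∈ R, (f r ∈ zS S ↔ r ∈ zS S) ∧ (r ∈ zS S → f r = av β r)

theorem agree_of_lt (hS : IsPGroup p S) (hF : F.IsSaturated p) (N : ℕ)
    (hgen : ∀ R, F.IsEssential p R → N < Nat.card R → ∀ α ∈ F.autGroup R, Agree F R (av α))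
    {R : Subgroup Ω} {f : Ω → Ω} (hf : Map F R f) (hR : N < Nat.card R) : Agree F R f := by
  let K : Subgroup Ω → (Ω → Ω) → Prop := fun R f => R ≤ S → N < Nat.card R → Agree F R f
  have hK : IsClosedClass F K := by
    refine ⟨?_, ?_, ?_, ?_⟩
    · intro P f g h he hP hN
      obtain ⟨β, hβ, h⟩ := h hP hN
      exact ⟨β, hβ, fun r hr => by rw [← he r hr]; exact h r hr⟩
    · intro P R f hf h hR hRS hN
      haveI := finite_of_le hf.le
      obtain ⟨β, hβ, h⟩ := h hf.le (hN.trans_le (Subgroup.card_le_of_le hR))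
      exact ⟨β, hβ, fun r hr => h r (hR hr)⟩
    · intro P Q f g hf hg h1 h2 hm hP hN
      haveI := finite_of_le hg.le
      obtain ⟨β, hβ, h1⟩ := h1 hP hN
      obtain ⟨γ, hγ, h2⟩ := h2 hg.le (hN.trans_le (hf.card_le hm))
      refine ⟨γ * β, Subgroup.mul_mem _ hγ hβ, fun r hr => ⟨(h2 _ (hm r hr)).1.trans (h1 r hr).1, fun hrz => ?_⟩⟩
      show g (f r) = _
      rw [(h2 _ (hm r hr)).2 ((h1 r hr).1.2 hrz), (h1 r hr).2 hrz, av_mul _ _ (SmallCenter.zS_le hrz)]
    · intro P f g hf h hg _ hN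
      rw [hf.card_im] at hN
      obtain ⟨β, hβ, h⟩ := h hf.le hN
      refine ⟨β⁻¹, Subgroup.inv_mem _ hβ, fun y hy => ?_⟩
      obtain ⟨r, hr, rfl⟩ := hf.mem_im.1 hy
      rw [hg r hr]
      exact ⟨(h r hr).1.symm, fun hz => by
        rw [(h r hr).2 ((h r hr).1.1 hz), av_inv_av β (SmallCenter.zS_le ((h r hr).1.1 hz))]⟩
  refine alperin hS hF hK (fun Q hQ α hα _ hN => ?_) R f hf hf.le hR
  rcases hQ with rfl | hQ
  · refine ⟨α, hα, fun r hr => ⟨⟨fun h => ?_, SmallCenter.av_mem_zS α⟩, fun _ => rfl⟩⟩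
    simpa [av_inv_av α hr] using SmallCenter.av_mem_zS α⁻¹ h
  · exact hgen Q hQ hN α hα

/-- An automorphism of `S` in the system that is trivial on `D ≤ Z(S)` and on `Z(S)/D` is trivial
on `Z(S)`. -/
theorem fix_of_stab (hS : IsPGroup p S) (hF : F.IsSaturated p) {D : Subgroup Ω} (hD : D ≤ S)
    {σ : MulAut S} (hσ : σ ∈ F.autGroup S) (h1 : ∀ d ∈ D, av σ d = d)
    (h2 : ∀ z ∈ zS S, z⁻¹ * av σ z ∈ D) : ∀ z ∈ zS S, av σ z = z := by
  have hp : p.Prime := Fact.out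
  obtain ⟨j, hj⟩ := IsPGroup.iff_card.1 hS
  obtain ⟨e, m, hm, he⟩ := Nat.exists_eq_pow_mul_and_not_dvd (orderOf_pos σ).ne' p hp.ne_one
  have hinn : ∀ z ∈ zS S, av (σ ^ m) z = z := by
    intro z hz
    have hP : IsPGroup p ↥(Subgroup.zpowers (σ ^ m)) := by
      obtain ⟨i, -, hi⟩ := (Nat.dvd_prime_pow hp).1 (orderOf_dvd_of_pow_eq_one
        (show (σ ^ m) ^ p ^ e = 1 by rw [← pow_mul, mul_comm, ← he, pow_orderOf_eq_one]))
      exact IsPGroup.of_card (n := i) (by rw [Nat.card_zpowers, hi])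
    obtain ⟨y, -, hy⟩ := (SmallCenter.sylIn_inn hS hF).conj_le hP
      (Subgroup.zpowers_le.2 (Subgroup.pow_mem _ hσ m))
    have h3 : y * σ ^ m * y⁻¹ ∈ Inn S := hy (Fusion.mem_cj.2 (by
      rw [show y⁻¹ * (y * σ ^ m * y⁻¹) * y = σ ^ m by group]; exact Subgroup.mem_zpowers _))
    obtain ⟨g, hg, hgy⟩ := mem_Inn.1 h3
    have hzS := SmallCenter.zS_le hz
    have h4 := hgy _ (av_mem y hzS)
    rw [comm_zS (SmallCenter.av_mem_zS y hz) hg, mul_inv_cancel_right, av_mul _ _ (av_mem y hzS),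
      av_mul _ _ (av_mem _ (av_mem y hzS)), av_inv_av y hzS] at h4
    rw [← av_inv_av y (av_mem (σ ^ m) hzS), h4, av_inv_av y hzS]
  have hfix : σ ∈ SmallCenter.fixing (zS S : Set Ω) S := by
    refine SmallCenter.mem_of_pow_coprime (m := m) (n := p ^ j) (fun z hz _ => hinn z hz) ?_
      (Nat.Coprime.pow_right j (Nat.Coprime.symm (hp.coprime_iff_not_dvd.2 hm)))
    intro z hz hzS
    have key : ∀ n : ℕ, av (σ ^ n) z = z * (z⁻¹ * av σ z) ^ n := by
      intro n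
      induction n with
      | zero => rw [pow_zero, av_one hzS, pow_zero, mul_one]
      | succ n ih =>
        rw [pow_succ', av_mul _ _ hzS, ih, SmallCenter.av_mul' σ hzS (hD (D.pow_mem (h2 z hz) n)),
          h1 _ (D.pow_mem (h2 z hz) n), pow_succ', ← mul_assoc z (z⁻¹ * av σ z), mul_inv_cancel_left]
    have hpow : (⟨z⁻¹ * av σ z, hD (h2 z hz)⟩ : S) ^ Nat.card S = 1 := pow_card_eq_one'
    rw [key, ← hj, show (z⁻¹ * av σ z) ^ Nat.card S = 1 from congrArg Subtype.val hpow, mul_one]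
  exact fun z hz => hfix z hz (SmallCenter.zS_le hz)

variable (S) in
/-- `Z(S) ∩ ⁅S, S⁆`. -/
abbrev dS : Subgroup Ω := ⁅S, S⁆ ⊓ zS S

omit [Finite S] in
theorem dS_le : dS S ≤ zS S := inf_le_right

theorem av_mem_dS (β : MulAut S) {z : Ω} (hz : z ∈ dS S) : av β z ∈ dS S :=
  ⟨SmallCenter.av_mem_commutator β hz.1, SmallCenter.av_mem_zS β hz.2⟩

variable (F) in
/-- The automorphisms of `S` in the system acting trivially on `Z(S)/(Z(S) ∩ ⁅S, S⁆)`. -/
def k0 : Subgroup (MulAut S) where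
  carrier := {β | β ∈ F.autGroup S ∧ ∀ z ∈ zS S, z⁻¹ * av β z ∈ dS S}
  one_mem' := ⟨Subgroup.one_mem _, fun z hz => by
    rw [av_one (SmallCenter.zS_le hz), inv_mul_cancel]; exact Subgroup.one_mem _⟩
  mul_mem' := fun {β γ} hβ hγ => ⟨Subgroup.mul_mem _ hβ.1 hγ.1, fun z hz => by
    have h1 := Subgroup.mul_mem _ (hγ.2 z hz) (hβ.2 _ (SmallCenter.av_mem_zS γ hz))
    rw [av_mul _ _ (SmallCenter.zS_le hz)]
    simpa [mul_assoc] using h1⟩
  inv_mem' := fun {β} hβ => ⟨Subgroup.inv_mem _ hβ.1, fun z hz => by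
    have h1 := Subgroup.inv_mem _ (hβ.2 _ (SmallCenter.av_mem_zS β⁻¹ hz))
    rw [av_av_inv _ (SmallCenter.zS_le hz), mul_inv_rev, inv_inv] at h1
    exact h1⟩

variable (F) in
/-- The central elements fixed by `k0`. -/
def c0 : Subgroup Ω where
  carrier := {z | z ∈ zS S ∧ ∀ β ∈ k0 F, av β z = z}
  one_mem' := ⟨Subgroup.one_mem _, fun β hβ => (map_of_mem_autGroup le_rfl hβ.1).map_one⟩
  mul_mem' := fun {a b} ha hb => ⟨Subgroup.mul_mem _ ha.1 hb.1, fun β hβ => by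
    rw [SmallCenter.av_mul' β (SmallCenter.zS_le ha.1) (SmallCenter.zS_le hb.1), ha.2 β hβ, hb.2 β hβ]⟩
  inv_mem' := fun {a} ha => ⟨Subgroup.inv_mem _ ha.1, fun β hβ => by
    rw [SmallCenter.av_inv' β (SmallCenter.zS_le ha.1), ha.2 β hβ]⟩

theorem c0_inv {γ : MulAut S} (hγ : γ ∈ F.autGroup S) {z : Ω} (hz : z ∈ c0 F) : av γ z ∈ c0 F := by
  refine ⟨SmallCenter.av_mem_zS γ hz.1, fun β hβ => ?_⟩
  have hzS := SmallCenter.zS_le hz.1
  have hk : γ⁻¹ * β * γ ∈ k0 F := by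
    refine ⟨Subgroup.mul_mem _ (Subgroup.mul_mem _ (Subgroup.inv_mem _ hγ) hβ.1) hγ, fun w hw => ?_⟩
    have hwS := SmallCenter.zS_le hw
    have h1 := av_mem_dS γ⁻¹ (hβ.2 _ (SmallCenter.av_mem_zS γ hw))
    rw [SmallCenter.av_mul' _ (S.inv_mem (av_mem γ hwS)) (av_mem β (av_mem γ hwS)),
      SmallCenter.av_inv' _ (av_mem γ hwS), av_inv_av γ hwS] at h1
    rwa [av_mul _ _ hwS, av_mul _ _ (av_mem γ hwS)]
  have h := hz.2 _ hk
  rw [av_mul _ _ hzS, av_mul _ _ (av_mem γ hzS)] at h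
  have h2 := congrArg (av γ) h
  rwa [av_av_inv γ (av_mem β (av_mem γ hzS))] at h2

variable (d : Datum p S A)
include d

variable (hF : F.IsSaturated p) (hAe : ¬ F.IsEssential p A)
include hF hAe

/-- On a large enough source the maps act on `Z(S)` as automorphisms of `S`. -/
theorem Datum.agree {R : Subgroup Ω} {f : Ω → Ω} (hf : Map F R f)
    (hR : p * Nat.card (zS S) < Nat.card R) : Agree F R f := by
  refine agree_of_lt d.isP hF (p * Nat.card (zS S)) (fun E hE hcard α hα => ?_) hf hR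
  obtain ⟨x, hx, hxA, hz, hxE, hN, hc, h⟩ := d.shape hF hE fun h => hAe (h ▸ hE)
  rcases h with ⟨-, h⟩ | ⟨-, hcE, hinv⟩
  · omega
  have hES := hE.1.1
  haveI := finite_of_le hES
  haveI := mulAut_finite_of_le hES
  set G := F.autGroup E
  set C := G ⊓ SmallCenter.fixing (zS S : Set Ω) E
  have hsyl : SylIn p (autInducedBy S E) G := (fa_iff.1 (fc_fa_of_fn d.isP hF hE.2.1).2).2
  have hTC : autInducedBy S E ≤ C := fun t ht => ⟨hsyl.le ht, fun z hz' hzE => by
    obtain ⟨s, hs, hst⟩ := mem_autInducedBy.1 ht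
    rw [hst z hzE, comm_zS (show z ∈ zS S from hz') hs, mul_inv_cancel_right]⟩
  have hGC : G ≤ Subgroup.normalizer (C : Set (MulAut E)) := by
    have key : ∀ g ∈ G, ∀ c ∈ C, g * c * g⁻¹ ∈ C := fun g hg c hc' =>
      ⟨G.mul_mem (G.mul_mem hg hc'.1) (G.inv_mem hg), fun z hz' hzE => by
        rw [av_mul _ _ hzE, av_mul _ _ (av_mem _ hzE),
          hc'.2 _ (hinv _ (G.inv_mem hg) z hz') (av_mem _ hzE), av_av_inv _ hzE]⟩
    intro g hg
    refine Subgroup.mem_normalizer_iff.2 fun c => ⟨key g hg c, fun h => ?_⟩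
    simpa [mul_assoc] using key _ (G.inv_mem hg) _ h
  obtain ⟨c, hcC, hcn⟩ := frattini_conj (hsyl.mono hTC inf_le_left) hGC hα
  obtain ⟨g, hg, hgn⟩ := exists_ext d.isP hF hE.2.1 (G.mul_mem hcC.1 hα)
    fun β hβ => (Subgroup.mem_normalizer_iff.1 hcn β).1 hβ
  have hbig : p * (p * Nat.card (zS S)) < Nat.card ↥(normalizerIn S E) := by
    rw [hN, ← hcE]
    exact lt_mul_left Nat.card_pos (Fact.out : p.Prime).one_lt
  obtain ⟨β, hβ, hβg⟩ := agree_of_lt d.isP hF (p * (p * Nat.card (zS S)))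
    (fun R hR hcR => by
      obtain ⟨_, _, -, -, -, -, -, h⟩ := d.shape hF hR fun h => hAe (h ▸ hR)
      rcases h with ⟨-, h⟩ | ⟨-, h, -⟩
      · rw [h] at hcR
        exact absurd hcR (not_lt.2 (Nat.le_mul_of_pos_left _ (Fact.out : p.Prime).pos))
      · omega) hg hbig
  refine ⟨β, hβ, fun r hr => ⟨⟨fun h => ?_, hinv α hα r⟩, fun hrz => ?_⟩⟩
  · have := hinv _ (G.inv_mem hα) _ h
    rwa [av_inv_av α hr] at this
  · rw [← (hβg r (le_normalizerIn hES hr)).2 hrz, hgn r hr, av_mul _ _ hr,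
      hcC.2 _ (hinv α hα r hrz) (av_mem α hr)]

/-- An abelian essential subgroup `E` gives a decomposition `Z(S) = D C` with `C` invariant in `E`,
and an automorphism of `S` inverting `D = Z(S) ∩ ⁅S, S⁆` and fixing `C`. -/
theorem Datum.abelian_data (hp2 : p ≠ 2) {E : Subgroup Ω} (hE : F.IsEssential p E)
    (hcE : Nat.card E = p * Nat.card (zS S)) :
    ∃ C : Subgroup Ω, C ≤ zS S ∧ (∀ z ∈ zS S, ∃ e ∈ dS S, ∃ c ∈ C, z = e * c) ∧
      (∀ α ∈ F.autGroup E, ∀ c ∈ C, av α c ∈ C) ∧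
      ∃ β ∈ F.autGroup S, (∀ e ∈ dS S, av β e = e⁻¹) ∧ ∀ c ∈ C, av β c = c := by
  have hp : p.Prime := Fact.out
  obtain ⟨x, hx, hxA, hz, hxE, hN, hc, h⟩ := d.shape hF hE fun h => hAe (h ▸ hE)
  obtain ⟨hEeq, -⟩ : E = zS S ⊔ Subgroup.zpowers x ∧ Nat.card E = p * Nat.card (zS S) := by
    rcases h with h | ⟨-, h, -⟩
    · exact h
    · exfalso
      rw [hcE, ← mul_assoc] at h
      have h1 : p * 1 = p * p := by
        rw [mul_one]; exact Nat.eq_of_mul_eq_mul_right Nat.card_pos h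
      exact hp.ne_one (Nat.eq_of_mul_eq_mul_left hp.pos h1).symm
  have hES := hE.1.1
  haveI := finite_of_le hES
  haveI := mulAut_finite_of_le hES
  have hab : ∀ u ∈ E, ∀ v ∈ E, u * v = v * u := comm_of_le_sup hx hEeq.le
  have hEA : E ⊓ A = zS S := by rw [hEeq]; exact d.zS_sup_inf hx hxA
  have hCE : centralizerIn S E = E := le_antisymm (hE.1.2 E (isConj_refl hES))
    fun y hy => mem_centralizerIn.2 ⟨hES hy, fun w hw => hab w hw y hy⟩
  set N := normalizerIn S E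
  obtain ⟨b, hbN, hbz⟩ : ∃ b ∈ N ⊓ A, b ∉ zS S := by
    by_contra hcon
    simp only [not_exists, not_and, not_not] at hcon
    have h1 := d.card_inf (P := N) inf_le_left (le_normalizerIn hES hxE) hxA
    have h2 : Nat.card ↥(N ⊓ A) ≤ Nat.card (zS S) :=
      haveI := finite_of_le (SmallCenter.zS_le (S := S)); Subgroup.card_le_of_le hcon
    rw [hN, hcE] at h1
    have := Nat.eq_of_mul_eq_mul_left hp.pos h1
    have hzpos : 0 < Nat.card (zS S) := haveI := finite_of_le (SmallCenter.zS_le (S := S)); Nat.card_pos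
    have := lt_mul_left hzpos hp.one_lt
    omega
  set T := autInducedBy S E
  have hcT : Nat.card T = p := by
    have h1 := card_autS_mul (S := S) (P := E)
    rw [hCE, hN] at h1
    exact Nat.eq_of_mul_eq_mul_right Nat.card_pos h1
  obtain ⟨a, ha, haS⟩ := exists_aut_conj hbN.1.2
  have haT : a ∈ T := haS S hbN.1.1
  have hsyl : SylIn p T (F.autGroup E) := (fa_iff.1 (fc_fa_of_fn d.isP hF hE.2.1).2).2
  have haG := hsyl.le haT
  have hfix' : ∀ y ∈ E, av a y = y → y ∈ zS S := by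
    intro y hy hay
    by_contra hyz
    have hyA : y ∉ A := fun h => hyz (hEA.le ⟨hy, h⟩)
    rw [ha y hy, mul_inv_eq_iff_eq_mul] at hay
    exact hbz (d.mem_zS (hES hy) hyA hbN.2 hay.symm)
  have ha1 : a ≠ 1 := fun h => hxA (d.zS_le (hfix' x hxE (by rw [h, av_one hxE])))
  have hap : a ^ p = 1 := by
    have h := pow_card_eq_one' (x := (⟨a, haT⟩ : T))
    rw [hcT] at h
    exact congrArg Subtype.val h
  have hTz : T = Subgroup.zpowers a := (Subgroup.eq_of_le_of_card_ge (Subgroup.zpowers_le.2 haT)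
    (by rw [hcT, Nat.card_zpowers, orderOf_eq_prime hap ha1])).symm
  have hGfa : ∀ P : Subgroup (MulAut E), P ≤ F.autGroup E → IsPGroup p ↥P → Nat.card ↥P ≤ p :=
    fun P hP hPp => hcT ▸ hsyl.card_le hPp hP
  letI iE : CommGroup E :=
    { (inferInstance : Group E) with mul_comm := fun u v => Subtype.ext (hab u u.2 v v.2) }
  have hfix : TransPair.fixSub a = (zS S).subgroupOf E := by
    ext y
    rw [TransPair.mem_fixSub, Subgroup.mem_subgroupOf]
    refine ⟨fun h => hfix' y y.2 (by rw [av_coe, h]), fun h => Subtype.ext ?_⟩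
    rw [← av_coe, ha y y.2, comm_zS h hbN.1.1, mul_inv_cancel_right]
  have hidx : (TransPair.fixSub a).index = p := by
    have h1 := ((zS S).subgroupOf E).index_mul_card
    rw [Nat.card_congr (Subgroup.subgroupOfEquivOfLe hz).toEquiv, hcE] at h1
    rw [hfix]
    exact Nat.eq_of_mul_eq_mul_right (haveI := finite_of_le (SmallCenter.zS_le (S := S)); Nat.card_pos) h1
  obtain ⟨u, hu⟩ := TransPair.exists_datum (d.isP.to_le hES) haG hap ha1 hGfa hidx
  have hn : ∃ g ∈ F.autGroup E, g * a * g⁻¹ ∉ Subgroup.zpowers a := by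
    by_contra hcon
    simp only [not_exists, not_and, not_not] at hcon
    have hnT : (T.subgroupOf (F.autGroup E)).Normal := by
      constructor
      intro β hβ γ
      rw [Subgroup.mem_subgroupOf, hTz] at hβ ⊢
      obtain ⟨k, hk⟩ := hβ
      show (γ : MulAut E) * β * (γ : MulAut E)⁻¹ ∈ _
      rw [← show a ^ k = β from hk, ← conj_zpow]
      exact zpow_mem (hcon γ γ.2) k
    have h1 : a ∈ Inn E := by
      rw [← (radical_of_essential d.isP hF hE).2]
      exact ⟨⟨a, haG⟩, le_pCore (hn := hnT) ((isPGroup_autS d.isP).comap_subtype) haT, rfl⟩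
    obtain ⟨g, hg, h⟩ := mem_Inn.1 h1
    exact ha1 (aut_ext fun y hy => by rw [h y hy, hab g hg y hy, mul_inv_cancel_right, av_one hy])
  obtain ⟨w, C₀, P, -, hτ⟩ := hu.pair hn
  obtain ⟨τ, hτG, hτa, hτu, hτC⟩ := hτ hp2
  have huZ : (u : Ω) ∈ zS S := by
    have h1 : u ∈ TransPair.fixSub a := hu.u_fix
    rw [hfix] at h1
    exact h1
  have hud : (u : Ω) ∈ ⁅S, S⁆ := by
    obtain ⟨y, hy⟩ : ∃ y : E, y⁻¹ * a y ≠ 1 := by
      by_contra hcon
      simp only [not_exists, not_not] at hcon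
      exact ha1 (MulEquiv.ext fun y => (inv_mul_eq_one.1 (hcon y)).symm)
    obtain ⟨k, hk⟩ := TransPair.mem_zpowers_swap hu.u_pow hy (hu.diff y)
    rw [← hk]
    show ((y⁻¹ * a y : E) : Ω) ^ k ∈ ⁅S, S⁆
    rw [Subgroup.coe_mul, Subgroup.coe_inv, ← av_coe, ha y y.2,
      show (y : Ω)⁻¹ * (b * y * b⁻¹) = ⁅((y : Ω))⁻¹, b⁆ by simp [commutatorElement_def, mul_assoc]]
    exact zpow_mem (Subgroup.commutator_mem_commutator (S.inv_mem (hES y.2)) hbN.1.1) k
  have hD : Subgroup.zpowers (u : Ω) = dS S := by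
    haveI := finite_of_le ((dS_le (S := S)).trans SmallCenter.zS_le)
    refine Subgroup.eq_of_le_of_card_ge (Subgroup.zpowers_le.2 ⟨hud, huZ⟩) ?_
    rw [hc, Nat.card_zpowers, orderOf_eq_prime (congrArg Subtype.val hu.u_pow)
      fun h => hu.u_ne (Subtype.ext h)]
  obtain ⟨g, hg, hgτ⟩ := exists_ext d.isP hF hE.2.1 hτG fun β hβ => by
    change β ∈ T at hβ
    show _ ∈ T
    rw [hTz] at hβ ⊢
    obtain ⟨k, rfl⟩ := hβ
    show τ * a ^ k * τ⁻¹ ∈ _
    rw [← conj_zpow, hτa]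
    exact ⟨k, rfl⟩
  have hbig : p * Nat.card (zS S) < Nat.card N := by
    rw [hN, ← hcE]
    exact lt_mul_left Nat.card_pos hp.one_lt
  obtain ⟨β, hβ, hβg⟩ := d.agree hF hAe hg hbig
  have hβτ : ∀ z : E, (z : Ω) ∈ zS S → av β z = (τ z : Ω) := fun z hz' => by
    rw [← (hβg z (le_normalizerIn hES z.2)).2 hz', hgτ z z.2, av_coe]
  refine ⟨C₀.map E.subtype, ?_, fun z hz' => ?_, ?_, β, hβ, fun e he => ?_, ?_⟩
  · rintro _ ⟨c, hc', rfl⟩
    have h1 : c ∈ TransPair.fixSub a := P.C_fix c hc'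
    rw [hfix] at h1
    exact h1
  · have h1 : (⟨z, hz hz'⟩ : E) ∈ (zS S).subgroupOf E := hz'
    rw [← hfix] at h1
    obtain ⟨i, c, hc', he⟩ := P.fix_decomp _ h1
    exact ⟨(u : Ω) ^ i, hD ▸ Subgroup.pow_mem _ (Subgroup.mem_zpowers _) i, c, ⟨c, hc', rfl⟩,
      congrArg Subtype.val he⟩
  · rintro α hα _ ⟨c, hc', rfl⟩
    exact ⟨α c, P.C_inv α hα c hc', (av_coe α c).symm⟩
  · rw [← hD] at he
    obtain ⟨k, rfl⟩ := he
    show av β ((u : Ω) ^ k) = ((u : Ω) ^ k)⁻¹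
    rw [show (u : Ω) ^ k = ((u ^ k : E) : Ω) from (SubgroupClass.coe_zpow u k).symm,
      hβτ _ (by rw [SubgroupClass.coe_zpow]; exact zpow_mem huZ k), map_zpow, hτu, inv_zpow,
      Subgroup.coe_inv]
  · rintro _ ⟨c, hc', rfl⟩
    have h1 : c ∈ TransPair.fixSub a := P.C_fix c hc'
    rw [hfix] at h1
    show av β (c : Ω) = c
    rw [hβτ c h1, hτC c hc']

/-- The conclusions: an abelian essential subgroup exists, and `Z(S)` has order `p` and lies in
`⁅S, S⁆`. -/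
theorem Datum.core_free (hp2 : p ≠ 2) (hcore : F.core = ⊥) :
    (∃ x ∈ S, x ∉ A ∧ F.IsEssential p (zS S ⊔ Subgroup.zpowers x)) ∧ zS S ≤ ⁅S, S⁆ ∧
      Nat.card (zS S) = p ∧ Nat.card ↥(dS S) = p := by
  have hp : p.Prime := Fact.out
  have hzne : zS S ≠ ⊥ := by
    obtain ⟨u, hu, v, hv, hne⟩ := d.na
    haveI : Nontrivial S := ⟨⟨⟨u, hu⟩, 1, fun h => hne (by
      rw [show u = 1 from congrArg Subtype.val h]; simp)⟩⟩
    haveI := d.isP.center_nontrivial
    obtain ⟨z, hz⟩ := exists_ne (1 : Subgroup.center S)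
    have h1 : ((z : S) : Ω) ∈ zS S := by
      have h2 : (z : S) ∈ (zS S).subgroupOf S := by rw [SmallCenter.subgroupOf_zS]; exact z.2
      exact h2
    intro h
    rw [h, Subgroup.mem_bot] at h1
    exact hz (Subtype.ext (Subtype.ext h1))
  have hnormal : ∀ K : Subgroup Ω, K ≤ zS S → (∀ α ∈ F.autGroup S, ∀ z ∈ K, av α z ∈ K) →
      (∀ E, F.IsEssential p E → zS S ≤ E → ∀ α ∈ F.autGroup E, ∀ z ∈ K, av α z ∈ K) → K = ⊥ := by
    intro K hK h1 h2
    have hn : F.IsNormal K := normal_of_gen d.isP hF (hK.trans SmallCenter.zS_le) fun P hP => by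
      rcases hP with rfl | hP
      · exact ⟨hK.trans SmallCenter.zS_le, h1⟩
      · obtain ⟨-, -, -, hz, -⟩ := d.shape hF hP fun h => hAe (h ▸ hP)
        exact ⟨hK.trans hz, h2 P hP hz⟩
    exact le_bot_iff.1 (hcore ▸ le_sSup hn)
  obtain ⟨E, hE, x, hx, hxA, hEx, hcE, hc⟩ : ∃ E, F.IsEssential p E ∧ ∃ x ∈ S, x ∉ A ∧
      E = zS S ⊔ Subgroup.zpowers x ∧ Nat.card E = p * Nat.card (zS S) ∧
      Nat.card ↥(dS S) = p := by
    by_contra hcon
    refine hzne (hnormal _ le_rfl (fun α _ z hz => SmallCenter.av_mem_zS α hz) fun E hE _ => ?_)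
    obtain ⟨x, hx, hxA, -, -, -, hc, h⟩ := d.shape hF hE fun h => hAe (h ▸ hE)
    rcases h with ⟨h, h'⟩ | ⟨-, -, h⟩
    · exact absurd ⟨E, hE, x, hx, hxA, h, h', hc⟩ hcon
    · exact h
  refine ⟨⟨x, hx, hxA, hEx ▸ hE⟩, ?_⟩
  obtain ⟨C, hC, hdec, -, τ, hτ, hτD, hτC⟩ := d.abelian_data hF hAe hp2 hE hcE
  have hsq : ∀ e ∈ dS S, e⁻¹ = e → e = 1 := fun e he hee => by
    have h1 : e ^ 2 ∈ (⊥ : Subgroup Ω) := by
      rw [Subgroup.mem_bot, sq]; nth_rw 2 [← hee]; exact mul_inv_cancel e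
    have h2 : e ^ p ∈ (⊥ : Subgroup Ω) := by
      have := pow_card_eq_one' (x := (⟨e, he⟩ : dS S))
      rw [hc] at this
      rw [Subgroup.mem_bot]
      exact congrArg Subtype.val this
    exact (Subgroup.mem_bot.1 (SmallCenter.mem_of_pow_coprime h1 h2
      ((Nat.coprime_primes Nat.prime_two hp).2 (Ne.symm hp2))))
  -- each complement so obtained is `c0 F`
  have hcanon : ∀ C : Subgroup Ω, C ≤ zS S → (∀ z ∈ zS S, ∃ e ∈ dS S, ∃ c ∈ C, z = e * c) →
      ∀ τ ∈ F.autGroup S, (∀ e ∈ dS S, av τ e = e⁻¹) → (∀ c ∈ C, av τ c = c) → C = c0 F := by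
    intro C hC hdec τ hτ hτD hτC
    have hDS : dS S ≤ S := dS_le.trans SmallCenter.zS_le
    have hτk : τ ∈ k0 F := by
      refine ⟨hτ, fun z hz => ?_⟩
      obtain ⟨e, he, c, hc', rfl⟩ := hdec z hz
      rw [SmallCenter.av_mul' τ (hDS he) (SmallCenter.zS_le (hC hc')), hτD e he, hτC c hc',
        mul_inv_rev, mul_assoc, ← mul_assoc e⁻¹ e⁻¹ c,
        comm_zS (hC hc') (hDS (Subgroup.mul_mem _ (Subgroup.inv_mem _ he) (Subgroup.inv_mem _ he))),
        inv_mul_cancel_left]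
      exact Subgroup.mul_mem _ (Subgroup.inv_mem _ he) (Subgroup.inv_mem _ he)
    refine le_antisymm ?_ fun z hz => ?_
    · intro c hc'
      refine ⟨hC hc', fun β hβ => ?_⟩
      set σ := (β * τ)⁻¹ * (τ * β)
      have hσ : σ ∈ k0 F := Subgroup.mul_mem _ (Subgroup.inv_mem _ (Subgroup.mul_mem _ hβ hτk))
        (Subgroup.mul_mem _ hτk hβ)
      have hσD : ∀ e ∈ dS S, av σ e = e := fun e he => by
        have h1 : av (τ * β) e = av (β * τ) e := by
          rw [av_mul _ _ (hDS he), av_mul _ _ (hDS he), hτD e he, hτD _ (av_mem_dS β he),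
            SmallCenter.av_inv' β (hDS he)]
        rw [av_mul _ _ (hDS he), h1, av_inv_av _ (hDS he)]
      have hσc := fix_of_stab d.isP hF hDS hσ.1 hσD hσ.2 c (hC hc')
      have hcS := SmallCenter.zS_le (hC hc')
      have h2 : av τ (av β c) = av β c := by
        have h3 := congrArg (av (β * τ)) hσc
        rw [av_mul _ _ hcS, av_av_inv _ (av_mem _ hcS), av_mul _ _ hcS, av_mul _ _ hcS,
          hτC c hc'] at h3
        exact h3
      set e := c⁻¹ * av β c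
      have he : e ∈ dS S := hβ.2 c (hC hc')
      rw [show av β c = c * e from (mul_inv_cancel_left _ _).symm,
        SmallCenter.av_mul' τ hcS (hDS he), hτC c hc', hτD e he] at h2
      rw [show av β c = c * e from (mul_inv_cancel_left _ _).symm, hsq e he (mul_left_cancel h2),
        mul_one]
    · obtain ⟨e, he, c, hc', rfl⟩ := hdec z hz.1
      have h1 := hz.2 τ hτk
      rw [SmallCenter.av_mul' τ (hDS he) (SmallCenter.zS_le (hC hc')), hτD e he, hτC c hc'] at h1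
      rw [hsq e he (mul_right_cancel h1), one_mul]
      exact hc'
  have hbot : c0 F = ⊥ := by
    refine hnormal _ (fun z hz => hz.1) (fun α hα z hz => c0_inv hα hz) fun E' hE' hz' α hα z hz => ?_
    obtain ⟨_, _, -, -, -, -, -, h⟩ := d.shape hF hE' fun h => hAe (h ▸ hE')
    rcases h with ⟨-, h⟩ | ⟨-, h, -⟩
    · obtain ⟨C', hC', hdec', hinv, τ', hτ', hτD', hτC'⟩ := d.abelian_data hF hAe hp2 hE' h
      have he := hcanon C' hC' hdec' τ' hτ' hτD' hτC'
      exact he ▸ hinv α hα z (he ▸ hz)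
    · haveI := finite_of_le hE'.1.1
      obtain ⟨β, hβ, hβα⟩ := d.agree hF hAe (map_of_mem_autGroup hE'.1.1 hα) (by
        rw [h]
        exact lt_mul_left (Nat.mul_pos hp.pos
          (haveI := finite_of_le (SmallCenter.zS_le (S := S)); Nat.card_pos)) hp.one_lt)
      rw [(hβα z (hz' hz.1)).2 hz.1]
      exact c0_inv hβ hz
  have hCbot : C = ⊥ := (hcanon C hC hdec τ hτ hτD hτC).trans hbot
  have hZD : zS S = dS S := by
    refine le_antisymm (fun z hz => ?_) dS_le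
    obtain ⟨e, he, c, hc', rfl⟩ := hdec z hz
    rw [hCbot, Subgroup.mem_bot] at hc'
    rw [hc', mul_one]
    exact he
  exact ⟨hZD.le.trans inf_le_left, by rw [hZD]; exact hc, hc⟩

end Cfsg.Agent.Local.FS.AbIdx
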