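import Cfsg.Agent.Lib.Lead.AbelianIndexBasic

/-!
# Essential subgroups over a `p`-group with an abelian subgroup of index `p`

An essential subgroup `E ≠ A` is `Z(S)⟨x⟩` or `(Z₂(S) ∩ A)⟨x⟩`, has index `p` in its normaliser,
and forces `|Z(S) ∩ ⁅S, S⁆| = p`.
-/

set_option autoImplicit false

open scoped commutatorElement

namespace Cfsg.Agent.Local.FS.AbIdx

open Cfsg Cfsg.FusionSystem Cfsg.Agent.Fusion Cfsg.Agent.Local
open Cfsg.Agent.Local.FS.SmallCenter (zS comm_zS)

variable {Ω : Type*} [Group Ω] {S A : Subgroup Ω} [Finite S] {p : ℕ} [Fact p.Prime]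
  {F : FusionSystem S} {E : Subgroup Ω}

theorem card_eq_mul_of_lt (hS : IsPGroup p S) {P R : Subgroup Ω} (h : P < R) (hR : R ≤ S)
    (hle : Nat.card R ≤ p * Nat.card P) : Nat.card R = p * Nat.card P := by
  have hp : p.Prime := Fact.out
  haveI := finite_of_le hR
  haveI := finite_of_le (h.le.trans hR)
  obtain ⟨m, hm⟩ := IsPGroup.iff_card.1 (hS.to_le (h.le.trans hR))
  obtain ⟨n, hn⟩ := IsPGroup.iff_card.1 (hS.to_le hR)
  have h1 := card_lt_of_lt h hR
  rw [hm, hn] at h1 hle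
  rw [← pow_succ'] at hle
  have h2 := (Nat.pow_lt_pow_iff_right hp.one_lt).1 h1
  have h3 := (Nat.pow_le_pow_iff_right hp.one_lt).1 hle
  rw [hm, hn, show n = m + 1 by omega, pow_succ']

/-- A subgroup between `Z(S)` and `Z(S)⟨x⟩` is abelian. -/
theorem comm_of_le_sup {x : Ω} (hx : x ∈ S) {P : Subgroup Ω} (hP : P ≤ zS S ⊔ Subgroup.zpowers x) :
    ∀ u ∈ P, ∀ v ∈ P, u * v = v * u := by
  have hle : zS S ⊔ Subgroup.zpowers x ≤
      Subgroup.centralizer ((zS S ⊔ Subgroup.zpowers x : Subgroup Ω) : Set Ω) := by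
    refine sup_le (fun y hy => Subgroup.mem_centralizer_iff.2 fun w hw =>
        comm_zS hy (sup_zpowers_le hx hw)) (Subgroup.zpowers_le.2 ?_)
    have hwc : zS S ⊔ Subgroup.zpowers x ≤ Subgroup.centralizer ({x} : Set Ω) := sup_le
      (fun y hy => Subgroup.mem_centralizer_iff.2 (by rintro _ rfl; exact comm_zS hy hx))
      (Subgroup.zpowers_le.2 (Subgroup.mem_centralizer_iff.2 (by rintro _ rfl; rfl)))
    exact Subgroup.mem_centralizer_iff.2 fun w hw =>
      (Subgroup.mem_centralizer_iff.1 (hwc hw) x rfl).symm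
  exact fun u hu v hv => Subgroup.mem_centralizer_iff.1 (hle (hP hv)) u (hP hu)

/-- An element of `N_S(E)` fixing an invariant `K ≤ E` and moving `E` only within `K` lies in `E`. -/
theorem mem_of_stabilize (hS : IsPGroup p S) (hF : F.IsSaturated p) (hE : F.IsEssential p E)
    {K : Subgroup Ω} (hKE : K ≤ E) (hK : ∀ α ∈ F.autGroup E, ∀ x ∈ K, av α x ∈ K)
    {a : Ω} (ha : a ∈ S) (hn : a ∈ Subgroup.normalizer (E : Set Ω))
    (hfix : ∀ k ∈ K, a * k * a⁻¹ = k) (hdiff : ∀ x ∈ E, x⁻¹ * (a * x * a⁻¹) ∈ K) : a ∈ E := by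
  have hES := hE.1.1
  haveI := finite_of_le hES
  haveI := mulAut_finite_of_le hES
  let B : Subgroup (F.autGroup E) :=
    { carrier := {α | (∀ k ∈ K, av (α : MulAut E) k = k) ∧ ∀ x ∈ E, x⁻¹ * av (α : MulAut E) x ∈ K}
      one_mem' := ⟨fun k hk => av_one (hKE hk),
        fun x hx => by rw [OneMemClass.coe_one, av_one hx, inv_mul_cancel]; exact K.one_mem⟩
      mul_mem' := fun {α β} hα hβ => ⟨fun k hk => by
          rw [Subgroup.coe_mul, av_mul _ _ (hKE hk), hβ.1 k hk, hα.1 k hk],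
        fun x hx => by
          have := K.mul_mem (hβ.2 x hx) (hα.2 _ (av_mem (β : MulAut E) hx))
          rw [Subgroup.coe_mul, av_mul _ _ hx]
          simpa [mul_assoc] using this⟩
      inv_mem' := fun {α} hα => ⟨fun k hk => by
          rw [Subgroup.coe_inv]
          conv_lhs => rw [← hα.1 k hk]
          exact av_inv_av _ (hKE hk),
        fun x hx => by
          have := K.inv_mem (hα.2 _ (av_mem (α : MulAut E)⁻¹ hx))
          rw [av_av_inv _ hx, mul_inv_rev, inv_inv] at this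
          rwa [Subgroup.coe_inv]⟩ }
  have hBn : B.Normal := by
    constructor
    intro β hβ α
    refine ⟨fun k hk => ?_, fun x hx => ?_⟩
    · rw [Subgroup.coe_mul, Subgroup.coe_mul, Subgroup.coe_inv, av_mul _ _ (hKE hk),
        av_mul _ _ (av_mem _ (hKE hk)), hβ.1 _ (hK _ (Subgroup.inv_mem _ α.2) k hk),
        av_av_inv _ (hKE hk)]
    · rw [Subgroup.coe_mul, Subgroup.coe_mul, Subgroup.coe_inv, av_mul _ _ hx,
        av_mul _ _ (av_mem _ hx)]
      set w := av (α : MulAut E)⁻¹ x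
      have hw : w ∈ E := av_mem _ hx
      have := hK _ α.2 _ (hβ.2 w hw)
      rwa [SmallCenter.av_mul' _ (E.inv_mem hw) (av_mem _ hw), SmallCenter.av_inv' _ hw,
        av_av_inv _ hx] at this
  have hBp : IsPGroup p ↥B := by
    rintro ⟨α, hα⟩
    obtain ⟨k, hk⟩ := exists_pow_eq_one_of_stabilizes (hS.to_le hES) (α := (α : MulAut E))
      (fun i => if i = 0 then ⊥ else if i = 1 then K else E) 2 rfl le_rfl
      (monotone_nat_of_le_succ fun i => by
        rcases i with _ | _ | i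
        · exact bot_le
        · exact hKE
        · exact le_rfl)
      (fun i hi x hx hxC => by
        interval_cases i
        · rw [hα.1 x hxC, inv_mul_cancel]; exact Subgroup.one_mem _
        · exact hα.2 x hx)
    exact ⟨k, Subtype.ext (Subtype.ext hk)⟩
  obtain ⟨β, hβ, hβS⟩ := exists_aut_conj hn
  have hβF : β ∈ F.autGroup E := autInducedBy_le_autGroup hES (hβS S ha)
  have hβB : (⟨β, hβF⟩ : F.autGroup E) ∈ B :=
    ⟨fun k hk => (hβ k (hKE hk)).trans (hfix k hk), fun x hx => by rw [hβ x hx]; exact hdiff x hx⟩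
  have hin : β ∈ Inn E := by
    rw [← (radical_of_essential hS hF hE).2]
    exact ⟨⟨β, hβF⟩, le_pCore (hn := hBn) hBp hβB, rfl⟩
  obtain ⟨y, hy, hyβ⟩ := mem_Inn.1 hin
  have hc : y⁻¹ * a ∈ centralizerIn S E := by
    refine mem_centralizerIn.2 ⟨S.mul_mem (S.inv_mem (hES hy)) ha, fun x hx => ?_⟩
    have h1 := (hβ x hx).symm.trans (hyβ x hx)
    calc x * (y⁻¹ * a) = y⁻¹ * (y * x * y⁻¹) * a := by group
      _ = y⁻¹ * (a * x * a⁻¹) * a := by rw [h1]
      _ = _ := by group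
  simpa using E.mul_mem hy (hE.1.2 E (isConj_refl hES) hc)

/-- An automorphism normalising `Aut_S(P)` extends to `N_S(P)`. -/
theorem exists_ext (hS : IsPGroup p S) (hF : F.IsSaturated p) {P : Subgroup Ω}
    (hP : F.IsFullyNormalized P) {n : MulAut P} (hn : n ∈ F.autGroup P)
    (hN : ∀ β ∈ autInducedBy S P, n * β * n⁻¹ ∈ autInducedBy S P) :
    ∃ g, Map F (normalizerIn S P) g ∧ ∀ x ∈ P, g x = av n x := by
  obtain ⟨g, hg, hgn⟩ := (receptive_iff.1 (receptive_of_fc hS hF (fc_fa_of_fn hS hF hP).1)).2 P _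
    (map_of_mem_autGroup hP.1 hn) (im_av n)
  refine ⟨g, hg.restrict fun s hs => ?_, hgn⟩
  obtain ⟨β, hβ, hβS⟩ := exists_aut_conj hs.2
  obtain ⟨h, hh, hhβ⟩ := mem_autInducedBy.1 (hN β (hβS S hs.1))
  refine ⟨hs.1, hs.2, h, hh, fun x hx => ?_⟩
  have h2 := hhβ _ (av_mem n hx)
  rw [av_mul _ _ (av_mem n hx), av_inv_av n hx, av_mul _ _ hx, hβ x hx] at h2
  exact h2

variable (d : Datum p S A)
include d

theorem Datum.not_le_A (hE : F.IsEssential p E) (hEA : E ≠ A) : ∃ x ∈ E, x ∉ A := by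
  by_contra h
  simp only [not_exists, not_and, not_not] at h
  exact hEA (le_antisymm h fun a ha => hE.1.2 E (isConj_refl hE.1.1)
    (mem_centralizerIn.2 ⟨d.le ha, fun y hy => d.comm y (h y hy) a ha⟩))

/-- The shape of the essential subgroups other than `A`. -/
theorem Datum.shape (hF : F.IsSaturated p) (hE : F.IsEssential p E) (hEA : E ≠ A) :
    ∃ x, ∃ hx : x ∈ S, x ∉ A ∧ zS S ≤ E ∧ x ∈ E ∧
      Nat.card ↥(normalizerIn S E) = p * Nat.card E ∧ Nat.card ↥(⁅S, S⁆ ⊓ zS S) = p ∧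
      ((E = zS S ⊔ Subgroup.zpowers x ∧ Nat.card E = p * Nat.card (zS S)) ∨
        (E = d.pre hx (zS S) ⊔ Subgroup.zpowers x ∧ Nat.card E = p * (p * Nat.card (zS S)) ∧
          ∀ α ∈ F.autGroup E, ∀ z ∈ zS S, av α z ∈ zS S)) := by
  have hp : p.Prime := Fact.out
  have hlt := lt_of_essential d.isP hF hE
  have hES := hlt.le
  haveI := finite_of_le hES
  haveI := mulAut_finite_of_le hES
  have hC : centralizerIn S E ≤ E := hE.1.2 E (isConj_refl hES)
  have hz : zS S ≤ E := fun z hz => hC (mem_centralizerIn.2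
    ⟨SmallCenter.zS_le hz, fun y hy => comm_zS hz (hES hy)⟩)
  obtain ⟨x, hxE, hxA⟩ := d.not_le_A hE hEA
  have hx := hES hxE
  refine ⟨x, hx, hxA, hz, hxE, ?_⟩
  set Q := E ⊓ A with hQdef
  have hcE : Nat.card E = p * Nat.card Q := d.card_inf hES hxE hxA
  have hEQ : E = Q ⊔ Subgroup.zpowers x :=
    le_antisymm (d.le_sup hES hxE hxA le_rfl) (sup_le inf_le_left (Subgroup.zpowers_le.2 hxE))
  have hzQ : zS S ≤ Q := le_inf hz d.zS_le
  set N := normalizerIn S E
  have hEN : E ≤ N := le_normalizerIn hES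
  have hltN : E < N := lt_normalizerIn d.isP hlt
  have hcN : Nat.card N = p * Nat.card ↥(N ⊓ A) := d.card_inf inf_le_left (hEN hxE) hxA
  have hQN : Q < N ⊓ A := by
    refine lt_of_le_of_ne (inf_le_inf_right A hEN) fun h => ?_
    have := card_lt_of_lt hltN (inf_le_left : N ≤ S)
    rw [hcN, hcE, h] at this
    exact lt_irrefl _ this
  haveI := finite_of_le ((inf_le_right : N ⊓ A ≤ A).trans d.le)
  have hNA : N ⊓ A = d.pre hx Q := by
    refine le_antisymm (fun a ha => (d.mem_pre hx).2 ⟨ha.2,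
      Subgroup.mem_inf.2 ⟨?_, d.commutator_mem hx ha.2⟩⟩) fun a ha => ?_
    · rw [commutatorElement_def, mul_assoc x a, mul_assoc x]
      exact E.mul_mem hxE (conj_mem_of_normalizer ha.1.2 (E.inv_mem hxE))
    · obtain ⟨haA, hcom⟩ := (d.mem_pre hx).1 ha
      refine ⟨⟨d.le haA, mem_normalizer_of_conj_mem hES fun y hy => ?_⟩, haA⟩
      have hle : E ≤ E.comap (MulAut.conj a).toMonoidHom := by
        conv_lhs => rw [hEQ]
        refine sup_le (fun q hq => ?_) (Subgroup.zpowers_le.2 ?_)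
        · show a * q * a⁻¹ ∈ E
          rw [d.comm a haA q hq.2, mul_inv_cancel_right]
          exact hq.1
        · show a * x * a⁻¹ ∈ E
          rw [show a * x * a⁻¹ = ⁅x, a⁆⁻¹ * x by simp only [commutatorElement_def]; group]
          exact E.mul_mem (E.inv_mem hcom.1) hxE
      exact hle hy
  have hQpre : Q ≤ d.pre hx Q := fun q hq => (d.mem_pre hx).2 ⟨hq.2, by
    rw [commutatorElement_def]
    exact E.mul_mem (E.mul_mem (E.mul_mem hxE hq.1) (E.inv_mem hxE)) (E.inv_mem hq.1),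
    d.commutator_mem hx hq.2⟩
  have hpreZ : d.pre hx (zS S) ≤ N ⊓ A := fun a ha => hNA ▸ (d.mem_pre hx).2
    ⟨((d.mem_pre hx).1 ha).1, hzQ ((d.mem_pre hx).1 ha).2⟩
  have hnotK : ∀ K : Subgroup Ω, K ≤ E → (∀ k ∈ K, k ∈ A) →
      (∀ α ∈ F.autGroup E, ∀ z ∈ K, av α z ∈ K) →
      ∀ a ∈ N ⊓ A, (∀ y ∈ E, y⁻¹ * (a * y * a⁻¹) ∈ K) → a ∈ Q := fun K hKE hKA hinv a ha hd =>
    ⟨mem_of_stabilize d.isP hF hE hKE hinv ha.1.1 ha.1.2
      (fun k hk => by rw [d.comm a ha.2 k (hKA k hk), mul_inv_cancel_right]) hd, ha.2⟩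
  have hdiffZ : ∀ a ∈ d.pre hx (zS S), ∀ y ∈ E, y⁻¹ * (a * y * a⁻¹) ∈ zS S := fun a ha y hy => by
    have h := d.commutator_mem_zS hx hxA ha (hES hy)
    rw [show y⁻¹ * (a * y * a⁻¹) = y⁻¹ * ⁅a, y⁆ * y by simp only [commutatorElement_def]; group,
      mul_assoc, ← comm_zS h (hES hy), inv_mul_cancel_left]
    exact h
  by_cases hab : ∀ u ∈ E, ∀ v ∈ E, u * v = v * u
  · -- the abelian case
    have hQz : Q = zS S := le_antisymm (fun q hq => d.mem_zS hx hxA hq.2 (hab x hxE q hq.1)) hzQ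
    have hCE : centralizerIn S E = E :=
      le_antisymm hC fun y hy => mem_centralizerIn.2 ⟨hES hy, fun w hw => hab w hw y hy⟩
    set T := autInducedBy S E
    set G := F.autGroup E
    have hTG : T ≤ G := autInducedBy_le_autGroup hES
    have hsyl : SylIn p T G := (fa_iff.1 (fc_fa_of_fn d.isP hF hE.2.1).2).2
    letI iE : CommGroup E :=
      { (inferInstance : Group E) with mul_comm := fun u v => Subtype.ext (hab u u.2 v v.2) }
    set Z' : Subgroup E := (zS S).subgroupOf E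
    have hTZ : ∀ t ∈ T, (∀ z ∈ Z', t z = z) ∧ ∀ y : E, y⁻¹ * t y ∈ Z' := by
      intro t ht
      obtain ⟨s, hs, hst⟩ := mem_autInducedBy.1 ht
      refine ⟨fun z hz => Subtype.ext ?_, fun y => ?_⟩
      · rw [← av_coe, hst z z.2, comm_zS (show (z : Ω) ∈ zS S from hz) hs, mul_inv_cancel_right]
      · show ((y⁻¹ * t y : E) : Ω) ∈ zS S
        rw [← hQz]
        refine ⟨SetLike.coe_mem _, d.commutator_le_A ?_⟩
        rw [Subgroup.coe_mul, Subgroup.coe_inv, ← av_coe, hst y y.2,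
          show (y : Ω)⁻¹ * (s * y * s⁻¹) = ⁅((y : Ω))⁻¹, s⁆ by simp [commutatorElement_def, mul_assoc]]
        exact Subgroup.commutator_mem_commutator (S.inv_mem (hES y.2)) hs
    have hU : ∀ Y : Subgroup E, Y ≤ Z' → ∀ u ∈ G, u ∈ TransPair.stab Y Y → u ∈ T := by
      intro Y hY u hu hus
      set U := G ⊓ TransPair.stab Y Y
      have hnorm : T ≤ Subgroup.normalizer (U : Set (MulAut E)) := by
        have key : ∀ t ∈ T, ∀ v ∈ U, t * v * t⁻¹ ∈ U := by
          intro t ht v hv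
          refine ⟨G.mul_mem (G.mul_mem (hTG ht) hv.1) (G.inv_mem (hTG ht)), fun y hy => ?_, fun y => ?_⟩
          · have h1 : t⁻¹ y = y := (hTZ _ (T.inv_mem ht)).1 y (hY hy)
            rw [MulAut.mul_apply, MulAut.mul_apply, h1, hv.2.1 y hy]
            exact (hTZ t ht).1 y (hY hy)
          · have h1 := hv.2.2 (t⁻¹ y)
            rw [TransPair.diff_conj, (hTZ t ht).1 _ (hY h1)]
            exact h1
        intro t ht
        refine Subgroup.mem_normalizer_iff.2 fun v => ⟨key t ht v, fun h => ?_⟩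
        have := key _ (T.inv_mem ht) _ h
        simpa [mul_assoc] using this
      have hUp : IsPGroup p ↥U :=
        (TransPair.isPGroup_stab (d.isP.to_le hES) (le_refl Y)).to_le inf_le_right
      exact (hsyl.eq_of_le (hsyl.isPGroup.to_sup_of_normal_right' hUp hnorm) le_sup_left
        (sup_le hsyl.le inf_le_left)).le (Subgroup.mem_sup_right ⟨hu, hus⟩)
    obtain ⟨g, hg, z₀, hz₀, hgz⟩ : ∃ g ∈ G, ∃ z ∈ zS S, av g z ∉ zS S := by
      by_contra hcon
      simp only [not_exists, not_and, not_not] at hcon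
      refine hQN.not_ge fun a ha => hnotK (zS S) hz (fun k hk => d.zS_le hk) hcon a ha
        (hdiffZ a ?_)
      rw [← hQz, ← hNA]; exact ha
    have hgA : av g z₀ ∉ A := fun h => hgz (hQz.le ⟨av_mem g (hz hz₀), h⟩)
    have hEg : E ≤ zS S ⊔ Subgroup.zpowers (av g z₀) :=
      d.le_sup hES (av_mem g (hz hz₀)) hgA hQz.le
    have hcE' : Nat.card E = p * Nat.card (zS S) := by rw [hcE, hQz]
    have hidx : Nat.card (E ⧸ Z') = p := by
      have h := Z'.index_mul_card
      rw [Subgroup.index_eq_card, Nat.card_congr (Subgroup.subgroupOfEquivOfLe hz).toEquiv, hcE'] at h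
      exact Nat.eq_of_mul_eq_mul_right Nat.card_pos h
    set x' : E := ⟨x, hxE⟩
    let f : T → E ⧸ Z' := fun t => ((g⁻¹ (x'⁻¹ * (t : MulAut E) x') : E) : E ⧸ Z')
    have hf : Function.Injective f := by
      rintro ⟨t, ht⟩ ⟨s, hs⟩ he
      have h1 : g⁻¹ ((x'⁻¹ * t x')⁻¹ * (x'⁻¹ * s x')) ∈ Z' := by
        rw [map_mul, map_inv]
        exact QuotientGroup.eq.1 he
      set e := (x'⁻¹ * t x')⁻¹ * (x'⁻¹ * s x') with he'
      have h2 : e ∈ Z' := Z'.mul_mem (Z'.inv_mem ((hTZ t ht).2 x')) ((hTZ s hs).2 x')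
      set Y₁ := Z' ⊓ Z'.comap (g⁻¹ : MulAut E).toMonoidHom
      set Y₂ := Z' ⊓ Z'.comap g.toMonoidHom
      set u := t⁻¹ * s
      have huT : u ∈ T := T.mul_mem (T.inv_mem ht) hs
      have hux : u x' = x' * e := by
        have h3 : t⁻¹ x' = x' * (x'⁻¹ * t x')⁻¹ := by
          apply t.injective
          rw [MulAut.apply_inv_self, map_mul, (hTZ t ht).1 _ (Z'.inv_mem ((hTZ t ht).2 x')),
            mul_inv_rev, inv_inv, mul_inv_cancel_left]
        rw [MulAut.mul_apply, show s x' = x' * (x'⁻¹ * s x') by rw [mul_inv_cancel_left], map_mul, h3,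
          (hTZ _ (T.inv_mem ht)).1 _ ((hTZ s hs).2 x'), he', mul_assoc]
      let D : Subgroup E :=
        { carrier := {y | y⁻¹ * u y ∈ Y₁}
          one_mem' := by show (1 : E)⁻¹ * u 1 ∈ Y₁; rw [map_one, inv_one, one_mul]; exact Y₁.one_mem
          mul_mem' := fun {a b} ha hb => by
            show (a * b)⁻¹ * u (a * b) ∈ Y₁
            rw [map_mul, mul_inv, mul_mul_mul_comm]
            exact Y₁.mul_mem ha hb
          inv_mem' := fun {a} ha => by
            show a⁻¹⁻¹ * u a⁻¹ ∈ Y₁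
            rw [map_inv, ← mul_inv]
            exact Y₁.inv_mem ha }
      have hD : ∀ y : E, y ∈ D := by
        intro y
        have hle : E ≤ D.map E.subtype := by
          refine (d.le_sup hES hxE hxA hQz.le).trans (sup_le (fun z hz' => ⟨⟨z, hz hz'⟩, ?_, rfl⟩)
            (Subgroup.zpowers_le.2 ⟨x', ?_, rfl⟩))
          · show (⟨z, _⟩ : E)⁻¹ * u _ ∈ Y₁
            rw [(hTZ u huT).1 _ hz', inv_mul_cancel]; exact Y₁.one_mem
          · show x'⁻¹ * u x' ∈ Y₁
            rw [hux, inv_mul_cancel_left]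
            exact ⟨h2, h1⟩
        obtain ⟨w, hw, hwy⟩ := hle y.2
        exact Subtype.ext hwy ▸ hw
      have hu' : g⁻¹ * u * g ∈ T := by
        refine hU Y₂ inf_le_left _ (G.mul_mem (G.mul_mem (G.inv_mem hg) (hTG huT)) hg)
          ⟨fun y hy => ?_, fun y => ?_⟩
        · rw [MulAut.mul_apply, MulAut.mul_apply, show u (g y) = g y from (hTZ u huT).1 _ hy.2,
            MulAut.inv_apply_self]
        · have h3 := hD (g y)
          rw [show y⁻¹ * (g⁻¹ * u * g) y = g⁻¹ ((g y)⁻¹ * u (g y)) by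
            rw [map_mul, map_inv, MulAut.inv_apply_self]; rfl]
          refine ⟨h3.2, ?_⟩
          show g (g⁻¹ _) ∈ Z'
          rw [MulAut.apply_inv_self]
          exact h3.1
      have hfix := (hTZ _ hu').1 ⟨z₀, hz hz₀⟩ hz₀
      rw [MulAut.mul_apply, MulAut.mul_apply] at hfix
      have hfix' : u (g ⟨z₀, hz hz₀⟩) = g ⟨z₀, hz hz₀⟩ := by
        have := congrArg g hfix
        rwa [MulAut.apply_inv_self] at this
      have hu1 : u = 1 := by
        refine MulEquiv.ext fun y => ?_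
        have hle : E ≤ (TransPair.fixSub u).map E.subtype := hEg.trans
          (sup_le (fun z hz' => ⟨⟨z, hz hz'⟩, (hTZ u huT).1 _ hz', rfl⟩)
            (Subgroup.zpowers_le.2 ⟨g ⟨z₀, hz hz₀⟩, hfix', (av_apply g (hz hz₀)).symm⟩))
        obtain ⟨w, hw, hwy⟩ := hle y.2
        rw [← Subtype.ext hwy]
        exact hw
      exact Subtype.ext (inv_mul_eq_one.1 hu1)
    have hcT : Nat.card T ≤ p := hidx ▸ Nat.card_le_card_of_injective f hf
    have hTN : Nat.card T * Nat.card E = Nat.card N := by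
      have h := card_autS_mul (S := S) (P := E)
      rwa [hCE] at h
    have hN : Nat.card N = p * Nat.card E :=
      card_eq_mul_of_lt d.isP hltN inf_le_left (hTN ▸ Nat.mul_le_mul_right _ hcT)
    refine ⟨hN, ?_, Or.inl ⟨by rw [← hQz]; exact hEQ, hcE'⟩⟩
    rw [hcN, hNA, hQz, d.card_pre hx hxA, hcE'] at hN
    have h5 := Nat.eq_of_mul_eq_mul_left hp.pos hN
    rw [mul_comm p] at h5
    exact Nat.eq_of_mul_eq_mul_left Nat.card_pos h5
  · -- the nonabelian case
    have hzc : ∀ y ∈ E, (∀ w ∈ E, w * y = y * w) → y ∈ zS S := by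
      intro y hy hyc
      by_cases hyA : y ∈ A
      · exact d.mem_zS hx hxA hyA (hyc x hxE)
      · exact absurd (comm_of_le_sup (hES hy) (d.le_sup hES hy hyA fun q hq =>
          d.mem_zS (hES hy) hyA hq.2 (hyc q hq.1).symm)) hab
    have hinv : ∀ α ∈ F.autGroup E, ∀ z ∈ zS S, av α z ∈ zS S := fun α _ z hz' =>
      hzc _ (av_mem α (hz hz')) fun w hw => by
        have h := congrArg (av α) (comm_zS hz' (hES (av_mem α⁻¹ hw)))
        rwa [SmallCenter.av_mul' _ (av_mem _ hw) (hz hz'),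
          SmallCenter.av_mul' _ (hz hz') (av_mem _ hw), av_av_inv _ hw] at h
    have hzQ' : zS S < Q := lt_of_le_of_ne hzQ fun h => hab (comm_of_le_sup hx (by rw [h]; exact hEQ.le))
    have hQle : Nat.card Q ≤ p * Nat.card (zS S) := by
      by_cases hmove : ∃ α ∈ F.autGroup E, ∃ q ∈ Q, av α q ∉ A
      · obtain ⟨α, hα, q, hq, hqA⟩ := hmove
        have hy := av_mem α hq.1
        set P := E ⊓ Subgroup.centralizer ({av α q} : Set Ω)
        have hP : P ≤ zS S ⊔ Subgroup.zpowers (av α q) := d.le_sup (inf_le_left.trans hES)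
          ⟨hy, Subgroup.mem_centralizer_iff.2 (by rintro _ rfl; rfl)⟩ hqA fun w hw =>
            d.mem_zS (hES hy) hqA hw.2 (Subgroup.mem_centralizer_iff.1 hw.1.2 _ rfl)
        have hm := (map_of_mem_autGroup hES hα).restrict (inf_le_left : Q ≤ E)
        haveI := finite_of_le (sup_zpowers_le (S := S) (hES hy))
        rw [← d.card_zS_sup (hES hy) hqA]
        refine hm.card_le fun w hw => hP ⟨av_mem α hw.1, Subgroup.mem_centralizer_iff.2 ?_⟩
        rintro _ rfl
        rw [← SmallCenter.av_mul' α hq.1 hw.1, d.comm q hq.2 w hw.2, SmallCenter.av_mul' α hw.1 hq.1]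
      · simp only [not_exists, not_and, not_not] at hmove
        refine absurd (fun a ha => hnotK Q inf_le_left (fun k hk => hk.2)
          (fun α hα z hz' => ⟨av_mem α hz'.1, hmove α hα z hz'⟩) a ha fun y hy => ?_) hQN.not_ge
        refine ⟨E.mul_mem (E.inv_mem hy) (conj_mem_of_normalizer ha.1.2 hy), ?_⟩
        rw [show y⁻¹ * (a * y * a⁻¹) = y⁻¹ * a * y⁻¹⁻¹ * a⁻¹ by group]
        exact A.mul_mem (d.conj_mem (S.inv_mem (hES hy)) ha.2) (A.inv_mem ha.2)
    have hcQ : Nat.card Q = p * Nat.card (zS S) :=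
      card_eq_mul_of_lt d.isP hzQ' (inf_le_right.trans d.le) hQle
    have hQZ : Q = d.pre hx (zS S) := by
      refine le_antisymm (fun q hq => (d.mem_pre hx).2 ⟨hq.2, ?_⟩)
        fun a ha => hnotK (zS S) hz (fun k hk => d.zS_le hk) hinv a (hpreZ ha) (hdiffZ a ha)
      haveI : ((zS S).subgroupOf E).Normal := ⟨fun z hz' w => by
        show (w : Ω) * z * (w : Ω)⁻¹ ∈ zS S
        rw [comm_zS (show (z : Ω) ∈ zS S from hz') (hES w.2), mul_inv_cancel_right]; exact hz'⟩
      have hq2 : Nat.card (E ⧸ (zS S).subgroupOf E) = p ^ 2 := by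
        have h := ((zS S).subgroupOf E).index_mul_card
        rw [Subgroup.index_eq_card, Nat.card_congr (Subgroup.subgroupOfEquivOfLe hz).toEquiv, hcE,
          hcQ, ← mul_assoc, ← sq] at h
        exact Nat.eq_of_mul_eq_mul_right Nat.card_pos h
      have h := IsPGroup.commutative_of_card_eq_prime_sq hq2
        ((⟨x, hxE⟩ : E) : E ⧸ (zS S).subgroupOf E) ((⟨q, hq.1⟩ : E) : E ⧸ (zS S).subgroupOf E)
      rw [← commutatorElement_eq_one_iff_mul_comm] at h
      have h' : ((⁅(⟨x, hxE⟩ : E), (⟨q, hq.1⟩ : E)⁆ : E) : E ⧸ (zS S).subgroupOf E) = 1 :=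
        (map_commutatorElement (QuotientGroup.mk' _) _ _).trans h
      exact ((QuotientGroup.eq_one_iff (N := (zS S).subgroupOf E) _).1 h' :)
    have hc : Nat.card ↥(⁅S, S⁆ ⊓ zS S) = p := by
      have h := d.card_pre hx hxA (zS S)
      rw [← hQZ, hcQ, mul_comm] at h
      exact (Nat.eq_of_mul_eq_mul_left Nat.card_pos h).symm
    have hle : Nat.card ↥(⁅S, S⁆ ⊓ Q) ≤ p * p := by
      set R := ⁅S, S⁆ ⊓ Q
      have hRS : R ≤ S := inf_le_right.trans (inf_le_left.trans hES)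
      haveI := finite_of_le hRS
      have h2 : (zS S).relIndex Q = p := by
        have h := ((zS S).subgroupOf Q).index_mul_card
        rw [Nat.card_congr (Subgroup.subgroupOfEquivOfLe hzQ).toEquiv, hcQ] at h
        exact Nat.eq_of_mul_eq_mul_right Nat.card_pos h
      have h1 : (zS S).relIndex R ≤ (zS S).relIndex Q :=
        Subgroup.relIndex_le_of_le_right inf_le_right (h2 ▸ hp.ne_zero)
      have h3 := ((zS S).subgroupOf R).index_mul_card
      rw [← h3]
      refine Nat.mul_le_mul (h2 ▸ h1) ?_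
      rw [← hc, ← Subgroup.inf_subgroupOf_right,
        Nat.card_congr (Subgroup.subgroupOfEquivOfLe inf_le_right).toEquiv]
      haveI := finite_of_le ((inf_le_right : ⁅S, S⁆ ⊓ zS S ≤ _).trans SmallCenter.zS_le)
      exact Subgroup.card_le_of_le fun w hw => ⟨hw.2.1, hw.1⟩
    have hNA' : Nat.card ↥(N ⊓ A) ≤ p * Nat.card Q := by
      rw [hcQ, hNA, d.card_pre hx hxA Q, mul_comm, ← mul_assoc]
      exact Nat.mul_le_mul_right _ hle
    have hN : Nat.card N = p * Nat.card E := by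
      rw [hcN, hcE, card_eq_mul_of_lt d.isP hQN (inf_le_right.trans d.le) hNA']
    exact ⟨hN, hc, Or.inr ⟨by rw [← hQZ]; exact hEQ, by rw [hcE, hcQ], hinv⟩⟩

end Cfsg.Agent.Local.FS.AbIdx
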