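import Cfsg.Agent.Lib.Perm.MinNormal
import Cfsg.Prelude.Def_Transfer
import Mathlib.GroupTheory.GroupAction.Primitive
import Mathlib.GroupTheory.Nilpotent

/-!
Primitive groups whose derangements have prime power order: affine or almost simple.
-/

set_option autoImplicit false
set_option linter.style.haveILetI false

namespace Cfsg.Agent.Lead

open Cfsg.Agent.Perm

variable {G : Type*} [Group G] [Finite G]

/-- A proper subgroup and its conjugates do not cover the group. -/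
theorem exists_outside_conjugates {T : Type*} [Group T] [Finite T] {R : Subgroup T} (hR : R ≠ ⊤) :
    ∃ t : T, ∀ x : T, x⁻¹ * t * x ∉ R := by
  by_contra h
  push Not at h
  have hsurj : Function.Surjective (fun z : Option ((T ⧸ R) × {r : R // r ≠ 1}) =>
      (z.map fun w => w.1.out * (w.2.1 : T) * w.1.out⁻¹).getD 1) := by
    intro t
    by_cases ht : t = 1
    · exact ⟨none, ht.symm⟩
    obtain ⟨x, hx⟩ := h t
    obtain ⟨s, hs⟩ := QuotientGroup.mk_out_eq_mul R x
    have hmem : (QuotientGroup.mk x : T ⧸ R).out⁻¹ * t * (QuotientGroup.mk x : T ⧸ R).out ∈ R := by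
      rw [hs]
      have := R.mul_mem (R.mul_mem (R.inv_mem s.2) hx) s.2
      simpa [mul_assoc] using this
    refine ⟨some (QuotientGroup.mk x, ⟨⟨_, hmem⟩, fun e => ht ?_⟩), ?_⟩
    · have e1 : (QuotientGroup.mk x : T ⧸ R).out⁻¹ * t * (QuotientGroup.mk x : T ⧸ R).out = 1 :=
        congrArg Subtype.val e
      have e2 := congrArg (fun u => (QuotientGroup.mk x : T ⧸ R).out * u *
        (QuotientGroup.mk x : T ⧸ R).out⁻¹) e1
      simpa [mul_assoc] using e2
    · simp [mul_assoc]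
  have hle := Nat.card_le_card_of_surjective _ hsurj
  rw [Finite.card_option, Nat.card_prod, ← R.index_eq_card, ← R.index_mul_card] at hle
  have hnR : Nat.card {r : R // r ≠ 1} + 1 = Nat.card R := by
    classical
    have e := Nat.card_congr (Equiv.sumCompl (fun r : R => r = 1))
    rw [Nat.card_sum] at e
    have e1 : Nat.card {r : R // r = 1} = 1 := Nat.card_unique
    simp only [ne_eq]
    omega
  rw [← hnR, mul_add, mul_one] at hle
  have hidx : 1 < R.index := by
    have := R.index_ne_zero_of_finite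
    have : R.index ≠ 1 := fun e => hR (Subgroup.index_eq_one.1 e)
    omega
  omega

variable {Ω : Type*} [MulAction G Ω] [FaithfulSMul G Ω]

/-- A nontrivial normal subgroup fixing no point with a nontrivial element has prime power order. -/
theorem isPGroup_of_semiregular (p : ℕ) (T : Subgroup G)
    (hder : ∀ g : G, (∀ ω : Ω, g • ω ≠ ω) → ∃ k : ℕ, orderOf g = p ^ k)
    (h : ∀ t ∈ T, t ≠ 1 → ∀ ω : Ω, t • ω ≠ ω) : IsPGroup p T := by
  rintro ⟨t, ht⟩
  by_cases ht1 : t = 1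
  · exact ⟨0, Subtype.ext (by simp [ht1])⟩
  · obtain ⟨k, hk⟩ := hder t (h t ht ht1)
    exact ⟨k, Subtype.ext (by simp [← hk, pow_orderOf_eq_one])⟩

theorem affine_or_almostSimple [Finite Ω] (hprim : MulAction.IsPreprimitive G Ω)
    (hΩ : 2 ≤ Nat.card Ω) (p : ℕ) (hp : p.Prime)
    (hder : ∀ g : G, (∀ ω : Ω, g • ω ≠ ω) → ∃ k : ℕ, orderOf g = p ^ k) :
    (∃ (N : Subgroup G) (r : ℕ), r.Prime ∧ N.Normal ∧ Cfsg.IsElementaryAbelian r N ∧
      MulAction.IsPretransitive N Ω ∧ ∀ a : Ω, MulAction.stabilizer N a = ⊥) ∨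
    (∃ T : Subgroup G, T.Normal ∧ IsSimpleGroup T ∧ ¬ IsMulCommutative T ∧
      Subgroup.centralizer (T : Set G) = ⊥) := by
  haveI := Fact.mk hp
  haveI := hprim
  haveI : Nontrivial Ω := Finite.one_lt_card_iff_nontrivial.1 hΩ
  haveI : Nontrivial G := by
    obtain ⟨a, b, hab⟩ := exists_pair_ne Ω
    obtain ⟨g, hg⟩ := MulAction.exists_smul_eq G a b
    exact ⟨⟨g, 1, fun e => hab (by rw [← hg, e, one_smul])⟩⟩
  have htrans : ∀ K : Subgroup G, K.Normal → K ≠ ⊥ → MulAction.IsPretransitive K Ω := by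
    intro K hK hK1
    haveI := hK
    refine MulAction.IsQuasiPreprimitive.isPretransitive_of_normal fun h => hK1 ?_
    rw [eq_bot_iff]
    intro k hk
    refine FaithfulSMul.eq_of_smul_eq_smul (α := Ω) fun a => ?_
    rw [one_smul]
    exact (Set.ext_iff.1 h a).2 (Set.mem_univ a) ⟨k, hk⟩
  -- a subgroup commuting with a transitive subgroup is semiregular
  have hsemi : ∀ K L : Subgroup G, MulAction.IsPretransitive K Ω →
      L ≤ Subgroup.centralizer (K : Set G) → ∀ t ∈ L, t ≠ 1 → ∀ ω : Ω, t • ω ≠ ω := by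
    intro K L hK hL t ht ht1 ω hω
    refine ht1 (FaithfulSMul.eq_of_smul_eq_smul (α := Ω) fun a => ?_)
    obtain ⟨⟨k, hk⟩, hka⟩ := hK.exists_smul_eq ω a
    rw [one_smul, ← hka]
    show t • k • ω = k • ω
    rw [smul_smul, ← Subgroup.mem_centralizer_iff.1 (hL ht) k hk, ← smul_smul, hω]
  obtain ⟨N, hN⟩ := exists_isMinNormal (G := G)
  haveI hNn := hN.1
  have hNt := htrans N hN.1 hN.2.1
  by_cases hNc : IsMulCommutative N
  · obtain ⟨r, hr, hexp, -, -⟩ := hN.exists_prime hNc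
    refine Or.inl ⟨N, r, hr, hN.1, ⟨hNc, hexp⟩, hNt, fun a => ?_⟩
    rw [eq_bot_iff]
    rintro ⟨t, ht⟩ hta
    rw [Subgroup.mem_bot]
    by_contra ht1
    refine hsemi N N hNt (Subgroup.le_centralizer_iff_isMulCommutative.2 hNc) t ht
      (fun e => ht1 (Subtype.ext e)) a ?_
    exact hta
  right
  have hnotp : ∀ K : Subgroup G, K ≤ N → (∀ L : Subgroup G, L.Normal → L ≤ N → L = ⊥ ∨ L = N) →
      IsPGroup p N → False := fun _ _ _ hpN =>
    hNc (hN.isMulCommutative (haveI := hpN.isNilpotent; inferInstance))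
  have hC : Subgroup.centralizer (N : Set G) = ⊥ := by
    by_contra hC
    have hCt := htrans (Subgroup.centralizer (N : Set G)) inferInstance hC
    refine hnotp N le_rfl hN.2.2 (isPGroup_of_semiregular p N hder
      (hsemi (Subgroup.centralizer (N : Set G)) N hCt ?_))
    intro n hn
    exact Subgroup.mem_centralizer_iff.2 fun c hc =>
      (Subgroup.mem_centralizer_iff.1 hc n hn).symm
  -- a minimal normal subgroup of `N`
  haveI : Nontrivial N := (Subgroup.nontrivial_iff_ne_bot N).2 hN.2.1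
  obtain ⟨T₀, hT₀⟩ := exists_isMinNormal (G := N)
  set T := T₀.map N.subtype with hT
  have hTN : T ≤ N := Subgroup.map_subtype_le _
  have hT1 : T ≠ ⊥ := fun e => hT₀.2.1 (by
    rw [hT, Subgroup.map_eq_bot_iff, Subgroup.ker_subtype] at e
    exact le_bot_iff.1 e)
  have hTnorm : ∀ t ∈ T, ∀ n ∈ N, n * t * n⁻¹ ∈ T := by
    rintro _ ⟨t, ht, rfl⟩ n hn
    exact ⟨⟨n, hn⟩ * t * ⟨n, hn⟩⁻¹, hT₀.1.conj_mem t ht ⟨n, hn⟩, rfl⟩
  have hTmin : ∀ K : Subgroup G, K ≤ T → (∀ k ∈ K, ∀ n ∈ N, n * k * n⁻¹ ∈ K) → K = ⊥ ∨ K = T := by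
    intro K hK hKn
    have hKN : (K.subgroupOf N).map N.subtype = K := by
      rw [Subgroup.subgroupOf_map_subtype, inf_eq_left.2 (hK.trans hTN)]
    rcases hT₀.2.2 (K.subgroupOf N) ⟨fun k hk n => hKn k hk n n.2⟩
      (fun k hk => by
        obtain ⟨t, ht, e⟩ := hK hk
        rwa [← Subtype.ext e]) with h | h
    · left; rw [← hKN, h, Subgroup.map_bot]
    · right; rw [← hKN, h]
  by_cases hTeq : T = N
  · refine ⟨N, hN.1, ?_, hNc, hC⟩
    refine IsSimpleGroup.mk fun K hK => ?_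
    rcases hTmin (K.map N.subtype) (by rw [hTeq]; exact Subgroup.map_subtype_le _)
      (by
        rintro _ ⟨k, hk, rfl⟩ n hn
        exact ⟨⟨n, hn⟩ * k * ⟨n, hn⟩⁻¹, hK.conj_mem k hk ⟨n, hn⟩, rfl⟩) with h | h
    · left
      rw [Subgroup.map_eq_bot_iff, Subgroup.ker_subtype] at h
      exact le_bot_iff.1 h
    · right
      refine eq_top_iff.2 fun x _ => ?_
      obtain ⟨y, hy, e⟩ : (x : G) ∈ K.map N.subtype := by rw [h, hTeq]; exact x.2
      rwa [← Subtype.ext e]
  exfalso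
  -- the centraliser of `T` in `N`
  set C := N ⊓ Subgroup.centralizer (T : Set G) with hCdef
  have hCn : ∀ c ∈ C, ∀ n ∈ N, n * c * n⁻¹ ∈ C := by
    rintro c ⟨hc1, hc2⟩ n hn
    refine ⟨N.mul_mem (N.mul_mem hn hc1) (N.inv_mem hn), Subgroup.mem_centralizer_iff.2 fun t ht => ?_⟩
    have := Subgroup.mem_centralizer_iff.1 hc2 (n⁻¹ * t * n)
      (by simpa using hTnorm t ht n⁻¹ (N.inv_mem hn))
    have e := congrArg (fun u => n * u * n⁻¹) this
    simpa [mul_assoc] using e
  -- conjugates of `T` different from `T` lie in `C`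
  have hconjC : ∀ g : G, T.map (MulAut.conj g).toMonoidHom ≠ T →
      T.map (MulAut.conj g).toMonoidHom ≤ C := by
    intro g hg
    set T' := T.map (MulAut.conj g).toMonoidHom with hT'
    have hT'N : T' ≤ N := by
      rintro _ ⟨t, ht, rfl⟩
      exact hN.1.conj_mem t (hTN ht) g
    have hT'n : ∀ t ∈ T', ∀ n ∈ N, n * t * n⁻¹ ∈ T' := by
      rintro _ ⟨t, ht, rfl⟩ n hn
      exact ⟨(g⁻¹ * n * g) * t * (g⁻¹ * n * g)⁻¹,
        hTnorm t ht _ (by simpa using hN.1.conj_mem n hn g⁻¹), by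
          simp [mul_assoc]⟩
    have hinf : T ⊓ T' = ⊥ := by
      rcases hTmin (T ⊓ T') inf_le_left
        (fun k hk n hn => ⟨hTnorm k hk.1 n hn, hT'n k hk.2 n hn⟩) with h | h
      · exact h
      · exact absurd (Subgroup.eq_of_le_of_card_ge (inf_eq_left.1 h) (le_of_eq
          (Subgroup.card_map_of_injective (MulAut.conj g).injective))).symm hg
    intro s hs
    refine ⟨hT'N hs, Subgroup.mem_centralizer_iff.2 fun t ht => ?_⟩
    have hmem : t * s * t⁻¹ * s⁻¹ ∈ T ⊓ T' := by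
      refine ⟨?_, T'.mul_mem (hT'n s hs t (hTN ht)) (T'.inv_mem hs)⟩
      have := T.mul_mem ht (hTnorm t⁻¹ (T.inv_mem ht) s (hT'N hs))
      simpa [mul_assoc] using this
    rw [hinf, Subgroup.mem_bot, mul_inv_eq_one, mul_inv_eq_iff_eq_mul] at hmem
    exact hmem
  -- `N = T C`
  have hsup : N ≤ T ⊔ C := by
    let J : Subgroup G := ⨆ g : G, T.map (MulAut.conj g).toMonoidHom
    have hJn : J.Normal := ⟨fun j hj x => by
      have hle : J.map (MulAut.conj x).toMonoidHom ≤ J := by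
        rw [Subgroup.map_iSup]
        refine iSup_le fun g => ?_
        rw [Subgroup.map_map]
        refine le_trans (le_of_eq ?_) (le_iSup (fun g : G => T.map (MulAut.conj g).toMonoidHom) (x * g))
        congr 1
        ext y
        simp [mul_assoc]
      exact hle ⟨j, hj, rfl⟩⟩
    have hJN : J ≤ N := iSup_le fun g => by
      rintro _ ⟨t, ht, rfl⟩
      exact hN.1.conj_mem t (hTN ht) g
    have hTJ : T ≤ J := le_trans (le_of_eq (by ext y; simp))
      (le_iSup (fun g : G => T.map (MulAut.conj g).toMonoidHom) 1)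
    rcases hN.2.2 J hJn hJN with h | h
    · exact absurd (le_bot_iff.1 (h ▸ hTJ)) hT1
    · rw [← h]
      refine iSup_le fun g => ?_
      by_cases hg : T.map (MulAut.conj g).toMonoidHom = T
      · rw [hg]; exact le_sup_left
      · exact (hconjC g hg).trans le_sup_right
  have hnorm : T ≤ Subgroup.normalizer (C : Set G) := fun t ht =>
    Subgroup.mem_normalizer_fintype fun c hc => hCn c hc t (hTN ht)
  have hdec : ∀ n ∈ N, ∃ t ∈ T, ∃ c ∈ C, t * c = n := fun n hn => by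
    have := hsup hn
    rw [← SetLike.mem_coe, Subgroup.coe_mul_of_left_le_normalizer_right T C hnorm] at this
    exact this
  -- some conjugate of `T` differs from `T`
  obtain ⟨g₀, hg₀⟩ : ∃ g : G, T.map (MulAut.conj g).toMonoidHom ≠ T := by
    by_contra hall
    push Not at hall
    refine hTeq (((hN.2.2 T ⟨fun t ht g => ?_⟩ hTN).resolve_left hT1))
    rw [← hall g]
    exact ⟨t, ht, rfl⟩
  have hTnp : ¬ IsPGroup p T := by
    intro hTp
    have hT0p : IsPGroup p T₀ :=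
      hTp.of_equiv (T₀.equivMapOfInjective N.subtype N.subtype_injective).symm
    haveI := hT0p.isNilpotent
    have hab : IsMulCommutative T := by
      haveI := hT₀.isMulCommutative inferInstance
      exact Subgroup.map_isMulCommutative T₀ N.subtype
    -- then `T` is central in `N`
    have hTC : T ≤ C := fun t ht =>
      ⟨hTN ht, Subgroup.mem_centralizer_iff.2 fun u hu =>
        congrArg Subtype.val (mul_comm' (⟨u, hu⟩ : T) ⟨t, ht⟩)⟩
    have hNC : N ≤ Subgroup.centralizer (T : Set G) :=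
      (hsup.trans (sup_le hTC le_rfl)).trans inf_le_right
    have : T ≤ Subgroup.centralizer (N : Set G) := Subgroup.le_centralizer_iff.1 hNC
    rw [hC] at this
    exact hT1 (le_bot_iff.1 this)
  obtain ⟨s, hsC, q, hq, hqp, hs⟩ : ∃ s ∈ C, ∃ q : ℕ, q.Prime ∧ q ≠ p ∧ orderOf s = q := by
    have hne : ¬ IsPGroup p (T.map (MulAut.conj g₀).toMonoidHom) := fun h => hTnp
      (h.of_equiv (T.equivMapOfInjective (MulAut.conj g₀).toMonoidHom (MulAut.conj g₀).injective).symm)
    obtain ⟨q, hq, hqd, hqp⟩ : ∃ q : ℕ, q.Prime ∧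
        q ∣ Nat.card (T.map (MulAut.conj g₀).toMonoidHom) ∧ q ≠ p := by
      by_contra hall
      push Not at hall
      exact hne (IsPGroup.of_card
        (Nat.eq_prime_pow_of_unique_prime_dvd Nat.card_pos.ne' fun {d} hd hdd => hall d hd hdd))
    haveI := Fact.mk hq
    obtain ⟨⟨s, hs⟩, hso⟩ := exists_prime_orderOf_dvd_card' q hqd
    rw [Subgroup.orderOf_mk] at hso
    exact ⟨s, hconjC g₀ hg₀ hs, q, hq, hqp, hso⟩
  obtain ⟨a⟩ : Nonempty Ω := inferInstance
  -- the projection of a point stabiliser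
  let R : Subgroup T :=
    { carrier := {t | ∃ c ∈ C, ((t : G) * c) • a = a}
      one_mem' := ⟨1, C.one_mem, by simp⟩
      mul_mem' := by
        rintro t t' ⟨c, hc, h⟩ ⟨c', hc', h'⟩
        refine ⟨c * c', C.mul_mem hc hc', ?_⟩
        have e : ((t * t' : T) : G) * (c * c') = ((t : G) * c) * ((t' : G) * c') := by
          have := Subgroup.mem_centralizer_iff.1 hc.2 (t' : G) t'.2
          rw [Subgroup.coe_mul, mul_assoc, mul_assoc, ← mul_assoc (t' : G) c, this, mul_assoc]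
        rw [e, mul_smul, h', h]
      inv_mem' := by
        rintro t ⟨c, hc, h⟩
        refine ⟨c⁻¹, C.inv_mem hc, ?_⟩
        have e : ((t⁻¹ : T) : G) * c⁻¹ = ((t : G) * c)⁻¹ := by
          have := Subgroup.mem_centralizer_iff.1 hc.2 (t : G) t.2
          rw [Subgroup.coe_inv, this, mul_inv_rev]
        rw [e, inv_smul_eq_iff, h] }
  have hR : R ≠ ⊤ := by
    intro hR
    rcases hTmin (T ⊓ MulAction.stabilizer G a) inf_le_left (fun x hx n hn => by
      obtain ⟨t, ht, c, hc, rfl⟩ := hdec n hn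
      obtain ⟨c', hc', hfix⟩ : (⟨t, ht⟩ : T) ∈ R := by rw [hR]; trivial
      have hxc : ∀ d ∈ C, d * x * d⁻¹ = x := fun d hd => by
        rw [← Subgroup.mem_centralizer_iff.1 hd.2 x hx.1, mul_inv_cancel_right]
      have e : t * c * x * (t * c)⁻¹ = t * c' * x * (t * c')⁻¹ := by
        rw [mul_inv_rev, mul_inv_rev]
        calc t * c * x * (c⁻¹ * t⁻¹) = t * (c * x * c⁻¹) * t⁻¹ := by group
          _ = t * (c' * x * c'⁻¹) * t⁻¹ := by rw [hxc c hc, hxc c' hc']
          _ = t * c' * x * (c'⁻¹ * t⁻¹) := by group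
      refine ⟨hTnorm x hx.1 _ (N.mul_mem (hTN ht) hc.1), ?_⟩
      show (t * c * x * (t * c)⁻¹) • a = a
      rw [e, mul_smul, mul_smul, inv_smul_eq_iff.2 hfix.symm, (MulAction.mem_stabilizer_iff.1 hx.2)]
      exact hfix) with h | h
    · refine hTnp (isPGroup_of_semiregular p T hder fun t ht ht1 ω hω => ht1 ?_)
      obtain ⟨⟨n, hn⟩, hna⟩ := hNt.exists_smul_eq a ω
      have hna : n • a = ω := hna
      have : n⁻¹ * t * n ∈ T ⊓ MulAction.stabilizer G a := by
        refine ⟨by simpa using hTnorm t ht n⁻¹ (N.inv_mem hn), ?_⟩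
        show (n⁻¹ * t * n) • a = a
        rw [mul_smul, mul_smul, hna, hω, inv_smul_eq_iff, hna]
      rw [h, Subgroup.mem_bot] at this
      have e := congrArg (fun u => n * u * n⁻¹) this
      simpa [mul_assoc] using e
    · refine hT1 (eq_bot_iff.2 fun t ht => ?_)
      rw [Subgroup.mem_bot]
      refine FaithfulSMul.eq_of_smul_eq_smul (α := Ω) fun ω => ?_
      obtain ⟨⟨n, hn⟩, hna⟩ := hNt.exists_smul_eq a ω
      have hna : n • a = ω := hna
      have : n⁻¹ * t * n ∈ T ⊓ MulAction.stabilizer G a := by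
        rw [h]; simpa using hTnorm t ht n⁻¹ (N.inv_mem hn)
      have e : (n⁻¹ * t * n) • a = a := this.2
      rw [mul_smul, mul_smul, inv_smul_eq_iff, hna] at e
      rw [one_smul, e]
  obtain ⟨⟨t, ht⟩, htR⟩ := exists_outside_conjugates hR
  have hts : Commute t s := Subgroup.mem_centralizer_iff.1 hsC.2 t ht
  obtain ⟨k, hk⟩ := hder (t * s) fun ω hω => by
    obtain ⟨⟨n, hn⟩, hna⟩ := hNt.exists_smul_eq a ω
    have hna : n • a = ω := hna
    obtain ⟨t₀, ht₀, c₀, hc₀, rfl⟩ := hdec n hn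
    refine htR ⟨t₀, ht₀⟩ ⟨t₀⁻¹ * (c₀⁻¹ * s * c₀) * t₀, ?_, ?_⟩
    · simpa using hCn _ (C.mul_mem (C.mul_mem (C.inv_mem hc₀) hsC) hc₀) t₀⁻¹ (N.inv_mem (hTN ht₀))
    · have e : ((⟨t₀, ht₀⟩⁻¹ * ⟨t, ht⟩ * ⟨t₀, ht₀⟩ : T) : G) *
          (t₀⁻¹ * (c₀⁻¹ * s * c₀) * t₀) = (t₀ * c₀)⁻¹ * (t * s) * (t₀ * c₀) := by
        have h1 : c₀⁻¹ * t = t * c₀⁻¹ :=
          (Subgroup.mem_centralizer_iff.1 (Subgroup.inv_mem _ hc₀.2) t ht).symm
        have h2 : c₀ * t₀ = t₀ * c₀ := (Subgroup.mem_centralizer_iff.1 hc₀.2 t₀ ht₀).symm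
        simp only [Subgroup.coe_mul, Subgroup.coe_inv]
        calc t₀⁻¹ * t * t₀ * (t₀⁻¹ * (c₀⁻¹ * s * c₀) * t₀)
            = t₀⁻¹ * (t * c₀⁻¹) * s * (c₀ * t₀) := by group
          _ = t₀⁻¹ * (c₀⁻¹ * t) * s * (t₀ * c₀) := by rw [h1, h2]
          _ = t₀⁻¹ * c₀⁻¹ * (t * s) * (t₀ * c₀) := by group
          _ = (t₀ * c₀)⁻¹ * (t * s) * (t₀ * c₀) := by
            have : t₀⁻¹ * c₀⁻¹ = (t₀ * c₀)⁻¹ := by rw [← h2, mul_inv_rev]
            rw [this]
      rw [e, mul_smul, mul_smul, hna, hω, inv_smul_eq_iff, hna]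
  have hpow : t ^ p ^ k * s ^ p ^ k = 1 := by rw [← hts.mul_pow, ← hk, pow_orderOf_eq_one]
  have hsmem : s ^ p ^ k ∈ T ⊓ C := by
    refine ⟨?_, C.pow_mem hsC _⟩
    rw [eq_inv_of_mul_eq_one_right hpow]
    exact T.inv_mem (T.pow_mem ht _)
  have hTC : T ⊓ C = ⊥ := by
    rcases hTmin (T ⊓ C) inf_le_left (fun x hx n hn => ⟨hTnorm x hx.1 n hn, hCn x hx.2 n hn⟩) with h | h
    · exact h
    · exfalso
      have hNC : N ≤ Subgroup.centralizer (T : Set G) :=
        (hsup.trans (sup_le (inf_eq_left.1 h) le_rfl)).trans inf_le_right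
      have := Subgroup.le_centralizer_iff.1 hNC
      rw [hC] at this
      exact hT1 (le_bot_iff.1 this)
  rw [hTC, Subgroup.mem_bot] at hsmem
  have hd := orderOf_dvd_of_pow_eq_one hsmem
  rw [hs] at hd
  exact hqp ((Nat.prime_dvd_prime_iff_eq hq hp).1 (hq.dvd_of_dvd_pow hd))

end Cfsg.Agent.Lead
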