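import Mathlib
import Cfsg.Prelude.Def_Characters
import Cfsg.Agent.Lib.Char.Unique

/-!
Enveloping algebras of homogeneous restrictions of a complex representation.
-/

set_option autoImplicit false
set_option linter.unusedSectionVars false

namespace Cfsg.Agent.Lead.Berger

open Cfsg Module

universe u v

variable {G : Type u} [Group G]

/-! ### Density -/

/-- The image of an irreducible representation spans the endomorphisms (Burnside). -/
theorem span_range_eq_top {U : Type v} [AddCommGroup U] [Module ℂ U] [FiniteDimensional ℂ U]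
    (σ : Representation ℂ G U) [σ.IsIrreducible] :
    Submodule.span ℂ (Set.range fun g => σ g) = ⊤ := by
  rw [eq_top_iff]
  classical
  rintro T -
  have hsc : ∀ f : Module.End (MonoidAlgebra ℂ G) σ.asModule, ∃ c : ℂ, ∀ v, f v = c • v := by
    intro f
    obtain ⟨c, hc⟩ := (IsSimpleModule.algebraMap_end_bijective_of_isAlgClosed
      (A := MonoidAlgebra ℂ G) (V := σ.asModule) ℂ).2 f
    exact ⟨c, fun v => by rw [← hc]; rfl⟩
  haveI : FiniteDimensional ℂ σ.asModule := inferInstanceAs (FiniteDimensional ℂ U)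
  let f : Module.End (Module.End (MonoidAlgebra ℂ G) σ.asModule) σ.asModule :=
    { toFun := fun v => σ.asModuleEquiv.symm (T (σ.asModuleEquiv v))
      map_add' := fun a b => by simp
      map_smul' := fun e v => by
        obtain ⟨c, hc⟩ := hsc e
        simp [Module.End.smul_def, hc] }
  let b := Module.finBasis ℂ σ.asModule
  obtain ⟨r, hr⟩ := jacobson_density f (Finset.univ.image b)
  have hT : T = σ.asAlgebraHom r := by
    refine (b.map σ.asModuleEquiv).ext fun i => ?_
    have h := congrArg σ.asModuleEquiv (hr (b i) (by simp))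
    rw [Representation.asModuleEquiv_map_smul] at h
    simpa [f] using h
  rw [hT]
  clear hr hT
  induction r using MonoidAlgebra.induction_on with
  | of g =>
    rw [Representation.asAlgebraHom_of]
    exact Submodule.subset_span ⟨g, rfl⟩
  | add a b ha hb => rw [map_add]; exact add_mem ha hb
  | smul c a ha => rw [map_smul]; exact Submodule.smul_mem _ c ha

/-! ### Spans of a subgroup's image -/

variable {V : Type v} [AddCommGroup V] [Module ℂ V]

/-- The linear span of the image of a subgroup. -/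
def env (ρ : Representation ℂ G V) (N : Subgroup G) : Submodule ℂ (Module.End ℂ V) :=
  Submodule.span ℂ (Set.range fun n : N => ρ n)

variable {ρ : Representation ℂ G V} {N L : Subgroup G}

theorem rho_mem_env {n : G} (hn : n ∈ N) : ρ n ∈ env ρ N :=
  Submodule.subset_span ⟨⟨n, hn⟩, rfl⟩

theorem one_mem_env : (1 : Module.End ℂ V) ∈ env ρ N := by
  simpa using rho_mem_env (ρ := ρ) N.one_mem

theorem env_mono (h : N ≤ L) : env ρ N ≤ env ρ L :=
  Submodule.span_le.mpr (by rintro _ ⟨n, rfl⟩; exact rho_mem_env (h n.2))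

theorem mul_mem_env {a b : Module.End ℂ V} (ha : a ∈ env ρ N) (hb : b ∈ env ρ N) :
    a * b ∈ env ρ N := by
  induction ha using Submodule.span_induction with
  | mem x hx =>
    obtain ⟨n, rfl⟩ := hx
    induction hb using Submodule.span_induction with
    | mem y hy =>
      obtain ⟨m, rfl⟩ := hy
      show ρ n * ρ m ∈ env ρ N
      rw [← map_mul]
      exact rho_mem_env (N.mul_mem n.2 m.2)
    | zero => rw [mul_zero]; exact zero_mem _
    | add y z _ _ hy hz => rw [mul_add]; exact add_mem hy hz
    | smul c y _ hy => rw [mul_smul_comm]; exact Submodule.smul_mem _ c hy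
  | zero => rw [zero_mul]; exact zero_mem _
  | add y z _ _ hy hz => rw [add_mul]; exact add_mem hy hz
  | smul c y _ hy => rw [smul_mul_assoc]; exact Submodule.smul_mem _ c hy

/-- An operator commuting with the generators commutes with the span. -/
theorem commute_env {X : Module.End ℂ V} (hX : ∀ n ∈ N, Commute X (ρ n)) {a : Module.End ℂ V}
    (ha : a ∈ env ρ N) : Commute X a := by
  induction ha using Submodule.span_induction with
  | mem x hx => obtain ⟨n, rfl⟩ := hx; exact hX n n.2
  | zero => exact Commute.zero_right X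
  | add y z _ _ hy hz => exact hy.add_right hz
  | smul c y _ hy => exact hy.smul_right c

theorem env_apply_mem {U : Submodule ℂ V} (hU : ∀ n ∈ N, ∀ u ∈ U, ρ n u ∈ U)
    {a : Module.End ℂ V} (ha : a ∈ env ρ N) {u : V} (hu : u ∈ U) : a u ∈ U := by
  induction ha using Submodule.span_induction with
  | mem x hx => obtain ⟨n, rfl⟩ := hx; exact hU n n.2 u hu
  | zero => simp
  | add y z _ _ hy hz => rw [LinearMap.add_apply]; exact add_mem hy hz
  | smul c y _ hy => rw [LinearMap.smul_apply]; exact Submodule.smul_mem _ c hy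

/-- Conjugation by an element normalising the subgroup preserves the span. -/
theorem conj_mem_env {g : G} (hg : ∀ n ∈ N, g * n * g⁻¹ ∈ N) {a : Module.End ℂ V}
    (ha : a ∈ env ρ N) : ρ g * a * ρ g⁻¹ ∈ env ρ N := by
  induction ha using Submodule.span_induction with
  | mem x hx =>
    obtain ⟨n, rfl⟩ := hx
    show ρ g * ρ n * ρ g⁻¹ ∈ env ρ N
    rw [← map_mul, ← map_mul]
    exact rho_mem_env (hg n n.2)
  | zero => rw [mul_zero, zero_mul]; exact zero_mem _
  | add y z _ _ hy hz => rw [mul_add, add_mul]; exact add_mem hy hz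
  | smul c y _ hy => rw [mul_smul_comm, smul_mul_assoc]; exact Submodule.smul_mem _ c hy

/-! ### Homogeneous restrictions -/

/-- The restriction to `N` is a non-zero multiple of one irreducible representation: the span of
`N` is a copy of a full matrix algebra. -/
def Homog (ρ : Representation ℂ G V) (N : Subgroup G) : Prop :=
  ∃ (d : ℕ) (Δ : Module.End ℂ (Fin d → ℂ) →ₐ[ℂ] Module.End ℂ V), 0 < d ∧ Function.Injective Δ ∧
    LinearMap.range Δ.toLinearMap = env ρ N

namespace Homog

theorem exists_preimage {d : ℕ} {Δ : Module.End ℂ (Fin d → ℂ) →ₐ[ℂ] Module.End ℂ V}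
    (hΔ : LinearMap.range Δ.toLinearMap = env ρ N) {a : Module.End ℂ V} (ha : a ∈ env ρ N) :
    ∃ T, Δ T = a :=
  LinearMap.mem_range.mp (hΔ ▸ ha)

/-- The centre is scalar. -/
theorem scalar (h : Homog ρ N) {a : Module.End ℂ V} (ha : a ∈ env ρ N)
    (hc : ∀ n ∈ N, Commute a (ρ n)) : ∃ c : ℂ, a = c • 1 := by
  obtain ⟨d, Δ, -, hinj, hΔ⟩ := h
  obtain ⟨T, rfl⟩ := exists_preimage hΔ ha
  have hT : T ∈ Subalgebra.center ℂ (Module.End ℂ (Fin d → ℂ)) := by
    rw [Subalgebra.mem_center_iff]
    intro S
    refine hinj ?_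
    rw [map_mul, map_mul]
    exact (commute_env hc (a := Δ S) (hΔ ▸ LinearMap.mem_range_self Δ.toLinearMap S)).eq.symm
  rw [Algebra.IsCentral.center_eq_bot, Algebra.mem_bot] at hT
  obtain ⟨c, rfl⟩ := hT
  exact ⟨c, by rw [AlgHom.commutes, Algebra.algebraMap_eq_smul_one]⟩

/-- An element of the span that kills a non-zero invariant subspace is zero. -/
theorem eq_zero_of_kills (h : Homog ρ N) {U : Submodule ℂ V} (hU0 : U ≠ ⊥)
    (hU : ∀ n ∈ N, ∀ u ∈ U, ρ n u ∈ U) {a : Module.End ℂ V} (ha : a ∈ env ρ N)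
    (hk : ∀ u ∈ U, a u = 0) : a = 0 := by
  obtain ⟨d, Δ, -, -, hΔ⟩ := h
  obtain ⟨T, rfl⟩ := exists_preimage hΔ ha
  by_contra hne
  have hT : T ≠ 0 := fun h => hne (by rw [h, map_zero])
  obtain ⟨v, hv⟩ : ∃ v, T v ≠ 0 := not_forall.mp fun h => hT (LinearMap.ext h)
  obtain ⟨φ, hφ⟩ := LinearMap.exists_extend_of_notMem
    (0 : (⊥ : Submodule ℂ (Fin d → ℂ)) →ₗ[ℂ] ℂ) (by simpa using hv) (1 : ℂ)
  obtain ⟨u, hu, hu0⟩ := U.ne_bot_iff.mp hU0
  refine hu0 ?_
  have hsum : (1 : Module.End ℂ (Fin d → ℂ)) = ∑ i,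
      (φ.smulRight (Pi.single i (1 : ℂ))) * T *
        ((LinearMap.proj i : (Fin d → ℂ) →ₗ[ℂ] ℂ).smulRight v) := by
    refine LinearMap.ext fun w => ?_
    simp only [LinearMap.sum_apply, Module.End.mul_apply, LinearMap.smulRight_apply,
      LinearMap.proj_apply, map_smul, smul_eq_mul, Module.End.one_apply, hφ.2, mul_one]
    simpa using pi_eq_sum_univ' w
  calc u = (Δ 1) u := by rw [map_one]; rfl
    _ = 0 := by
      rw [hsum, map_sum, LinearMap.sum_apply]
      refine Finset.sum_eq_zero fun i _ => ?_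
      rw [map_mul, map_mul, Module.End.mul_apply, Module.End.mul_apply,
        hk _ (env_apply_mem hU (hΔ ▸ LinearMap.mem_range_self Δ.toLinearMap _) hu), map_zero]

/-- Conjugation by a normalising element is inner on the span. -/
theorem inner (h : Homog ρ N) {g : G} (hg : ∀ n, n ∈ N ↔ g * n * g⁻¹ ∈ N) :
    ∃ s s' : Module.End ℂ V, s ∈ env ρ N ∧ s' ∈ env ρ N ∧ s * s' = 1 ∧ s' * s = 1 ∧
      ∀ a ∈ env ρ N, s * a * s' = ρ g * a * ρ g⁻¹ := by
  obtain ⟨d, Δ, -, hinj, hΔ⟩ := h
  let E := Module.End ℂ (Fin d → ℂ)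
  have hmem : ∀ T : E, Δ T ∈ env ρ N := fun T => hΔ ▸ LinearMap.mem_range_self Δ.toLinearMap T
  have hg' : ∀ n ∈ N, g⁻¹ * n * g⁻¹⁻¹ ∈ N := fun n hn =>
    (hg _).mpr (by simpa [mul_assoc] using hn)
  have h1 : ρ g * ρ g⁻¹ = 1 := by rw [← map_mul, mul_inv_cancel, map_one]
  have h2 : ρ g⁻¹ * ρ g = 1 := by rw [← map_mul, inv_mul_cancel, map_one]
  have hf : ∀ T : E, ∃ S : E, Δ S = ρ g * Δ T * ρ g⁻¹ := fun T =>
    exists_preimage hΔ (conj_mem_env (fun n hn => (hg n).mp hn) (hmem T))
  choose f hf using hf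
  let fh : E →ₐ[ℂ] E :=
    { toFun := f
      map_one' := hinj (by rw [hf, map_one, mul_one, h1])
      map_mul' := fun a b => hinj (by
        rw [hf, map_mul Δ (f a), hf, hf, map_mul]
        calc ρ g * (Δ a * Δ b) * ρ g⁻¹ = ρ g * Δ a * (ρ g⁻¹ * ρ g) * Δ b * ρ g⁻¹ := by
              rw [h2]; noncomm_ring
          _ = _ := by noncomm_ring)
      map_zero' := hinj (by rw [hf, map_zero, mul_zero, zero_mul])
      map_add' := fun a b => hinj (by rw [hf, map_add, map_add Δ (f a), hf, hf]; noncomm_ring)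
      commutes' := fun c => hinj (by
        rw [hf, AlgHom.commutes, ← Algebra.commutes c (ρ g), mul_assoc, h1, mul_one]) }
  have hbij : Function.Bijective fh := by
    have hi : Function.Injective fh := fun a b hab => hinj (by
      have e := congrArg (fun X => ρ g⁻¹ * X * ρ g)
        ((hf a).symm.trans ((congrArg Δ hab).trans (hf b)))
      simp only [← mul_assoc, h2, one_mul] at e
      simpa [mul_assoc, h2] using e)
    exact ⟨hi, (LinearMap.injective_iff_surjective (f := fh.toLinearMap)).mp hi⟩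
  obtain ⟨P, hP⟩ := (AlgEquiv.ofBijective fh hbij).eq_linearEquivConjAlgEquiv
  refine ⟨Δ (P : E), Δ (P.symm : E), hmem _, hmem _, ?_, ?_, fun a ha => ?_⟩
  · rw [← map_mul, show (P : E) * (P.symm : E) = 1 from LinearMap.ext fun w => P.apply_symm_apply w,
      map_one]
  · rw [← map_mul, show (P.symm : E) * (P : E) = 1 from LinearMap.ext fun w => P.symm_apply_apply w,
      map_one]
  · obtain ⟨T, rfl⟩ := exists_preimage hΔ ha
    rw [← map_mul, ← map_mul, ← hf T]
    refine congrArg Δ ?_
    show _ = (AlgEquiv.ofBijective fh hbij) T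
    rw [hP]
    rfl

end Homog

/-- A representation whose character restricts to a multiple of one irreducible character. -/
theorem homog_of_character [FiniteDimensional ℂ V] [Nontrivial V] [Finite G] (N : Subgroup G)
    (ϑ : N → ℂ) (e : ℕ) (hϑ : IsIrrCharacter N ϑ)
    (hres : (fun n : N => ρ.character n) = (e : ℂ) • ϑ) : Homog ρ N := by
  classical
  obtain ⟨d, σ, hσ, rfl⟩ := hϑ
  have := hσ
  let τ : Representation ℂ N (Fin e → Fin d → ℂ) :=
    { toFun := fun n => LinearMap.pi fun i => (σ n).comp (LinearMap.proj i)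
      map_one' := by ext; simp
      map_mul' := fun a b => by ext; simp }
  have hch : Representation.character (ρ.comp N.subtype : Representation ℂ N V) = τ.character := by
    funext n
    have h := congrFun hres n
    simp only [Pi.smul_apply, smul_eq_mul] at h
    show ρ.character n = _
    rw [h]
    simp only [Representation.character]
    rw [LinearMap.trace_eq_matrix_trace ℂ (Pi.basis fun _ : Fin e => Pi.basisFun ℂ (Fin d)),
      LinearMap.trace_eq_matrix_trace ℂ (Pi.basisFun ℂ (Fin d))]
    simp only [Matrix.trace, Matrix.diag, Fintype.sum_sigma, LinearMap.toMatrix_apply]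
    simp [τ]
  obtain ⟨φ⟩ := Char.equiv_of_character_eq _ τ hch
  have hne : 0 < e := by
    rcases Nat.eq_zero_or_pos e with rfl | h
    · obtain ⟨x, hx⟩ := exists_ne (0 : V)
      exact absurd (φ.toLinearEquiv.injective (Subsingleton.elim (φ.toLinearEquiv x)
        (φ.toLinearEquiv 0))) hx
    · exact h
  let D : Module.End ℂ (Fin d → ℂ) →ₐ[ℂ] Module.End ℂ (Fin e → Fin d → ℂ) :=
    { toFun := fun T => LinearMap.pi fun i => T.comp (LinearMap.proj i)
      map_one' := by ext; simp
      map_mul' := fun a b => by ext; simp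
      map_zero' := by ext; simp
      map_add' := fun a b => by ext; simp
      commutes' := fun c => by ext; simp [Algebra.algebraMap_eq_smul_one] }
  let Δ : Module.End ℂ (Fin d → ℂ) →ₐ[ℂ] Module.End ℂ V :=
    (φ.toLinearEquiv.symm.conjAlgEquiv ℂ).toAlgHom.comp D
  have hD : Function.Injective D := fun a b h => LinearMap.ext fun w => by
    have h2 := congrFun (LinearMap.congr_fun h (fun _ : Fin e => w)) ⟨0, hne⟩
    simpa [D] using h2
  have hΔn : ∀ n : N, Δ (σ n) = ρ n := fun n => by
    refine LinearMap.ext fun x => ?_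
    have h := LinearMap.congr_fun (φ.isIntertwining' n) x
    show φ.toLinearEquiv.symm (τ n (φ.toLinearEquiv x)) = ρ n x
    rw [LinearEquiv.symm_apply_eq]
    exact h.symm
  have hd : 0 < d := by
    rcases Nat.eq_zero_or_pos d with rfl | h
    · exact absurd (Char.irr_one_ne_zero (Char.isIrrCharacter_character σ hσ))
        (by simp [Representation.char_one])
    · exact h
  refine ⟨d, Δ, hd, fun a b h => hD ((φ.toLinearEquiv.symm.conjAlgEquiv ℂ).injective h), ?_⟩
  rw [env, ← Submodule.map_top, ← span_range_eq_top σ, Submodule.map_span]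
  congr 1
  ext x
  simp only [Set.mem_image, Set.mem_range, AlgHom.toLinearMap_apply]
  constructor
  · rintro ⟨_, ⟨n, rfl⟩, rfl⟩; exact ⟨n, (hΔn n).symm⟩
  · rintro ⟨n, rfl⟩; exact ⟨_, ⟨n, rfl⟩, hΔn n⟩

/-! ### Dimensions -/

theorem finrank_iSup_le [FiniteDimensional ℂ V] {ι : Type*} [Fintype ι] (W : ι → Submodule ℂ V)
    (k : ℕ) (hW : ∀ i, finrank ℂ (W i) ≤ k) :
    finrank ℂ (⨆ i, W i : Submodule ℂ V) ≤ Fintype.card ι * k := by
  classical
  have key : ∀ s : Finset ι, finrank ℂ (s.sup W : Submodule ℂ V) ≤ s.card * k := by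
    intro s
    induction s using Finset.induction_on with
    | empty => simp
    | insert a s ha ih =>
      rw [Finset.sup_insert, Finset.card_insert_of_notMem ha, add_mul, one_mul, add_comm]
      exact (Submodule.finrank_add_le_finrank_add_finrank _ _).trans (Nat.add_le_add (hW a) ih)
  have h := key Finset.univ
  rwa [Finset.sup_univ_eq_iSup, Finset.card_univ] at h

end Cfsg.Agent.Lead.Berger
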