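import Mathlib
import Cfsg.Agent.Lib.Lead.BergerTools

/-!
The twisted group algebra of a chief factor inside an imprimitive representation with homogeneous
restrictions, and its transfer to the operators commuting with the chief factor.
-/

set_option autoImplicit false
set_option linter.unusedSectionVars false

namespace Cfsg.Agent.Lead.Berger

open Cfsg Module

universe u v

variable {G : Type u} [Group G] {V : Type v} [AddCommGroup V] [Module ℂ V]

/-- A system of imprimitivity given by a block and its stabiliser. -/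
structure Sys (ρ : Representation ℂ G V) (H : Subgroup G) (U : Submodule ℂ V) : Prop where
  stable : ∀ h ∈ H, ∀ u ∈ U, ρ h u ∈ U
  span : ⨆ g : G, U.map (ρ g) = ⊤
  dim : finrank ℂ V = H.index * finrank ℂ U

/-- The data of one chief factor above the core. -/
structure Ctx (ρ : Representation ℂ G V) (H : Subgroup G) (U : Submodule ℂ V) (N L : Subgroup G) :
    Prop where
  sys : Sys ρ H U
  hN : N.Normal
  hL : L.Normal
  hNH : N ≤ H
  hNL : N ≤ L
  hinf : ∀ g, g ∈ L → g ∈ H → g ∈ N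
  hprod : ∀ g : G, ∃ l ∈ L, ∃ h ∈ H, g = l * h
  homN : Homog ρ N
  homL : Homog ρ L
  ne_bot : U ≠ ⊥

/-- Conjugation of an operator. -/
def cj (ρ : Representation ℂ G V) (g : G) (D : Module.End ℂ V) : Module.End ℂ V :=
  ρ g * D * ρ g⁻¹

variable {ρ : Representation ℂ G V}

theorem rho_cancel (g : G) : ρ g * ρ g⁻¹ = 1 := by rw [← map_mul, mul_inv_cancel, map_one]

theorem rho_cancel' (g : G) : ρ g⁻¹ * ρ g = 1 := by rw [← map_mul, inv_mul_cancel, map_one]

theorem cj_mul (g : G) (A B : Module.End ℂ V) : cj ρ g (A * B) = cj ρ g A * cj ρ g B := by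
  simp only [cj]
  calc ρ g * (A * B) * ρ g⁻¹ = ρ g * A * (ρ g⁻¹ * ρ g) * B * ρ g⁻¹ := by
        rw [rho_cancel']; noncomm_ring
    _ = _ := by noncomm_ring

theorem cj_one (g : G) : cj ρ g 1 = 1 := by rw [cj, mul_one, rho_cancel]

theorem cj_smul (g : G) (c : ℂ) (A : Module.End ℂ V) : cj ρ g (c • A) = c • cj ρ g A := by
  rw [cj, cj, mul_smul_comm, smul_mul_assoc]

theorem cj_cj (g h : G) (A : Module.End ℂ V) : cj ρ g (cj ρ h A) = cj ρ (g * h) A := by
  simp only [cj, mul_inv_rev, map_mul]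
  noncomm_ring

theorem cj_rho (g n : G) : cj ρ g (ρ n) = ρ (g * n * g⁻¹) := by
  rw [cj, map_mul, map_mul]

theorem cj_mul_rho (g : G) (A : Module.End ℂ V) : cj ρ g A * ρ g = ρ g * A := by
  rw [cj, mul_assoc, rho_cancel', mul_one]

theorem cj_eq_self {g : G} {A : Module.End ℂ V} (h : Commute A (ρ g)) : cj ρ g A = A := by
  rw [cj, ← h.eq, mul_assoc, rho_cancel, mul_one]

/-- The operators in the span of `L` commuting with `N`. -/
def E1 (ρ : Representation ℂ G V) (N L : Subgroup G) : Submodule ℂ (Module.End ℂ V) where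
  carrier := {D | D ∈ env ρ L ∧ ∀ n ∈ N, Commute D (ρ n)}
  add_mem' := fun ha hb => ⟨add_mem ha.1 hb.1, fun n hn => (ha.2 n hn).add_left (hb.2 n hn)⟩
  zero_mem' := ⟨zero_mem _, fun _ _ => Commute.zero_left _⟩
  smul_mem' := fun c _ ha => ⟨Submodule.smul_mem _ c ha.1, fun n hn => (ha.2 n hn).smul_left c⟩

variable {H : Subgroup G} {U : Submodule ℂ V} {N L : Subgroup G}

theorem mem_E1 {D : Module.End ℂ V} :
    D ∈ E1 ρ N L ↔ D ∈ env ρ L ∧ ∀ n ∈ N, Commute D (ρ n) := Iff.rfl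

theorem E1_one : (1 : Module.End ℂ V) ∈ E1 ρ N L :=
  ⟨one_mem_env, fun _ _ => Commute.one_left _⟩

theorem E1_mul {A B : Module.End ℂ V} (hA : A ∈ E1 ρ N L) (hB : B ∈ E1 ρ N L) :
    A * B ∈ E1 ρ N L :=
  ⟨mul_mem_env hA.1 hB.1, fun n hn => (hA.2 n hn).mul_left (hB.2 n hn)⟩

namespace Ctx

variable (c : Ctx ρ H U N L)

include c

theorem cj_E1 (g : G) {D : Module.End ℂ V} (hD : D ∈ E1 ρ N L) : cj ρ g D ∈ E1 ρ N L := by
  refine ⟨conj_mem_env (fun l hl => c.hL.conj_mem l hl g) hD.1, fun n hn => ?_⟩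
  have h := hD.2 (g⁻¹ * n * g) (by simpa using c.hN.conj_mem n hn g⁻¹)
  have e : cj ρ g (ρ (g⁻¹ * n * g)) = ρ n := by
    rw [cj_rho]; congr 1; group
  rw [← e]
  show cj ρ g D * _ = _ * cj ρ g D
  rw [← cj_mul, ← cj_mul, h.eq]

theorem cj_of_mem {n : G} (hn : n ∈ N) {D : Module.End ℂ V} (hD : D ∈ E1 ρ N L) :
    cj ρ n D = D := cj_eq_self (hD.2 n hn)

/-- A twisted basis element attached to an element of `L`. -/
theorem exists_twist {r : G} (hr : r ∈ L) :
    ∃ s s' : Module.End ℂ V, s ∈ env ρ N ∧ s' ∈ env ρ N ∧ s * s' = 1 ∧ s' * s = 1 ∧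
      ρ r * s' ∈ E1 ρ N L ∧ Commute s' (ρ r) := by
  obtain ⟨s, s', hs, hs', h1, h2, hconj⟩ := c.homN.inner (g := r) fun n =>
    ⟨fun hn => c.hN.conj_mem n hn r, fun hn => by
      simpa [mul_assoc] using c.hN.conj_mem _ hn r⁻¹⟩
  refine ⟨s, s', hs, hs', h1, h2, ⟨mul_mem_env (rho_mem_env hr) (env_mono c.hNL hs'),
    fun n hn => ?_⟩, ?_⟩
  · have hm : r⁻¹ * n * r ∈ N := by simpa using c.hN.conj_mem n hn r⁻¹
    have e := hconj _ (rho_mem_env hm)
    rw [← map_mul, ← map_mul, show r * (r⁻¹ * n * r) * r⁻¹ = n by group] at e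
    have e' : s' * ρ n = ρ (r⁻¹ * n * r) * s' := by
      rw [← e, ← mul_assoc, ← mul_assoc, h2, one_mul]
    show ρ r * s' * ρ n = ρ n * (ρ r * s')
    rw [mul_assoc, e', ← mul_assoc, ← map_mul, ← mul_assoc (ρ n), ← map_mul,
      show r * (r⁻¹ * n * r) = n * r by group]
  · have e := hconj s' hs'
    rw [h1, one_mul] at e
    show s' * ρ r = ρ r * s'
    conv_lhs => rw [e, mul_assoc, rho_cancel', mul_one]

end Ctx

/-- Representatives of `N` in `L`. -/
abbrev Idx (N L : Subgroup G) : Type u := L ⧸ N.subgroupOf L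

/-- The chosen representative. -/
noncomputable def rep {N L : Subgroup G} (q : Idx N L) : G := ((q.out : L) : G)

theorem rep_mem {N L : Subgroup G} (q : Idx N L) : rep q ∈ L := (q.out).2

theorem rep_inj {N L : Subgroup G} {q q' : Idx N L} (h : (rep q)⁻¹ * rep q' ∈ N) : q = q' := by
  rw [← QuotientGroup.out_eq' q, ← QuotientGroup.out_eq' q']
  exact QuotientGroup.eq.mpr (by rw [Subgroup.mem_subgroupOf]; exact h)

theorem exists_rep {N L : Subgroup G} {l : G} (hl : l ∈ L) :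
    ∃ q : Idx N L, (rep q)⁻¹ * l ∈ N := by
  refine ⟨QuotientGroup.mk ⟨l, hl⟩, ?_⟩
  obtain ⟨⟨n, hn⟩, e⟩ := QuotientGroup.mk_out_eq_mul (N.subgroupOf L) ⟨l, hl⟩
  rw [rep, e]
  rw [Subgroup.mem_subgroupOf] at hn
  simpa using inv_mem hn

section Finite

variable [Finite G] [FiniteDimensional ℂ V] (c : Ctx ρ H U N L)

include c

theorem Ctx.card_idx : Nat.card (Idx N L) = H.index := by
  refine Nat.card_congr (Equiv.ofBijective (fun q : Idx N L => (QuotientGroup.mk (rep q) : G ⧸ H))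
    ⟨fun q q' h => ?_, fun x => ?_⟩)
  · exact rep_inj (c.hinf _ (L.mul_mem (inv_mem (rep_mem q)) (rep_mem q'))
      (QuotientGroup.eq.mp h))
  · obtain ⟨g, rfl⟩ := QuotientGroup.mk_surjective x
    obtain ⟨l, hl, h, hh, rfl⟩ := c.hprod g
    obtain ⟨q, hq⟩ := exists_rep (N := N) hl
    refine ⟨q, QuotientGroup.eq.mpr ?_⟩
    rw [← mul_assoc]
    exact H.mul_mem (c.hNH hq) hh

variable [Fintype (Idx N L)]

omit c in
/-- The coordinates with respect to the block. -/
noncomputable def coord (ρ : Representation ℂ G V) (U : Submodule ℂ V) (N L : Subgroup G)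
    [Fintype (Idx N L)] : (Idx N L → U) →ₗ[ℂ] V :=
  ∑ q : Idx N L, (ρ (rep q)).comp (U.subtype.comp (LinearMap.proj q))

omit c in
theorem coord_apply (f : Idx N L → U) : coord ρ U N L f = ∑ q, ρ (rep q) (f q) := by
  simp [coord]

theorem Ctx.coord_bijective : Function.Bijective (coord ρ U N L) := by
  classical
  have hsur : LinearMap.range (coord ρ U N L) = ⊤ := by
    rw [eq_top_iff, ← c.sys.span]
    refine iSup_le fun g => Submodule.map_le_iff_le_comap.mpr fun u hu => ?_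
    obtain ⟨l, hl, h, hh, rfl⟩ := c.hprod g
    obtain ⟨q, hq⟩ := exists_rep (N := N) hl
    refine ⟨Pi.single q ⟨ρ ((rep q)⁻¹ * l * h) u,
      c.sys.stable _ (H.mul_mem (c.hNH hq) hh) u hu⟩, ?_⟩
    rw [coord_apply, Finset.sum_eq_single q]
    · simp only [Pi.single_eq_same]
      rw [← Module.End.mul_apply, ← map_mul]
      congr 2
      group
    · intro q' _ hq'
      simp [Pi.single_eq_of_ne hq']
    · simp
  have hs := LinearMap.range_eq_top.mp hsur
  refine ⟨(LinearMap.injective_iff_surjective_of_finrank_eq_finrank ?_).mpr hs, hs⟩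
  rw [Module.finrank_pi_fintype, Finset.sum_const, Finset.card_univ, ← Nat.card_eq_fintype_card,
    c.card_idx, smul_eq_mul, c.sys.dim]

/-- Coefficients with respect to a twisted family are unique. -/
theorem Ctx.coeff_zero (S : Idx N L → Module.End ℂ V) (hS : ∀ q, S q ∈ env ρ N)
    (h : ∀ u ∈ U, ∑ q, ρ (rep q) (S q u) = 0) : ∀ q, S q = 0 := by
  intro q
  refine c.homN.eq_zero_of_kills c.ne_bot (fun n hn => c.sys.stable n (c.hNH hn)) (hS q)
    fun u hu => ?_
  let f : Idx N L → U := fun q =>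
    ⟨S q u, env_apply_mem (fun n hn => c.sys.stable n (c.hNH hn)) (hS q) hu⟩
  have hf : coord ρ U N L f = 0 := by rw [coord_apply]; exact h u hu
  have := congrFun (c.coord_bijective.1 (hf.trans (map_zero _).symm)) q
  exact congrArg Subtype.val this

end Finite

/-- The twisted family: `T q = ρ (rep q) * s' q`. -/
structure Twist (ρ : Representation ℂ G V) (N L : Subgroup G) (T s s' : Idx N L → Module.End ℂ V) :
    Prop where
  eq : ∀ q, T q = ρ (rep q) * s' q
  hs : ∀ q, s q ∈ env ρ N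
  hs' : ∀ q, s' q ∈ env ρ N
  mul : ∀ q, s q * s' q = 1
  mul' : ∀ q, s' q * s q = 1
  mem : ∀ q, T q ∈ E1 ρ N L
  comm : ∀ q, Commute (s' q) (ρ (rep q))

theorem Ctx.exists_family (c : Ctx ρ H U N L) :
    ∃ T s s' : Idx N L → Module.End ℂ V, Twist ρ N L T s s' := by
  choose s s' hs hs' h1 h2 hm hc using fun q : Idx N L => c.exists_twist (rep_mem q)
  exact ⟨fun q => ρ (rep q) * s' q, s, s', fun _ => rfl, hs, hs', h1, h2, hm, hc⟩

variable {T s s' : Idx N L → Module.End ℂ V}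

theorem Twist.rho_rep (t : Twist ρ N L T s s') (q : Idx N L) : ρ (rep q) = T q * s q := by
  rw [t.eq, mul_assoc, t.mul', mul_one]

section Finite

variable [Finite G] [FiniteDimensional ℂ V] [Fintype (Idx N L)] (c : Ctx ρ H U N L)
  (t : Twist ρ N L T s s')

include c t

theorem Ctx.indep {a : Idx N L → Module.End ℂ V} (ha : ∀ q, a q ∈ env ρ N)
    (h : ∀ u ∈ U, ∑ q, (T q * a q) u = 0) : ∀ q, a q = 0 := by
  intro q
  have := c.coeff_zero (fun q => s' q * a q) (fun q => mul_mem_env (t.hs' q) (ha q))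
    (fun u hu => by
      rw [← h u hu]
      refine Finset.sum_congr rfl fun q _ => ?_
      rw [t.eq]
      rfl) q
  rw [← one_mul (a q), ← t.mul q, mul_assoc, this, mul_zero]

theorem Ctx.decompose {D : Module.End ℂ V} (hD : D ∈ env ρ L) :
    ∃ a : Idx N L → Module.End ℂ V, (∀ q, a q ∈ env ρ N) ∧ D = ∑ q, T q * a q := by
  classical
  induction hD using Submodule.span_induction with
  | mem x hx =>
    obtain ⟨l, rfl⟩ := hx
    obtain ⟨q, hq⟩ := exists_rep (N := N) l.2
    refine ⟨Pi.single q (s q * ρ ((rep q)⁻¹ * l)), fun q' => ?_, ?_⟩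
    · rcases eq_or_ne q' q with rfl | hne
      · rw [Pi.single_eq_same]; exact mul_mem_env (t.hs _) (rho_mem_env hq)
      · rw [Pi.single_eq_of_ne hne]; exact zero_mem _
    · rw [Finset.sum_eq_single q]
      · rw [Pi.single_eq_same, ← mul_assoc, ← t.rho_rep, ← map_mul, mul_inv_cancel_left]
      · intro q' _ hne; rw [Pi.single_eq_of_ne hne, mul_zero]
      · simp
  | zero => exact ⟨0, fun q => zero_mem _, by simp⟩
  | add x y _ _ hx hy =>
    obtain ⟨a, ha, rfl⟩ := hx
    obtain ⟨b, hb, rfl⟩ := hy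
    exact ⟨a + b, fun q => add_mem (ha q) (hb q), by simp [mul_add, Finset.sum_add_distrib]⟩
  | smul k x _ hx =>
    obtain ⟨a, ha, rfl⟩ := hx
    exact ⟨k • a, fun q => Submodule.smul_mem _ k (ha q), by simp [Finset.smul_sum]⟩

/-- The twisted family is a basis of `E1`. -/
theorem Ctx.E1_eq_span : E1 ρ N L = Submodule.span ℂ (Set.range T) := by
  refine le_antisymm (fun D hD => ?_) (Submodule.span_le.mpr ?_)
  · obtain ⟨a, ha, rfl⟩ := c.decompose t hD.1
    refine Submodule.sum_mem _ fun q _ => ?_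
    have hcq : ∀ n ∈ N, Commute (a q) (ρ n) := by
      intro n hn
      have h0 := c.indep t (a := fun q => a q * ρ n - ρ n * a q)
        (fun q => sub_mem (mul_mem_env (ha q) (rho_mem_env hn))
          (mul_mem_env (rho_mem_env hn) (ha q)))
        (fun u _ => by
          have e : ∑ q, T q * (a q * ρ n - ρ n * a q) = 0 := by
            simp only [mul_sub, Finset.sum_sub_distrib, ← mul_assoc]
            rw [← Finset.sum_mul]
            simp only [((t.mem _).2 n hn).eq, mul_assoc]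
            rw [← Finset.mul_sum, sub_eq_zero]
            exact (hD.2 n hn).eq
          rw [← LinearMap.sum_apply, e, LinearMap.zero_apply]) q
      exact sub_eq_zero.mp h0
    obtain ⟨k, hk⟩ := c.homN.scalar (ha q) hcq
    rw [hk, mul_smul_comm, mul_one]
    exact Submodule.smul_mem _ k (Submodule.subset_span ⟨q, rfl⟩)
  · rintro _ ⟨q, rfl⟩
    exact t.mem q

theorem Ctx.linearIndependent : LinearIndependent ℂ T := by
  rw [Fintype.linearIndependent_iff]
  intro g hg q
  have h0 := c.indep t (a := fun q => g q • 1)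
    (fun q => Submodule.smul_mem _ _ one_mem_env) (fun u _ => by
      rw [← LinearMap.sum_apply]
      simp only [mul_smul_comm, mul_one, hg, LinearMap.zero_apply]) q
  obtain ⟨u, hu, hu0⟩ := U.ne_bot_iff.mp c.ne_bot
  have := LinearMap.congr_fun h0 u
  simpa [hu0] using this

theorem Ctx.finrank_E1 : finrank ℂ (E1 ρ N L) = Nat.card (Idx N L) := by
  rw [c.E1_eq_span t, finrank_span_eq_card (c.linearIndependent t), Nat.card_eq_fintype_card]

/-- An element of the span of `L` commuting with `N` and with the twisted family is scalar. -/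
theorem Ctx.scalar_of_commute {z : Module.End ℂ V} (hz : z ∈ E1 ρ N L)
    (hT : ∀ q, Commute z (T q)) : ∃ k : ℂ, z = k • 1 := by
  refine c.homL.scalar hz.1 fun l hl => ?_
  obtain ⟨q, hq⟩ := exists_rep (N := N) hl
  rw [← mul_inv_cancel_left (rep q) l, map_mul, t.rho_rep]
  exact ((hT q).mul_right (commute_env hz.2 (t.hs q))).mul_right (hz.2 _ hq)

end Finite

/-- `w` realises conjugation by `x` on `E1`. -/
def Real (ρ : Representation ℂ G V) (N L : Subgroup G) (x : G) (w w' : Module.End ℂ V) : Prop :=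
  w ∈ E1 ρ N L ∧ w' ∈ E1 ρ N L ∧ w * w' = 1 ∧ w' * w = 1 ∧
    ∀ D ∈ E1 ρ N L, w * D * w' = cj ρ x D

theorem Ctx.exists_real (c : Ctx ρ H U N L) (x : G) : ∃ w w', Real ρ N L x w w' := by
  obtain ⟨a, a', ha, ha', h1, h2, hconj⟩ := c.homL.inner (g := x) fun n =>
    ⟨fun hn => c.hL.conj_mem n hn x, fun hn => by
      simpa [mul_assoc] using c.hL.conj_mem _ hn x⁻¹⟩
  obtain ⟨b, b', hb, hb', k1, k2, kconj⟩ := c.homN.inner (g := x) fun n =>
    ⟨fun hn => c.hN.conj_mem n hn x, fun hn => by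
      simpa [mul_assoc] using c.hN.conj_mem _ hn x⁻¹⟩
  have e1 : a * b' * (b * a') = 1 := by
    rw [mul_assoc, ← mul_assoc b', k2, one_mul, h1]
  have e2 : b * a' * (a * b') = 1 := by
    rw [mul_assoc, ← mul_assoc a', h2, one_mul, k1]
  have hcomm : ∀ n ∈ N, a * b' * ρ n = ρ n * (a * b') := by
    intro n hn
    have hm : x⁻¹ * n * x ∈ N := by simpa using c.hN.conj_mem n hn x⁻¹
    have em : ρ x * ρ (x⁻¹ * n * x) * ρ x⁻¹ = ρ n := by
      rw [← map_mul, ← map_mul]; congr 1; group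
    have e := kconj _ (rho_mem_env hm)
    have f := hconj _ (env_mono c.hNL (rho_mem_env hm))
    rw [em] at e f
    conv_lhs => rw [← e]
    conv_rhs => rw [← f]
    calc a * b' * (b * ρ (x⁻¹ * n * x) * b') = a * (b' * b) * ρ (x⁻¹ * n * x) * b' := by
          noncomm_ring
      _ = a * ρ (x⁻¹ * n * x) * (a' * a) * b' := by rw [k2, h2]; noncomm_ring
      _ = _ := by noncomm_ring
  refine ⟨a * b', b * a', ⟨mul_mem_env ha (env_mono c.hNL hb'), hcomm⟩,
    ⟨mul_mem_env (env_mono c.hNL hb) ha', fun n hn => ?_⟩, e1, e2, fun D hD => ?_⟩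
  · show b * a' * ρ n = ρ n * (b * a')
    calc b * a' * ρ n = b * a' * ρ n * (a * b' * (b * a')) := by rw [e1, mul_one]
      _ = b * a' * (ρ n * (a * b')) * (b * a') := by noncomm_ring
      _ = b * a' * (a * b' * ρ n) * (b * a') := by rw [hcomm n hn]
      _ = b * a' * (a * b') * ρ n * (b * a') := by noncomm_ring
      _ = ρ n * (b * a') := by rw [e2, one_mul]
  · have hDb := commute_env hD.2 hb'
    rw [cj, ← hconj D hD.1]
    calc a * b' * D * (b * a') = a * (b' * D) * b * a' := by noncomm_ring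
      _ = a * (D * b') * b * a' := by rw [hDb.eq]
      _ = a * D * (b' * b) * a' := by noncomm_ring
      _ = a * D * a' := by rw [k2, mul_one]

theorem Ctx.real_cj (c : Ctx ρ H U N L) (h : G) {x : G} {w w' : Module.End ℂ V}
    (hw : Real ρ N L x w w') : Real ρ N L (h * x * h⁻¹) (cj ρ h w) (cj ρ h w') := by
  refine ⟨c.cj_E1 h hw.1, c.cj_E1 h hw.2.1, ?_, ?_, fun D hD => ?_⟩
  · rw [← cj_mul, hw.2.2.1, cj_one]
  · rw [← cj_mul, hw.2.2.2.1, cj_one]
  · have hD' := hw.2.2.2.2 _ (c.cj_E1 h⁻¹ hD)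
    have hcancel : cj ρ h (cj ρ h⁻¹ D) = D := by
      rw [cj_cj, mul_inv_cancel, cj, inv_one, map_one, one_mul, mul_one]
    calc cj ρ h w * D * cj ρ h w' = cj ρ h w * cj ρ h (cj ρ h⁻¹ D) * cj ρ h w' := by rw [hcancel]
      _ = cj ρ h (w * cj ρ h⁻¹ D * w') := by rw [cj_mul, cj_mul]
      _ = _ := by rw [hD', cj_cj, cj_cj]

theorem Real.mul {x y : G} {w w' v v' : Module.End ℂ V} (hw : Real ρ N L x w w')
    (hv : Real ρ N L y v v') : Real ρ N L (x * y) (w * v) (v' * w') := by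
  refine ⟨E1_mul hw.1 hv.1, E1_mul hv.2.1 hw.2.1, ?_, ?_, fun D hD => ?_⟩
  · rw [mul_assoc, ← mul_assoc v, hv.2.2.1, one_mul, hw.2.2.1]
  · rw [mul_assoc, ← mul_assoc w', hw.2.2.2.1, one_mul, hv.2.2.2.1]
  · rw [← cj_cj, ← hv.2.2.2.2 D hD, ← hw.2.2.2.2 _ (E1_mul (E1_mul hv.1 hD) hv.2.1)]
    noncomm_ring

theorem Ctx.real_one_of_mem (c : Ctx ρ H U N L) {n : G} (hn : n ∈ N) :
    Real ρ N L n 1 1 :=
  ⟨E1_one, E1_one, one_mul 1, one_mul 1, fun D hD => by rw [one_mul, mul_one, c.cj_of_mem hn hD]⟩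

section Finite

variable [Finite G] [FiniteDimensional ℂ V] [Fintype (Idx N L)] (c : Ctx ρ H U N L)
  (t : Twist ρ N L T s s')

include c t

/-- The realiser depends only on the coset modulo `N`, up to a scalar. -/
theorem Ctx.real_unique {x y : G} (hxy : x⁻¹ * y ∈ N) {w w' v v' : Module.End ℂ V}
    (hw : Real ρ N L x w w') (hv : Real ρ N L y v v') : ∃ k : ℂ, v = k • w := by
  have hsame : ∀ D ∈ E1 ρ N L, cj ρ y D = cj ρ x D := fun D hD => by
    rw [← mul_inv_cancel_left x y, ← cj_cj, c.cj_of_mem hxy hD]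
  obtain ⟨k, hk⟩ := c.scalar_of_commute t (E1_mul hw.2.1 hv.1) fun q => by
    have e1 := hw.2.2.2.2 _ (t.mem q)
    have e2 := hv.2.2.2.2 _ (t.mem q)
    rw [hsame _ (t.mem q), ← e1] at e2
    show w' * v * T q = T q * (w' * v)
    calc w' * v * T q = w' * (v * T q * v') * v := by
          rw [show w' * (v * T q * v') * v = w' * v * T q * (v' * v) by noncomm_ring,
            hv.2.2.2.1, mul_one]
      _ = w' * (w * T q * w') * v := by rw [e2]
      _ = w' * w * T q * (w' * v) := by noncomm_ring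
      _ = T q * (w' * v) := by rw [hw.2.2.2.1, one_mul]
  refine ⟨k, ?_⟩
  calc v = w * (w' * v) := by rw [← mul_assoc, hw.2.2.1, one_mul]
    _ = k • w := by rw [hk, mul_smul_comm, mul_one]

end Finite

/-! ### Transfer to the operators commuting with `L` -/

section Transfer

variable [Finite G] [FiniteDimensional ℂ V] [Fintype (Idx N L)] (c : Ctx ρ H U N L)

/-- The operator equal to `D` on the block and commuting with `L`. -/
noncomputable def Ctx.Φ (D : Module.End ℂ V) : Module.End ℂ V :=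
  (∑ q : Idx N L, (ρ (rep q)).comp (D.comp (U.subtype.comp (LinearMap.proj q)))).comp
    (LinearEquiv.ofBijective (coord ρ U N L) c.coord_bijective).symm.toLinearMap

theorem Ctx.Φ_apply {D : Module.End ℂ V} (hD : ∀ n ∈ N, Commute D (ρ n)) {l : G} (hl : l ∈ L)
    {u : V} (hu : u ∈ U) : c.Φ D (ρ l u) = ρ l (D u) := by
  classical
  obtain ⟨q, hq⟩ := exists_rep (N := N) hl
  obtain ⟨u', hu'⟩ : ∃ u' : U, (u' : V) = ρ ((rep q)⁻¹ * l) u :=
    ⟨⟨_, c.sys.stable _ (c.hNH hq) u hu⟩, rfl⟩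
  have e : ρ l u = coord ρ U N L (Pi.single q u') := by
    rw [coord_apply, Finset.sum_eq_single q (fun q' _ h => by simp [Pi.single_eq_of_ne h])
      (by simp), Pi.single_eq_same, hu', ← Module.End.mul_apply, ← map_mul, mul_inv_cancel_left]
  have e2 : (LinearEquiv.ofBijective (coord ρ U N L) c.coord_bijective).symm (ρ l u) =
      Pi.single q u' := by
    rw [LinearEquiv.symm_apply_eq, e]
    rfl
  rw [Ctx.Φ, LinearMap.comp_apply, LinearEquiv.coe_coe, e2, LinearMap.sum_apply,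
    Finset.sum_eq_single q (fun q' _ h => by simp [Pi.single_eq_of_ne h]) (by simp)]
  simp only [LinearMap.comp_apply, LinearMap.proj_apply, Pi.single_eq_same, Submodule.subtype_apply,
    hu']
  rw [← Module.End.mul_apply D, (hD _ hq).eq, Module.End.mul_apply, ← Module.End.mul_apply,
    ← map_mul, mul_inv_cancel_left]

include c

theorem Ctx.ext_on {X Y : Module.End ℂ V} (h : ∀ l ∈ L, ∀ u ∈ U, X (ρ l u) = Y (ρ l u)) :
    X = Y := by
  refine LinearMap.ext fun v => ?_
  obtain ⟨f, rfl⟩ := c.coord_bijective.2 v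
  rw [coord_apply, map_sum, map_sum]
  exact Finset.sum_congr rfl fun q _ => h _ (rep_mem q) _ (f q).2

theorem Ctx.Φ_commute {D : Module.End ℂ V} (hD : ∀ n ∈ N, Commute D (ρ n)) {l : G} (hl : l ∈ L) :
    Commute (c.Φ D) (ρ l) :=
  c.ext_on fun m hm u hu => by
    rw [Module.End.mul_apply, Module.End.mul_apply, ← Module.End.mul_apply (ρ l) (ρ m), ← map_mul,
      c.Φ_apply hD (L.mul_mem hl hm) hu, c.Φ_apply hD hm hu, map_mul, Module.End.mul_apply]

theorem Ctx.Φ_mul {D D' : Module.End ℂ V} (hD : D ∈ E1 ρ N L) (hD' : D' ∈ E1 ρ N L) :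
    c.Φ D * c.Φ D' = c.Φ (D' * D) := by
  refine c.ext_on fun l hl u hu => ?_
  have e : c.Φ D u = D u := by simpa using c.Φ_apply hD.2 L.one_mem hu
  rw [Module.End.mul_apply, c.Φ_apply hD'.2 hl hu, c.Φ_apply (E1_mul hD' hD).2 hl hu,
    ← Module.End.mul_apply (c.Φ D) (ρ l), (c.Φ_commute hD.2 hl).eq, Module.End.mul_apply]
  refine congrArg (ρ l) ?_
  rw [← Module.End.mul_apply, (commute_env (fun m hm => c.Φ_commute hD.2 hm) hD'.1).eq,
    Module.End.mul_apply, e]
  rfl

theorem Ctx.Φ_smul (k : ℂ) (D : Module.End ℂ V) : c.Φ (k • D) = k • c.Φ D := by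
  refine LinearMap.ext fun x => ?_
  simp [Ctx.Φ, Finset.smul_sum]

theorem Ctx.Φ_one : c.Φ 1 = 1 :=
  c.ext_on fun l hl u hu => by
    rw [c.Φ_apply (fun _ _ => Commute.one_left _) hl hu]; rfl

theorem Ctx.Φ_cj {h : G} (hh : h ∈ H) {D : Module.End ℂ V} (hD : D ∈ E1 ρ N L) :
    c.Φ (cj ρ h D) * ρ h = ρ h * c.Φ D := by
  refine c.ext_on fun l hl u hu => ?_
  have hl' : h * l * h⁻¹ ∈ L := c.hL.conj_mem l hl h
  have e : ρ h (ρ l u) = ρ (h * l * h⁻¹) (ρ h u) := by
    simp only [← Module.End.mul_apply, ← map_mul]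
    congr 2
    group
  rw [Module.End.mul_apply, Module.End.mul_apply, e,
    c.Φ_apply (c.cj_E1 h hD).2 hl' (c.sys.stable h hh u hu), c.Φ_apply hD.2 hl hu,
    ← Module.End.mul_apply (cj ρ h D), cj_mul_rho, Module.End.mul_apply]
  simp only [← Module.End.mul_apply, ← map_mul]
  rw [← mul_assoc, ← mul_assoc, ← map_mul, ← map_mul]
  congr 3
  group

theorem Ctx.eq_of_Φ_scalar {t0 : Twist ρ N L T s s'} {D : Module.End ℂ V} (hD : D ∈ E1 ρ N L)
    {k : ℂ} (h : c.Φ D = k • 1) : D = k • 1 := by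
  obtain ⟨a, ha, ha'⟩ := c.decompose t0 (sub_mem hD.1 (Submodule.smul_mem _ k one_mem_env))
  have h0 := c.indep t0 ha fun u hu => by
    rw [← LinearMap.sum_apply, ← ha', LinearMap.sub_apply, LinearMap.smul_apply,
      Module.End.one_apply, sub_eq_zero]
    have e : c.Φ D u = D u := by simpa using c.Φ_apply hD.2 L.one_mem hu
    rw [← e, h]
    rfl
  rw [← sub_eq_zero, ha']
  simp [h0]

end Transfer

end Cfsg.Agent.Lead.Berger
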