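import Mathlib
import Cfsg.Agent.Lib.Lead.BergerCore
import Cfsg.Agent.Lib.Char.Induction

/-!
Berger's theorem: in a finite solvable group a quasi-primitive irreducible character is primitive.
-/

set_option autoImplicit false
set_option linter.unusedSectionVars false

namespace Cfsg.Agent.Lead.Berger

open Cfsg Module
open scoped commutatorElement

universe u v

variable {G : Type u} [Group G] [Finite G]

/-! ### Group theory -/

/-- A chief factor above a proper normal subgroup of a solvable group. -/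
theorem exists_chief [Group.IsSolvable G] (N : Subgroup G) [N.Normal] (hN : N ≠ ⊤) :
    ∃ (L : Subgroup G) (p : ℕ), p.Prime ∧ L.Normal ∧ N < L ∧
      (∀ a ∈ L, ∀ b ∈ L, ⁅a, b⁆ ∈ N) ∧ (∀ a ∈ L, a ^ p ∈ N) ∧
      ∀ K : Subgroup G, K.Normal → N ≤ K → K ≤ L → K = N ∨ K = L := by
  classical
  obtain ⟨L, ⟨hLn, hNL⟩, hmin⟩ :=
    (Set.toFinite {K : Subgroup G | K.Normal ∧ N < K}).exists_minimal
      ⟨⊤, inferInstance, lt_top_iff_ne_top.mpr hN⟩
  have hcases : ∀ K : Subgroup G, K.Normal → N ≤ K → K ≤ L → K = N ∨ K = L := by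
    intro K hK h1 h2
    rcases eq_or_lt_of_le h1 with h | h
    · exact Or.inl h.symm
    · exact Or.inr (le_antisymm h2 (hmin ⟨hK, h⟩ h2))
  have hab : ∀ a ∈ L, ∀ b ∈ L, ⁅a, b⁆ ∈ N := by
    have hcl : ⁅L, L⁆ ≤ L :=
      Subgroup.commutator_le.mpr fun a ha b hb => by
        rw [commutatorElement_def]
        exact L.mul_mem (L.mul_mem (L.mul_mem ha hb) (inv_mem ha)) (inv_mem hb)
    rcases hcases (⁅L, L⁆ ⊔ N) inferInstance le_sup_right (sup_le hcl hNL.le) with h | h
    · intro a ha b hb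
      rw [← h]
      exact Subgroup.mem_sup_left (Subgroup.commutator_mem_commutator ha hb)
    · exfalso
      let A := L.map (QuotientGroup.mk' N)
      have e : ⁅A, A⁆ = A := by
        have := congrArg (Subgroup.map (QuotientGroup.mk' N)) h
        rw [Subgroup.map_sup, Subgroup.map_commutator,
          (Subgroup.map_eq_bot_iff _).mpr (QuotientGroup.ker_mk' N).ge, sup_bot_eq] at this
        exact this
      have hA : A ≠ ⊥ := fun h0 => not_le_of_gt hNL
        (by rw [Subgroup.map_eq_bot_iff, QuotientGroup.ker_mk'] at h0; exact h0)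
      obtain ⟨n, hn⟩ := Group.IsSolvable.solvable (G := G ⧸ N)
      refine hA (le_bot_iff.mp (hn ▸ ?_))
      clear hn
      induction n with
      | zero => simp
      | succ n ih =>
        rw [derivedSeries_succ, ← e]
        exact Subgroup.commutator_mono ih ih
  obtain ⟨x, hx, hxN⟩ := SetLike.exists_of_lt hNL
  obtain ⟨p, hp, hpdvd⟩ := Nat.exists_prime_and_dvd (n := orderOf (x : G ⧸ N))
    (fun h => hxN ((QuotientGroup.eq_one_iff x).mp (orderOf_eq_one_iff.mp h)))
  let K : Subgroup G :=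
    { carrier := {a | a ∈ L ∧ a ^ p ∈ N}
      one_mem' := ⟨one_mem _, by rw [one_pow]; exact one_mem _⟩
      mul_mem' := fun {a b} ha hb => ⟨mul_mem ha.1 hb.1, by
        rw [← QuotientGroup.eq_one_iff, QuotientGroup.mk_pow, QuotientGroup.mk_mul]
        have hc : Commute (a : G ⧸ N) (b : G ⧸ N) := by
          show (a : G ⧸ N) * b = b * a
          rw [← commutatorElement_eq_one_iff_mul_comm, ← QuotientGroup.mk'_apply N a,
            ← QuotientGroup.mk'_apply N b, ← map_commutatorElement, QuotientGroup.mk'_apply,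
            QuotientGroup.eq_one_iff]
          exact hab a ha.1 b hb.1
        rw [hc.mul_pow, ← QuotientGroup.mk_pow, ← QuotientGroup.mk_pow,
          (QuotientGroup.eq_one_iff _).mpr ha.2, (QuotientGroup.eq_one_iff _).mpr hb.2, one_mul]⟩
      inv_mem' := fun {a} ha => ⟨inv_mem ha.1, by rw [inv_pow]; exact inv_mem ha.2⟩ }
  have hK : K.Normal := ⟨fun a ha g => ⟨hLn.conj_mem a ha.1 g, by
    rw [conj_pow]; exact Subgroup.Normal.conj_mem inferInstance _ ha.2 g⟩⟩
  have hNK : N ≤ K := fun n hn => ⟨hNL.le hn, pow_mem hn p⟩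
  rcases hcases K hK hNK (fun a ha => ha.1) with h | h
  · exfalso
    obtain ⟨m, hm⟩ := hpdvd
    have hy : (x : G ⧸ N) ^ m ≠ 1 := by
      intro h0
      have h1 := Nat.le_of_dvd (Nat.pos_of_ne_zero fun hm0 => by
        rw [hm0, mul_zero] at hm
        exact (orderOf_pos (x : G ⧸ N)).ne' hm) (orderOf_dvd_of_pow_eq_one h0)
      rw [hm] at h1
      have hmpos : 0 < m := Nat.pos_of_ne_zero fun hm0 => by
        rw [hm0, mul_zero] at hm
        exact (orderOf_pos (x : G ⧸ N)).ne' hm
      have := Nat.mul_le_mul_right m hp.two_le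
      omega
    refine hy ?_
    rw [← QuotientGroup.mk_pow, QuotientGroup.eq_one_iff, ← h]
    refine ⟨pow_mem hx m, ?_⟩
    rw [← pow_mul, ← QuotientGroup.eq_one_iff, QuotientGroup.mk_pow, mul_comm, ← hm,
      pow_orderOf_eq_one]
  · exact ⟨L, p, hp, hLn, hNL, hab, fun a ha => (h ▸ ha : a ∈ K).2, hcases⟩

/-- A normal subgroup of a `p`-group equal to its commutator with the whole group is trivial. -/
theorem eq_bot_of_commutator_eq {A : Type*} [Group A] [Finite A] {p : ℕ} [Fact p.Prime]
    (hA : IsPGroup p A) (B : Subgroup A) (hB : ⁅B, (⊤ : Subgroup A)⁆ = B) : B = ⊥ := by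
  have : Group.IsNilpotent A := hA.isNilpotent
  obtain ⟨n, hn⟩ := Subgroup.nilpotent_iff_lowerCentralSeries.mp this
  refine le_bot_iff.mp (hn ▸ ?_)
  clear hn
  induction n with
  | zero => simp
  | succ n ih =>
    rw [← hB]
    exact Subgroup.commutator_mono ih le_rfl

/-! ### Joint eigenvectors -/

theorem exists_joint_eigen {V : Type v} [AddCommGroup V] [Module ℂ V] [FiniteDimensional ℂ V]
    [Nontrivial V] {ι : Type*} [Fintype ι] (f : ι → Module.End ℂ V)
    (hf : ∀ i j, Commute (f i) (f j)) :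
    ∃ μ : ι → ℂ, (⨅ i, Module.End.eigenspace (f i) (μ i)) ≠ ⊥ := by
  classical
  suffices h : ∀ s : Finset ι, ∃ μ : ι → ℂ, ∃ v : V, v ≠ 0 ∧ ∀ i ∈ s, f i v = μ i • v by
    obtain ⟨μ, v, hv, hvs⟩ := h Finset.univ
    refine ⟨μ, (Submodule.ne_bot_iff _).mpr ⟨v, Submodule.mem_iInf _ |>.mpr fun i => ?_, hv⟩⟩
    exact Module.End.mem_eigenspace_iff.mpr (hvs i (Finset.mem_univ i))
  intro s
  induction s using Finset.induction_on with
  | empty =>
    obtain ⟨v, hv⟩ := exists_ne (0 : V)
    exact ⟨0, v, hv, by simp⟩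
  | insert a s ha ih =>
    obtain ⟨μ, v, hv, hvs⟩ := ih
    let W : Submodule ℂ V := ⨅ i : s, Module.End.eigenspace (f i) (μ i)
    have hW : ∀ w, w ∈ W ↔ ∀ i ∈ s, f i w = μ i • w := fun w => by
      simp [W, Submodule.mem_iInf, Module.End.mem_eigenspace_iff]
    have hmaps : ∀ w ∈ W, f a w ∈ W := fun w hw => (hW _).mpr fun i hi => by
      rw [← Module.End.mul_apply, (hf i a).eq, Module.End.mul_apply, (hW w).mp hw i hi, map_smul]
    have : Nontrivial W := (Submodule.nontrivial_iff_ne_bot).mpr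
      ((Submodule.ne_bot_iff _).mpr ⟨v, (hW v).mpr hvs, hv⟩)
    obtain ⟨k, hk⟩ := Module.End.exists_eigenvalue ((f a).restrict hmaps)
    obtain ⟨w, hw⟩ := hk.exists_hasEigenvector
    refine ⟨Function.update μ a k, w.1, fun h => hw.2 (Subtype.ext h), fun i hi => ?_⟩
    rcases Finset.mem_insert.mp hi with rfl | hi
    · rw [Function.update_self]
      exact congrArg Subtype.val hw.apply_eq_smul
    · rw [Function.update_of_ne (ne_of_mem_of_not_mem hi ha)]
      exact (hW _).mp w.2 i hi

/-! ### Systems of imprimitivity -/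

variable {V : Type v} [AddCommGroup V] [Module ℂ V] [FiniteDimensional ℂ V]
  {ρ : Representation ℂ G V}

theorem finrank_le_index_mul {H : Subgroup G} {U : Submodule ℂ V}
    (hU : ∀ h ∈ H, ∀ u ∈ U, ρ h u ∈ U) (hspan : ⨆ g : G, U.map (ρ g) = ⊤) :
    finrank ℂ V ≤ H.index * finrank ℂ U := by
  classical
  haveI := Fintype.ofFinite (G ⧸ H)
  have e : (⨆ q : G ⧸ H, U.map (ρ q.out)) = ⊤ := by
    rw [eq_top_iff, ← hspan]
    refine iSup_le fun g => le_iSup_of_le (g : G ⧸ H) ?_
    rintro _ ⟨u, hu, rfl⟩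
    obtain ⟨h, he⟩ := QuotientGroup.mk_out_eq_mul H g
    refine ⟨ρ h.1⁻¹ u, hU _ (inv_mem h.2) u hu, ?_⟩
    rw [he, ← Module.End.mul_apply, ← map_mul, mul_inv_cancel_right]
  have h := finrank_iSup_le (fun q : G ⧸ H => U.map (ρ q.out)) (finrank ℂ U)
    (fun q => Submodule.finrank_map_le _ _)
  rw [e, finrank_top, ← Nat.card_eq_fintype_card] at h
  exact h

/-- Enlarge the stabiliser. -/
theorem Sys.enlarge {H H' : Subgroup G} {U : Submodule ℂ V} (hs : Sys ρ H U) (hle : H ≤ H') :
    ∃ U', Sys ρ H' U' := by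
  classical
  refine ⟨⨆ h : H', U.map (ρ h), ?_, ?_, ?_⟩
  · intro x hx u hu
    have hle' : (⨆ h : H', U.map (ρ h)).map (ρ x) ≤ ⨆ h : H', U.map (ρ h) := by
      rw [Submodule.map_iSup]
      refine iSup_le fun h => le_iSup_of_le (⟨x, hx⟩ * h : H') ?_
      rw [← Submodule.map_comp]
      exact le_of_eq (congrArg (fun X => U.map X) (map_mul ρ x h).symm)
    exact hle' ⟨u, hu, rfl⟩
  · rw [eq_top_iff, ← hs.span]
    refine iSup_le fun g => le_iSup_of_le g (Submodule.map_mono (le_iSup_of_le 1 ?_))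
    simp [Module.End.one_eq_id]
  · set U' : Submodule ℂ V := ⨆ h : H', U.map (ρ h) with hU'
    have hstab : ∀ x ∈ H', ∀ u ∈ U', ρ x u ∈ U' := by
      intro x hx u hu
      have hle' : U'.map (ρ x) ≤ U' := by
        rw [hU', Submodule.map_iSup]
        refine iSup_le fun h => le_iSup_of_le (⟨x, hx⟩ * h : H') ?_
        rw [← Submodule.map_comp]
        exact le_of_eq (congrArg (fun X => U.map X) (map_mul ρ x h).symm)
      exact hle' ⟨u, hu, rfl⟩
    have hspan : ⨆ g : G, U'.map (ρ g) = ⊤ := by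
      rw [eq_top_iff, ← hs.span]
      refine iSup_le fun g => le_iSup_of_le g (Submodule.map_mono (le_iSup_of_le 1 ?_))
      simp [Module.End.one_eq_id]
    have h1 := finrank_le_index_mul hstab hspan
    haveI := Fintype.ofFinite (H' ⧸ H.subgroupOf H')
    have e : U' = ⨆ q : H' ⧸ H.subgroupOf H', U.map (ρ (q.out : H')) := by
      refine le_antisymm (iSup_le fun h => le_iSup_of_le (h : H' ⧸ H.subgroupOf H') ?_)
        (iSup_le fun q => le_iSup_of_le q.out le_rfl)
      rintro _ ⟨u, hu, rfl⟩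
      obtain ⟨k, he⟩ := QuotientGroup.mk_out_eq_mul (H.subgroupOf H') h
      refine ⟨ρ (k.1 : G)⁻¹ u, hs.stable _ (inv_mem k.2) u hu, ?_⟩
      rw [he, Subgroup.coe_mul, ← Module.End.mul_apply, ← map_mul, mul_inv_cancel_right]
    have h2 : finrank ℂ U' ≤ H.relIndex H' * finrank ℂ U := by
      have h := finrank_iSup_le (fun q : H' ⧸ H.subgroupOf H' => U.map (ρ (q.out : H')))
        (finrank ℂ U) (fun q => Submodule.finrank_map_le _ _)
      rw [← e, ← Nat.card_eq_fintype_card] at h
      exact h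
    refine le_antisymm h1 ?_
    rw [hs.dim, ← Subgroup.relIndex_mul_index hle, mul_comm (H.relIndex H'), mul_assoc]
    exact Nat.mul_le_mul_left _ h2

/-! ### The step -/

/-- A quasi-primitive irreducible representation with a maximal system of imprimitivity yields a
larger one containing a chief factor above the core. -/
theorem step [Group.IsSolvable G] [Nontrivial V] [ρ.IsIrreducible]
    (hqp : ∀ N : Subgroup G, N.Normal → Homog ρ N)
    {H : Subgroup G} {U : Submodule ℂ V} (hH : IsCoatom H) (hs : Sys ρ H U) :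
    ∃ (S : Subgroup G) (U₁ : Submodule ℂ V), S ≠ ⊤ ∧ Sys ρ S U₁ ∧
      ∃ L : Subgroup G, L.Normal ∧ H.normalCore < L ∧ L ≤ S := by
  classical
  obtain ⟨N, hNdef⟩ : ∃ N, N = H.normalCore := ⟨_, rfl⟩
  rw [← hNdef]
  haveI hN : N.Normal := hNdef ▸ inferInstance
  have hNH : N ≤ H := hNdef ▸ Subgroup.normalCore_le H
  have hcore : ∀ K : Subgroup G, K.Normal → K ≤ H → K ≤ N := fun K hK h => by
    haveI := hK
    exact hNdef ▸ (Subgroup.normal_le_normalCore).mpr h
  have hNtop : N ≠ ⊤ := fun h => hH.1 (top_le_iff.mp (h ▸ hNH))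
  obtain ⟨L, p, hp, hL, hNL, hLab, hLp, hLmin⟩ := exists_chief N hNtop
  haveI := hL
  have hsup : L ⊔ H = ⊤ := hH.2 _ (lt_of_le_of_ne le_sup_right fun h =>
    not_le_of_gt hNL (hcore L hL (h.symm ▸ le_sup_left)))
  have hprod : ∀ g : G, ∃ l ∈ L, ∃ h ∈ H, g = l * h := fun g => by
    obtain ⟨l, hl, h, hh, e⟩ := Subgroup.mem_sup_of_normal_left.mp
      (hsup.symm ▸ Subgroup.mem_top g : g ∈ L ⊔ H)
    exact ⟨l, hl, h, hh, e.symm⟩
  have hinf : ∀ g, g ∈ L → g ∈ H → g ∈ N := by
    have hnorm : (L ⊓ H).Normal := ⟨fun a ha g => by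
      obtain ⟨l, hl, h, hh, rfl⟩ := hprod g
      have hb : h * a * h⁻¹ ∈ L ⊓ H :=
        ⟨hL.conj_mem a ha.1 h, H.mul_mem (H.mul_mem hh ha.2) (inv_mem hh)⟩
      rw [show l * h * a * (l * h)⁻¹ = ⁅l, h * a * h⁻¹⁆ * (h * a * h⁻¹) by
        rw [commutatorElement_def]; group]
      have hc := hLab l hl _ hb.1
      exact ⟨L.mul_mem (hNL.le hc) hb.1, H.mul_mem (hNH hc) hb.2⟩⟩
    exact fun g h1 h2 => hcore _ hnorm inf_le_right ⟨h1, h2⟩
  have hUne : U ≠ ⊥ := by
    intro h
    have := hs.span
    simp [h] at this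
  have c : Ctx ρ H U N L := ⟨hs, hN, hL, hNH, hNL.le, hinf, hprod, hqp N hN, hqp L hL, hUne⟩
  haveI : Fintype (Idx N L) := Fintype.ofFinite _
  obtain ⟨T, s, s', t⟩ := c.exists_family
  haveI : Fact p.Prime := ⟨hp⟩
  -- the self-centralising property
  have hC : ∀ h ∈ H, (∀ l ∈ L, ⁅h, l⁆ ∈ N) → h ∈ N := by
    let C : Subgroup G :=
      (Subgroup.centralizer ((L.map (QuotientGroup.mk' N) : Subgroup (G ⧸ N)) : Set (G ⧸ N))).comap
        (QuotientGroup.mk' N)
    haveI : (L.map (QuotientGroup.mk' N)).Normal :=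
      Subgroup.Normal.map hL _ (QuotientGroup.mk'_surjective N)
    have hmemC : ∀ x, x ∈ C ↔ ∀ l ∈ L, ⁅x, l⁆ ∈ N := by
      intro x
      simp only [C, Subgroup.mem_comap, Subgroup.mem_centralizer_iff]
      constructor
      · intro hx l hl
        rw [← QuotientGroup.eq_one_iff, ← QuotientGroup.mk'_apply, map_commutatorElement,
          commutatorElement_eq_one_iff_mul_comm]
        exact (hx _ ⟨l, hl, rfl⟩).symm
      · rintro hx _ ⟨l, hl, rfl⟩
        have := hx l hl
        rw [← QuotientGroup.eq_one_iff, ← QuotientGroup.mk'_apply, map_commutatorElement,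
          commutatorElement_eq_one_iff_mul_comm] at this
        exact this.symm
    have hnorm : (C ⊓ H).Normal := ⟨fun a ha g => by
      obtain ⟨l, hl, h, hh, rfl⟩ := hprod g
      have hCn : C.Normal := Subgroup.Normal.comap inferInstance _
      have hb : h * a * h⁻¹ ∈ C ⊓ H :=
        ⟨hCn.conj_mem a ha.1 h, H.mul_mem (H.mul_mem hh ha.2) (inv_mem hh)⟩
      refine ⟨hCn.conj_mem a ha.1 _, ?_⟩
      rw [show l * h * a * (l * h)⁻¹ = ⁅h * a * h⁻¹, l⁆⁻¹ * (h * a * h⁻¹) by
        rw [commutatorElement_def]; group]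
      exact H.mul_mem (inv_mem (hNH ((hmemC _).mp hb.1 l hl))) hb.2⟩
    exact fun h hh hl => hcore _ hnorm inf_le_right ⟨(hmemC h).mpr hl, hh⟩
  -- `L` is proper
  have hLtop : L ≠ ⊤ := by
    intro hLt
    have hHN : ∀ h ∈ H, h ∈ N := fun h hh => hinf h (hLt ▸ Subgroup.mem_top h) hh
    obtain ⟨x, hx, hxN⟩ := SetLike.exists_of_lt hNL
    obtain ⟨q, hq⟩ := exists_rep (N := N) hx
    have hgen : Subgroup.closure {rep q} ⊔ N = ⊤ := by
      have hle : H ≤ Subgroup.closure {rep q} ⊔ N := fun h hh => Subgroup.mem_sup_right (hHN h hh)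
      refine hH.2 _ (lt_of_le_of_ne hle fun he => hxN ?_)
      have hr : rep q ∈ H := he ▸ Subgroup.mem_sup_left (Subgroup.subset_closure rfl)
      rw [← mul_inv_cancel_left (rep q) x]
      exact N.mul_mem (hHN _ hr) hq
    have hTc : ∀ g : G, Commute (T q) (ρ g) := by
      intro g
      have hg : g ∈ Subgroup.closure {rep q} ⊔ N := hgen ▸ Subgroup.mem_top g
      obtain ⟨a, ha, n, hn, rfl⟩ := Subgroup.mem_sup_of_normal_right.mp hg
      rw [map_mul]
      refine Commute.mul_right ?_ ((t.mem q).2 n hn)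
      obtain ⟨k, rfl⟩ := Subgroup.mem_closure_singleton.mp ha
      have hb : Commute (T q) (ρ (rep q)) := by
        rw [t.eq]
        exact (Commute.refl _).mul_left (t.comm q)
      have hu : Commute (T q) ((ρ.toHomUnits (rep q) ^ k : (Module.End ℂ V)ˣ) : Module.End ℂ V) :=
        Commute.units_zpow_right (by exact hb) k
      rw [← map_zpow] at hu
      exact hu
    obtain ⟨k, hk⟩ := c.scalar_of_commute t (t.mem q) (fun q' => by
      rw [t.eq q']
      exact (hTc _).mul_right (commute_env (t.mem q).2 (t.hs' q')))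
    obtain ⟨q0, hq0⟩ := exists_rep (N := N) L.one_mem
    have hne : q ≠ q0 := fun h => hxN (by
      rw [← mul_inv_cancel_left (rep q) x]
      refine N.mul_mem ?_ hq
      rw [h]
      simpa using inv_mem hq0)
    have h1 : (1 : Module.End ℂ V) = T q0 * (s q0 * ρ ((rep q0)⁻¹ * 1)) := by
      rw [← mul_assoc, ← t.rho_rep, ← map_mul, mul_inv_cancel_left, map_one]
    have h0 := c.indep t
      (a := fun i => if i = q then 1 else if i = q0 then -k • (s q0 * ρ ((rep q0)⁻¹ * 1)) else 0)
      (fun i => by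
        split_ifs
        · exact one_mem_env
        · exact Submodule.smul_mem _ _ (mul_mem_env (t.hs _) (rho_mem_env hq0))
        · exact zero_mem _)
      (fun u _ => by
        rw [← LinearMap.sum_apply]
        rw [Finset.sum_eq_add q q0 hne (fun i _ hi => by simp [hi.1, hi.2]) (by simp) (by simp)]
        simp only [if_true, if_neg (Ne.symm hne)]
        rw [mul_one, mul_smul_comm, ← h1, hk, neg_smul, add_neg_cancel, LinearMap.zero_apply]) q
    simp only [if_true] at h0
    obtain ⟨u, -, hu0⟩ := U.ne_bot_iff.mp hUne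
    exact hu0 (by simpa using LinearMap.congr_fun h0 u)
  -- the coprime abelian chief factor above `L`
  obtain ⟨M, r, hr, hM, hLM, hMab, hMr, hMmin⟩ := exists_chief L hLtop
  haveI := hM
  have hrp : r ≠ p := by
    intro e
    rw [e] at hMr
    let π := QuotientGroup.mk' N
    let A := M.map π
    let B := L.map π
    have hBA : B ≤ A := Subgroup.map_mono hLM.le
    have hA : IsPGroup p A := by
      rintro ⟨_, m, hm, rfl⟩
      refine ⟨2, Subtype.ext ?_⟩
      show π m ^ p ^ 2 = 1
      rw [← map_pow, pow_two, pow_mul]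
      exact (QuotientGroup.eq_one_iff _).mpr (hLp _ (hMr m hm))
    have hD : (⁅L, M⁆ ⊔ N).Normal := inferInstance
    have hDL : ⁅L, M⁆ ⊔ N ≤ L := sup_le (Subgroup.commutator_le_left L M) hNL.le
    rcases hLmin _ hD le_sup_right hDL with h | h
    · -- `M` centralises the chief factor
      refine not_le_of_gt hLM fun m hm => ?_
      obtain ⟨l, hl, h', hh', rfl⟩ := hprod m
      refine L.mul_mem hl (hNL.le (hC h' hh' fun l' hl' => ?_))
      have hh'M : h' ∈ M := by simpa using M.mul_mem (inv_mem (hLM.le hl)) hm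
      rw [← commutatorElement_inv]
      exact inv_mem (h ▸ Subgroup.mem_sup_left (Subgroup.commutator_mem_commutator hl' hh'M))
    · have e1 : ⁅B, A⁆ = B := by
        have := congrArg (Subgroup.map π) h
        rw [Subgroup.map_sup, Subgroup.map_commutator,
          (Subgroup.map_eq_bot_iff _).mpr (QuotientGroup.ker_mk' N).ge, sup_bot_eq] at this
        exact this
      have e2 := eq_bot_of_commutator_eq hA (B.subgroupOf A) (by
        refine Subgroup.map_injective A.subtype_injective ?_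
        rw [Subgroup.map_commutator, ← MonoidHom.range_eq_map, Subgroup.range_subtype,
          Subgroup.subgroupOf_map_subtype, inf_eq_left.mpr hBA, e1])
      rw [Subgroup.subgroupOf_eq_bot, disjoint_iff, inf_eq_left.mpr hBA,
        Subgroup.map_eq_bot_iff, QuotientGroup.ker_mk'] at e2
      exact not_le_of_gt hNL e2
  -- the realisers
  let Q := {x : G // x ∈ M ∧ x ∈ H}
  choose w w' hw using fun x : Q => c.exists_real x.1
  have hQN : ∀ x y : Q, (x.1)⁻¹ * (y.1 * x.1 * y.1⁻¹) ∈ N := by
    intro x y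
    refine hinf _ ?_ (H.mul_mem (inv_mem x.2.2) (H.mul_mem (H.mul_mem y.2.2 x.2.2) (inv_mem y.2.2)))
    rw [show (x.1)⁻¹ * (y.1 * x.1 * y.1⁻¹) = ⁅(x.1)⁻¹, y.1⁆ by rw [commutatorElement_def]; group]
    exact hMab _ (inv_mem x.2.1) _ y.2.1
  -- the realisers commute
  have hcomm : ∀ x y : Q, Commute (w x) (w y) := by
    intro x y
    obtain ⟨γ, hγ⟩ := c.real_unique t (hQN x y) (hw x) (c.real_cj y.1 (hw x))
    have hγr : γ ^ r = 1 := by
      have hxr : (x.1) ^ r ∈ N :=
        hinf _ (hMr _ x.2.1) (pow_mem x.2.2 r)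
      have hwp : ∀ n : ℕ, ∃ v', Real ρ N L (x.1 ^ n) (w x ^ n) v' := by
        intro n
        induction n with
        | zero => exact ⟨1, by simpa using c.real_one_of_mem N.one_mem⟩
        | succ n ih =>
          obtain ⟨v', hv'⟩ := ih
          exact ⟨_, by rw [pow_succ, pow_succ]; exact hv'.mul (hw x)⟩
      obtain ⟨v', hv'⟩ := hwp r
      obtain ⟨k, hk⟩ := c.real_unique t (x := 1) (y := x.1 ^ r) (by simpa using hxr)
        (c.real_one_of_mem N.one_mem) hv'
      have hk0 : k ≠ 0 := by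
        rintro rfl
        have := hv'.2.2.1
        rw [hk, zero_smul, zero_mul] at this
        exact zero_ne_one this
      have hpow : ∀ n : ℕ, cj ρ y.1 (w x ^ n) = γ ^ n • w x ^ n := by
        intro n
        induction n with
        | zero => simp [cj_one]
        | succ n ih => rw [pow_succ, cj_mul, ih, hγ, smul_mul_smul_comm, pow_succ γ n]
      have h := hpow r
      rw [hk, cj_smul, cj_one, smul_smul] at h
      have := smul_left_injective ℂ (one_ne_zero (α := Module.End ℂ V)) h
      exact mul_right_cancel₀ hk0 (by rw [one_mul]; exact this.symm)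
    have hrel : w y * w x = γ • (w x * w y) := by
      have e := (hw y).2.2.2.2 _ (hw x).1
      rw [hγ] at e
      calc w y * w x = w y * w x * w' y * w y := by rw [mul_assoc _ (w' y), (hw y).2.2.2.1, mul_one]
        _ = γ • (w x * w y) := by rw [e, smul_mul_assoc]
    have hγd : γ ^ finrank ℂ (E1 ρ N L) = 1 := by
      let lm : Q → Module.End ℂ (E1 ρ N L) := fun z =>
        (LinearMap.mulLeft ℂ (w z)).restrict fun D hD => E1_mul (hw z).1 hD
      have hunit : ∀ z : Q, LinearMap.det (lm z) ≠ 0 := fun z h => by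
        have hinv : lm z * ((LinearMap.mulLeft ℂ (w' z)).restrict fun D hD =>
            E1_mul (hw z).2.1 hD) = 1 := by
          refine LinearMap.ext fun D => Subtype.ext ?_
          show w z * (w' z * D.1) = D.1
          rw [← mul_assoc, (hw z).2.2.1, one_mul]
        have := congrArg LinearMap.det hinv
        rw [map_mul, h, zero_mul, map_one] at this
        exact zero_ne_one this
      have e : lm y * lm x = γ • (lm x * lm y) := by
        refine LinearMap.ext fun D => Subtype.ext ?_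
        show w y * (w x * D.1) = γ • (w x * (w y * D.1))
        rw [← mul_assoc, hrel, smul_mul_assoc, mul_assoc]
      have e' := congrArg LinearMap.det e
      rw [map_mul, LinearMap.det_smul, map_mul, mul_comm (LinearMap.det (lm y))] at e'
      exact (mul_right_cancel₀ (mul_ne_zero (hunit x) (hunit y)) (by rw [one_mul]; exact e')).symm
    obtain ⟨m, hm⟩ : ∃ m, finrank ℂ (E1 ρ N L) = p ^ m := by
      rw [c.finrank_E1 t]
      haveI : (N.subgroupOf L).Normal := Subgroup.Normal.subgroupOf hN L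
      refine IsPGroup.iff_card.mp (fun z => ?_ : IsPGroup p (Idx N L))
      obtain ⟨⟨l, hl⟩, rfl⟩ := QuotientGroup.mk_surjective z
      refine ⟨1, ?_⟩
      rw [pow_one, ← QuotientGroup.mk_pow, QuotientGroup.eq_one_iff, Subgroup.mem_subgroupOf]
      exact hLp l hl
    have hγ1 : γ = 1 := by
      rw [hm] at hγd
      have hg := (pow_gcd_eq_one).mpr ⟨hγr, hγd⟩
      rwa [Nat.Coprime.gcd_eq_one (((Nat.coprime_primes hr hp).mpr hrp).pow_right m), pow_one] at hg
    show w x * w y = w y * w x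
    rw [hrel, hγ1, one_smul]
  haveI : Fintype Q := Fintype.ofFinite _
  let f : Q → Module.End ℂ V := fun x => c.Φ (w x)
  have hfc : ∀ x y, Commute (f x) (f y) := fun x y => by
    show f x * f y = f y * f x
    simp only [f]
    rw [c.Φ_mul (hw x).1 (hw y).1, c.Φ_mul (hw y).1 (hw x).1, (hcomm x y).eq]
  let J : (Q → ℂ) → Submodule ℂ V := fun μ => ⨅ i, Module.End.eigenspace (f i) (μ i)
  have hJ : ∀ μ v, v ∈ J μ ↔ ∀ i, f i v = μ i • v := fun μ v => by
    simp [J, Submodule.mem_iInf, Module.End.mem_eigenspace_iff]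
  have hind : iSupIndep J := by
    refine (Module.End.independent_iInf_maxGenEigenspace_of_forall_mapsTo f
      fun i j φ => Module.End.mapsTo_genEigenspace_of_comm (hfc j i) φ _).mono fun μ => ?_
    exact iInf_mono fun i => Module.End.eigenspace_le_maxGenEigenspace
  -- the group permutes the joint eigenspaces
  have hperm : ∀ g : G, ∀ μ : Q → ℂ, ∃ μ' : Q → ℂ, ∀ v ∈ J μ, ρ g v ∈ J μ' := by
    intro g μ
    obtain ⟨l, hl, h, hh, rfl⟩ := hprod g
    have key : ∀ i : Q, ∃ k : ℂ, ∀ v ∈ J μ, f i (ρ h v) = k • ρ h v := by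
      intro i
      let j : Q := ⟨h⁻¹ * i.1 * h, by simpa using hM.conj_mem _ i.2.1 h⁻¹,
        H.mul_mem (H.mul_mem (inv_mem hh) i.2.2) hh⟩
      have e : h * j.1 * h⁻¹ = i.1 := by simp [j, mul_assoc]
      have hreal := c.real_cj h (hw j)
      rw [e] at hreal
      obtain ⟨k, hk⟩ := c.real_unique t (x := i.1) (y := i.1) (by simp) hreal (hw i)
      refine ⟨k * μ j, fun v hv => ?_⟩
      show c.Φ (w i) (ρ h v) = _
      rw [hk, c.Φ_smul, LinearMap.smul_apply, ← Module.End.mul_apply, c.Φ_cj hh (hw j).1,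
        Module.End.mul_apply]
      rw [show c.Φ (w j) v = μ j • v from (hJ μ v).mp hv j, map_smul, smul_smul]
    choose μ' hμ' using key
    refine ⟨μ', fun v hv => (hJ _ _).mpr fun i => ?_⟩
    rw [map_mul, Module.End.mul_apply, ← Module.End.mul_apply (f i),
      (c.Φ_commute (hw i).1.2 hl).eq, Module.End.mul_apply, hμ' i v hv, map_smul]
  obtain ⟨μ₀, hμ₀⟩ := exists_joint_eigen f hfc
  choose σ hσ using fun g => hperm g μ₀
  obtain ⟨U₁, hU₁⟩ : ∃ U₁, U₁ = J μ₀ := ⟨_, rfl⟩
  have hdisj : ∀ μ μ' v, v ∈ J μ → v ∈ J μ' → v ≠ 0 → μ = μ' := fun μ μ' v h1 h2 hv => by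
    funext i
    exact smul_left_injective ℂ hv (((hJ μ v).mp h1 i).symm.trans ((hJ μ' v).mp h2 i))
  obtain ⟨v₀, hv₀, hv₀'⟩ := (Submodule.ne_bot_iff _).mp hμ₀
  have hmap : ∀ g, U₁.map (ρ g) = J (σ g) := by
    intro g
    refine le_antisymm ?_ fun v hv => ?_
    · rintro _ ⟨u, hu, rfl⟩; exact hσ g u (hU₁ ▸ hu)
    · obtain ⟨μ', hμ'⟩ := hperm g⁻¹ (σ g)
      have h1 := hμ' _ (hσ g v₀ hv₀)
      rw [← Module.End.mul_apply, rho_cancel', Module.End.one_apply] at h1
      have e : μ' = μ₀ := hdisj _ _ v₀ h1 hv₀ hv₀'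
      refine ⟨ρ g⁻¹ v, hU₁ ▸ e ▸ hμ' v hv, ?_⟩
      rw [← Module.End.mul_apply, rho_cancel, Module.End.one_apply]
  have hne : ∀ g, J (σ g) ≠ ⊥ := fun g h => by
    have h1 := hσ g v₀ hv₀
    rw [h, Submodule.mem_bot] at h1
    refine hv₀' ?_
    have := congrArg (ρ g⁻¹) h1
    rwa [← Module.End.mul_apply, rho_cancel', Module.End.one_apply, map_zero] at this
  let S : Subgroup G :=
    { carrier := {g | U₁.map (ρ g) = U₁}
      one_mem' := by simp [Module.End.one_eq_id]
      mul_mem' := fun {a b} ha hb => by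
        simp only [Set.mem_ofPred_eq] at ha hb ⊢
        rw [map_mul, Module.End.mul_eq_comp, Submodule.map_comp, hb, ha]
      inv_mem' := fun {a} ha => by
        simp only [Set.mem_ofPred_eq] at ha ⊢
        conv_lhs => rw [← ha]
        rw [← Submodule.map_comp, ← Module.End.mul_eq_comp, rho_cancel', Module.End.one_eq_id,
          Submodule.map_id] }
  have memS : ∀ g, g ∈ S ↔ U₁.map (ρ g) = U₁ := fun g => Iff.rfl
  have hLS : L ≤ S := by
    intro l hl
    rw [memS, hmap, hU₁]
    have h1 : ρ l v₀ ∈ J μ₀ := (hJ _ _).mpr fun i => by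
      rw [← Module.End.mul_apply, (c.Φ_commute (hw i).1.2 hl).eq, Module.End.mul_apply,
        (hJ μ₀ v₀).mp hv₀ i, map_smul]
    rw [hdisj _ μ₀ _ (hσ l v₀ hv₀) h1 fun h => hv₀' (by
      have := congrArg (ρ l⁻¹) h
      rwa [← Module.End.mul_apply, rho_cancel', Module.End.one_apply, map_zero] at this)]
  have hU₁0 : U₁ ≠ ⊥ := hU₁ ▸ hμ₀
  have hspan : ⨆ g : G, U₁.map (ρ g) = ⊤ := by
    let W : Subrepresentation ρ := ⟨⨆ g : G, U₁.map (ρ g), fun a v hv => by
      have hle : (⨆ g : G, U₁.map (ρ g)).map (ρ a) ≤ ⨆ g : G, U₁.map (ρ g) := by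
        rw [Submodule.map_iSup]
        refine iSup_le fun g => le_iSup_of_le (a * g) ?_
        rw [← Submodule.map_comp, map_mul, Module.End.mul_eq_comp]
      exact hle ⟨v, hv, rfl⟩⟩
    rcases eq_bot_or_eq_top W with h | h
    · exfalso
      refine hU₁0 (le_bot_iff.mp ?_)
      rw [← show W.toSubmodule = ⊥ from congrArg Subrepresentation.toSubmodule h]
      refine le_iSup_of_le 1 ?_
      simp [Module.End.one_eq_id]
    · exact congrArg Subrepresentation.toSubmodule h
  refine ⟨S, U₁, ?_, ⟨fun g hg u hu => ?_, hspan, ?_⟩, L, hL, hNL, hLS⟩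
  · intro hS
    have hU : U₁ = ⊤ := by
      rw [← hspan]
      refine le_antisymm (le_iSup_of_le 1 (by simp [Module.End.one_eq_id]))
        (iSup_le fun g => ((memS g).mp (hS ▸ Subgroup.mem_top g)).le)
    have hsc : ∀ x : Q, ∀ q, cj ρ x.1 (T q) = T q := by
      intro x q
      have e : c.Φ (w x) = μ₀ x • 1 := LinearMap.ext fun v => by
        rw [LinearMap.smul_apply, Module.End.one_apply]
        exact (hJ μ₀ v).mp (by rw [← hU₁, hU]; trivial) x
      have hwx := c.eq_of_Φ_scalar (t0 := t) (hw x).1 e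
      rw [← (hw x).2.2.2.2 _ (t.mem q), hwx, smul_mul_assoc, one_mul, smul_mul_assoc,
        ← mul_smul_comm]
      have := (hw x).2.2.1
      rw [hwx, smul_mul_assoc, one_mul] at this
      rw [this, mul_one]
    refine not_le_of_gt hLM fun m hm => ?_
    obtain ⟨l, hl, h, hh, rfl⟩ := hprod m
    have hhM : h ∈ M := by simpa using M.mul_mem (inv_mem (hLM.le hl)) hm
    refine L.mul_mem hl (hNL.le (hC h hh fun a ha => ?_))
    obtain ⟨q, hq⟩ := exists_rep (N := N) ha
    obtain ⟨q', hq'⟩ := exists_rep (N := N) (hL.conj_mem _ (rep_mem q) h)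
    have hcj : ρ (rep q') * (ρ ((rep q')⁻¹ * (h * rep q * h⁻¹)) * cj ρ h (s' q)) = T q := by
      rw [← hsc ⟨h, hhM, hh⟩ q, t.eq, cj_mul, cj_rho, ← mul_assoc, ← map_mul, mul_inv_cancel_left]
    have hqq : q' = q := by
      by_contra hne'
      have h0 := c.indep t
        (a := fun i => if i = q then 1 else if i = q' then
          -(s q' * (ρ ((rep q')⁻¹ * (h * rep q * h⁻¹)) * cj ρ h (s' q))) else 0)
        (fun i => by
          split_ifs
          · exact one_mem_env
          · exact Submodule.neg_mem _ (mul_mem_env (t.hs _) (mul_mem_env (rho_mem_env hq')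
              (conj_mem_env (fun n hn => hN.conj_mem n hn h) (t.hs' q))))
          · exact zero_mem _)
        (fun u _ => by
          rw [← LinearMap.sum_apply, Finset.sum_eq_add q q' (Ne.symm hne')
            (fun i _ hi => by simp [hi.1, hi.2]) (by simp) (by simp)]
          simp only [if_true, if_neg hne', mul_one, mul_neg, ← mul_assoc (T q'), ← t.rho_rep]
          rw [← mul_assoc] at hcj
          rw [← mul_assoc, hcj, add_neg_cancel, LinearMap.zero_apply]) q
      simp only [if_true] at h0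
      obtain ⟨u, -, hu0⟩ := U.ne_bot_iff.mp hUne
      exact hu0 (by simpa using LinearMap.congr_fun h0 u)
    rw [hqq] at hq'
    rw [← QuotientGroup.eq_one_iff, ← QuotientGroup.mk'_apply, map_commutatorElement,
      commutatorElement_eq_one_iff_mul_comm]
    have ea : (a : G ⧸ N) = ((rep q : G) : G ⧸ N) := (QuotientGroup.eq.mpr hq).symm
    have eb := QuotientGroup.eq.mpr hq'
    rw [QuotientGroup.mk_mul, QuotientGroup.mk_mul, QuotientGroup.mk_inv] at eb
    simp only [QuotientGroup.mk'_apply, ea]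
    conv_rhs => rw [eb]
    group
  · exact (memS g).mp hg ▸ Submodule.mem_map_of_mem hu
  · haveI := Fintype.ofFinite (G ⧸ S)
    let F : G ⧸ S → Submodule ℂ V := fun q => U₁.map (ρ q.out)
    have hinj : Function.Injective fun q : G ⧸ S => σ q.out := fun q q' h => by
      have e : F q = F q' := by
        show U₁.map (ρ q.out) = U₁.map (ρ q'.out)
        rw [hmap, hmap]
        exact congrArg J h
      rw [← QuotientGroup.out_eq' q, ← QuotientGroup.out_eq' q']
      refine QuotientGroup.eq.mpr ((memS _).mpr ?_)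
      rw [map_mul, Module.End.mul_eq_comp, Submodule.map_comp]
      show (F q').map _ = _
      rw [← e]
      show (U₁.map (ρ q.out)).map _ = _
      rw [← Submodule.map_comp, ← Module.End.mul_eq_comp, rho_cancel', Module.End.one_eq_id,
        Submodule.map_id]
    have hFind : iSupIndep F := by
      have h1 := hind.comp hinj
      have e : F = J ∘ fun q : G ⧸ S => σ q.out := funext fun q => hmap _
      rw [e]
      exact h1
    have hFtop : iSup F = ⊤ := by
      rw [eq_top_iff, ← hspan]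
      refine iSup_le fun g => le_iSup_of_le (g : G ⧸ S) ?_
      obtain ⟨k, he⟩ := QuotientGroup.mk_out_eq_mul S g
      show _ ≤ U₁.map (ρ _)
      rw [he, map_mul, Module.End.mul_eq_comp, Submodule.map_comp, (memS _).mp k.2]
    have hint : DirectSum.IsInternal F :=
      (DirectSum.isInternal_submodule_iff_iSupIndep_and_iSup_eq_top F).mpr ⟨hFind, hFtop⟩
    rw [← (LinearEquiv.ofBijective (DirectSum.coeLinearMap F) hint).finrank_eq,
      Module.finrank_directSum, Finset.sum_congr rfl (g := fun _ => finrank ℂ U₁) (fun q _ => by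
        show finrank ℂ (U₁.map (ρ q.out)) = _
        refine (Submodule.equivMapOfInjective _ (fun a b hab => ?_) U₁).finrank_eq.symm
        have := congrArg (ρ (q.out)⁻¹) hab
        rwa [← Module.End.mul_apply, rho_cancel', Module.End.one_apply, ← Module.End.mul_apply,
          rho_cancel', Module.End.one_apply] at this),
      Finset.sum_const, Finset.card_univ, smul_eq_mul, ← Nat.card_eq_fintype_card]
    rfl

/-- No proper system of imprimitivity. -/
theorem no_system [Group.IsSolvable G] [Nontrivial V] [ρ.IsIrreducible]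
    (hqp : ∀ N : Subgroup G, N.Normal → Homog ρ N) {K : Subgroup G} (hK : K ≠ ⊤)
    {U : Submodule ℂ V} (hs : Sys ρ K U) : False := by
  suffices h : ∀ d : ℕ, ∀ (H : Subgroup G) (U : Submodule ℂ V), IsCoatom H → Sys ρ H U →
      H.normalCore.index = d → False by
    obtain ⟨H, hH, hle⟩ := (eq_top_or_exists_le_coatom K).resolve_left hK
    obtain ⟨U', hs'⟩ := hs.enlarge hle
    exact h _ H U' hH hs' rfl
  intro d
  induction d using Nat.strong_induction_on with
  | _ d ih =>
    intro H U hH hs hd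
    obtain ⟨S, U₁, hS, hs₁, L, hL, hlt, hle⟩ := step hqp hH hs
    obtain ⟨H', hH', hle'⟩ := (eq_top_or_exists_le_coatom S).resolve_left hS
    obtain ⟨U', hs'⟩ := hs₁.enlarge hle'
    haveI := hL
    have hlt' : H.normalCore < H'.normalCore :=
      lt_of_lt_of_le hlt ((Subgroup.normal_le_normalCore).mpr (hle.trans hle'))
    exact ih _ (hd ▸ Subgroup.index_strictAnti hlt') H' U' hH' hs' rfl

end Cfsg.Agent.Lead.Berger
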