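import Cfsg.Agent.Lib.Char.PrimeSylowPrincipal
import Cfsg.Agent.Lib.Char.BlockInter
import Cfsg.Agent.Lib.Small.SmallOrders

/-!
The degree equation of the principal block of a simple group with a Sylow subgroup of prime order.
-/

set_option autoImplicit false

namespace Cfsg.Agent.Lead.BlockDeg

open Cfsg Cfsg.Agent.Char

variable {G : Type*} [Group G] [Finite G]

/-- A linear character of a non-abelian simple group is trivial. -/
theorem eq_one_of_deg_one [IsSimpleGroup G] (hna : ¬ IsMulCommutative G) (χ : IrrCharacter G)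
    (h : charDegree (χ : G → ℂ) = 1) : (χ : G → ℂ) = fun _ => 1 := by
  have hd : deg (χ : G → ℂ) = 1 := h
  obtain ⟨l, hl⟩ := exists_hom_of_degree_one (irr_isCharacter χ.2)
    (by rw [char_one_eq_deg (irr_isCharacter χ.2), hd, Nat.cast_one])
  rw [hl]
  rcases IsSimpleGroup.eq_bot_or_eq_top_of_normal l.ker inferInstance with hk | hk
  · exact absurd ⟨⟨fun a b => ((MonoidHom.ker_eq_bot_iff l).mp hk)
      (by rw [map_mul, map_mul, mul_comm])⟩⟩ hna
  · funext g
    have : g ∈ l.ker := hk ▸ Subgroup.mem_top g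
    rw [MonoidHom.mem_ker.mp this, Units.val_one]

/-- Signed degrees in the principal block: the `e - 1` non-trivial rational characters have
signed degrees `≡ 1` which divide `|G : C(P)|`, and the common degree of the others satisfies the
degree equation. -/
theorem degree_equation [IsSimpleGroup G] (hna : ¬ IsMulCommutative G) {p : ℕ} [Fact p.Prime]
    (P : Sylow p G) (hP : Nat.card P = p) {e : ℕ}
    (he : (Subgroup.centralizer ((P : Subgroup G) : Set G)).relIndex
      (Subgroup.normalizer ((P : Subgroup G) : Set G)) = e) (he2 : 2 ≤ e) (hep : e + 1 < p) :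
    ∃ (l : List ℤ) (t : ℤ), l.length = e - 1 ∧
      (∀ s ∈ l, (s : ℤ) % p = 1 ∧ 1 < s.natAbs ∧ s.natAbs ∣ Nat.card G ∧
        s.natAbs ∣ Nat.card (Sylow p G) * e) ∧
      t.natAbs ∣ Nat.card G ∧ (p : ℤ) ∣ t - e ∧ t = 1 + l.sum := by
  classical
  haveI : Fintype G := Fintype.ofFinite G
  have hp : p.Prime := Fact.out
  obtain ⟨M, hM⟩ := exists_pModular hp
  obtain ⟨X, Y, a, δ, h⟩ := exists_prime_principal hM hP he
  have hp1 : (p : ℤ) ≠ 0 := by exact_mod_cast hp.ne_zero
  have hY : Y.Nonempty := by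
    rw [← Finset.card_pos, h.cardY]
    exact Nat.div_pos (by omega) (by omega)
  obtain ⟨θ, hθ⟩ := hY
  let one : IrrCharacter G := ⟨fun _ => 1, isIrrCharacter_one⟩
  have hdone : charDegree (one : G → ℂ) = 1 := by
    simp [charDegree, one]
  have h1X : one ∈ X := by
    rcases (h.mem_iff one).mp (sameBlock_refl (pmod_prime hM) (fun _ : G => (1 : ℂ))) with h' | h'
    · exact h'
    · exfalso
      have h2 := h.congrY one h'
      rw [hdone] at h2
      rcases h.sign with e1 | e1 <;> rw [e1] at h2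
      · have h3 := Int.modEq_iff_dvd.mp h2
        have := Int.le_of_dvd (by omega) h3
        omega
      · have h3 := Int.dvd_neg.mpr (Int.modEq_iff_dvd.mp h2)
        have := Int.le_of_dvd (by omega) h3
        omega
  -- an element of order `p`
  obtain ⟨y, hy⟩ : ∃ y : ↥(P : Subgroup G), y ∈ nonOne P := by
    have : Nontrivial ↥(P : Subgroup G) := by
      rw [← Finite.one_lt_card_iff_nontrivial, show Nat.card ↥(P : Subgroup G) = p from hP]
      exact hp.one_lt
    obtain ⟨y, hy⟩ := exists_ne (1 : ↥(P : Subgroup G))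
    exact ⟨y, mem_nonOne.mpr fun e1 => hy (Subtype.ext e1)⟩
  have hy1 : (y : G) ≠ 1 := mem_nonOne.mp hy
  have hclass : Nat.card {x : G // IsConj (y : G) x} = Nat.card (Sylow p G) * e := by
    rw [card_conjClass_eq_index, ← centralizer_zpowers_eq, eq_zpowers_of_prime_sylow hP y.2 hy1,
      Sylow.card_eq_index_normalizer P, ← he, Nat.mul_comm]
    exact (Subgroup.relIndex_mul_index (Subgroup.centralizer_le_normalizer _)).symm
  have hone : a one = 1 := by
    have h2 := h.a_congr one h1X
    rw [hdone] at h2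
    rcases h.a_sign one h1X with e1 | e1
    · exact e1
    · exfalso
      rw [e1] at h2
      have h3 := Int.dvd_neg.mpr (Int.modEq_iff_dvd.mp h2)
      have := Int.le_of_dvd (by norm_num) h3
      omega
  have hval : ∀ χ : IrrCharacter G, (χ : G → ℂ) 1 = (charDegree (χ : G → ℂ) : ℂ) :=
    fun χ => char_one_eq_deg (irr_isCharacter χ.2)
  refine ⟨(X.erase one).toList.map fun χ => a χ * charDegree (χ : G → ℂ),
    δ * charDegree (θ : G → ℂ), ?_, ?_, ?_, ?_, ?_⟩
  · rw [List.length_map, Finset.length_toList, Finset.card_erase_of_mem h1X, h.cardX]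
  · intro s hs
    obtain ⟨χ, hχ, rfl⟩ := List.mem_map.mp hs
    rw [Finset.mem_toList, Finset.mem_erase] at hχ
    obtain ⟨hne, hχX⟩ := hχ
    have hcg := h.a_congr χ hχX
    have habs : (a χ * (charDegree (χ : G → ℂ) : ℤ)).natAbs = charDegree (χ : G → ℂ) := by
      rcases h.a_sign χ hχX with e1 | e1 <;> simp [e1]
    refine ⟨?_, ?_, ?_, ?_⟩
    · have h2 : a χ * (charDegree (χ : G → ℂ) : ℤ) ≡ a χ * a χ [ZMOD p] := hcg.mul_left _
      have h3 : a χ * a χ = 1 := by
        rcases h.a_sign χ hχX with e1 | e1 <;> simp [e1]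
      rw [h3] at h2
      rw [h2.eq, Int.emod_eq_of_lt (by norm_num) (by exact_mod_cast hp.one_lt)]
    · rw [habs]
      have h2 : 0 < charDegree (χ : G → ℂ) := deg_pos χ.2
      rcases eq_or_lt_of_le (Nat.succ_le_of_lt h2) with h3 | h3
      · exact absurd (Subtype.ext (eq_one_of_deg_one hna χ h3.symm)) hne
      · exact h3
    · rw [habs]; exact deg_dvd_card χ.2
    · rw [habs, ← hclass]
      have h2 := omega_isIntegral χ.2 (y : G)
      rw [omega, h.a_val χ hχX y hy, hval] at h2
      obtain ⟨z, hz⟩ := isIntegral_rat_cast_imp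
        (q := (Nat.card {x : G // IsConj (y : G) x} : ℚ) * a χ / charDegree (χ : G → ℂ))
        (by push_cast; exact h2)
      have hd0 : (charDegree (χ : G → ℂ) : ℚ) ≠ 0 := Nat.cast_ne_zero.mpr (deg_pos χ.2).ne'
      have h3 : (Nat.card {x : G // IsConj (y : G) x} : ℤ) * a χ =
          z * charDegree (χ : G → ℂ) := by
        rw [eq_div_iff hd0] at hz
        exact_mod_cast hz.symm
      have h4 := congrArg Int.natAbs h3
      rw [Int.natAbs_mul, Int.natAbs_mul, Int.natAbs_natCast, Int.natAbs_natCast] at h4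
      refine ⟨z.natAbs, ?_⟩
      rw [Nat.mul_comm, ← h4]
      rcases h.a_sign χ hχX with e1 | e1 <;> simp [e1]
  · have : (δ * (charDegree (θ : G → ℂ) : ℤ)).natAbs = charDegree (θ : G → ℂ) := by
      rcases h.sign with e1 | e1 <;> simp [e1]
    rw [this]; exact deg_dvd_card θ.2
  · have h2 := (h.congrY θ hθ).mul_left δ
    rw [← mul_assoc, show δ * δ = 1 by rcases h.sign with e1 | e1 <;> simp [e1], one_mul] at h2
    exact Int.modEq_iff_dvd.mp h2.symm
  · have h2 := h.rel θ hθ 1 (by rw [orderOf_one]; exact hp.not_dvd_one)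
    rw [← Finset.add_sum_erase X _ h1X] at h2
    simp only [hval, hdone, hone] at h2
    push_cast at h2
    rw [Finset.sum_map_toList]
    have h3 : ((δ * (charDegree (θ : G → ℂ) : ℤ) : ℤ) : ℂ) =
        ((1 + ∑ χ ∈ X.erase one, a χ * (charDegree (χ : G → ℂ) : ℤ) : ℤ) : ℂ) := by
      push_cast
      rw [h2]
      ring
    exact_mod_cast h3

/-- With automiser of order two there is a degree `s ≡ ±1` whose successor is a degree too. -/
theorem degree_equation_two [IsSimpleGroup G] (hna : ¬ IsMulCommutative G) {p : ℕ} [Fact p.Prime]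
    (P : Sylow p G) (hP : Nat.card P = p) (hp : 3 < p)
    (he : (Subgroup.centralizer ((P : Subgroup G) : Set G)).relIndex
      (Subgroup.normalizer ((P : Subgroup G) : Set G)) = 2) :
    ∃ s : ℤ, (p : ℤ) ∣ s - 1 ∧ 1 < s.natAbs ∧ s.natAbs ∣ Nat.card G ∧
      s.natAbs ∣ Nat.card (Sylow p G) * 2 ∧ (s + 1).natAbs ∣ Nat.card G := by
  obtain ⟨l, t, hl, hs, ht, -, rfl⟩ := degree_equation hna P hP he le_rfl (by omega)
  obtain ⟨s, rfl⟩ := List.length_eq_one_iff.mp hl
  obtain ⟨h1, h2, h3, h4⟩ := hs s (List.mem_singleton_self s)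
  refine ⟨s, ⟨s / p, ?_⟩, h2, h3, h4, by simpa [add_comm] using ht⟩
  have := Int.mul_ediv_add_emod s (p : ℤ)
  omega

/-- With automiser of order three. -/
theorem degree_equation_three [IsSimpleGroup G] (hna : ¬ IsMulCommutative G) {p : ℕ}
    [Fact p.Prime] (P : Sylow p G) (hP : Nat.card P = p) (hp : 4 < p)
    (he : (Subgroup.centralizer ((P : Subgroup G) : Set G)).relIndex
      (Subgroup.normalizer ((P : Subgroup G) : Set G)) = 3) :
    ∃ s s' : ℤ, (s % p = 1 ∧ 1 < s.natAbs ∧ s.natAbs ∣ Nat.card G ∧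
        s.natAbs ∣ Nat.card (Sylow p G) * 3) ∧
      (s' % p = 1 ∧ 1 < s'.natAbs ∧ s'.natAbs ∣ Nat.card G ∧
        s'.natAbs ∣ Nat.card (Sylow p G) * 3) ∧ (1 + s + s').natAbs ∣ Nat.card G := by
  obtain ⟨l, t, hl, hs, ht, -, rfl⟩ := degree_equation hna P hP he (by norm_num) (by omega)
  obtain ⟨s, s', rfl⟩ := List.length_eq_two.mp hl
  exact ⟨s, s', hs s (by simp), hs s' (by simp), by simpa [add_assoc] using ht⟩

/-- The automiser of a Sylow subgroup of prime order: `e ∣ p - 1`, `p e ∣ |N(P)|`, `e ≠ 1`. -/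
theorem automiser [IsSimpleGroup G] {p : ℕ} [Fact p.Prime] (P : Sylow p G) (hP : Nat.card P = p)
    (hlt : p < Nat.card G) :
    ∃ e, (Subgroup.centralizer ((P : Subgroup G) : Set G)).relIndex
        (Subgroup.normalizer ((P : Subgroup G) : Set G)) = e ∧ e ∣ p - 1 ∧
      p * e ∣ Nat.card (Subgroup.normalizer ((P : Subgroup G) : Set G)) ∧ e ≠ 1 := by
  have hp : p.Prime := Fact.out
  haveI : IsCyclic ↥(P : Subgroup G) := isCyclic_of_prime_card hP
  set C := Subgroup.centralizer ((P : Subgroup G) : Set G)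
  set N := Subgroup.normalizer ((P : Subgroup G) : Set G)
  have hCN : C ≤ N := Subgroup.centralizer_le_normalizer _
  refine ⟨_, rfl, ?_, ?_, fun h1 => ?_⟩
  · have h1 : C.relIndex N = Nat.card (Subgroup.normalizerMonoidHom (P : Subgroup G)).range := by
      rw [← Subgroup.index_ker, Subgroup.normalizerMonoidHom_ker, Subgroup.relIndex]
    rw [h1]
    refine (Subgroup.card_subgroup_dvd_card _).trans ?_
    rw [IsCyclic.card_mulAut, show Nat.card ↥(P : Subgroup G) = p from hP, Nat.totient_prime hp]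
  · have hPC : (P : Subgroup G) ≤ C := by
      intro g hg
      rw [Subgroup.mem_centralizer_iff]
      intro b hb
      exact congrArg Subtype.val (IsCyclic.commutative.is_comm.comm (⟨b, hb⟩ : ↥(P : Subgroup G)) ⟨g, hg⟩)
    have h2 := Subgroup.card_dvd_of_le hPC
    rw [show Nat.card ↥(P : Subgroup G) = p from hP] at h2
    have h3 : Nat.card (C.subgroupOf N) * C.relIndex N = Nat.card N :=
      Subgroup.card_mul_index (C.subgroupOf N)
    rw [Nat.card_congr (Subgroup.subgroupOfEquivOfLe hCN).toEquiv] at h3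
    exact h3 ▸ Nat.mul_dvd_mul_right h2 _
  · exact Small.SmallOrders.false_of_central P (lt_of_lt_of_eq hp.one_lt hP.symm)
      (lt_of_eq_of_lt hP hlt)
      (Subgroup.relIndex_eq_one.mp h1)

/-- The setup for a group of given order `p * m`. -/
theorem sylow_data [IsSimpleGroup G] {p m : ℕ} [Fact p.Prime] (hG : Nat.card G = p * m)
    (hm : ¬ p ∣ m) (hm1 : 1 < m) :
    ∃ (P : Sylow p G) (e : ℕ), Nat.card P = p ∧
      (Nat.card (Sylow p G) ∣ m ∧ Nat.card (Sylow p G) % p = 1 ∧ Nat.card (Sylow p G) ≠ 1) ∧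
      ((Subgroup.centralizer ((P : Subgroup G) : Set G)).relIndex
        (Subgroup.normalizer ((P : Subgroup G) : Set G)) = e ∧ e ∣ p - 1 ∧ e ≠ 1 ∧
        Nat.card (Sylow p G) * e ∣ m) := by
  have hp : p.Prime := Fact.out
  obtain ⟨P⟩ := (inferInstance : Nonempty (Sylow p G))
  have hP : Nat.card P = p := by
    have := Small.SmallOrders.sylow_card_eq (k := 1) (by rwa [pow_one]) hm P
    rwa [pow_one] at this
  obtain ⟨e, he, he1, he2, he3⟩ := automiser P hP (by
    rw [hG]; exact lt_mul_of_one_lt_right hp.pos hm1)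
  refine ⟨P, e, hP, Small.SmallOrders.sylow_number (k := 1) P (by rw [pow_one]; exact hP)
    one_pos (by rwa [pow_one]) hm1, he, he1, he3, ?_⟩
  have h2 := Nat.mul_dvd_mul_left (Nat.card (Sylow p G)) he2
  rw [Small.SmallOrders.card_normalizer P, hG, Nat.mul_left_comm] at h2
  exact Nat.dvd_of_mul_dvd_mul_left hp.pos h2

theorem not_comm [IsSimpleGroup G] {p m : ℕ} (hp : p.Prime) (hG : Nat.card G = p * m)
    (hm1 : 1 < m) : ¬ IsMulCommutative G := by
  refine Small.SmallOrders.not_comm_of_card ?_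
  rw [hG]
  exact Nat.not_prime_mul hp.ne_one hm1.ne'

end Cfsg.Agent.Lead.BlockDeg
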