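import Cfsg.Agent.Lib.Lead.CentDEight

/-!
# The centralizer of a double transposition in the alternating group of degree six
-/

set_option autoImplicit false

namespace Cfsg.Agent.Lead.CentDEightSix

open Equiv Equiv.Perm DihedralGroup

/-- The double transposition. -/
def dbl : Perm (Fin 6) := swap 0 1 * swap 2 3

/-- The element of order four. -/
def rho : Perm (Fin 6) := swap 0 3 * swap 0 1 * swap 0 2 * swap 4 5

/-- The embedding of the dihedral group. -/
def emb : DihedralGroup 4 → Perm (Fin 6)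
  | .r i => rho ^ i.val
  | .sr i => swap 0 1 * swap 4 5 * rho ^ i.val

theorem emb_mul : ∀ a b : DihedralGroup 4, emb (a * b) = emb a * emb b := by decide +kernel

theorem emb_inj : ∀ a : DihedralGroup 4, emb a = 1 → a = 1 := by decide +kernel

theorem emb_comm : ∀ a : DihedralGroup 4, emb a * dbl = dbl * emb a := by decide +kernel

theorem commuting : ∀ σ : Perm (Fin 6), σ * dbl = dbl * σ →
    ∃ d : DihedralGroup 4, σ = emb d ∨ σ = emb d * swap 4 5 := by decide +kernel

/-- The embedding as a homomorphism. -/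
def embHom : DihedralGroup 4 →* Perm (Fin 6) := MonoidHom.mk' emb emb_mul

theorem sign_emb (a : DihedralGroup 4) : sign (emb a) = 1 := by
  have hr : sign rho = 1 := by simp [rho, map_mul]
  cases a with
  | r i => simp [emb, hr]
  | sr i => simp [emb, hr, map_mul]

theorem cycleType_dbl : cycleType dbl = {2, 2} := by
  rw [dbl, Disjoint.cycleType_mul, (IsSwap.isCycle ⟨0, 1, by decide, rfl⟩).cycleType,
    (IsSwap.isCycle ⟨2, 3, by decide, rfl⟩).cycleType, card_support_swap (by decide),
    card_support_swap (by decide)]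
  · rfl
  · intro x; fin_cases x <;> decide

/-- The centralizer is dihedral of order eight. -/
theorem centralizer_equiv (αt : ↥(alternatingGroup (Fin 6))) (hαt : orderOf αt = 2)
    (hsupp : (αt : Perm (Fin 6)).support.card = 4) :
    Nonempty (↥(Subgroup.centralizer ({αt} : Set ↥(alternatingGroup (Fin 6)))) ≃* DihedralGroup 4) := by
  have ho : orderOf (αt : Perm (Fin 6)) = 2 := by rw [Subgroup.orderOf_coe, hαt]
  obtain ⟨k, hk⟩ := cycleType_prime_order (σ := (αt : Perm (Fin 6))) (by rw [ho]; exact Nat.prime_two)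
  have hsum := sum_cycleType (αt : Perm (Fin 6))
  rw [hk, Multiset.sum_replicate, hsupp, ho, smul_eq_mul] at hsum
  have hk1 : k = 1 := by omega
  rw [ho, hk1] at hk
  have hconj : IsConj dbl (αt : Perm (Fin 6)) := by
    rw [isConj_iff_cycleType_eq, cycleType_dbl, hk]; rfl
  obtain ⟨π, hπ⟩ := isConj_iff.1 hconj
  let f : DihedralGroup 4 →* Perm (Fin 6) := (MulAut.conj π).toMonoidHom.comp embHom
  have hf : ∀ d, f d = π * emb d * π⁻¹ := fun d => rfl
  have hfmem : ∀ d, f d ∈ alternatingGroup (Fin 6) := fun d => by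
    rw [mem_alternatingGroup, hf, map_mul, map_mul, map_inv, sign_emb, mul_one]
    rcases Int.units_eq_one_or (sign π) with h | h <;> rw [h] <;> rfl
  let g : DihedralGroup 4 →* ↥(alternatingGroup (Fin 6)) := f.codRestrict _ hfmem
  have hgc : ∀ d, g d ∈ Subgroup.centralizer ({αt} : Set ↥(alternatingGroup (Fin 6))) := fun d => by
    refine Subgroup.mem_centralizer_singleton_iff.2 (Subtype.ext ?_)
    show f d * (αt : Perm (Fin 6)) = αt * f d
    rw [hf, ← hπ]
    calc π * emb d * π⁻¹ * (π * dbl * π⁻¹) = π * (emb d * dbl) * π⁻¹ := by group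
      _ = π * (dbl * emb d) * π⁻¹ := by rw [emb_comm]
      _ = π * dbl * π⁻¹ * (π * emb d * π⁻¹) := by group
  refine ⟨(MulEquiv.ofBijective (g.codRestrict _ hgc) ⟨?_, ?_⟩).symm⟩
  · refine (injective_iff_map_eq_one _).2 fun d hd => emb_inj d ?_
    have h1 : π * emb d * π⁻¹ = 1 := congrArg (fun x => ((x : ↥(alternatingGroup (Fin 6))) : Perm (Fin 6)))
      (congrArg Subtype.val hd)
    exact conj_eq_one_iff.1 h1
  · rintro ⟨⟨σ, hσA⟩, hσ⟩
    have hσ' : σ * (αt : Perm (Fin 6)) = αt * σ :=
      congrArg Subtype.val (Subgroup.mem_centralizer_singleton_iff.1 hσ)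
    rw [← hπ] at hσ'
    obtain ⟨d, hd | hd⟩ := commuting (π⁻¹ * σ * π) (by
      calc π⁻¹ * σ * π * dbl = π⁻¹ * (σ * (π * dbl * π⁻¹)) * π := by group
        _ = π⁻¹ * (π * dbl * π⁻¹ * σ) * π := by rw [hσ']
        _ = dbl * (π⁻¹ * σ * π) := by group)
    · refine ⟨d, Subtype.ext (Subtype.ext ?_)⟩
      show π * emb d * π⁻¹ = σ
      rw [← hd]; group
    · exfalso
      have h1 := congrArg sign hd
      rw [map_mul, map_mul, map_mul, sign_emb, mem_alternatingGroup.1 hσA, map_inv,
        sign_swap (by decide)] at h1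
      rcases Int.units_eq_one_or (sign π) with h | h <;> rw [h] at h1 <;> exact absurd h1 (by decide)

end Cfsg.Agent.Lead.CentDEightSix
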