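import Mathlib.GroupTheory.SpecificGroups.Dihedral
import Mathlib.GroupTheory.Perm.Fin
import Mathlib.Data.ZMod.Basic

/-!
# The finite model `Z₂ × S₄`
-/

set_option autoImplicit false

namespace Cfsg.Agent.Lead.CentTwoSFour

open Equiv Equiv.Perm DihedralGroup

/-- The model of the centralizer. -/
abbrev Q := Multiplicative (ZMod 2) × Perm (Fin 4)

/-- The central involution. -/
def ca : Q := (Multiplicative.ofAdd 1, 1)

/-- The central involution of the Sylow subgroup which is a square. -/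
def cz : Q := (1, swap 0 1 * swap 2 3)

/-- A conjugate of `cz`. -/
def cw : Q := (1, swap 0 2 * swap 1 3)

/-- A transposition. -/
def cx : Q := (1, swap 0 1)

/-- The sign, with values in `Z₂`. -/
def sg (σ : Perm (Fin 4)) : Multiplicative (ZMod 2) := if sign σ = 1 then 1 else Multiplicative.ofAdd 1

/-- The four-cycle. -/
def rho : Perm (Fin 4) := swap 0 2 * swap 2 1 * swap 1 3

/-- The Sylow subgroup of `S₄`. -/
def pd : DihedralGroup 4 → Perm (Fin 4)
  | .r i => rho ^ i.val
  | .sr i => swap 0 1 * rho ^ i.val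

/-- The Sylow subgroup of the model. -/
def pp (u : Multiplicative (ZMod 2) × DihedralGroup 4) : Q := (u.1, pd u.2)

theorem pp_mul : ∀ u v, pp (u * v) = pp u * pp v := by decide +kernel

theorem pp_inj : ∀ u, pp u = 1 → u = 1 := by decide +kernel

/-- The Sylow subgroup of the model, as a homomorphism. -/
def ppHom : Multiplicative (ZMod 2) × DihedralGroup 4 →* Q := MonoidHom.mk' pp pp_mul

theorem ppHom_inj : Function.Injective ppHom := (injective_iff_map_eq_one ppHom).2 pp_inj

/-- The graph of the sign on the Sylow subgroup. -/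
def gg (d : DihedralGroup 4) : Q := (sg (pd d), pd d)

theorem gg_mul : ∀ a b, gg (a * b) = gg a * gg b := by decide +kernel

theorem gg_inj : ∀ a, gg a = 1 → a = 1 := by decide +kernel

/-- The graph of the sign on the Sylow subgroup, as a homomorphism. -/
def ggHom : DihedralGroup 4 →* Q := MonoidHom.mk' gg gg_mul

theorem gg_graph : ∀ d, (gg d).1 = sg (gg d).2 ∧ cz * gg d = gg d * cz := by decide +kernel

theorem graph_gg : ∀ q : Q, q.1 = sg q.2 → cz * q = q * cz → ∃ d, gg d = q := by decide +kernel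

theorem pp_cz : ∀ q : Q, cz * q = q * cz ↔ ∃ u, pp u = q := by decide +kernel

theorem cz_basic : cz * cz = 1 ∧ cz ≠ 1 ∧ cz ≠ ca ∧ cw * cz = cz * cw ∧ (cz * cw) * (cz * cw) = 1 ∧
    ca * ca = 1 ∧ ca ≠ 1 ∧ cz * cw ≠ 1 ∧ cw ≠ cz ∧ cw ≠ 1 ∧ cw * cw = 1 ∧ ca * cz = cz * ca := by
  decide +kernel

theorem pp_special : pp (Multiplicative.ofAdd 1, 1) = ca ∧ pp (1, r 2) = cz := by decide +kernel

theorem pp_commutator : ∀ u v, pp u * pp v * (pp u)⁻¹ * (pp v)⁻¹ = 1 ∨
    pp u * pp v * (pp u)⁻¹ * (pp v)⁻¹ = cz := by decide +kernel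

theorem cz_commutator : ∃ u v, pp u * pp v * (pp u)⁻¹ * (pp v)⁻¹ = cz := by decide +kernel

theorem ca_central : ∀ q : Q, q * ca = ca * q := by decide +kernel

theorem central_eq : ∀ q : Q, (∀ c : Q, c * q = q * c) → q = 1 ∨ q = ca := by decide +kernel

theorem cw_conj : ∃ c : Q, c.1 = sg c.2 ∧ c * cz * c⁻¹ = cw := by decide +kernel

theorem czw_conj : ∃ c : Q, c.1 = sg c.2 ∧ c * cz * c⁻¹ = cz * cw := by decide +kernel

theorem cz_graph : cz.1 = sg cz.2 ∧ cw.1 = sg cw.2 := by decide +kernel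

theorem sg_mul : ∀ σ τ : Perm (Fin 4), sg (σ * τ) = sg σ * sg τ := by decide +kernel

theorem sg_swap : ∀ a b : Fin 4, a ≠ b → sg (swap a b) = Multiplicative.ofAdd 1 ∧
    ∃ c : Q, c * cx * c⁻¹ = (1, swap a b) := by decide +kernel

theorem z2_cases : ∀ a : Multiplicative (ZMod 2), a = 1 ∨ a = Multiplicative.ofAdd 1 := by decide

set_option synthInstance.maxSize 2000 in
set_option synthInstance.maxHeartbeats 200000 in
theorem involutions : ∀ q : Q, q * q = 1 → q ≠ 1 → q ≠ ca →
    ∃ c : Q, c * q * c⁻¹ = cz ∨ c * q * c⁻¹ = ca * cz ∨ c * q * c⁻¹ = cx ∨ c * q * c⁻¹ = ca * cx := by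
  decide +kernel

theorem transpositions_noncomm : cx * (1, swap 1 2) ≠ ((1, swap 1 2) : Q) * cx := by decide +kernel

/-- The automorphism of the model exchanging the two kinds of transpositions. -/
def flip : Q ≃* Q where
  toFun q := (q.1 * sg q.2, q.2)
  invFun q := (q.1 * sg q.2, q.2)
  left_inv := by intro q; revert q; decide +kernel
  right_inv := by intro q; revert q; decide +kernel
  map_mul' := by intro q r; revert q r; decide +kernel

theorem flip_spec : flip ca = ca ∧ flip cx = ca * cx := by decide +kernel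

theorem three_counts : (Finset.univ.filter fun a : Perm (Fin 6) =>
      a * a * a = 1 ∧ (Finset.univ.filter fun x => a x ≠ x).card = 3).card = 40 ∧
    (Finset.univ.filter fun a : Perm (Fin 6) =>
      a * a * a = 1 ∧ (Finset.univ.filter fun x => a x ≠ x).card ≠ 3 ∧ a ≠ 1).card = 40 := by
  decide +kernel

theorem central_mem : ∀ v : Multiplicative (ZMod 2) × DihedralGroup 4,
    (∀ σ : Perm (Fin 4), pp v * (sg σ, σ) = (sg σ, σ) * pp v) → pp v = 1 ∨ pp v = ca := by decide +kernel

theorem swap_eq_swap : ∀ a b c d : Fin 4, a < b → c < d → swap a b = swap c d → a = c ∧ b = d := by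
  decide +kernel

end Cfsg.Agent.Lead.CentTwoSFour
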