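import Cfsg.Agent.S2911
import Cfsg.Agent.Lib.Lead.CentDEight
import Cfsg.Agent.Lib.Lead.CentTwoSFourModel
import Cfsg.Agent.Lib.Perm.AltAut

/-!
# A 2-central involution with centralizer `Z₂ × S₄`
-/

set_option autoImplicit false
set_option linter.unusedSectionVars false
set_option linter.style.haveILetI false

namespace Cfsg.Agent.Lead.CentTwoSFour

open Equiv Equiv.Perm DihedralGroup Cfsg
open scoped commutatorElement

theorem three_spec : ((1, swap 0 1 * swap 1 2) : Q).1 = sg ((1, swap 0 1 * swap 1 2) : Q).2 ∧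
    ((1, swap 0 1 * swap 1 2) : Q) ^ 3 = 1 ∧ ((1, swap 0 1 * swap 1 2) : Q) ≠ 1 := by decide +kernel

theorem one_ne : (1 : Multiplicative (ZMod 2)) ≠ Multiplicative.ofAdd 1 := by decide

universe u

/-- The hypotheses of the classification. -/
structure Ctx (G : Type u) [Group G] where
  /-- the involution -/
  t : G
  /-- the parametrisation of the centralizer -/
  ι : Q →* G
  ht : orderOf t = 2
  hι : Function.Injective ι
  hmem : ∀ g : G, g * t = t * g ↔ ∃ q, ι q = g
  hca : ι ca = t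
  h16 : ∀ S : Sylow 2 G, Nat.card (S : Subgroup G) = 16
  hself : ∀ S : Sylow 2 G, Subgroup.centralizer ((⁅(S : Subgroup G), (S : Subgroup G)⁆ : Subgroup G) : Set G) =
    (S : Subgroup G)

variable {G : Type u} [Group G] [Finite G] (K : Ctx G)

/-- The square involution. -/
def Ctx.z : G := K.ι cz

theorem Ctx.z_inv : K.z * K.z = 1 ∧ K.z ≠ 1 := by
  refine ⟨?_, fun h => cz_basic.2.1 (K.hι (h.trans (map_one _).symm))⟩
  rw [Ctx.z, ← map_mul, cz_basic.1, map_one]

theorem Ctx.orderOf_z : orderOf K.z = 2 := Char.CentD8.orderOf_two_iff.2 ⟨K.z_inv.2, K.z_inv.1⟩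

theorem Ctx.exists_sylow : ∃ S : Sylow 2 G, (S : Subgroup G) = (K.ι.comp ppHom).range := by
  haveI : Fact (Nat.Prime 2) := ⟨Nat.prime_two⟩
  have hcard : Nat.card (K.ι.comp ppHom).range = 16 := by
    rw [← Nat.card_congr (MonoidHom.ofInjective (f := K.ι.comp ppHom) (K.hι.comp ppHom_inj)).toEquiv,
      Nat.card_prod, DihedralGroup.nat_card, Nat.card_eq_fintype_card]
    rfl
  obtain ⟨S, hS⟩ := (IsPGroup.of_card (p := 2) (n := 4) (hcard.trans (by norm_num)) :
    IsPGroup 2 (K.ι.comp ppHom).range).exists_le_sylow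
  exact ⟨S, (Subgroup.eq_of_le_of_card_ge hS (by rw [K.h16, hcard])).symm⟩

theorem Ctx.centralizer_z {g : G} : g * K.z = K.z * g ↔ ∃ u, K.ι (pp u) = g := by
  constructor
  · intro hg
    obtain ⟨S, hS⟩ := K.exists_sylow
    have hder : ⁅(S : Subgroup G), (S : Subgroup G)⁆ ≤ Subgroup.zpowers K.z := by
      rw [Subgroup.commutator_le]
      intro a ha b hb
      rw [hS] at ha hb
      obtain ⟨u, rfl⟩ := ha
      obtain ⟨v, rfl⟩ := hb
      show ⁅K.ι (pp u), K.ι (pp v)⁆ ∈ _
      rw [commutatorElement_def, ← map_inv, ← map_inv, ← map_mul, ← map_mul, ← map_mul]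
      rcases pp_commutator u v with h | h <;> rw [h]
      · rw [map_one]; exact Subgroup.one_mem _
      · exact Subgroup.mem_zpowers _
    have h1 : g ∈ (S : Subgroup G) := by
      rw [← K.hself S]
      refine Subgroup.mem_centralizer_iff.2 fun x hx => ?_
      obtain ⟨n, rfl⟩ := Subgroup.mem_zpowers_iff.1 (hder hx)
      exact ((Commute.zpow_right (show Commute g K.z from hg) n)).symm
    rw [hS] at h1
    obtain ⟨u, hu⟩ := h1
    exact ⟨u, hu⟩
  · rintro ⟨u, rfl⟩
    rw [Ctx.z, ← map_mul, ← map_mul, (pp_cz (pp u)).2 ⟨u, rfl⟩]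

theorem Ctx.z_mem_derived {S : Sylow 2 G} (hS : (S : Subgroup G) = (K.ι.comp ppHom).range) :
    K.z ∈ ⁅(S : Subgroup G), (S : Subgroup G)⁆ := by
  obtain ⟨u, v, h⟩ := cz_commutator
  have h1 : ⁅K.ι (pp u), K.ι (pp v)⁆ ∈ ⁅(S : Subgroup G), (S : Subgroup G)⁆ :=
    Subgroup.commutator_mem_commutator (by rw [hS]; exact ⟨u, rfl⟩) (by rw [hS]; exact ⟨v, rfl⟩)
  rwa [commutatorElement_def, ← map_inv, ← map_inv, ← map_mul, ← map_mul, ← map_mul, h] at h1

theorem Ctx.z_nconj_t (g : G) : g * K.t * g⁻¹ ≠ K.z := by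
  intro h
  have h1 : ∀ q : Q, ∃ u, K.ι (pp u) = g * K.ι q * g⁻¹ := by
    intro q
    refine K.centralizer_z.1 ?_
    have h2 : K.ι q * K.t = K.t * K.ι q := (K.hmem _).2 ⟨q, rfl⟩
    rw [← h]
    calc g * K.ι q * g⁻¹ * (g * K.t * g⁻¹) = g * (K.ι q * K.t) * g⁻¹ := by group
      _ = g * (K.t * K.ι q) * g⁻¹ := by rw [h2]
      _ = g * K.t * g⁻¹ * (g * K.ι q * g⁻¹) := by group
  choose f hf using h1
  have hinj : Function.Injective f := fun a b hab => by
    have h2 : g * K.ι a * g⁻¹ = g * K.ι b * g⁻¹ := by rw [← hf, ← hf, hab]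
    exact K.hι (mul_left_cancel (mul_right_cancel h2))
  have := Fintype.card_le_of_injective f hinj
  simp [Fintype.card_perm, DihedralGroup.card, Nat.factorial] at this

theorem Ctx.tz_nconj_t (g : G) : g * K.t * g⁻¹ ≠ K.ι (ca * cz) := by
  haveI : Fact (Nat.Prime 2) := ⟨Nat.prime_two⟩
  intro h
  obtain ⟨S, hS⟩ := K.exists_sylow
  have htC : K.t ∈ Subgroup.centralizer ((S : Subgroup G) : Set G) := by
    refine Subgroup.mem_centralizer_iff.2 fun s hs => ?_
    rw [SetLike.mem_coe, hS] at hs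
    obtain ⟨u, rfl⟩ := hs
    exact (K.hmem _).2 ⟨_, rfl⟩
  have htz : g * K.t * g⁻¹ ∈ Subgroup.centralizer ((S : Subgroup G) : Set G) := by
    rw [h]
    refine Subgroup.mem_centralizer_iff.2 fun s hs => ?_
    rw [SetLike.mem_coe, hS] at hs
    obtain ⟨u, rfl⟩ := hs
    rw [MonoidHom.comp_apply, ← map_mul, ← map_mul]
    refine congrArg K.ι ?_
    calc ppHom u * (ca * cz) = ca * (ppHom u * cz) := by rw [← mul_assoc, ca_central, mul_assoc]
      _ = ca * cz * ppHom u := by rw [show ppHom u = pp u from rfl, ← (pp_cz (pp u)).2 ⟨u, rfl⟩, mul_assoc]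
  have hmem : (g⁻¹)⁻¹ * K.t * g⁻¹ ∈ Subgroup.centralizer ((S : Subgroup G) : Set G) := by rwa [inv_inv]
  obtain ⟨n, hn, hn'⟩ := S.conj_eq_normalizer_conj_of_mem_centralizer K.t g⁻¹ htC hmem
  rw [inv_inv, h] at hn'
  -- the element `n` centralizes `z`
  have hnz : n * K.z = K.z * n := by
    have h1 : ∀ x ∈ ⁅(S : Subgroup G), (S : Subgroup G)⁆, x = 1 ∨ x = K.z := by
      intro x hx
      have hle : ⁅(S : Subgroup G), (S : Subgroup G)⁆ ≤ Subgroup.zpowers K.z := by
        rw [Subgroup.commutator_le]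
        intro a ha b hb
        rw [hS] at ha hb
        obtain ⟨u, rfl⟩ := ha
        obtain ⟨v, rfl⟩ := hb
        show ⁅K.ι (pp u), K.ι (pp v)⁆ ∈ _
        rw [commutatorElement_def, ← map_inv, ← map_inv, ← map_mul, ← map_mul, ← map_mul]
        rcases pp_commutator u v with h | h <;> rw [h]
        · rw [map_one]; exact Subgroup.one_mem _
        · exact Subgroup.mem_zpowers _
      obtain ⟨m, rfl⟩ := Subgroup.mem_zpowers_iff.1 (hle hx)
      rw [← zpow_mod_orderOf, K.orderOf_z]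
      rcases Int.emod_two_eq_zero_or_one m with e | e <;> simp [e]
    have h2 : n * K.z * n⁻¹ ∈ ⁅(S : Subgroup G), (S : Subgroup G)⁆ := by
      have hmap : (⁅(S : Subgroup G), (S : Subgroup G)⁆).map (MulAut.conj n).toMonoidHom =
          ⁅(S : Subgroup G), (S : Subgroup G)⁆ := by
        have hn2 : (S : Subgroup G).map (MulAut.conj n).toMonoidHom = (S : Subgroup G) := by
          ext x
          rw [Subgroup.mem_map_equiv, MulAut.conj_symm_apply]
          rw [Subgroup.mem_normalizer_iff.1 hn (n⁻¹ * x * n)]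
          simp [mul_assoc]
        rw [Subgroup.map_commutator, hn2]
      rw [← hmap]
      exact Subgroup.mem_map_of_mem _ (K.z_mem_derived hS)
    rcases h1 _ h2 with h3 | h3
    · exact absurd (conj_eq_one_iff.1 h3) K.z_inv.2
    · exact mul_inv_eq_iff_eq_mul.1 h3
  obtain ⟨u, rfl⟩ := K.centralizer_z.1 hnz
  have h4 : K.ι (ca * cz) = K.t := by
    rw [hn', mul_assoc, ← (K.hmem _).2 ⟨_, rfl⟩, inv_mul_cancel_left]
  rw [← K.hca] at h4
  exact cz_basic.2.1 (mul_eq_left.1 (K.hι h4))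

theorem Ctx.conj_z : (∃ g : G, g * K.z * g⁻¹ = K.ι cw) ∧ ∃ g : G, g * K.z * g⁻¹ = K.ι (cz * cw) := by
  obtain ⟨c, -, hc⟩ := cw_conj
  obtain ⟨d, -, hd⟩ := czw_conj
  exact ⟨⟨K.ι c, by rw [Ctx.z, ← map_inv, ← map_mul, ← map_mul, hc]⟩,
    ⟨K.ι d, by rw [Ctx.z, ← map_inv, ← map_mul, ← map_mul, hd]⟩⟩

include K in
theorem Ctx.oddCore_eq_bot : oddCore G = ⊥ := by
  classical
  have hfix : ∀ w : G, (∃ g, g * K.z * g⁻¹ = w) → ∀ x ∈ oddCore G, w * x = x * w → x = 1 := by
    rintro w ⟨k, rfl⟩ x hx hwx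
    set y := k⁻¹ * x * k with hy
    have hyz : y * K.z = K.z * y := by
      calc y * K.z = k⁻¹ * (x * (k * K.z * k⁻¹)) * k := by rw [hy]; group
        _ = k⁻¹ * ((k * K.z * k⁻¹) * x) * k := by rw [hwx]
        _ = K.z * y := by rw [hy]; group
    have hyO : y ∈ oddCore G := by
      have := (inferInstance : (oddCore G).Normal).conj_mem x hx k⁻¹
      rwa [inv_inv] at this
    obtain ⟨S, hS⟩ := K.exists_sylow
    have hyS : y ∈ (S : Subgroup G) := by
      obtain ⟨u, hu⟩ := K.centralizer_z.1 hyz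
      rw [hS, ← hu]
      exact ⟨u, rfl⟩
    have h1 : orderOf y ∣ 16 := K.h16 S ▸ Subgroup.orderOf_dvd_natCard _ hyS
    have h2 : (orderOf y).Coprime 16 := by
      rw [show 16 = 2 ^ 4 by norm_num]
      exact (Fusion.mem_pPrimeCore_orderOf hyO).pow_right 4
    have h3 : y = 1 := orderOf_eq_one_iff.1 (Nat.eq_one_of_dvd_coprimes h2 dvd_rfl h1)
    calc x = k * y * k⁻¹ := by rw [hy]; group
      _ = 1 := by rw [h3]; group
  have hinv : ∀ w : G, (∃ g, g * K.z * g⁻¹ = w) → ∀ x ∈ oddCore G, w * x * w⁻¹ = x⁻¹ := by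
    rintro w hw x hx
    obtain ⟨k, hk⟩ := hw
    have hw2 : w * w = 1 := by rw [← hk, conj_mul, K.z_inv.1, mul_one, mul_inv_cancel]
    have hwi : w⁻¹ = w := inv_eq_of_mul_eq_one_right hw2
    let f : oddCore G → oddCore G := fun y =>
      ⟨(y : G)⁻¹ * (w * y * w⁻¹), mul_mem (inv_mem y.2) ((inferInstance : (oddCore G).Normal).conj_mem _ y.2 w)⟩
    have hf : Function.Injective f := by
      intro a b hab
      have hab' : (a : G)⁻¹ * (w * a * w⁻¹) = (b : G)⁻¹ * (w * b * w⁻¹) := congrArg Subtype.val hab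
      have h : w * ((a : G) * (b : G)⁻¹) = ((a : G) * (b : G)⁻¹) * w := by
        have h2 : w * (a : G) * w⁻¹ = (a : G) * ((b : G)⁻¹ * (w * b * w⁻¹)) :=
          inv_mul_eq_iff_eq_mul.1 hab'
        calc w * ((a : G) * (b : G)⁻¹) = (w * (a : G) * w⁻¹) * (w * (b : G)⁻¹) := by group
          _ = ((a : G) * ((b : G)⁻¹ * (w * b * w⁻¹))) * (w * (b : G)⁻¹) := by rw [h2]
          _ = (a : G) * (b : G)⁻¹ * w := by group
      have := hfix w ⟨k, hk⟩ _ (mul_mem a.2 (inv_mem b.2)) h
      exact Subtype.ext (mul_inv_eq_one.1 this)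
    obtain ⟨y, hy⟩ := Finite.injective_iff_surjective.1 hf ⟨x, hx⟩
    have hy' : x = (y : G)⁻¹ * (w * y * w⁻¹) := (congrArg Subtype.val hy).symm
    rw [hy', hwi]
    calc w * ((y : G)⁻¹ * (w * y * w)) * w = w * (y : G)⁻¹ * w * y * (w * w) := by group
      _ = ((y : G)⁻¹ * (w * y * w))⁻¹ := by
          rw [hw2, mul_one, mul_inv_rev, mul_inv_rev, mul_inv_rev, inv_inv, hwi]; group
  rw [eq_bot_iff]
  intro x hx
  rw [Subgroup.mem_bot]
  refine hfix _ K.conj_z.2 x hx ?_
  rw [← mul_inv_eq_iff_eq_mul, map_mul]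
  calc K.ι cz * K.ι cw * x * (K.ι cz * K.ι cw)⁻¹
      = K.ι cz * (K.ι cw * x * (K.ι cw)⁻¹) * (K.ι cz)⁻¹ := by group
    _ = K.z * x⁻¹ * K.z⁻¹ := by rw [hinv _ K.conj_z.1 x hx]; rfl
    _ = x := by rw [hinv K.z ⟨1, by simp⟩ _ (inv_mem hx), inv_inv]

/-- The isolated case. -/
theorem Ctx.isolated (h : ∀ g : G, (g * K.t * g⁻¹) * K.t = K.t * (g * K.t * g⁻¹) → g * K.t * g⁻¹ = K.t) :
    Subgroup.centralizer ({K.t} : Set G) = ⊤ := by
  haveI : Fact (Nat.Prime 2) := ⟨Nat.prime_two⟩
  obtain ⟨S, hS⟩ := K.exists_sylow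
  have htS : K.t ∈ (S : Subgroup G) := by
    rw [hS, ← K.hca, ← pp_special.1]
    exact ⟨_, rfl⟩
  have hodd := Char.oddInvol_of_isolated_sylow K.ht htS fun g hg => h g (by
    have hg' : g * K.t * g⁻¹ ∈ (S : Subgroup G) := hg
    rw [hS] at hg'
    obtain ⟨u, hu⟩ := hg'
    rw [← hu]
    exact (K.hmem _).2 ⟨_, rfl⟩)
  refine top_le_iff.1 fun g _ => Subgroup.mem_centralizer_singleton_iff.2 ?_
  exact (Char.zStar_central hodd K.oddCore_eq_bot g).symm

/-- A subgroup of index two containing the graph of the sign. -/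
theorem Ctx.exists_index_two (hcx : ∃ g : G, g * K.t * g⁻¹ = K.ι cx) :
    ∃ N : Subgroup G, N.Normal ∧ N.index = 2 ∧ ∀ q : Q, K.ι q ∈ N ↔ q.1 = sg q.2 := by
  haveI : Fact (Nat.Prime 2) := ⟨Nat.prime_two⟩
  obtain ⟨S, hS⟩ := K.exists_sylow
  obtain ⟨N, hN⟩ := Cfsg.Agent.S2911.result S ⟨(MulEquiv.subgroupCongr hS).trans
    (MonoidHom.ofInjective (f := K.ι.comp ppHom) (K.hι.comp ppHom_inj)).symm⟩
  haveI hNn : N.Normal := Subgroup.normal_of_index_eq_two hN
  obtain ⟨g, hg⟩ := hcx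
  have hsame : ∀ a b : Fin 4, a ≠ b → (K.ι ((1, swap a b) : Q) ∈ N ↔ K.t ∈ N) := by
    intro a b hab
    obtain ⟨-, c, hc⟩ := sg_swap a b hab
    have h1 : K.ι ((1, swap a b) : Q) = (K.ι c * g) * K.t * (K.ι c * g)⁻¹ := by
      rw [← hc, map_mul, map_mul, map_inv, ← hg]
      group
    rw [h1]
    exact ⟨fun h2 => by
      have := hNn.conj_mem _ h2 (K.ι c * g)⁻¹
      simpa [mul_assoc] using this, fun h2 => hNn.conj_mem _ h2 _⟩
  have htN : K.t ∉ N := by
    intro htN
    have hall : ∀ σ : Perm (Fin 4), K.ι ((1, σ) : Q) ∈ N := by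
      intro σ
      induction σ using Perm.swap_induction_on with
      | one => rw [show ((1, 1) : Q) = 1 from rfl, map_one]; exact N.one_mem
      | swap_mul f a b hab ih =>
        rw [show ((1, swap a b * f) : Q) = (1, swap a b) * (1, f) by simp, map_mul]
        exact N.mul_mem ((hsame a b hab).2 htN) ih
    have hSN : (S : Subgroup G) ≤ N := by
      rw [hS]
      rintro _ ⟨u, rfl⟩
      rw [MonoidHom.comp_apply]
      obtain ⟨a, σ⟩ := (ppHom u : Q)
      rw [show ((a, σ) : Q) = (a, 1) * (1, σ) by simp, map_mul]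
      refine N.mul_mem ?_ (hall σ)
      rcases z2_cases a with rfl | rfl
      · rw [show ((1, 1) : Q) = 1 from rfl, map_one]; exact N.one_mem
      · exact K.hca.symm ▸ htN
    have hd := Subgroup.index_dvd_of_le hSN
    rw [hN] at hd
    exact S.not_dvd_index hd
  refine ⟨N, hNn, hN, fun q => ?_⟩
  have hσ : ∀ σ : Perm (Fin 4), K.ι ((1, σ) : Q) ∈ N ↔ sg σ = 1 := by
    intro σ
    induction σ using Perm.swap_induction_on with
    | one => rw [show ((1, 1) : Q) = 1 from rfl, map_one]; exact iff_of_true N.one_mem (by simp [sg])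
    | swap_mul f a b hab ih =>
      rw [show ((1, swap a b * f) : Q) = (1, swap a b) * (1, f) by simp, map_mul,
        Subgroup.mul_mem_iff_of_index_two hN, ih, hsame a b hab, sg_mul, (sg_swap a b hab).1]
      rcases z2_cases (sg f) with e | e <;> rw [e] <;> simp [htN] <;> rfl
  obtain ⟨a, σ⟩ := q
  rw [show ((a, σ) : Q) = (a, 1) * (1, σ) by simp, map_mul, Subgroup.mul_mem_iff_of_index_two hN, hσ]
  simp only [Prod.mk_mul_mk, mul_one, one_mul]
  rcases z2_cases a with rfl | rfl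
  · rw [show ((1, 1) : Q) = 1 from rfl, map_one]
    simp only [N.one_mem, true_iff]
    exact eq_comm
  · rw [show K.ι (Multiplicative.ofAdd 1, 1) = K.t from K.hca]
    rcases z2_cases (sg σ) with e | e <;> simp [e, htN]

/-- An involutory automorphism of `A₆` fixing an element of order three is induced by a permutation. -/
theorem exists_perm_of_fixed (σ : MulAut ↥(alternatingGroup (Fin 6))) (hσ : ∀ a, σ (σ a) = a)
    (h : ↥(alternatingGroup (Fin 6))) (h3 : orderOf h = 3) (hfix : σ h = h) :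
    ∃ π : Perm (Fin 6), σ = MulAut.conjNormal π := by
  classical
  refine Perm.AltAut.exists_perm (by norm_num) σ ?_
  by_contra hno
  simp only [not_forall] at hno
  obtain ⟨f, hf, hnf⟩ := hno
  have hall : ∀ a : ↥(alternatingGroup (Fin 6)), IsThreeCycle (a : Perm (Fin 6)) →
      ¬ IsThreeCycle (σ a : Perm (Fin 6)) := by
    intro a ha hσa
    obtain ⟨c, hc⟩ := isConj_iff.1 (alternatingGroup.isThreeCycle_isConj (by simp) ha hf)
    refine hnf ?_
    rw [← hc, map_mul, map_mul, map_inv]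
    show ((σ c : Perm (Fin 6)) * (σ a : Perm (Fin 6)) * (σ c : Perm (Fin 6))⁻¹).cycleType = {3}
    rw [cycleType_conj]
    exact hσa
  have hh : ¬ IsThreeCycle (h : Perm (Fin 6)) := fun hc => hall h hc (by rwa [hfix])
  let P := fun a : Perm (Fin 6) => a * a * a = 1 ∧ (Finset.univ.filter fun x => a x ≠ x).card = 3
  let Q' := fun a : Perm (Fin 6) => a * a * a = 1 ∧ (Finset.univ.filter fun x => a x ≠ x).card ≠ 3 ∧ a ≠ 1
  have hsupp : ∀ a : Perm (Fin 6), (Finset.univ.filter fun x => a x ≠ x).card = 3 ↔ IsThreeCycle a := by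
    intro a
    rw [← card_support_eq_three_iff]
    rfl
  have hcube : ∀ b : ↥(alternatingGroup (Fin 6)), orderOf b = 3 →
      (b : Perm (Fin 6)) * (b : Perm (Fin 6)) * (b : Perm (Fin 6)) = 1 ∧ (b : Perm (Fin 6)) ≠ 1 := by
    intro b hb
    refine ⟨?_, fun e => ?_⟩
    · rw [← Subgroup.coe_mul, ← Subgroup.coe_mul, ← pow_two, ← pow_succ,
        show b ^ (2 + 1) = 1 by rw [← pow_orderOf_eq_one b, hb], Subgroup.coe_one]
    · rw [show b = 1 from Subtype.ext e, orderOf_one] at hb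
      omega
  let F : {a : Perm (Fin 6) // P a} → {a : Perm (Fin 6) // Q' a} := fun a =>
    ⟨σ ⟨a.1, IsThreeCycle.mem_alternatingGroup ((hsupp a.1).1 a.2.2)⟩, by
      set b : ↥(alternatingGroup (Fin 6)) := ⟨a.1, IsThreeCycle.mem_alternatingGroup ((hsupp a.1).1 a.2.2)⟩
      have hb : orderOf b = 3 := by
        rw [← Subgroup.orderOf_coe]; exact IsThreeCycle.orderOf ((hsupp a.1).1 a.2.2)
      obtain ⟨h1, h2⟩ := hcube (σ b) (by rw [MulEquiv.orderOf_eq, hb])
      exact ⟨h1, fun e => hall b ((hsupp a.1).1 a.2.2) ((hsupp _).1 e), h2⟩⟩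
  have hF : Function.Injective F := fun a b hab => by
    have h1 := congrArg Subtype.val (σ.injective (Subtype.ext (congrArg Subtype.val hab :)))
    exact Subtype.ext h1
  have hFb : Function.Bijective F := (Fintype.bijective_iff_injective_and_card F).2 ⟨hF, by
    rw [Fintype.card_subtype, Fintype.card_subtype]
    exact three_counts.1.trans three_counts.2.symm⟩
  obtain ⟨a, ha⟩ := hFb.2 ⟨h, (hcube h h3).1, fun e => hh ((hsupp _).1 e), (hcube h h3).2⟩
  have h1 : σ ⟨a.1, IsThreeCycle.mem_alternatingGroup ((hsupp a.1).1 a.2.2)⟩ = h :=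
    Subtype.ext (congrArg Subtype.val ha :)
  have h2 : (⟨a.1, IsThreeCycle.mem_alternatingGroup ((hsupp a.1).1 a.2.2)⟩ : ↥(alternatingGroup (Fin 6))) = h := by
    rw [← hσ ⟨a.1, _⟩, h1, hfix]
  exact hh (by rw [← h2]; exact (hsupp a.1).1 a.2.2)

/-- The non-isolated case, with the transpositions of the model fused to the involution. -/
theorem Ctx.symmetric (hcx : ∃ g : G, g * K.t * g⁻¹ = K.ι cx) : Nonempty (G ≃* Perm (Fin 6)) := by
  classical
  haveI : Fact (Nat.Prime 2) := ⟨Nat.prime_two⟩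
  obtain ⟨N, hNn, hN, hgraph⟩ := K.exists_index_two hcx
  haveI := hNn
  have hzN : K.z ∈ N := (hgraph cz).2 cz_graph.1
  have hwN : K.ι cw ∈ N := (hgraph cw).2 cz_graph.2
  have htN : K.t ∉ N := by
    rw [← K.hca, hgraph]
    decide
  -- the centralizer of `z` in `N`
  have hzord : orderOf (⟨K.z, hzN⟩ : N) = 2 := by rw [Subgroup.orderOf_mk, K.orderOf_z]
  let φ : DihedralGroup 4 →* Subgroup.centralizer ({(⟨K.z, hzN⟩ : N)} : Set N) :=
    MonoidHom.mk' (fun d => ⟨⟨K.ι (gg d), (hgraph _).2 (gg_graph d).1⟩,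
      Subgroup.mem_centralizer_singleton_iff.2 (Subtype.ext (by
        show K.ι (gg d) * K.z = K.z * K.ι (gg d)
        rw [Ctx.z, ← map_mul, ← map_mul, (gg_graph d).2]))⟩)
      (fun a b => Subtype.ext (Subtype.ext (by
        show K.ι (gg (a * b)) = K.ι (gg a) * K.ι (gg b)
        rw [gg_mul, map_mul])))
  have hφ : Function.Bijective φ := by
    constructor
    · refine (injective_iff_map_eq_one φ).2 fun a ha => gg_inj a (K.hι ?_)
      rw [map_one]
      exact congrArg Subtype.val (congrArg Subtype.val ha)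
    · rintro ⟨⟨g, hgN⟩, hg⟩
      have h1 : g * K.z = K.z * g := congrArg Subtype.val (Subgroup.mem_centralizer_singleton_iff.1 hg)
      obtain ⟨u, rfl⟩ := K.centralizer_z.1 h1
      obtain ⟨d, hd⟩ := graph_gg (pp u) ((hgraph _).1 hgN) ((pp_cz _).2 ⟨u, rfl⟩)
      exact ⟨d, Subtype.ext (Subtype.ext (congrArg K.ι hd))⟩
  let e4 := (MulEquiv.ofBijective φ hφ).symm
  -- the class of `t`
  obtain ⟨g0, hg0⟩ := hcx
  set C := Subgroup.centralizer ({K.t} : Set G) with hC
  have hC48 : Nat.card C = 48 := by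
    have hr : C = K.ι.range := by
      ext g
      rw [hC, Subgroup.mem_centralizer_singleton_iff, K.hmem]
      rfl
    rw [hr, ← Nat.card_congr (MonoidHom.ofInjective K.hι).toEquiv, Nat.card_eq_fintype_card]
    simp [Fintype.card_perm]
    rfl
  have hGN : Nat.card G = 2 * Nat.card N := by rw [← N.card_mul_index, hN, mul_comm]
  let P := {p : Fin 4 × Fin 4 // p.1 < p.2}
  have hP : ∀ p : P, ∃ g : G, g * K.t * g⁻¹ = K.ι ((1, swap p.1.1 p.1.2) : Q) := by
    intro p
    obtain ⟨-, c, hc⟩ := sg_swap p.1.1 p.1.2 p.2.ne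
    exact ⟨K.ι c * g0, by rw [← hc, map_mul, map_mul, map_inv, ← hg0]; group⟩
  choose gP hgP using hP
  let D := Set.range fun g : G => g * K.t * g⁻¹
  have hDcard : Nat.card D * 48 = Nat.card G := by
    have hrel : ∀ a b : G, a⁻¹ * b ∈ C ↔ a * K.t * a⁻¹ = b * K.t * b⁻¹ := by
      intro a b
      rw [hC, Subgroup.mem_centralizer_singleton_iff]
      constructor
      · intro h
        calc a * K.t * a⁻¹ = a * (K.t * (a⁻¹ * b)) * b⁻¹ := by group
          _ = a * (a⁻¹ * b * K.t) * b⁻¹ := by rw [h]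
          _ = b * K.t * b⁻¹ := by group
      · intro h
        calc a⁻¹ * b * K.t = a⁻¹ * (b * K.t * b⁻¹) * b := by group
          _ = a⁻¹ * (a * K.t * a⁻¹) * b := by rw [h]
          _ = K.t * (a⁻¹ * b) := by group
    let E : G ⧸ C → D := Quotient.lift (fun g => ⟨g * K.t * g⁻¹, g, rfl⟩)
      (fun a b hab => Subtype.ext ((hrel a b).1 (QuotientGroup.leftRel_apply.1 hab)))
    have hE : Function.Bijective E := by
      constructor
      · intro x y
        induction x using QuotientGroup.induction_on with | H a =>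
        induction y using QuotientGroup.induction_on with | H b =>
        intro hxy
        exact QuotientGroup.eq.2 ((hrel a b).2 (congrArg Subtype.val hxy))
      · rintro ⟨_, g, rfl⟩
        exact ⟨QuotientGroup.mk g, rfl⟩
    rw [← Nat.card_eq_of_bijective E hE, ← Subgroup.index_eq_card, ← hC48, mul_comm, C.card_mul_index]
  let F : Option P → D := fun o => o.elim ⟨K.t, 1, by simp⟩ fun p => ⟨_, gP p, hgP p⟩
  have hF : Function.Injective F := by
    rintro (_ | p) (_ | q) h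
    · rfl
    · exfalso
      have h1 : K.t = K.ι ((1, swap q.1.1 q.1.2) : Q) := congrArg Subtype.val h
      rw [← K.hca] at h1
      exact absurd (congrArg Prod.fst (K.hι h1)) (by simp [ca, one_ne, one_ne.symm])
    · exfalso
      have h1 : K.ι ((1, swap p.1.1 p.1.2) : Q) = K.t := congrArg Subtype.val h
      rw [← K.hca] at h1
      exact absurd (congrArg Prod.fst (K.hι h1)) (by simp [ca, one_ne, one_ne.symm])
    · have h1 : ((1, swap p.1.1 p.1.2) : Q) = (1, swap q.1.1 q.1.2) := K.hι (congrArg Subtype.val h)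
      have h2 : ∀ a b c d : Fin 4, a < b → c < d → swap a b = swap c d → a = c ∧ b = d := by decide +kernel
      obtain ⟨h3, h4⟩ := h2 _ _ _ _ p.2 q.2 (congrArg Prod.snd h1)
      exact congrArg some (Subtype.ext (Prod.ext h3 h4))
  have h7 : Fintype.card (Option P) = 7 := by decide
  have hD7 : 7 ≤ Nat.card D := by
    rw [← h7, ← Nat.card_eq_fintype_card]
    exact Nat.card_le_card_of_injective F hF
  -- all members of the class cannot commute with `t`
  have hnot7 : Nat.card D ≠ 7 := by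
    intro h
    haveI := Fintype.ofFinite D
    have hb : Function.Bijective F := (Fintype.bijective_iff_injective_and_card F).2
      ⟨hF, by rw [h7, ← Nat.card_eq_fintype_card, h]⟩
    have hcomm : ∀ g : G, (g * K.t * g⁻¹) * K.t = K.t * (g * K.t * g⁻¹) := by
      intro g
      obtain ⟨o, ho⟩ := hb.2 ⟨_, g, rfl⟩
      have h1 : (F o : G) = g * K.t * g⁻¹ := congrArg Subtype.val ho
      rw [← h1]
      rcases o with _ | p
      · rfl
      · exact (K.hmem _).2 ⟨_, rfl⟩
    have hpair : ∀ g k : G, (g * K.t * g⁻¹) * (k * K.t * k⁻¹) = (k * K.t * k⁻¹) * (g * K.t * g⁻¹) := by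
      intro g k
      have h1 := hcomm (k⁻¹ * g)
      calc (g * K.t * g⁻¹) * (k * K.t * k⁻¹)
          = k * ((k⁻¹ * g) * K.t * (k⁻¹ * g)⁻¹ * K.t) * k⁻¹ := by group
        _ = k * (K.t * ((k⁻¹ * g) * K.t * (k⁻¹ * g)⁻¹)) * k⁻¹ := by rw [h1]
        _ = (k * K.t * k⁻¹) * (g * K.t * g⁻¹) := by group
    have h1 := hpair (gP ⟨(0, 1), by decide⟩) (gP ⟨(1, 2), by decide⟩)
    rw [hgP, hgP, ← map_mul, ← map_mul] at h1
    exact transpositions_noncomm (K.hι h1)
  -- the subgroup of index two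
  have hOG := K.oddCore_eq_bot
  obtain ⟨fA⟩ : Nonempty (N ≃* ↥(alternatingGroup (Fin 6))) := by
    rcases CentDEight.classification hzord e4 with h | ⟨⟨f⟩⟩ | ⟨⟨f⟩⟩ | ⟨⟨f⟩⟩ | h
    · exfalso
      rw [Char.oddCore_normal_eq_bot hOG N, sup_bot_eq] at h
      obtain ⟨c, hc1, hc⟩ := cw_conj
      have h1 : (⟨K.ι c, (hgraph c).2 hc1⟩ : N) ∈ Subgroup.centralizer ({(⟨K.z, hzN⟩ : N)} : Set N) :=
        h ▸ Subgroup.mem_top _
      have h2 : K.ι c * K.z = K.z * K.ι c := congrArg Subtype.val (Subgroup.mem_centralizer_singleton_iff.1 h1)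
      rw [Ctx.z, ← map_mul, ← map_mul] at h2
      rw [K.hι h2, mul_inv_cancel_right] at hc
      exact cz_basic.2.2.2.2.2.2.2.2.1 hc.symm
    · exfalso
      rw [Nat.card_congr f.toEquiv, Nat.card_perm, Nat.card_fin, show Nat.factorial 4 = 24 from rfl] at hGN
      omega
    · exfalso
      rw [Nat.card_congr f.toEquiv, Nat.card_perm, Nat.card_fin, show Nat.factorial 5 = 120 from rfl] at hGN
      omega
    · exfalso
      haveI : Finite (Matrix.SpecialLinearGroup (Fin 3) (ZMod 2)) := Subtype.finite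
      obtain ⟨-, hc⟩ := Small.PSLThreeTwo.psl_three_two (F := ZMod 2) (ZMod.card 2)
      rw [Nat.card_congr f.toEquiv, ← Nat.card_congr CentDEight.sl_three_two.toEquiv, hc] at hGN
      omega
    · exact h
  -- conjugation by `t`
  have hcent : ∀ c : G, (∀ x ∈ N, c * x = x * c) → c = 1 := by
    intro c hc
    obtain ⟨u, rfl⟩ := K.centralizer_z.1 (hc K.z hzN)
    rcases central_mem u (fun σ => K.hι (by
      rw [map_mul, map_mul]; exact hc _ ((hgraph _).2 rfl))) with h | h
    · rw [h, map_one]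
    · exfalso
      rw [h, K.hca] at hc
      have hall : ∀ g : G, g * K.t = K.t * g := by
        intro g
        by_cases hg : g ∈ N
        · exact (hc g hg).symm
        · have h1 : g * K.t ∈ N :=
            (Subgroup.mul_mem_iff_of_index_two hN).2 (iff_of_false hg htN)
          have h2 := hc _ h1
          exact mul_right_cancel (b := K.t) (by rw [← h2, mul_assoc])
      have h1 : g0 * K.t * g0⁻¹ = K.t := by rw [hall, mul_inv_cancel_right]
      rw [hg0, ← K.hca] at h1
      exact absurd (K.hι h1) (by decide)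
  let θ : G →* MulAut ↥(alternatingGroup (Fin 6)) :=
    (MulAut.congr fA).toMonoidHom.comp MulAut.conjNormal
  have hθ : ∀ (g : G) (x : N), θ g (fA x) = fA ⟨g * x * g⁻¹, hNn.conj_mem x x.2 g⟩ := by
    intro g x
    show fA (MulAut.conjNormal g (fA.symm (fA x))) = _
    rw [fA.symm_apply_apply]
    exact congrArg fA (Subtype.ext (MulAut.conjNormal_apply g x))
  have hθN : ∀ n : N, θ (n : G) = MulAut.conjNormal ((fA n : ↥(alternatingGroup (Fin 6))) : Perm (Fin 6)) := by
    intro n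
    refine MulEquiv.ext fun a => ?_
    obtain ⟨x, rfl⟩ := fA.surjective a
    rw [hθ]
    refine Subtype.ext ?_
    rw [MulAut.conjNormal_apply]
    refine congrArg Subtype.val (show _ = fA n * fA x * (fA n)⁻¹ from ?_)
    rw [← map_inv, ← map_mul, ← map_mul]
    rfl
  have htt : K.t * K.t = 1 := by rw [← K.hca, ← map_mul, cz_basic.2.2.2.2.2.1, map_one]
  -- an element of order three fixed by `t`
  let h : N := ⟨K.ι ((1, swap 0 1 * swap 1 2) : Q), (hgraph _).2 three_spec.1⟩
  have h3 : orderOf (fA h) = 3 := by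
    rw [MulEquiv.orderOf_eq, Subgroup.orderOf_mk, orderOf_injective K.ι K.hι]
    exact orderOf_eq_prime three_spec.2.1 three_spec.2.2
  obtain ⟨π, hπ⟩ := exists_perm_of_fixed (θ K.t) (fun a => by
      rw [← MulAut.mul_apply, ← map_mul, htt, map_one, MulAut.one_apply]) (fA h) h3 (by
      rw [hθ]
      refine congrArg fA (Subtype.ext ?_)
      show K.t * K.ι _ * K.t⁻¹ = K.ι _
      rw [← (K.hmem _).2 ⟨_, rfl⟩, mul_inv_cancel_right])
  have hJinj : Function.Injective
      (MulAut.conjNormal : Perm (Fin 6) →* MulAut ↥(alternatingGroup (Fin 6))) :=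
    Perm.AltAut.conjNormal_injective (n := 6) (by norm_num)
  have hπ2 : π * π = 1 := hJinj (by rw [map_mul, ← hπ, ← map_mul, htt, map_one, map_one])
  have hinj : Function.Injective θ := by
    refine (injective_iff_map_eq_one θ).2 fun g hg => hcent g fun x hx => ?_
    have h1 := hθ g ⟨x, hx⟩
    rw [hg, MulAut.one_apply] at h1
    exact mul_inv_eq_iff_eq_mul.1 (congrArg Subtype.val (fA.injective h1)).symm
  have hrange : ∀ g : G, ∃ p : Perm (Fin 6), MulAut.conjNormal p = θ g := by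
    intro g
    by_cases hg : g ∈ N
    · exact ⟨_, (hθN ⟨g, hg⟩).symm⟩
    · have h1 : g * K.t ∈ N := (Subgroup.mul_mem_iff_of_index_two hN).2 (iff_of_false hg htN)
      refine ⟨((fA ⟨_, h1⟩ : ↥(alternatingGroup (Fin 6))) : Perm (Fin 6)) * π, ?_⟩
      rw [map_mul, ← hθN, ← hπ, ← map_mul, mul_assoc, htt, mul_one]
  choose ψ hψ using hrange
  let Ψ : G →* Perm (Fin 6) := MonoidHom.mk' ψ fun a b => hJinj (by rw [hψ, map_mul, map_mul, hψ, hψ])
  have hΨ : Function.Injective Ψ := fun a b hab => hinj (by rw [← hψ a, ← hψ b]; exact congrArg _ hab)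
  refine ⟨MulEquiv.ofBijective Ψ ((Nat.bijective_iff_injective_and_card Ψ).2 ⟨hΨ, ?_⟩)⟩
  rw [hGN, Nat.card_congr fA.toEquiv, nat_card_alternatingGroup, Nat.card_perm, Nat.card_fin]
  rfl

theorem Ctx.dichotomy : Subgroup.centralizer ({K.t} : Set G) = ⊤ ∨ Nonempty (G ≃* Perm (Fin 6)) := by
  by_cases hiso : ∀ g : G, (g * K.t * g⁻¹) * K.t = K.t * (g * K.t * g⁻¹) → g * K.t * g⁻¹ = K.t
  · exact Or.inl (K.isolated hiso)
  simp only [not_forall] at hiso
  obtain ⟨g, hg, hne⟩ := hiso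
  right
  obtain ⟨q, hq⟩ := (K.hmem _).1 hg
  have htt : K.t * K.t = 1 := by rw [← K.hca, ← map_mul, cz_basic.2.2.2.2.2.1, map_one]
  have hq2 : q * q = 1 := K.hι (by
    rw [map_mul, hq, map_one, conj_mul, htt, mul_one, mul_inv_cancel])
  have hq1 : q ≠ 1 := fun h => by
    rw [h, map_one, eq_comm, conj_eq_one_iff] at hq
    have := K.ht
    rw [hq, orderOf_one] at this
    omega
  have hqa : q ≠ ca := fun h => hne (by rw [← hq, h, K.hca])
  obtain ⟨c, hc⟩ := involutions q hq2 hq1 hqa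
  have key : ∀ r : Q, c * q * c⁻¹ = r → (K.ι c * g) * K.t * (K.ι c * g)⁻¹ = K.ι r := by
    intro r hr
    rw [← hr, map_mul, map_mul, map_inv, hq]
    group
  rcases hc with h | h | h | h
  · exact absurd (key _ h) (K.z_nconj_t _)
  · exact absurd (key _ h) (K.tz_nconj_t _)
  · exact K.symmetric ⟨_, key _ h⟩
  · let K' : Ctx G :=
      { t := K.t
        ι := K.ι.comp flip.toMonoidHom
        ht := K.ht
        hι := K.hι.comp flip.injective
        hmem := fun x => (K.hmem x).trans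
          ⟨fun ⟨p, hp⟩ => ⟨flip.symm p, by simp [hp]⟩, fun ⟨p, hp⟩ => ⟨flip p, hp⟩⟩
        hca := by rw [MonoidHom.comp_apply, MulEquiv.coe_toMonoidHom, flip_spec.1, K.hca]
        h16 := K.h16
        hself := K.hself }
    exact K'.symmetric ⟨K.ι c * g, by
      show _ = K.ι (flip cx)
      rw [flip_spec.2]
      exact key _ h⟩

end Cfsg.Agent.Lead.CentTwoSFour
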