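import Cfsg.Agent.Lib.Solv.Frobenius
import Cfsg.Agent.S3125
import Mathlib

/-!
No finite nonabelian simple group has all centralisers self-normalising and stable under powers
(`C(x) = C(x^n)` whenever `x^n ≠ 1`).
-/

set_option autoImplicit false

namespace Cfsg.Agent.Lead.CentPow

open Cfsg Subgroup
open scoped Pointwise

variable {Γ : Type*} [Group Γ]

/-- The centraliser of an element. -/
abbrev cz (x : Γ) : Subgroup Γ := Subgroup.centralizer ({x} : Set Γ)

theorem mem_cz {x y : Γ} : y ∈ cz x ↔ y * x = x * y := by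
  rw [Subgroup.mem_centralizer_iff]
  exact ⟨fun h => (h x rfl).symm, fun h z hz => by rw [Set.mem_singleton_iff.1 hz]; exact h.symm⟩

variable [Finite Γ]
  (hpow : ∀ x : Γ, ∀ n : ℕ, x ^ n ≠ 1 → cz (x ^ n) = cz x)

include hpow

theorem cz_eq_of_coprime {x y : Γ} (hx : x ≠ 1) (hy : y ≠ 1) (hc : Commute x y)
    (hco : (orderOf x).Coprime (orderOf y)) : cz x = cz y := by
  have key : ∀ a b : Γ, a ≠ 1 → Commute a b → (orderOf a).Coprime (orderOf b) →
      cz (a * b) = cz a := by
    intro a b ha hab h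
    have h1 : (a * b) ^ orderOf b = a ^ orderOf b := by
      rw [hab.mul_pow, pow_orderOf_eq_one, mul_one]
    have h2 : a ^ orderOf b ≠ 1 := fun e => ha (orderOf_eq_one_iff.1
      (Nat.Coprime.eq_one_of_dvd h (orderOf_dvd_of_pow_eq_one e)))
    rw [← hpow (a * b) (orderOf b) (h1 ▸ h2), h1, hpow a (orderOf b) h2]
  rw [← key x y hx hc hco, hc.eq, key y x hy hc.symm hco.symm]

/-- Every element has a power of prime order with the same centraliser. -/
theorem exists_prime_power_elt {x : Γ} (hx : x ≠ 1) :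
    ∃ z : Γ, (orderOf z).Prime ∧ cz z = cz x := by
  have h1 : orderOf x ≠ 1 := fun h => hx (orderOf_eq_one_iff.1 h)
  obtain ⟨p, hp, hd⟩ := Nat.exists_prime_and_dvd h1
  obtain ⟨n, hn⟩ := hd
  have ho : orderOf (x ^ n) = p := by
    have hn0 : n ≠ 0 := by
      rintro rfl
      exact (orderOf_pos x).ne' (by simpa using hn)
    rw [orderOf_pow' x hn0, hn, Nat.gcd_mul_left_left, Nat.mul_div_left _ (Nat.pos_of_ne_zero hn0)]
  refine ⟨x ^ n, ho ▸ hp, hpow x n fun e => ?_⟩
  rw [e, orderOf_one] at ho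
  exact hp.one_lt.ne ho

/-- The centraliser of an element of prime order `p` is a `p`-group or abelian. -/
theorem pgroup_or_comm {x : Γ} {p : ℕ} (hp : p.Prime) (hx : orderOf x = p) :
    IsPGroup p (cz x) ∨ ∀ a ∈ cz x, ∀ b ∈ cz x, a * b = b * a := by
  haveI := Fact.mk hp
  refine or_iff_not_imp_left.2 fun hnp => ?_
  obtain ⟨q, hq, hqd, hqp⟩ : ∃ q : ℕ, q.Prime ∧ q ∣ Nat.card (cz x) ∧ q ≠ p := by
    by_contra hall
    push Not at hall
    refine hnp (IsPGroup.of_card (n := (Nat.card (cz x)).factorization p) ?_)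
    have he := Nat.eq_prime_pow_of_unique_prime_dvd (n := Nat.card (cz x)) (p := p) Nat.card_pos.ne'
      (fun hd hdd => hall _ hd hdd)
    conv_rhs => rw [he, hp.factorization_pow, Finsupp.single_eq_same]
    exact he
  haveI := Fact.mk hq
  obtain ⟨y, hy⟩ := exists_prime_orderOf_dvd_card' q hqd
  have hy' : orderOf (y : Γ) = q := by rw [Subgroup.orderOf_coe, hy]
  have hx1 : x ≠ 1 := fun e => hp.one_lt.ne (by rw [← hx, e, orderOf_one])
  have hy1 : (y : Γ) ≠ 1 := fun e => hq.one_lt.ne (by rw [← hy', e, orderOf_one])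
  have hxy : Commute x (y : Γ) := (mem_cz.1 y.2).symm
  have hCy : cz x = cz (y : Γ) := cz_eq_of_coprime hpow hx1 hy1 hxy (by
    rw [hx, hy']; exact (Nat.coprime_primes hp hq).2 (Ne.symm hqp))
  intro a ha b hb
  by_cases ha1 : a = 1
  · subst ha1; simp
  obtain ⟨z, hz, hza⟩ := exists_prime_power_elt hpow ha1
  have hzC : z ∈ cz a := hza ▸ mem_cz.2 rfl
  have hax : x ∈ cz a := mem_cz.2 (mem_cz.1 ha).symm
  have hay : (y : Γ) ∈ cz a := mem_cz.2 (mem_cz.1 (hCy ▸ ha)).symm
  have hzx : Commute z x := (mem_cz.1 (hza.symm ▸ hax : x ∈ cz z)).symm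
  have hzy : Commute z (y : Γ) := (mem_cz.1 (hza.symm ▸ hay : (y : Γ) ∈ cz z)).symm
  have hz1 : z ≠ 1 := fun e => hz.one_lt.ne (by rw [e, orderOf_one])
  have hCa : cz a = cz x := by
    rw [← hza]
    by_cases hzp : orderOf z = p
    · rw [hCy]
      refine cz_eq_of_coprime hpow hz1 hy1 hzy ?_
      rw [hzp, hy']; exact (Nat.coprime_primes hp hq).2 (Ne.symm hqp)
    · refine cz_eq_of_coprime hpow hz1 hx1 hzx ?_
      rw [hx]; exact (Nat.coprime_primes hz hp).2 hzp
  exact (mem_cz.1 (hCa ▸ hb)).symm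

theorem false_of_simple [IsSimpleGroup Γ] (hnab : ¬ IsMulCommutative Γ)
    (hnorm : ∀ x : Γ, x ≠ 1 → Subgroup.normalizer (cz x : Set Γ) = cz x) : False := by
  have hnc : ∀ x : Γ, x ≠ 1 → cz x ≠ ⊤ := by
    intro x hx htop
    have hxc : x ∈ Subgroup.center Γ := Subgroup.mem_center_iff.2 fun g => mem_cz.1 (htop ▸ mem_top g)
    rcases (inferInstance : (Subgroup.center Γ).Normal).eq_bot_or_eq_top with h | h
    · rw [h, Subgroup.mem_bot] at hxc; exact hx hxc
    · exact hnab ⟨⟨fun a b => (Subgroup.mem_center_iff.1 (h ▸ mem_top a) b).symm⟩⟩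
  by_cases hex : ∃ w : Γ, w ≠ 1 ∧ ∀ a ∈ cz w, ∀ b ∈ cz w, a * b = b * a
  · obtain ⟨w, hw, hab⟩ := hex
    have heq : ∀ a ∈ cz w, a ≠ 1 → cz a = cz w := by
      intro a ha ha1
      obtain ⟨z, hz, hza⟩ := exists_prime_power_elt hpow ha1
      have hle : cz w ≤ cz z := fun b hb => hza.symm ▸ mem_cz.2 (hab b hb a ha)
      rw [← hza]
      rcases pgroup_or_comm hpow hz rfl with hP | hC
      · haveI := Fact.mk hz
        by_contra hne
        have hlt : cz w < cz z := lt_of_le_of_ne hle (Ne.symm hne)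
        haveI : Group.IsNilpotent (cz z) := hP.isNilpotent
        have hlt' : (cz w).subgroupOf (cz z) < ⊤ := lt_top_iff_ne_top.2 fun e =>
          hlt.not_ge (Subgroup.subgroupOf_eq_top.1 e)
        obtain ⟨g, hg, hgn⟩ := SetLike.exists_of_lt
          (Group.normalizerCondition_of_isNilpotent (G := cz z) _ hlt')
        refine hgn ?_
        show (g : Γ) ∈ cz w
        rw [← hnorm w hw]
        refine Subgroup.mem_normalizer_fintype fun n hn => ?_
        have := (Subgroup.mem_normalizer_iff.1 hg ⟨n, hle hn⟩).1 hn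
        exact this
      · exact le_antisymm (fun b hb => mem_cz.2 (hC b hb w (hle (mem_cz.2 rfl)))) hle
    have hFC : IsFrobeniusComplement (cz w) := by
      refine ⟨fun e => hw ?_, hnc w hw, fun g hg => ?_⟩
      · exact Subgroup.mem_bot.1 (e ▸ (mem_cz.2 rfl : w ∈ cz w))
      · rw [eq_bot_iff]
        intro a ⟨ha, hag⟩
        by_contra ha1
        have ha1' : a ≠ 1 := fun e => ha1 (Subgroup.mem_bot.2 e)
        refine hg ?_
        rw [← hnorm w hw]
        have hbm : g⁻¹ * a * g ∈ cz w := Cfsg.Agent.Solv.mem_conj_smul.1 hag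
        have hb1 : g⁻¹ * a * g ≠ 1 := fun e => ha1' (by
          simpa [mul_assoc] using congrArg (fun t => g * t * g⁻¹) e)
        refine Subgroup.mem_normalizer_fintype fun n hn => ?_
        have h1 : n ∈ cz (g⁻¹ * a * g) := (heq _ hbm hb1).symm ▸ hn
        rw [SetLike.mem_coe, ← heq a ha ha1', mem_cz]
        have h2 := mem_cz.1 h1
        calc g * n * g⁻¹ * a = g * (n * (g⁻¹ * a * g)) * g⁻¹ := by group
          _ = g * ((g⁻¹ * a * g) * n) * g⁻¹ := by rw [h2]
          _ = _ := by group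
    obtain ⟨N, -, hN, hc⟩ := Cfsg.Agent.Solv.frobenius_theorem hFC
    rcases hN.eq_bot_or_eq_top with rfl | rfl
    · exact hFC.2.1 (Subgroup.isComplement'_bot_left.1 hc)
    · exact hFC.1 (Subgroup.isComplement'_top_left.1 hc)
  · push Not at hex
    refine Cfsg.Agent.S3125.result (G := Γ) (fun p hp hpd P => ?_) ⟨inferInstance, hnab⟩
    haveI := Fact.mk hp
    haveI : Nontrivial (P : Subgroup Γ) :=
      (Subgroup.nontrivial_iff_ne_bot _).2 (P.ne_bot_of_dvd_card hpd)
    haveI := P.isPGroup'.center_nontrivial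
    obtain ⟨u, hu⟩ := exists_prime_orderOf_dvd_card' (G := Subgroup.center (P : Subgroup Γ)) p (by
      obtain ⟨k, hk0, hk⟩ := (IsPGroup.nontrivial_iff_card
        (P.isPGroup'.to_subgroup (Subgroup.center (P : Subgroup Γ)))).1 inferInstance
      rw [hk]; exact dvd_pow_self p hk0.ne')
    set v : Γ := ((u : (P : Subgroup Γ)) : Γ) with hv
    have hv' : orderOf v = p := by rw [hv, Subgroup.orderOf_coe, Subgroup.orderOf_coe, hu]
    have hv1 : v ≠ 1 := fun e => hp.one_lt.ne (by rw [← hv', e, orderOf_one])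
    have hPC : (P : Subgroup Γ) ≤ cz v := fun a ha =>
      mem_cz.2 (congrArg Subtype.val (Subgroup.mem_center_iff.1 u.2 ⟨a, ha⟩))
    rcases pgroup_or_comm hpow hp hv' with hP | hC
    · have := hnorm v hv1
      rwa [P.3 hP hPC] at this
    · obtain ⟨a, ha, b, hb, hne⟩ := hex v hv1
      exact absurd (hC a ha b hb) hne

end Cfsg.Agent.Lead.CentPow
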