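import Cfsg.Agent.Lib.Lead.CoreFreeScn
import Cfsg.Agent.Lib.LocalEven.IsolatedGroup
import Cfsg.Agent.Lib.Solv.Component

/-!
# Not component type, connected Sylow 2-subgroup of rank three: characteristic 2 type
-/

set_option autoImplicit false
set_option linter.style.haveILetI false
set_option linter.unusedSectionVars false

open Cfsg Cfsg.Agent Cfsg.Agent.Fusion

namespace Cfsg.Agent.Scn3

universe u

variable {G : Type u} [Group G] [Finite G]

/-- A group with a normal 2-subgroup with constrained centraliser is 2-constrained. -/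
theorem constrained_of_cent {X : Type u} [Group X] [Finite X] {T : Subgroup X} [T.Normal]
    (hT : IsPGroup 2 T) (hc : Cfsg.IsPConstrained 2 ↥(Subgroup.centralizer (T : Set X))) :
    Cfsg.IsPConstrained 2 X := by
  haveI : Fact (Nat.Prime 2) := ⟨Nat.prime_two⟩
  rw [isPConstrained_iff_pLayer, pLayer_eq_bot_iff, Cfsg.layer, sSup_eq_bot]
  intro K hK
  exfalso
  set O := Cfsg.pPrimeCore 2 X with hOd
  let π := QuotientGroup.mk' O
  have hπ : Function.Surjective π := QuotientGroup.mk'_surjective O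
  haveI : (T.map π).Normal := Subgroup.Normal.map inferInstance _ hπ
  have h0 := pPrimeCore_quotient_eq_bot (p := 2) (G := X)
  have hTp : T.map π ≤ Cfsg.pCore 2 (X ⧸ O) := le_pCore (hT.map π)
  have hcomm : K ≤ Subgroup.centralizer (T.map π : Set (X ⧸ O)) := by
    refine le_trans ?_ (Subgroup.centralizer_le (fun x hx => hTp hx))
    rw [← Subgroup.commutator_eq_bot_iff_le_centralizer, eq_bot_iff, ← fitting_eq_pCore h0]
    exact le_trans (Subgroup.commutator_mono (Solv.component_le_layer hK) le_rfl)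
      Solv.layer_commutator_fitting.le
  set D := Subgroup.centralizer (T : Set X) with hD
  have hsub : K ≤ D.map π := by
    intro k hk
    obtain ⟨x, rfl⟩ := hπ k
    refine ⟨x, Subgroup.mem_centralizer_iff.2 fun y hy => ?_, rfl⟩
    have h1 : π y * π x = π x * π y := Subgroup.mem_centralizer_iff.1 (hcomm hk) (π y) ⟨y, hy, rfl⟩
    have h2 : x * y * x⁻¹ * y⁻¹ ∈ O := (QuotientGroup.eq_one_iff _).1 (by
      show π (x * y * x⁻¹ * y⁻¹) = 1
      rw [map_mul, map_mul, map_mul, map_inv, map_inv, ← h1, mul_inv_cancel_right, mul_inv_cancel])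
    have h4 : x * y * x⁻¹ * y⁻¹ ∈ O ⊓ T :=
      ⟨h2, T.mul_mem (‹T.Normal›.conj_mem y hy x) (T.inv_mem hy)⟩
    rw [coprime_inf_pGroup (card_pPrimeCore_coprime 2 X) hT, Subgroup.mem_bot, mul_inv_eq_one,
      mul_inv_eq_iff_eq_mul] at h4
    exact h4.symm
  haveI : D.Normal := inferInstance
  haveI : (D.map π).Normal := Subgroup.Normal.map inferInstance _ hπ
  -- the image of `D` is `D / O(D)`
  have hker : (π.subgroupMap D).ker = Cfsg.pPrimeCore 2 ↥D := by
    refine le_antisymm (le_pPrimeCore ?_) fun x hx => ?_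
    · refine (card_pPrimeCore_coprime 2 X).coprime_dvd_left ?_
      rw [← Subgroup.card_map_of_injective D.subtype_injective]
      refine Subgroup.card_dvd_of_le ?_
      rintro _ ⟨x, hx, rfl⟩
      exact (QuotientGroup.eq_one_iff _).1 (congrArg Subtype.val hx)
    · refine Subtype.ext ((QuotientGroup.eq_one_iff _).2 ?_)
      have hle : (Cfsg.pPrimeCore 2 ↥D).map D.subtype ≤ O := le_pPrimeCore (by
        rw [Subgroup.card_map_of_injective D.subtype_injective]
        exact card_pPrimeCore_coprime 2 ↥D)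
      exact hle ⟨x, hx, rfl⟩
  let e : ↥D ⧸ Cfsg.pPrimeCore 2 ↥D ≃* ↥(D.map π) :=
    (QuotientGroup.quotientMulEquivOfEq hker.symm).trans
      (QuotientGroup.quotientKerEquivOfSurjective _ (π.subgroupMap_surjective D))
  have hlay := (pLayer_eq_bot_iff (p := 2) (X := ↥D)).1 (isPConstrained_iff_pLayer.1 hc)
  have hcomp : Cfsg.IsComponent (K.subgroupOf (D.map π)) := Solv.component_subgroupOf hK hsub
  have h1 := Solv.component_le_layer (LocalEven.Isolated.component_map e.symm hcomp)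
  rw [hlay, le_bot_iff, Subgroup.map_eq_bot_iff_of_injective _ e.symm.injective,
    Subgroup.subgroupOf_eq_bot, disjoint_iff, inf_of_le_left hsub] at h1
  haveI := Solv.qs_nontrivial hK.2
  exact (Subgroup.nontrivial_iff_ne_bot K).1 inferInstance h1

theorem constrained_of_no_component {X : Type u} [Group X] [Finite X]
    (h : ¬ Cfsg.HasComponent (X ⧸ Cfsg.oddCore X)) : Cfsg.IsPConstrained 2 X := by
  haveI : Fact (Nat.Prime 2) := ⟨Nat.prime_two⟩
  rw [isPConstrained_iff_pLayer, pLayer_eq_bot_iff, Cfsg.layer, sSup_eq_bot]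
  intro K hK
  exact absurd ⟨K, hK.1, hK.2⟩ h

theorem cent_constrained (h : ∀ t : G, orderOf t = 2 →
      Cfsg.IsPConstrained 2 ↥(Subgroup.centralizer ({t} : Set G)))
    {T : Subgroup G} (hT : IsPGroup 2 T) (hT1 : T ≠ ⊥) :
    Cfsg.IsPConstrained 2 ↥((Subgroup.centralizer (T : Set G))) := by
  haveI : Fact (Nat.Prime 2) := ⟨Nat.prime_two⟩
  obtain ⟨k, hk⟩ := IsPGroup.iff_card.1 hT
  have hk0 : k ≠ 0 := fun e => hT1 (Subgroup.card_eq_one.1 (by rw [hk, e, pow_zero]))
  haveI : Nontrivial ↥T := Finite.one_lt_card_iff_nontrivial.1 (by rw [hk]; exact Nat.one_lt_two_pow hk0)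
  haveI := hT.center_nontrivial
  obtain ⟨z, hz⟩ := exists_prime_orderOf_dvd_card' (G := Subgroup.center ↥T) 2 (by
    obtain ⟨j, hj⟩ := IsPGroup.iff_card.1 (hT.to_subgroup (Subgroup.center ↥T))
    have : 1 < Nat.card (Subgroup.center ↥T) := Finite.one_lt_card_iff_nontrivial.2 inferInstance
    exact hj ▸ dvd_pow_self 2 (by rintro rfl; rw [pow_zero] at hj; omega))
  obtain ⟨t, ht⟩ : ∃ t : G, t = ((z : ↥T) : G) := ⟨_, rfl⟩
  have ht2 : orderOf t = 2 := by rw [ht, Subgroup.orderOf_coe, Subgroup.orderOf_coe, hz]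
  obtain ⟨C, hC⟩ : ∃ C, C = Subgroup.centralizer ({t} : Set G) := ⟨_, rfl⟩
  have hTC : T ≤ C := fun x hx => hC ▸ Subgroup.mem_centralizer_singleton_iff.2
    (ht ▸ congrArg Subtype.val (Subgroup.mem_center_iff.1 z.2 ⟨x, hx⟩))
  have hc := centralizer_pConstrained (hC ▸ h t ht2 : Cfsg.IsPConstrained 2 ↥C)
    (hT.comap_of_injective C.subtype C.subtype_injective : IsPGroup 2 ↥(T.subgroupOf C))
  have hmap : (Subgroup.centralizer (T.subgroupOf C : Set ↥C)).map C.subtype =
      Subgroup.centralizer (T : Set G) := by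
    ext x
    constructor
    · rintro ⟨y, hy, rfl⟩
      exact Subgroup.mem_centralizer_iff.2 fun a ha =>
        congrArg Subtype.val (Subgroup.mem_centralizer_iff.1 hy ⟨a, hTC ha⟩ ha)
    · intro hx
      have hxC : x ∈ C := hC ▸ Subgroup.mem_centralizer_singleton_iff.2
        (Subgroup.mem_centralizer_iff.1 hx t (ht ▸ (z : ↥T).2)).symm
      exact ⟨⟨x, hxC⟩, Subgroup.mem_centralizer_iff.2 fun a ha =>
        Subtype.ext (Subgroup.mem_centralizer_iff.1 hx _ ha), rfl⟩
  let f : ↥(Subgroup.centralizer (T.subgroupOf C : Set ↥C)) ≃* ↥(Subgroup.centralizer (T : Set G)) :=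
    (Subgroup.equivMapOfInjective _ C.subtype C.subtype_injective).trans (MulEquiv.subgroupCongr hmap)
  rw [isPConstrained_iff_pLayer, pLayer_eq_bot_iff, Cfsg.layer, sSup_eq_bot] at hc ⊢
  intro K hK
  have e : (Cfsg.pPrimeCore 2 ↥(Subgroup.centralizer (T : Set G))).map f.symm.toMonoidHom =
      Cfsg.pPrimeCore 2 ↥(Subgroup.centralizer (T.subgroupOf C : Set ↥C)) :=
    map_pPrimeCore_equiv f.symm
  let g := QuotientGroup.congr _ _ f.symm e
  have h1 := hc (K.map g.toMonoidHom) (LocalEven.Isolated.component_map g hK)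
  exact (Subgroup.map_eq_bot_iff_of_injective _ g.injective).1 h1

theorem locCons_of_not_component (hc : ¬ Cfsg.IsComponentType G) : Lie.CoreFun.LocCons G := by
  intro T hT hT1
  have h : ∀ t : G, orderOf t = 2 → Cfsg.IsPConstrained 2 ↥(Subgroup.centralizer ({t} : Set G)) :=
    fun t ht => constrained_of_no_component fun hh => hc ⟨t, ht, hh⟩
  obtain ⟨N, hN⟩ : ∃ N, N = Subgroup.normalizer (T : Set G) := ⟨_, rfl⟩
  have hTN : T ≤ N := hN ▸ Subgroup.le_normalizer
  haveI : (T.subgroupOf N).Normal := by subst hN; exact Subgroup.normal_in_normalizer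
  rw [← hN]
  refine constrained_of_cent (T := T.subgroupOf N) (hT.comap_of_injective _ N.subtype_injective) ?_
  have hmap : (Subgroup.centralizer (T.subgroupOf N : Set ↥N)).map N.subtype =
      Subgroup.centralizer (T : Set G) := by
    ext x
    constructor
    · rintro ⟨y, hy, rfl⟩
      exact Subgroup.mem_centralizer_iff.2 fun a ha =>
        congrArg Subtype.val (Subgroup.mem_centralizer_iff.1 hy ⟨a, hTN ha⟩ ha)
    · intro hx
      exact ⟨⟨x, hN ▸ Subgroup.centralizer_le_normalizer _ hx⟩, Subgroup.mem_centralizer_iff.2 fun a ha =>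
        Subtype.ext (Subgroup.mem_centralizer_iff.1 hx _ ha), rfl⟩
  let f : ↥(Subgroup.centralizer (T.subgroupOf N : Set ↥N)) ≃* ↥(Subgroup.centralizer (T : Set G)) :=
    (Subgroup.equivMapOfInjective _ N.subtype N.subtype_injective).trans (MulEquiv.subgroupCongr hmap)
  have hcT := cent_constrained h hT hT1
  haveI : Fact (Nat.Prime 2) := ⟨Nat.prime_two⟩
  rw [isPConstrained_iff_pLayer, pLayer_eq_bot_iff, Cfsg.layer, sSup_eq_bot] at hcT ⊢
  intro K hK
  let g := QuotientGroup.congr (Cfsg.pPrimeCore 2 ↥(Subgroup.centralizer (T.subgroupOf N : Set ↥N)))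
    (Cfsg.pPrimeCore 2 ↥(Subgroup.centralizer (T : Set G))) f (map_pPrimeCore_equiv f)
  exact (Subgroup.map_eq_bot_iff_of_injective _ g.injective).1 (hcT _ (LocalEven.Isolated.component_map g hK))

theorem charTwo_of_cores (h2c : Lie.CoreFun.LocCons G)
    (hθ : ∀ t : G, orderOf t = 2 → Cfsg.centralizerPPrimeCore 2 t = ⊥)
    (T : Subgroup G) (hT : IsPGroup 2 T) (hT1 : T ≠ ⊥) :
    Cfsg.IsOfCharacteristicTwo ↥(Subgroup.normalizer (T : Set G)) := by
  haveI : Fact (Nat.Prime 2) := ⟨Nat.prime_two⟩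
  refine (isPConstrained_iff_of_core_eq_bot ?_).1 (h2c T hT hT1)
  obtain ⟨k, hk⟩ := IsPGroup.iff_card.1 hT
  have hk0 : k ≠ 0 := fun e => hT1 (Subgroup.card_eq_one.1 (by rw [hk, e, pow_zero]))
  haveI : Nontrivial ↥T := Finite.one_lt_card_iff_nontrivial.1 (by rw [hk]; exact Nat.one_lt_two_pow hk0)
  haveI := hT.center_nontrivial
  obtain ⟨z, hz⟩ := exists_prime_orderOf_dvd_card' (G := Subgroup.center ↥T) 2 (by
    obtain ⟨j, hj⟩ := IsPGroup.iff_card.1 (hT.to_subgroup (Subgroup.center ↥T))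
    have : 1 < Nat.card (Subgroup.center ↥T) := Finite.one_lt_card_iff_nontrivial.2 inferInstance
    exact hj ▸ dvd_pow_self 2 (by rintro rfl; rw [pow_zero] at hj; omega))
  obtain ⟨t, ht⟩ : ∃ t : G, t = ((z : ↥T) : G) := ⟨_, rfl⟩
  have ht2 : orderOf t = 2 := by rw [ht, Subgroup.orderOf_coe, Subgroup.orderOf_coe, hz]
  obtain ⟨C, hC⟩ : ∃ C, C = Subgroup.centralizer ({t} : Set G) := ⟨_, rfl⟩
  obtain ⟨N, hN⟩ : ∃ N, N = Subgroup.normalizer (T : Set G) := ⟨_, rfl⟩
  have hTN : T ≤ N := hN ▸ Subgroup.le_normalizer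
  have hTC : T ≤ C := fun x hx => hC ▸ Subgroup.mem_centralizer_singleton_iff.2
    (ht ▸ congrArg Subtype.val (Subgroup.mem_center_iff.1 z.2 ⟨x, hx⟩))
  rw [← hN]
  obtain ⟨O, hOd⟩ : ∃ O, O = Cfsg.pPrimeCore 2 ↥N := ⟨_, rfl⟩
  haveI : O.Normal := hOd ▸ inferInstance
  haveI : (T.subgroupOf N).Normal := by subst hN; exact Subgroup.normal_in_normalizer
  have hcop : (Nat.card O).Coprime 2 := hOd ▸ card_pPrimeCore_coprime 2 ↥N
  have hdis : O ⊓ T.subgroupOf N = ⊥ :=
    coprime_inf_pGroup hcop (hT.comap_of_injective N.subtype N.subtype_injective)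
  have hOT : O.map N.subtype ≤ Subgroup.centralizer (T : Set G) := by
    rintro _ ⟨x, hx, rfl⟩
    refine Subgroup.mem_centralizer_iff.2 fun a ha => congrArg Subtype.val (?_ : (⟨a, hTN ha⟩ : ↥N) * x = x * ⟨a, hTN ha⟩)
    exact ((Subgroup.commute_of_normal_of_disjoint _ _ inferInstance inferInstance
      (disjoint_iff.2 hdis) x ⟨a, hTN ha⟩ hx ha).eq).symm
  have hOC : O.map N.subtype ≤ C := fun x hx => hC ▸ Subgroup.mem_centralizer_singleton_iff.2
    (Subgroup.mem_centralizer_iff.1 (hOT hx) t (ht ▸ (z : ↥T).2)).symm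
  obtain ⟨-, h2⟩ := normalizer_pConstrained
    (hC ▸ isPConstrained_iff_pLayer.2 (Lie.CoreFun.layer_bot h2c ht2) : Cfsg.IsPConstrained 2 ↥C)
    (hT.comap_of_injective C.subtype C.subtype_injective : IsPGroup 2 ↥(T.subgroupOf C))
  have hθC : Cfsg.pPrimeCore 2 ↥C = ⊥ := by
    subst hC
    exact (Subgroup.map_eq_bot_iff_of_injective _ (Subgroup.subtype_injective _)).1 (hθ t ht2)
  rw [hθC, le_bot_iff, Subgroup.map_eq_bot_iff_of_injective _ (Subgroup.subtype_injective _)] at h2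
  obtain ⟨N', hN'⟩ : ∃ N', N' = Subgroup.normalizer (T.subgroupOf C : Set ↥C) := ⟨_, rfl⟩
  change (Cfsg.pPrimeCore 2 ↥(Subgroup.normalizer (T.subgroupOf C : Set ↥C))) = ⊥ at h2
  rw [← hN'] at h2
  have hNN : ∀ x : ↥N', ((x : ↥C) : G) ∈ N := by
    intro x
    rw [hN, Subgroup.mem_normalizer_iff]
    intro a
    have hx := Subgroup.mem_normalizer_iff.1 (hN' ▸ x.2 : (x : ↥C) ∈ Subgroup.normalizer (T.subgroupOf C : Set ↥C))
    constructor
    · intro ha; exact (hx ⟨a, hTC ha⟩).1 ha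
    · intro ha
      have haC : a ∈ C := by
        have := C.mul_mem (C.mul_mem (C.inv_mem (x : ↥C).2) (hTC ha)) (x : ↥C).2
        rwa [show ((x : ↥C) : G)⁻¹ * ((x : ↥C) * a * ((x : ↥C) : G)⁻¹) * (x : ↥C) = a by group] at this
      exact (hx ⟨a, haC⟩).2 ha
  let ι : ↥N' →* ↥N :=
    { toFun := fun x => ⟨_, hNN x⟩
      map_one' := rfl
      map_mul' := fun _ _ => rfl }
  have hι : Function.Injective ι := fun a b e =>
    Subtype.ext (Subtype.ext (congrArg (fun w : ↥N => (w : G)) e))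
  have hodd : O.comap ι ≤ Cfsg.pPrimeCore 2 ↥N' := le_pPrimeCore (hcop.coprime_dvd_left (by
    rw [← Subgroup.card_map_of_injective hι]
    exact Subgroup.card_dvd_of_le (Subgroup.map_comap_le _ _)))
  rw [h2, le_bot_iff] at hodd
  rw [← hOd, eq_bot_iff]
  intro x hx
  have hxC : (x : G) ∈ C := hOC ⟨x, hx, rfl⟩
  have hxN' : (⟨(x : G), hxC⟩ : ↥C) ∈ N' := by
    rw [hN', Subgroup.mem_normalizer_iff]
    intro a
    exact Subgroup.mem_normalizer_iff.1 (hN ▸ x.2 : (x : G) ∈ Subgroup.normalizer (T : Set G)) (a : G)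
  have h' : (⟨_, hxN'⟩ : ↥N') ∈ O.comap ι := hx
  rw [hodd, Subgroup.mem_bot] at h'
  exact Subgroup.mem_bot.2 (Subtype.ext (congrArg (fun w : ↥N' => ((w : ↥C) : G)) h'))

/-- In a 2-group of rank three with connected four-group graph every four group lies in an `El8`,
and equivariant closures are constant. -/
theorem four_closure (h2c : Lie.CoreFun.LocCons G) (S : Sylow 2 G)
    (hS : Cfsg.IsFourConnected (S : Subgroup G)) {E : Subgroup G} (hES : E ≤ (S : Subgroup G))
    (hE : Cfsg.IsElementaryAbelian 2 E) (hE8 : 8 ≤ Nat.card E) :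
    (∀ V : Subgroup G, V ≤ (S : Subgroup G) → Cfsg.IsElementaryAbelian 2 V → Nat.card V = 4 →
      (∃ F : Subgroup G, F ≤ (S : Subgroup G) ∧ Cfsg.IsElementaryAbelian 2 F ∧ 8 ≤ Nat.card F ∧ V ≤ F) ∧
      Lie.CoreFun.Wc V = Lie.CoreFun.Wc E) := by
  haveI : Fact (Nat.Prime 2) := ⟨Nat.prime_two⟩
  intro V hVS hV hV4
  obtain ⟨U, -, hUE, hU4⟩ := Local.exists_subgroup_two_pow (S := ⊥) hE bot_le (n := 0) (m := 2) (by simp)
    (by norm_num) (by norm_num; omega)
  have hU := Local.elemAb_mono hE hUE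
  let P : Subgroup ↥(S : Subgroup G) → Prop := fun A =>
    (∃ F : Subgroup G, F ≤ (S : Subgroup G) ∧ Cfsg.IsElementaryAbelian 2 F ∧ 8 ≤ Nat.card F ∧
        A.map (S : Subgroup G).subtype ≤ F) ∧
      Lie.CoreFun.Wc (A.map (S : Subgroup G).subtype) = Lie.CoreFun.Wc E
  have hkl : ∀ A : Subgroup ↥(S : Subgroup G), IsKleinFour A →
      Cfsg.IsElementaryAbelian 2 (A.map (S : Subgroup G).subtype) ∧
        Nat.card ↥(A.map (S : Subgroup G).subtype) = 4 := by
    intro A hA
    have hAe := Local.isKleinFour_elemAb hA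
    refine ⟨⟨Fusion.isMulCommutative_map _ hAe.1, ?_⟩, ?_⟩
    · rintro _ ⟨x, hx, rfl⟩
      rw [← map_pow, hAe.2 x hx, map_one]
    · rw [Subgroup.card_map_of_injective (S : Subgroup G).subtype_injective]
      haveI := hA
      exact IsKleinFour.card_four
  have hmk : ∀ {A : Subgroup G}, A ≤ (S : Subgroup G) → Cfsg.IsElementaryAbelian 2 A → Nat.card A = 4 →
      IsKleinFour (A.subgroupOf (S : Subgroup G)) := by
    intro A hA hAe hA4
    refine Local.elemAb_isKleinFour ⟨⟨⟨fun x y => Subtype.ext (Subtype.ext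
      (Local.elemAb_commute hAe x.2 y.2))⟩⟩, fun x hx => Subtype.ext (hAe.2 _ hx)⟩ ?_
    rw [Nat.card_congr (Subgroup.subgroupOfEquivOfLe hA).toEquiv, hA4]
  have h0 : P (U.subgroupOf (S : Subgroup G)) := by
    show _ ∧ _
    rw [Subgroup.map_subgroupOf_eq_of_le (hUE.trans hES)]
    exact ⟨⟨E, hES, hE, hE8, hUE⟩, Lie.CoreFun.Wc_eq h2c hE hE8 hUE hU4.ge⟩
  have key : ∀ A : Subgroup ↥(S : Subgroup G), Relation.ReflTransGen
      (fun A B : Subgroup ↥(S : Subgroup G) => IsKleinFour A ∧ IsKleinFour B ∧ ∀ a ∈ A, ∀ b ∈ B, a * b = b * a)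
      (U.subgroupOf (S : Subgroup G)) A → P A := by
    intro A hA
    induction hA with
    | refl => exact h0
    | @tail b c _ hbc ih =>
      obtain ⟨hb, hc, hcomm⟩ := hbc
      obtain ⟨hb1, hb4⟩ := hkl b hb
      obtain ⟨hc1, hc4⟩ := hkl c hc
      set B := b.map (S : Subgroup G).subtype
      set C := c.map (S : Subgroup G).subtype
      have hBC : Cfsg.IsElementaryAbelian 2 (B ⊔ C) := Local.elemAb_sup hb1 hc1 (by
        rintro _ ⟨x, hx, rfl⟩ _ ⟨y, hy, rfl⟩
        exact congrArg Subtype.val (hcomm x hx y hy))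
      by_cases h8 : 8 ≤ Nat.card ↥(B ⊔ C)
      · refine ⟨⟨B ⊔ C, sup_le (Subgroup.map_subtype_le _) (Subgroup.map_subtype_le _), hBC, h8,
          le_sup_right⟩, ?_⟩
        show Lie.CoreFun.Wc C = _
        rw [Lie.CoreFun.Wc_eq h2c hBC h8 le_sup_right hc4.ge,
          ← Lie.CoreFun.Wc_eq h2c hBC h8 le_sup_left hb4.ge]
        exact ih.2
      · obtain ⟨k, hk⟩ := Local.elemAb_card_pow hBC
        have hle : Nat.card ↥(B ⊔ C) ≤ 4 := by
          rw [hk] at h8 ⊢
          have : k ≤ 2 := by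
            by_contra h3
            exact h8 ((show 8 ≤ 2 ^ 3 by norm_num).trans (Nat.pow_le_pow_right (by norm_num) (by omega)))
          exact (Nat.pow_le_pow_right (by norm_num) this).trans (by norm_num)
        have e : B = C := (Subgroup.eq_of_le_of_card_ge le_sup_left (by rw [hb4]; exact hle)).trans
          (Subgroup.eq_of_le_of_card_ge le_sup_right (by rw [hc4]; exact hle)).symm
        show _ ∧ _
        rw [show c.map (S : Subgroup G).subtype = B from e.symm]
        exact ih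
  have h := key _ (hS _ _ (hmk (hUE.trans hES) hU (by simpa using hU4)) (hmk hVS hV hV4))
  simp only [P, Subgroup.map_subgroupOf_eq_of_le hVS] at h
  exact h

theorem exists_four {B : Subgroup G} (hB : ¬ Cfsg.PRankLE 2 1 ↥B) :
    ∃ V : Subgroup G, V ≤ B ∧ Cfsg.IsElementaryAbelian 2 V ∧ Nat.card V = 4 := by
  haveI : Fact (Nat.Prime 2) := ⟨Nat.prime_two⟩
  simp only [Cfsg.PRankLE, not_forall] at hB
  obtain ⟨U₀, hc, h2, hcard⟩ := hB
  have hU : Cfsg.IsElementaryAbelian 2 (U₀.map B.subtype) := by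
    refine ⟨Fusion.isMulCommutative_map _ hc, ?_⟩
    rintro _ ⟨x, hx, rfl⟩
    rw [← map_pow, h2 x hx, map_one]
  obtain ⟨k, hk⟩ := Local.elemAb_card_pow hU
  rw [← Subgroup.card_map_of_injective B.subtype_injective, hk] at hcard
  obtain ⟨V, -, hV, hV4⟩ := Local.exists_subgroup_two_pow (S := ⊥) hU bot_le (n := 0) (m := 2) (by simp)
    (by norm_num) (by
      rw [hk]
      refine Nat.pow_le_pow_right (by norm_num) ?_
      by_contra h
      exact hcard (Nat.pow_le_pow_right (by norm_num) (by omega)))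
  exact ⟨V, hV.trans (Subgroup.map_subtype_le _), Local.elemAb_mono hU hV, by simpa using hV4⟩

/-- Not of component type, Sylow subgroup connected of rank three, trivial core: characteristic 2 type. -/
theorem cores_of_connected (h2c : Lie.CoreFun.LocCons G) (h3 : ¬ Cfsg.PRankLE 2 2 G)
    (hO : Cfsg.oddCore G = ⊥) (S : Sylow 2 G) (hS : Cfsg.IsFourConnected (S : Subgroup G)) :
    ∀ t : G, orderOf t = 2 → Cfsg.centralizerPPrimeCore 2 t = ⊥ := by
  classical
  haveI : Fact (Nat.Prime 2) := ⟨Nat.prime_two⟩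
  -- every Sylow subgroup is connected and contains an elementary subgroup of order eight
  have hconn : ∀ S' : Sylow 2 G, Cfsg.IsFourConnected (S' : Subgroup G) := by
    intro S' U V hU hV
    let e := S'.equiv S
    have hk : ∀ {A : Subgroup ↥(S' : Subgroup G)}, IsKleinFour A → IsKleinFour (A.map e.toMonoidHom) :=
      fun {A} hA => Local.elemAb_isKleinFour
        ⟨Fusion.isMulCommutative_map _ (Local.isKleinFour_elemAb hA).1, by
          rintro _ ⟨x, hx, rfl⟩
          rw [← map_pow, (Local.isKleinFour_elemAb hA).2 x hx, map_one]⟩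
        (by rw [Subgroup.card_map_of_injective e.injective]; haveI := hA; exact IsKleinFour.card_four)
    have h := hS _ _ (hk hU) (hk hV)
    have hk' : ∀ {A : Subgroup ↥(S : Subgroup G)}, IsKleinFour A → IsKleinFour (A.map e.symm.toMonoidHom) :=
      fun {A} hA => Local.elemAb_isKleinFour
        ⟨Fusion.isMulCommutative_map _ (Local.isKleinFour_elemAb hA).1, by
          rintro _ ⟨x, hx, rfl⟩
          rw [← map_pow, (Local.isKleinFour_elemAb hA).2 x hx, map_one]⟩
        (by rw [Subgroup.card_map_of_injective e.symm.injective]; haveI := hA; exact IsKleinFour.card_four)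
    have hback : ∀ A : Subgroup ↥(S' : Subgroup G), (A.map e.toMonoidHom).map e.symm.toMonoidHom = A := by
      intro A
      rw [Subgroup.map_map]
      convert Subgroup.map_id A
      ext x; simp
    rw [← hback U, ← hback V]
    exact Relation.ReflTransGen.lift (r := fun A B : Subgroup ↥(S : Subgroup G) => IsKleinFour A ∧ IsKleinFour B ∧
        ∀ a ∈ A, ∀ b ∈ B, a * b = b * a) (p := fun A B : Subgroup ↥(S' : Subgroup G) => IsKleinFour A ∧ IsKleinFour B ∧
        ∀ a ∈ A, ∀ b ∈ B, a * b = b * a) (fun A : Subgroup ↥(S : Subgroup G) => A.map e.symm.toMonoidHom) (fun a b hab => ⟨hk' hab.1, hk' hab.2.1, by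
      rintro _ ⟨x, hx, rfl⟩ _ ⟨y, hy, rfl⟩
      rw [← map_mul, ← map_mul, hab.2.2 x hx y hy]⟩) _ _ h
  have hE : ∀ S' : Sylow 2 G, ∃ E : Subgroup G, E ≤ (S' : Subgroup G) ∧ Cfsg.IsElementaryAbelian 2 E ∧
      8 ≤ Nat.card E := by
    intro S'
    obtain ⟨B, hB, hB8⟩ : ∃ B : Subgroup G, Cfsg.IsElementaryAbelian 2 B ∧ 8 ≤ Nat.card B := by
      simp only [Cfsg.PRankLE, not_forall] at h3
      obtain ⟨B, hc, h2, hcard⟩ := h3
      refine ⟨B, ⟨hc, h2⟩, ?_⟩
      obtain ⟨k, hk⟩ := Local.elemAb_card_pow (⟨hc, h2⟩ : Cfsg.IsElementaryAbelian 2 B)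
      rw [hk] at hcard ⊢
      refine (show 8 ≤ 2 ^ 3 by norm_num).trans (Nat.pow_le_pow_right (by norm_num) ?_)
      by_contra h
      exact hcard (Nat.pow_le_pow_right (by norm_num) (by omega))
    obtain ⟨P, hP⟩ := (Local.elemAb_isPGroup hB).exists_le_sylow
    obtain ⟨g, hg⟩ := MulAction.exists_smul_eq G P S'
    refine ⟨B.map (MulAut.conj g).toMonoidHom, ?_, ⟨Fusion.isMulCommutative_map _ hB.1, ?_⟩, ?_⟩
    · rw [← hg]
      rintro _ ⟨b, hb, rfl⟩
      exact ⟨b, hP hb, rfl⟩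
    · rintro _ ⟨x, hx, rfl⟩
      rw [← map_pow, hB.2 x hx, map_one]
    · rw [Subgroup.card_map_of_injective (MulAut.conj g).injective]; exact hB8
  obtain ⟨E, hES, hEe, hE8⟩ := hE S
  refine cores_trivial_of h2c hO S ⟨E, hES, hEe, hE8⟩ (fun t ht ht2 => ?_) fun S' => ?_
  · -- every involution of `S` lies in a four group of `S`
    have hV : ∃ V : Subgroup G, V ≤ (S : Subgroup G) ∧ Cfsg.IsElementaryAbelian 2 V ∧ Nat.card V = 4 ∧ t ∈ V := by
      haveI : Nontrivial ↥(S : Subgroup G) := ⟨⟨⟨t, ht⟩, 1, fun e => by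
        rw [show t = 1 from congrArg Subtype.val e, orderOf_one] at ht2; omega⟩⟩
      haveI := S.isPGroup'.center_nontrivial
      obtain ⟨z, hz⟩ := exists_prime_orderOf_dvd_card' (G := Subgroup.center ↥(S : Subgroup G)) 2 (by
        obtain ⟨j, hj⟩ := IsPGroup.iff_card.1 (S.isPGroup'.to_subgroup (Subgroup.center ↥(S : Subgroup G)))
        have : 1 < Nat.card (Subgroup.center ↥(S : Subgroup G)) := Finite.one_lt_card_iff_nontrivial.2 inferInstance
        exact hj ▸ dvd_pow_self 2 (by rintro rfl; rw [pow_zero] at hj; omega))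
      obtain ⟨w, hw⟩ : ∃ w : G, w = ((z : ↥(S : Subgroup G)) : G) := ⟨_, rfl⟩
      have hw2 : orderOf w = 2 := by rw [hw, Subgroup.orderOf_coe, Subgroup.orderOf_coe, hz]
      have hwS : w ∈ (S : Subgroup G) := hw ▸ (z : ↥(S : Subgroup G)).2
      have hwc : ∀ s ∈ (S : Subgroup G), s * w = w * s := fun s hs =>
        hw ▸ congrArg Subtype.val (Subgroup.mem_center_iff.1 z.2 ⟨s, hs⟩)
      obtain ⟨v, hvS, hv2, hvne, hvc⟩ : ∃ v, v ∈ (S : Subgroup G) ∧ orderOf v = 2 ∧ v ∉ Subgroup.zpowers t ∧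
          t * v = v * t := by
        have hnot : ∀ x : G, x ∈ Subgroup.zpowers t → x = 1 ∨ x = t := by
          intro x hx
          obtain ⟨i, rfl⟩ := Subgroup.mem_zpowers_iff.1 hx
          rw [← zpow_mod_orderOf, ht2]
          rcases Int.emod_two_eq_zero_or_one i with e | e <;> simp [e]
        by_cases hwt : w = t
        · obtain ⟨e, heE, he⟩ := SetLike.not_le_iff_exists.1 (show ¬ E ≤ Subgroup.zpowers t from fun h => by
            have := Subgroup.card_le_of_le h
            rw [Nat.card_zpowers, ht2] at this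
            omega)
          exact ⟨e, hES heE, orderOf_eq_prime (hEe.2 e heE) (fun h => he (h ▸ one_mem _)), he,
            hwt ▸ (hwc e (hES heE)).symm⟩
        · exact ⟨w, hwS, hw2, fun h => (hnot w h).elim (fun h1 => by rw [h1, orderOf_one] at hw2; omega) hwt,
            hwc t ht⟩
      have hV' : Cfsg.IsElementaryAbelian 2 (Subgroup.zpowers t ⊔ Subgroup.zpowers v) :=
        Local.elemAb_sup (Local.elemAb_zpowers (ht2 ▸ pow_orderOf_eq_one t))
          (Local.elemAb_zpowers (hv2 ▸ pow_orderOf_eq_one v)) fun a ha b hb => by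
            obtain ⟨i, rfl⟩ := Subgroup.mem_zpowers_iff.1 ha
            obtain ⟨j, rfl⟩ := Subgroup.mem_zpowers_iff.1 hb
            exact ((show Commute t v from hvc).zpow_zpow i j).eq
      obtain ⟨V, htV, hVle, hV4⟩ := Local.exists_subgroup_two_pow (S := Subgroup.zpowers t) hV'
        le_sup_left (n := 1) (m := 2) (by rw [Nat.card_zpowers, ht2]; norm_num) (by norm_num) (by
          obtain ⟨k, hk⟩ := Local.elemAb_card_pow hV'
          have hlt : Nat.card ↥(Subgroup.zpowers t) < Nat.card ↥(Subgroup.zpowers t ⊔ Subgroup.zpowers v) := by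
            refine lt_of_le_of_ne (Subgroup.card_le_of_le le_sup_left) fun e => hvne ?_
            exact (Subgroup.eq_of_le_of_card_ge le_sup_left e.ge) ▸ Subgroup.mem_sup_right (Subgroup.mem_zpowers v)
          rw [Nat.card_zpowers, ht2, hk] at hlt
          rw [hk]
          refine Nat.pow_le_pow_right (by norm_num) ?_
          by_contra h
          have := Nat.pow_le_pow_right (show 0 < 2 by norm_num) (show k ≤ 1 by omega)
          omega)
      exact ⟨V, hVle.trans (sup_le (Subgroup.zpowers_le.2 ht) (Subgroup.zpowers_le.2 hvS)),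
        Local.elemAb_mono hV' hVle, by simpa using hV4, htV (Subgroup.mem_zpowers t)⟩
    obtain ⟨V, hVS, hVe, hV4, htV⟩ := hV
    obtain ⟨F, hFS, hFe, hF8, hVF⟩ := (four_closure h2c S hS hES hEe hE8 V hVS hVe hV4).1
    exact ⟨F, hFS, fun x hx => Subgroup.mem_centralizer_singleton_iff.2
      (Local.elemAb_commute hFe hx (hVF htV)), hVF htV, hFe, hF8⟩
  obtain ⟨E', hE'S, hE'e, hE'8⟩ := hE S'
  refine ⟨Lie.CoreFun.Wc E', Lie.CoreFun.Wc_odd h2c hE'e hE'8, fun F hFS hFe hF8 => ?_, fun B hB hB1 => ?_⟩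
  · obtain ⟨U, -, hUF, hU4⟩ := Local.exists_subgroup_two_pow (S := ⊥) hFe bot_le (n := 0) (m := 2) (by simp)
      (by norm_num) (by norm_num; omega)
    have h4 : Nat.card U = 4 := by simpa using hU4
    rw [← (four_closure h2c S' (hconn S') hE'S hE'e hE'8 U (hUF.trans hFS)
      (Local.elemAb_mono hFe hUF) h4).2]
    exact Lie.CoreFun.Wc_eq h2c hFe hF8 hUF h4.ge
  · obtain ⟨V, hVB, hVe, hV4⟩ := exists_four hB1
    intro g hg
    refine mem_normalizer_of_cj_le (le_of_eq ?_)
    have hV' : cj V g ≤ B := (cj_mono hVB g).trans (cj_eq_self hg).le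
    have he' : Cfsg.IsElementaryAbelian 2 (cj V g) := by
      refine ⟨Fusion.isMulCommutative_map _ hVe.1, ?_⟩
      rintro _ ⟨x, hx, rfl⟩
      rw [← map_pow, hVe.2 x hx, map_one]
    conv_lhs => rw [← (four_closure h2c S' (hconn S') hE'S hE'e hE'8 V (hVB.trans hB) hVe hV4).2]
    rw [← (four_closure h2c S' (hconn S') hE'S hE'e hE'8 (cj V g) (hV'.trans hB) he'
      (by rw [card_cj, hV4])).2]
    rw [Lie.CoreFun.Wc, Lie.CoreFun.Wc, cj, Subgroup.map_iSup]
    refine le_antisymm (iSup_le fun b => ?_) (iSup_le fun c => ?_)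
    · rw [← Lie.CoreFun.core_equivariant]
      exact le_iSup (fun c : {c : G // c ∈ cj V g ∧ c ≠ 1} => Cfsg.centralizerPPrimeCore 2 (c : G))
        ⟨g * b.1 * g⁻¹, conj_mem_cj b.2.1, fun h => b.2.2 (conj_eq_one_iff.1 h)⟩
    · obtain ⟨b, hb, hbc⟩ := c.2.1
      refine le_trans ?_ (le_iSup (fun d : {d : G // d ∈ V ∧ d ≠ 1} =>
        (Cfsg.centralizerPPrimeCore 2 (d : G)).map (MulAut.conj g).toMonoidHom)
        ⟨b, hb, fun h => c.2.2 (by rw [← hbc, h, map_one])⟩)
      show _ ≤ (Cfsg.centralizerPPrimeCore 2 b).map (MulAut.conj g).toMonoidHom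
      rw [← Lie.CoreFun.core_equivariant, show g * b * g⁻¹ = c.1 from hbc]

end Cfsg.Agent.Scn3
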