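import Cfsg.Agent.Lib.Fusion.OmegaSeries
import Cfsg.Agent.Lib.Fusion.TransferSplit
import Cfsg.Agent.Lib.Solv.HallHigman
import Cfsg.Agent.Lib.Solv.PGroupPhi

/-!
# Normal p-complements from strongly closed subgroups of one order

`p` is prime, `|G|` is prime to `p - 1`, and every subgroup of order `d` (and of order 4 if `d = 2`) of
a Sylow subgroup `S` is strongly closed in `S`, where `1 < d < |S|`.
-/

set_option autoImplicit false

namespace Cfsg.Agent.Lead.ClosedOrderD

open Cfsg.Agent.Fusion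

universe u

variable {G : Type u} [Group G] [Finite G] {p : ℕ} [hp : Fact p.Prime]

/-- The hypothesis on subgroups of order `d`. -/
def AllClosed (S : Subgroup G) (d : ℕ) : Prop :=
  ∀ E : Subgroup G, E ≤ S → (Nat.card E = d ∨ (d = 2 ∧ Nat.card E = 4)) →
    ∀ x ∈ E, ∀ g : G, g * x * g⁻¹ ∈ S → g * x * g⁻¹ ∈ E

theorem orderOf_coprime_pred (hq : (Nat.card G).Coprime (p - 1)) (g : G) :
    (orderOf g).Coprime (p - 1) :=
  hq.coprime_dvd_left (orderOf_dvd_natCard g)

/-- An automorphism group of order dividing `p ^ k * (p - 1)` has no room for `g`. -/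
theorem aut_eq_one {A : Type*} [Group A] [Finite A] (α : MulAut A) {n k : ℕ}
    (hn : orderOf α ∣ n) (hcard : Nat.card (MulAut A) ∣ p ^ k * (p - 1)) (h1 : n.Coprime p)
    (h2 : n.Coprime (p - 1)) : α = 1 := by
  have h3 : orderOf α ∣ p ^ k * (p - 1) := (orderOf_dvd_natCard α).trans hcard
  exact orderOf_eq_one_iff.1 (Nat.eq_one_of_dvd_coprimes ((h1.pow_right k).mul_right h2) hn h3)

/-- A `p'`-element normalizing a cyclic `p`-group centralizes it. -/
theorem fix_cyclic (hq : (Nat.card G).Coprime (p - 1)) {E : Subgroup G} [IsCyclic E]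
    (hE : IsPGroup p E) {g : G} (hg : g ∈ Subgroup.normalizer (E : Set G))
    (hgp : (orderOf g).Coprime p) {x : G} (hx : x ∈ E) : g * x * g⁻¹ = x := by
  obtain ⟨β, hβ, hβo⟩ := exists_conj_aut hg
  obtain ⟨k, hk⟩ := IsPGroup.iff_card.1 hE
  have hb : β = 1 := aut_eq_one β hβo (k := k) (by
    rw [IsCyclic.card_mulAut, hk]
    rcases Nat.eq_zero_or_pos k with rfl | hk0
    · simp
    · rw [Nat.totient_prime_pow hp.out hk0]
      exact Nat.mul_dvd_mul_right (pow_dvd_pow p (Nat.sub_le k 1)) _) hgp (orderOf_coprime_pred hq g)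
  have := hβ ⟨x, hx⟩
  rw [hb] at this
  exact this.symm

/-- A `p'`-element fixing `T` and a subgroup `K` of index `p` acts trivially on `T / K`. -/
theorem fix_quot (hq : (Nat.card G).Coprime (p - 1)) {T K : Subgroup G}
    (hKn : (K.subgroupOf T).Normal) (hi : K.relIndex T = p) {g : G}
    (hg : g ∈ Subgroup.normalizer (T : Set G)) (hK : ∀ y ∈ K, y ∈ T → g * y * g⁻¹ ∈ K)
    (hgp : (orderOf g).Coprime p) {x : G} (hx : x ∈ T) : x⁻¹ * (g * x * g⁻¹) ∈ K := by
  haveI := hKn
  obtain ⟨α, hα, hαo⟩ := exists_conj_aut hg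
  set N := K.subgroupOf T
  have hNα : N.map α.toMonoidHom = N := by
    refine Subgroup.eq_of_le_of_card_ge ?_ (Subgroup.card_map_of_injective α.injective).ge
    rintro _ ⟨y, hy, rfl⟩
    show ((α y : T) : G) ∈ K
    rw [hα]
    exact hK y hy y.2
  let β : MulAut (T ⧸ N) := QuotientGroup.congr N N α hNα
  have hβ : ∀ y : T, β (QuotientGroup.mk y) = QuotientGroup.mk (α y) := fun y =>
    QuotientGroup.congr_mk N N α hNα y
  have hβpow : ∀ (j : ℕ) (y : T), (β ^ j) (QuotientGroup.mk y) = QuotientGroup.mk ((α ^ j) y) := by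
    intro j
    induction j with
    | zero => intro y; rfl
    | succ j ih => intro y; rw [pow_succ, pow_succ, MulAut.mul_apply, MulAut.mul_apply, hβ, ih]
  have hcard : Nat.card (T ⧸ N) = p := by rw [← Subgroup.index_eq_card]; exact hi
  haveI : IsCyclic (T ⧸ N) := isCyclic_of_prime_card hcard
  have hb : β = 1 := aut_eq_one β (n := orderOf g) (k := 0) (by
      refine (orderOf_dvd_of_pow_eq_one (MulEquiv.ext fun z => ?_)).trans hαo
      induction z using QuotientGroup.induction_on with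
      | _ y => rw [hβpow, pow_orderOf_eq_one]; rfl)
    (by rw [IsCyclic.card_mulAut, hcard, Nat.totient_prime hp.out, pow_zero, one_mul])
    hgp (orderOf_coprime_pred hq g)
  have h1 : QuotientGroup.mk (α ⟨x, hx⟩) = ((⟨x, hx⟩ : T) : T ⧸ N) := by
    rw [← hβ, hb]; rfl
  have h2 := QuotientGroup.eq.1 h1.symm
  rw [Subgroup.mem_subgroupOf] at h2
  simpa [hα] using h2

variable {S : Subgroup G} {d : ℕ}

/-- A `p'`-element normalizing a subgroup of `S` larger than `d` centralizes it. -/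
theorem centralizes_big (hS : SylIn p S ⊤) (hq : (Nat.card G).Coprime (p - 1))
    (hd : ∃ k, d = p ^ k) (hd1 : 1 < d) (hcl : AllClosed S d) {U : Subgroup G} (hU : U ≤ S)
    (hUd : d < Nat.card U) {g : G} (hg : g ∈ Subgroup.normalizer (U : Set G))
    (hgp : (orderOf g).Coprime p) : g ∈ Subgroup.centralizer (U : Set G) := by
  obtain ⟨k, hk⟩ := hd
  have hUp : IsPGroup p U := hS.isPGroup.to_le hU
  obtain ⟨u, hu⟩ := IsPGroup.iff_card.1 hUp
  have hku : k + 1 ≤ u := by
    by_contra hc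
    rw [hk, hu] at hUd
    exact absurd (Nat.pow_le_pow_right hp.out.pos (show u ≤ k by omega)) (Nat.not_le.2 hUd)
  have hinv : ∀ E : Subgroup G, E ≤ U → (Nat.card E = d ∨ (d = 2 ∧ Nat.card E = 4)) →
      g ∈ Subgroup.normalizer (E : Set G) := fun E hE hc => by
    refine mem_normalizer_of_cj_le ?_
    rintro _ ⟨x, hx, rfl⟩
    exact hcl E (hE.trans hU) hc x hx g (hU ((Subgroup.mem_normalizer_iff.1 hg x).1 (hE hx)))
  obtain ⟨α, hα, hαo⟩ := exists_conj_aut hg
  have key : α = 1 := by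
    refine aut_eq_one_of_fix_omega hUp α (hgp.coprime_dvd_left hαo) fun x hx => Subtype.ext ?_
    rw [hα]
    set C := Subgroup.zpowers (x : G) with hC
    have hxC : (x : G) ∈ C := Subgroup.mem_zpowers _
    have hCU : C ≤ U := (Subgroup.zpowers_le).2 x.2
    obtain ⟨c, hc⟩ := IsPGroup.iff_card.1 (hUp.to_le hCU)
    by_cases hbig : k < c
    · have h4 : d = 2 ∧ Nat.card C = 4 := by
        have hdvd : ∀ m : ℕ, x ^ m = 1 → p ^ c ∣ m := fun m hm => by
          rw [← hc, hC, Nat.card_zpowers, Subgroup.orderOf_coe]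
          exact orderOf_dvd_of_pow_eq_one hm
        have hk0 : k ≠ 0 := fun h0 => by rw [h0, pow_zero] at hk; omega
        rcases hx with hx | ⟨rfl, hx⟩
        · have h5 := (Nat.pow_dvd_pow_iff_le_right hp.out.one_lt).1
            (show p ^ c ∣ p ^ 1 by rw [pow_one]; exact hdvd p hx)
          omega
        · have h5 := (Nat.pow_dvd_pow_iff_le_right (show 1 < 2 by norm_num)).1
            (show 2 ^ c ∣ 2 ^ 2 from hdvd 4 hx)
          have hk1 : k = 1 := by omega
          have hc2 : c = 2 := by omega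
          subst hk1; subst hc2
          exact ⟨by simpa using hk, by simpa using hc⟩
      exact fix_cyclic hq (hUp.to_le hCU) (hinv C hCU (Or.inr h4)) hgp hxC
    have hCc : Nat.card (C.subgroupOf U) = p ^ c :=
      (Nat.card_congr (Subgroup.subgroupOfEquivOfLe hCU).toEquiv).trans hc
    obtain ⟨E, hE, hCE⟩ := Sylow.exists_subgroup_card_pow_prime_le p (m := k)
      (hu ▸ pow_dvd_pow p (by omega)) (C.subgroupOf U) hCc (by omega)
    obtain ⟨Y, hY, hEY⟩ := Sylow.exists_subgroup_card_pow_prime_le p (m := k + 1)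
      (hu ▸ pow_dvd_pow p (by omega)) E hE (by omega)
    set E₁ := E.map U.subtype
    set Y₁ := Y.map U.subtype
    have hE₁U : E₁ ≤ U := Subgroup.map_subtype_le _
    have hY₁U : Y₁ ≤ U := Subgroup.map_subtype_le _
    have hE₁c : Nat.card E₁ = d := by
      rw [Subgroup.card_map_of_injective U.subtype_injective, hE, hk]
    have hY₁c : Nat.card Y₁ = p ^ (k + 1) := by
      rw [Subgroup.card_map_of_injective U.subtype_injective, hY]
    have hEY₁ : E₁ ≤ Y₁ := Subgroup.map_mono hEY
    have hxE : (x : G) ∈ E₁ := ⟨x, hCE (Subgroup.mem_subgroupOf.2 hxC), rfl⟩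
    by_cases hcy : IsCyclic Y₁
    · haveI : IsCyclic E₁ := isCyclic_of_injective (Subgroup.inclusion hEY₁)
        (Subgroup.inclusion_injective hEY₁)
      exact fix_cyclic hq (hUp.to_le hE₁U) (hinv _ hE₁U (Or.inl hE₁c)) hgp hxE
    -- `Y₁` is the join of two invariant subgroups of order `d`
    obtain ⟨y, hyY, hyE⟩ : ∃ y ∈ Y₁, y ∉ E₁ := by
      refine SetLike.not_le_iff_exists.1 fun hle => ?_
      have := Subgroup.card_le_of_le hle
      rw [hY₁c, hE₁c, hk, pow_succ] at this
      have := hp.out.one_lt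
      have := pow_pos hp.out.pos k
      nlinarith
    have hyc : Subgroup.zpowers y ≤ Y₁ := (Subgroup.zpowers_le).2 hyY
    have hY₁p : IsPGroup p Y₁ := hUp.to_le hY₁U
    obtain ⟨j, hj⟩ := IsPGroup.iff_card.1 (hY₁p.to_le hyc)
    have hjk : j ≤ k := by
      have h5 : j ≤ k + 1 := (Nat.pow_dvd_pow_iff_le_right hp.out.one_lt).1
        (hj ▸ hY₁c ▸ Subgroup.card_dvd_of_le hyc)
      by_contra hcon
      refine hcy ?_
      have : Subgroup.zpowers y = Y₁ := Subgroup.eq_of_le_of_card_ge hyc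
        (by rw [hY₁c, hj]; exact Nat.pow_le_pow_right hp.out.pos (by omega))
      exact this ▸ inferInstance
    have hyc' : Nat.card ((Subgroup.zpowers y).subgroupOf Y₁) = p ^ j :=
      (Nat.card_congr (Subgroup.subgroupOfEquivOfLe hyc).toEquiv).trans hj
    obtain ⟨E', hE', hyE'⟩ := Sylow.exists_subgroup_card_pow_prime_le p (m := k)
      (hY₁c ▸ pow_dvd_pow p (by omega)) ((Subgroup.zpowers y).subgroupOf Y₁) hyc' hjk
    set E₂ := E'.map Y₁.subtype
    have hE₂Y : E₂ ≤ Y₁ := Subgroup.map_subtype_le _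
    have hyE₂ : y ∈ E₂ := ⟨⟨y, hyY⟩, hyE' (Subgroup.mem_subgroupOf.2 (Subgroup.mem_zpowers y)), rfl⟩
    have hE₂c : Nat.card E₂ = d := by
      rw [Subgroup.card_map_of_injective Y₁.subtype_injective, hE', hk]
    have hsup : E₁ ⊔ E₂ = Y₁ := by
      have hle : E₁ ⊔ E₂ ≤ Y₁ := sup_le hEY₁ hE₂Y
      refine Subgroup.eq_of_le_of_card_ge hle ?_
      obtain ⟨m, hm⟩ := IsPGroup.iff_card.1 (hY₁p.to_le hle)
      rw [hY₁c, hm]
      refine Nat.pow_le_pow_right hp.out.pos ?_
      by_contra hcon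
      have h7 : E₁ = E₁ ⊔ E₂ := Subgroup.eq_of_le_of_card_ge le_sup_left
        (by rw [hm, hE₁c, hk]; exact Nat.pow_le_pow_right hp.out.pos (by omega))
      exact hyE (h7 ▸ Subgroup.mem_sup_right hyE₂)
    have hgY : g ∈ Subgroup.normalizer (Y₁ : Set G) := by
      refine mem_normalizer_of_cj_le ?_
      rw [← hsup, cj_sup, cj_eq_self (hinv _ hE₁U (Or.inl hE₁c)),
        cj_eq_self (hinv _ (hE₂Y.trans hY₁U) (Or.inl hE₂c))]
    have hcen := Cfsg.Agent.Solv.centralizes_of_frattini Y₁ hY₁p g hgY hgp (fun z hz => by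
      have h8 : z * g * z⁻¹ * g⁻¹ ∈ Y₁ := by
        rw [show z * g * z⁻¹ * g⁻¹ = z * (g * z⁻¹ * g⁻¹) by group]
        exact mul_mem hz ((Subgroup.mem_normalizer_iff.1 hgY _).1 (inv_mem hz))
      refine ⟨⟨_, h8⟩, ?_, rfl⟩
      simp only [frattini, Order.radical, SetLike.mem_coe, Subgroup.mem_iInf]
      intro M hM
      haveI := Cfsg.Agent.Solv.coatom_normal hY₁p hM
      have hMi := Cfsg.Agent.Solv.coatom_index hY₁p hM
      have hMc : Nat.card (M.map Y₁.subtype) = d := by
        have h9 := M.card_mul_index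
        rw [hMi, hY₁c, pow_succ] at h9
        rw [Subgroup.card_map_of_injective Y₁.subtype_injective, hk]
        exact Nat.eq_of_mul_eq_mul_right hp.out.pos h9
      have hMN := hinv _ ((Subgroup.map_subtype_le M).trans hY₁U) (Or.inl hMc)
      have hsub : (M.map Y₁.subtype).subgroupOf Y₁ = M := by
        rw [Subgroup.subgroupOf, Subgroup.comap_map_eq_self_of_injective Y₁.subtype_injective]
      have h10 : z⁻¹⁻¹ * (g * z⁻¹ * g⁻¹) ∈ M.map Y₁.subtype :=
        fix_quot hq (K := M.map Y₁.subtype) (by rw [hsub]; infer_instance)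
        (by rw [Subgroup.relIndex, hsub, hMi]) hgY
        (fun w hw _ => (Subgroup.mem_normalizer_iff.1 hMN w).1 hw) hgp (inv_mem hz)
      rw [inv_inv, ← mul_assoc, ← mul_assoc] at h10
      obtain ⟨w, hw, hwe⟩ := h10
      rwa [show (⟨_, h8⟩ : Y₁) = w from Subtype.ext hwe.symm])
    exact mem_centralizer_set.1 hcen _ (hEY₁ hxE)
  rw [mem_centralizer_set]
  intro a ha
  have := hα ⟨a, ha⟩
  rw [key] at this
  exact this.symm

/-- `S` controls the fusion of its elements of order greater than `d`. -/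
theorem fusion_big (hS : SylIn p S ⊤) (hq : (Nat.card G).Coprime (p - 1))
    (hd : ∃ k, d = p ^ k) (hd1 : 1 < d) (hcl : AllClosed S d)
    {a g : G} (ha : a ∈ S) (hag : g⁻¹ * a * g ∈ S) (hbig : d < orderOf a) :
    ∃ s ∈ S, g⁻¹ * a * g = s⁻¹ * a * s := by
  have hc := alperin hS (A := {a}) (g := g) (by simpa using ha)
    (by rintro _ ⟨_, rfl, rfl⟩; exact hag)
  suffices H : ∀ (B : Set G) (g : G), Chain (TameStep p S) B g →
      ∀ a ∈ B, d < orderOf a → ∃ s ∈ S, g⁻¹ * a * g = s⁻¹ * a * s from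
    H _ _ hc a rfl hbig
  intro B₁ g₁ hc₁
  induction hc₁ with
  | nil B => exact fun a _ _ => ⟨1, one_mem _, rfl⟩
  | @cons B g T x hx hBT _ ih =>
    intro a ha hbig
    obtain ⟨Q, -, hT, hxN, hsyl, -, -⟩ := hx
    have hTS : T ≤ S := hT ▸ inf_le_left
    set H := Subgroup.normalizer (T : Set G)
    obtain ⟨P, hP⟩ := hsyl.exists_sylow_subgroupOf
    have hTd : d < Nat.card T := by
      refine lt_of_lt_of_le hbig ?_
      rw [← Subgroup.orderOf_mk a (hBT ha)]
      exact Nat.le_of_dvd Nat.card_pos (orderOf_dvd_natCard _)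
    have h1 : Cfsg.pResidual p H ≤ (Subgroup.centralizer (T : Set G)).subgroupOf H := by
      refine (Subgroup.closure_le _).2 fun y hy =>
        centralizes_big hS hq hd hd1 hcl hTS hTd (g := (y : G)) y.2 ?_
      rw [Subgroup.orderOf_coe]; exact hy
    have h2 : (⟨x, hxN⟩ : H) ∈ Cfsg.pResidual p H ⊔ (P : Subgroup H) := by
      rw [pResidual_sup_sylow P]; trivial
    rw [Subgroup.mem_sup_of_normal_left] at h2
    obtain ⟨c, hc, r, hr, hcr⟩ := h2
    rw [hP] at hr
    have hr' : (r : G) ∈ S := hr.1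
    have hx' : x = (c : G) * r := congrArg Subtype.val hcr.symm
    have h3 : x⁻¹ * a * x = (r : G)⁻¹ * a * r := by
      have : a * (c : G) = (c : G) * a := (Subgroup.mem_centralizer_iff.1 (h1 hc)) a (hBT ha)
      rw [hx']
      calc ((c : G) * r)⁻¹ * a * ((c : G) * r)
          = (r : G)⁻¹ * ((c : G)⁻¹ * (a * c)) * r := by group
        _ = _ := by rw [this]; group
    have hord : orderOf (x⁻¹ * a * x) = orderOf a := by
      have := MulEquiv.orderOf_eq (MulAut.conj x⁻¹) a
      simpa using this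
    obtain ⟨s, hs, hsa⟩ := ih (x⁻¹ * a * x) ⟨a, ha, rfl⟩ (hord ▸ hbig)
    refine ⟨(r : G) * s, mul_mem hr' hs, ?_⟩
    calc (x * g)⁻¹ * a * (x * g) = g⁻¹ * (x⁻¹ * a * x) * g := by group
      _ = s⁻¹ * (x⁻¹ * a * x) * s := hsa
      _ = _ := by rw [h3]; group

/-- Maximal subgroups of `S` are strongly closed and fusion respects their cosets. -/
theorem coset_fusion (hS : SylIn p S ⊤) (hq : (Nat.card G).Coprime (p - 1))
    (hd : ∃ k, d = p ^ k) (hd1 : 1 < d) (hdS : d < Nat.card S) (hcl : AllClosed S d)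
    {M : Subgroup G} (hMS : M ≤ S) (hMn : (M.subgroupOf S).Normal) (hMi : M.relIndex S = p)
    {a g : G} (ha : a ∈ S) (hag : g⁻¹ * a * g ∈ S) : a⁻¹ * (g⁻¹ * a * g) ∈ M := by
  have hconj : ∀ s ∈ S, ∀ m ∈ M, s * m * s⁻¹ ∈ M := fun s hs m hm =>
    Subgroup.mem_subgroupOf.1 (hMn.conj_mem ⟨m, hMS hm⟩ (Subgroup.mem_subgroupOf.2 hm) ⟨s, hs⟩)
  -- strong closure
  have hclosed : ∀ x ∈ M, ∀ h : G, h * x * h⁻¹ ∈ S → h * x * h⁻¹ ∈ M := by
    intro x hx h hh
    obtain ⟨k, hk⟩ := hd
    by_cases hbig : d < orderOf x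
    · obtain ⟨s, hs, hsx⟩ := fusion_big hS hq ⟨k, hk⟩ hd1 hcl (hMS hx) (g := h⁻¹)
        (by simpa using hh) hbig
      rw [inv_inv] at hsx
      rw [hsx]
      simpa using hconj s⁻¹ (inv_mem hs) x hx
    · have hMp : IsPGroup p M := hS.isPGroup.to_le hMS
      obtain ⟨m, hm⟩ := IsPGroup.iff_card.1 hMp
      obtain ⟨c, hc⟩ := IsPGroup.iff_card.1 (hMp.to_le ((Subgroup.zpowers_le).2 hx))
      have hck : c ≤ k := by
        by_contra hcon
        refine hbig ?_
        rw [← Nat.card_zpowers, hc, hk]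
        exact Nat.pow_lt_pow_right hp.out.one_lt (by omega)
      have hkm : k ≤ m := by
        have h1 : M.relIndex S * Nat.card M = Nat.card S := by
          rw [Subgroup.relIndex, ← Nat.card_congr (Subgroup.subgroupOfEquivOfLe hMS).toEquiv, mul_comm]
          exact Subgroup.card_mul_index _
        rw [hMi, hm, ← pow_succ'] at h1
        rw [hk, ← h1] at hdS
        have := (Nat.pow_lt_pow_iff_right hp.out.one_lt).1 hdS
        omega
      have hCc : Nat.card ((Subgroup.zpowers x).subgroupOf M) = p ^ c :=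
        (Nat.card_congr (Subgroup.subgroupOfEquivOfLe ((Subgroup.zpowers_le).2 hx)).toEquiv).trans hc
      obtain ⟨E, hE, hxE⟩ := Sylow.exists_subgroup_card_pow_prime_le p (m := k)
        (hm ▸ pow_dvd_pow p hkm) _ hCc hck
      have h2 := hcl (E.map M.subtype) ((Subgroup.map_subtype_le _).trans hMS)
        (Or.inl (by rw [Subgroup.card_map_of_injective M.subtype_injective, hE, hk])) x
        ⟨⟨x, hx⟩, hxE (Subgroup.mem_subgroupOf.2 (Subgroup.mem_zpowers x)), rfl⟩ h hh
      exact Subgroup.map_subtype_le _ h2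
  have hc := alperin hS (A := {a}) (g := g) (by simpa using ha)
    (by rintro _ ⟨_, rfl, rfl⟩; exact hag)
  suffices H : ∀ (B : Set G) (g : G), Chain (TameStep p S) B g →
      ∀ b ∈ B, b⁻¹ * (g⁻¹ * b * g) ∈ M from H _ _ hc a rfl
  intro B₁ g₁ hc₁
  induction hc₁ with
  | nil B => exact fun a _ => by simp
  | @cons B g T x hx hBT _ ih =>
    intro a ha
    obtain ⟨Q, -, hT, hxN, hsyl, -, -⟩ := hx
    have hTS : T ≤ S := hT ▸ inf_le_left
    set H := Subgroup.normalizer (T : Set G) with hH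
    obtain ⟨P, hP⟩ := hsyl.exists_sylow_subgroupOf
    have hconjT : ∀ (c : H) (b : G), b ∈ T → (c : G) * b * (c : G)⁻¹ ∈ T := fun c b hb =>
      (Subgroup.mem_normalizer_iff.1 c.2 b).1 hb
    let C : Subgroup H :=
      { carrier := {c | ∀ b ∈ T, b⁻¹ * ((c : G) * b * (c : G)⁻¹) ∈ M}
        one_mem' := fun b _ => by simp
        mul_mem' := fun {c e} hc he b hb => by
          have h := mul_mem (he b hb) (hc _ (hconjT e b hb))
          simp only [Subgroup.coe_mul]
          convert h using 1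
          group
        inv_mem' := fun {c} hc b hb => by
          have h := inv_mem (hc _ (hconjT c⁻¹ b hb))
          simp only [InvMemClass.coe_inv] at h ⊢
          convert h using 1
          group }
    have h1 : Cfsg.pResidual p H ≤ C := by
      refine (Subgroup.closure_le _).2 fun y hy b hb => ?_
      by_cases hTM : T ≤ M
      · exact mul_mem (inv_mem (hTM hb)) (hTM (hconjT y b hb))
      · have hMT : ((M ⊓ T).subgroupOf T).Normal :=
          ⟨fun m hm t => Subgroup.mem_subgroupOf.2 ⟨hconj t (hTS t.2) m hm.1, (t * m * t⁻¹).2⟩⟩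
        have hdiv : (M ⊓ T).relIndex T = p := by
          have h2 : M.relIndex T ∣ p := hMi ▸
            (show M.relIndex T ∣ M.relIndex S by
              haveI := hMn
              exact (Subgroup.relIndex_subgroupOf hTS).symm ▸
                Subgroup.relIndex_dvd_index_of_normal (M.subgroupOf S) (T.subgroupOf S))
          rw [Subgroup.inf_relIndex_right]
          exact ((Nat.dvd_prime hp.out).1 h2).resolve_left
            (fun h3 => hTM (Subgroup.relIndex_eq_one.1 h3))
        exact (fix_quot hq hMT hdiv y.2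
          (fun m hm hmT => ⟨hclosed m hm.1 y (hTS (hconjT y m hmT)), hconjT y m hmT⟩)
          (by rwa [Subgroup.orderOf_coe]) hb).1
    have h2 : (⟨x, hxN⟩ : H) ∈ Cfsg.pResidual p H ⊔ (P : Subgroup H) := by
      rw [pResidual_sup_sylow P]; trivial
    rw [Subgroup.mem_sup_of_normal_left] at h2
    obtain ⟨c, hc, r, hr, hcr⟩ := h2
    rw [hP] at hr
    have hr' : (r : G) ∈ S := hr.1
    have hx' : x = (c : G) * r := congrArg Subtype.val hcr.symm
    have hbT : (c : G)⁻¹ * a * c ∈ T := by simpa using hconjT c⁻¹ a (hBT ha)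
    set b := (c : G)⁻¹ * a * c with hb
    have e1 : a⁻¹ * b ∈ M := by
      have := C.inv_mem (h1 hc) a (hBT ha)
      simpa [hb, mul_assoc] using this
    have e2 : b⁻¹ * ((r : G)⁻¹ * b * r) ∈ M := by
      haveI := hMn
      haveI : IsCyclic (S ⧸ M.subgroupOf S) :=
        isCyclic_of_prime_card (p := p) (by rw [← Subgroup.index_eq_card]; exact hMi)
      have h4 : (QuotientGroup.mk ((⟨b, hTS hbT⟩ : S)⁻¹ * ((⟨r, hr'⟩ : S)⁻¹ * ⟨b, hTS hbT⟩ * ⟨r, hr'⟩)) :
          S ⧸ M.subgroupOf S) = 1 := by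
        letI : CommGroup (S ⧸ M.subgroupOf S) := IsCyclic.commGroup
        simp only [QuotientGroup.mk_mul, QuotientGroup.mk_inv]
        simp [mul_comm, mul_left_comm]
      exact Subgroup.mem_subgroupOf.1 ((QuotientGroup.eq_one_iff _).1 h4)
    have h3 : x⁻¹ * a * x = (r : G)⁻¹ * b * r := by rw [hx', hb]; group
    have e3 := ih (x⁻¹ * a * x) ⟨a, ha, rfl⟩
    rw [h3] at e3
    have := mul_mem (mul_mem e1 e2) e3
    have hfin : (x * g)⁻¹ * a * (x * g) = g⁻¹ * (x⁻¹ * a * x) * g := by group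
    rw [hfin, h3]
    convert this using 1
    group

/-- The normal `p`-complement. -/
theorem hnpc (hS : SylIn p S ⊤) (hq : (Nat.card G).Coprime (p - 1)) (P : Sylow p G)
    (hPS : (P : Subgroup G) = S)
    (hd : ∃ k, d = p ^ k) (hd1 : 1 < d) (hdS : d < Nat.card S) (hcl : AllClosed S d) :
    Cfsg.HasNormalPComplement p G := by
  subst hPS
  have hfoc : commutator G ⊓ (P : Subgroup G) ≤ (frattini P).map (P : Subgroup G).subtype := by
    rw [inf_comm, inf_commutator_eq_focalIn_top hS, focalIn, Subgroup.closure_le]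
    rintro _ ⟨x, hx, h, -, hxh, rfl⟩
    refine ⟨⟨_, mul_mem (inv_mem hx) hxh⟩, ?_, rfl⟩
    simp only [frattini, Order.radical, SetLike.mem_coe, Subgroup.mem_iInf]
    intro M hM
    haveI := Cfsg.Agent.Solv.coatom_normal P.isPGroup' hM
    have hsub : (M.map (P : Subgroup G).subtype).subgroupOf (P : Subgroup G) = M := by
      rw [Subgroup.subgroupOf, Subgroup.comap_map_eq_self_of_injective (Subgroup.subtype_injective _)]
    have := coset_fusion hS hq hd hd1 hdS hcl (M := M.map (P : Subgroup G).subtype)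
      (Subgroup.map_subtype_le _) (by rw [hsub]; infer_instance)
      (by rw [Subgroup.relIndex, hsub, Cfsg.Agent.Solv.coatom_index P.isPGroup' hM])
      (a := x) (g := h⁻¹) hx (by simpa using hxh)
    obtain ⟨w, hw, hwe⟩ := this
    have he : (⟨_, mul_mem (inv_mem hx) hxh⟩ : (P : Subgroup G)) = w := Subtype.ext (by
      simpa using hwe.symm)
    exact he ▸ hw
  set N := Cfsg.pResidual p G
  have hN : Cfsg.HasNormalPComplement p N := hnpc_normal_of_frattini N P fun x hx => hfoc ⟨by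
    obtain ⟨hxN, hxP⟩ := hx
    rw [← Abelianization.ker_of]
    refine MonoidHom.mem_ker.2 ?_
    obtain ⟨k, hk⟩ := IsPGroup.iff_orderOf.1 P.isPGroup' ⟨x, hxP⟩
    rw [Subgroup.orderOf_mk] at hk
    let L : Subgroup (Abelianization G) :=
      { carrier := {y | (orderOf y).Coprime p}
        one_mem' := by simp
        mul_mem' := fun {y z} hy hz => (Nat.Coprime.mul_left hy hz).coprime_dvd_left
          ((Commute.all y z).orderOf_mul_dvd_mul_orderOf)
        inv_mem' := fun {y} hy => by simpa using hy }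
    have hle : N ≤ L.comap Abelianization.of := (Subgroup.closure_le _).2 fun y hy =>
      hy.coprime_dvd_left (orderOf_map_dvd _ y)
    have h1 : (orderOf (Abelianization.of x)).Coprime (p ^ k) := Nat.Coprime.pow_right k (hle hxN)
    exact orderOf_eq_one_iff.1 (h1.eq_one_of_dvd (hk ▸ orderOf_map_dvd _ x)), hx.2⟩
  rw [hnpc_iff] at hN
  rw [pResidual_pResidual, Subgroup.card_top] at hN
  exact hnpc_iff.2 hN

/-- Cyclic Sylow subgroup. -/
theorem hnpc_cyclic (hS : SylIn p S ⊤) (hq : (Nat.card G).Coprime (p - 1)) [IsCyclic S] :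
    Cfsg.HasNormalPComplement p G := by
  refine hnpc_of_centralize hS fun Q hQ g hg hgp => mem_centralizer_set.2 fun x hx => ?_
  haveI : IsCyclic Q := isCyclic_of_injective (Subgroup.inclusion hQ)
    (Subgroup.inclusion_injective hQ)
  exact fix_cyclic hq (hS.isPGroup.to_le hQ) hg hgp hx

end Cfsg.Agent.Lead.ClosedOrderD
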