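import Cfsg.Agent.Lib.Lead.ClosedOrderD
import Cfsg.Agent.Lib.Perm.Huppert

/-!
# Supersolvably embedded normal p-subgroups

A normal p-subgroup `P` with supersolvable quotient gives a supersolvable group as soon as the
p'-elements of `⟨commutators, (p-1)st powers⟩` centralize it; they do if all subgroups of `P` of one
order `d` (and of order 4 if `d = 2`) are normal.
-/

set_option autoImplicit false

namespace Cfsg.Agent.Lead.ClosedOrderD

open Cfsg.Agent.Fusion Cfsg.Agent.Perm
open scoped commutatorElement IsMulCommutative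

universe u

variable {G : Type u} [Group G]

/-- The subgroup generated by commutators and `(p - 1)`st powers. -/
def predGen (p : ℕ) (G : Type u) [Group G] : Subgroup G :=
  Subgroup.closure ({g | ∃ a b : G, g = ⁅a, b⁆} ∪ {g | ∃ a : G, g = a ^ (p - 1)})

theorem predGen_normal (p : ℕ) : (predGen p G).Normal := ⟨fun x hx g => by
  have : ⁅g, x⁆ * x ∈ predGen p G :=
    mul_mem (Subgroup.subset_closure (Or.inl ⟨g, x, rfl⟩)) hx
  simpa [commutatorElement_def, mul_assoc] using this⟩

theorem predGen_map_le {G' : Type u} [Group G'] {p : ℕ} (f : G →* G') (hf : Function.Surjective f) :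
    predGen p G' ≤ (predGen p G).map f := by
  refine (Subgroup.closure_le _).2 ?_
  rintro _ (⟨a, b, rfl⟩ | ⟨a, rfl⟩)
  · obtain ⟨a, rfl⟩ := hf a
    obtain ⟨b, rfl⟩ := hf b
    exact ⟨⁅a, b⁆, Subgroup.subset_closure (Or.inl ⟨a, b, rfl⟩), map_commutatorElement f a b⟩
  · obtain ⟨a, rfl⟩ := hf a
    exact ⟨a ^ (p - 1), Subgroup.subset_closure (Or.inr ⟨a, rfl⟩), map_pow f a _⟩

variable [Finite G] {p : ℕ} [hp : Fact p.Prime]

/-- On a cyclic p-group the p'-elements of `predGen` act trivially. -/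
theorem aut_cyclic_trivial {C : Type*} [Group C] [Finite C] [IsCyclic C] {k : ℕ}
    (hk : Nat.card C = p ^ k) (θ : G →* MulAut C) {g : G} (hg : g ∈ predGen p G)
    (hgp : (orderOf g).Coprime p) : θ g = 1 := by
  have hcomm : ∀ f f' : MulAut C, f * f' = f' * f := by
    intro f f'
    refine MulEquiv.ext fun z => ?_
    obtain ⟨m, hm⟩ := f.toMonoidHom.map_cyclic
    obtain ⟨n, hn⟩ := f'.toMonoidHom.map_cyclic
    show f.toMonoidHom (f'.toMonoidHom z) = f'.toMonoidHom (f.toMonoidHom z)
    rw [hn, hm, hm, hn, ← zpow_mul, ← zpow_mul, mul_comm]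
  rcases Nat.eq_zero_or_pos k with rfl | hk0
  · haveI := (Nat.card_eq_one_iff_unique.1 (by simpa using hk : Nat.card C = 1)).1
    exact MulEquiv.ext fun z => Subsingleton.elim _ _
  let L : Subgroup G :=
    { carrier := {a | (θ a) ^ p ^ (k - 1) = 1}
      one_mem' := by simp
      mul_mem' := fun {a b} ha hb => by
        show (θ (a * b)) ^ _ = 1
        rw [map_mul, (show Commute (θ a) (θ b) from hcomm _ _).mul_pow,
          show (θ a) ^ p ^ (k - 1) = 1 from ha, show (θ b) ^ p ^ (k - 1) = 1 from hb, one_mul]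
      inv_mem' := fun {a} ha => by
        show (θ a⁻¹) ^ _ = 1
        rw [map_inv, inv_pow, show (θ a) ^ p ^ (k - 1) = 1 from ha, inv_one] }
  have hL : predGen p G ≤ L := by
    refine (Subgroup.closure_le _).2 ?_
    rintro _ (⟨a, b, rfl⟩ | ⟨a, rfl⟩)
    · show (θ ⁅a, b⁆) ^ _ = 1
      rw [map_commutatorElement, commutatorElement_eq_one_iff_mul_comm.2 (hcomm _ _), one_pow]
    · show (θ (a ^ (p - 1))) ^ _ = 1
      rw [map_pow, ← pow_mul, ← orderOf_dvd_iff_pow_eq_one]
      have := orderOf_dvd_natCard (θ a)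
      rwa [IsCyclic.card_mulAut, hk, Nat.totient_prime_pow hp.out hk0, mul_comm] at this
  exact orderOf_eq_one_iff.1 (Nat.eq_one_of_dvd_coprimes (hgp.pow_right (k - 1))
    (orderOf_map_dvd θ g) (orderOf_dvd_of_pow_eq_one (hL hg)))

/-- Trivial action on a normal cyclic p-subgroup. -/
theorem fix_normal_cyclic {E : Subgroup G} [E.Normal] [IsCyclic E] (hE : IsPGroup p E) {g : G}
    (hg : g ∈ predGen p G) (hgp : (orderOf g).Coprime p) {x : G} (hx : x ∈ E) :
    g * x * g⁻¹ = x := by
  obtain ⟨k, hk⟩ := IsPGroup.iff_card.1 hE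
  have h1 := aut_cyclic_trivial hk (MulAut.conjNormal (H := E)) hg hgp
  exact congrArg Subtype.val (MulEquiv.congr_fun h1 (⟨x, hx⟩ : E))

/-- Trivial action on `Y / K` for normal `K ≤ Y` of index `p`. -/
theorem fix_normal_quot {Y K : Subgroup G} [Y.Normal] [K.Normal] (hKY : K ≤ Y)
    (hi : K.relIndex Y = p) {g : G} (hg : g ∈ predGen p G) (hgp : (orderOf g).Coprime p) {x : G}
    (hx : x ∈ Y) : x⁻¹ * (g * x * g⁻¹) ∈ K := by
  set π := QuotientGroup.mk' K
  haveI : (Y.map π).Normal := Subgroup.Normal.map ‹_› π (QuotientGroup.mk'_surjective K)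
  have hcard : Nat.card (Y.map π) = p := by
    have := Subgroup.relIndex_ker (f := π) (K := Y)
    rwa [QuotientGroup.ker_mk', hi, eq_comm] at this
  haveI : IsCyclic (Y.map π) := isCyclic_of_prime_card hcard
  have h1 := aut_cyclic_trivial (k := 1) (by rw [hcard, pow_one])
    ((MulAut.conjNormal (H := Y.map π)).comp π) hg hgp
  have h2 : π g * π x * (π g)⁻¹ = π x := congrArg Subtype.val
    (MulEquiv.congr_fun h1 (⟨π x, Subgroup.mem_map_of_mem π hx⟩ : Y.map π))
  refine (QuotientGroup.eq_one_iff _).1 ?_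
  show π (x⁻¹ * (g * x * g⁻¹)) = 1
  rw [map_mul, map_inv, map_mul, map_mul, map_inv, h2, inv_mul_cancel]

/-- All subgroups of order `d` normal: the p'-elements of `predGen` centralize. -/
theorem centralizes_normal {P : Subgroup G} (hP : IsPGroup p P) {d : ℕ}
    (hd : ∃ k, d = p ^ k) (hd1 : 1 < d) (hdP : d < Nat.card P)
    (hn : ∀ E : Subgroup G, E ≤ P → (Nat.card E = d ∨ (d = 2 ∧ Nat.card E = 4)) → E.Normal)
    {g : G} (hgn : g ∈ Subgroup.normalizer (P : Set G)) (hg : g ∈ predGen p G)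
    (hgp : (orderOf g).Coprime p) : g ∈ Subgroup.centralizer (P : Set G) := by
  obtain ⟨k, hk⟩ := hd
  obtain ⟨u, hu⟩ := IsPGroup.iff_card.1 hP
  have hku : k + 1 ≤ u := by
    by_contra hc
    rw [hk, hu] at hdP
    exact absurd (Nat.pow_le_pow_right hp.out.pos (show u ≤ k by omega)) (Nat.not_le.2 hdP)
  obtain ⟨α, hα, hαo⟩ := exists_conj_aut hgn
  have key : α = 1 := by
    refine aut_eq_one_of_fix_omega hP α (hgp.coprime_dvd_left hαo) fun x hx => Subtype.ext ?_
    rw [hα]
    set C := Subgroup.zpowers (x : G) with hC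
    have hxC : (x : G) ∈ C := Subgroup.mem_zpowers _
    have hCP : C ≤ P := (Subgroup.zpowers_le).2 x.2
    obtain ⟨c, hc⟩ := IsPGroup.iff_card.1 (hP.to_le hCP)
    by_cases hbig : k < c
    · have h4 : d = 2 ∧ Nat.card C = 4 := by
        have hdvd : ∀ m : ℕ, x ^ m = 1 → p ^ c ∣ m := fun m hm => by
          rw [← hc, hC, Nat.card_zpowers, Subgroup.orderOf_coe]
          exact orderOf_dvd_of_pow_eq_one hm
        have hk0 : k ≠ 0 := fun h0 => by rw [h0, pow_zero] at hk; omega
        rcases hx with hx | ⟨rfl, hx⟩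
        · have h5 := (Nat.pow_dvd_pow_iff_le_right hp.out.one_lt).1
            (show p ^ c ∣ p ^ 1 by rw [pow_one]; exact hdvd p hx)
          omega
        · have h5 := (Nat.pow_dvd_pow_iff_le_right (show 1 < 2 by norm_num)).1
            (show 2 ^ c ∣ 2 ^ 2 from hdvd 4 hx)
          have hk1 : k = 1 := by omega
          have hc2 : c = 2 := by omega
          subst hk1; subst hc2
          exact ⟨by simpa using hk, by simpa using hc⟩
      haveI := hn C hCP (Or.inr h4)
      exact fix_normal_cyclic (hP.to_le hCP) hg hgp hxC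
    have hCc : Nat.card (C.subgroupOf P) = p ^ c :=
      (Nat.card_congr (Subgroup.subgroupOfEquivOfLe hCP).toEquiv).trans hc
    obtain ⟨E, hE, hCE⟩ := Sylow.exists_subgroup_card_pow_prime_le p (m := k)
      (hu ▸ pow_dvd_pow p (by omega)) (C.subgroupOf P) hCc (by omega)
    obtain ⟨Y, hY, hEY⟩ := Sylow.exists_subgroup_card_pow_prime_le p (m := k + 1)
      (hu ▸ pow_dvd_pow p (by omega)) E hE (by omega)
    set E₁ := E.map P.subtype
    set Y₁ := Y.map P.subtype
    have hE₁P : E₁ ≤ P := Subgroup.map_subtype_le _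
    have hY₁P : Y₁ ≤ P := Subgroup.map_subtype_le _
    have hE₁c : Nat.card E₁ = d := by
      rw [Subgroup.card_map_of_injective P.subtype_injective, hE, hk]
    have hY₁c : Nat.card Y₁ = p ^ (k + 1) := by
      rw [Subgroup.card_map_of_injective P.subtype_injective, hY]
    have hEY₁ : E₁ ≤ Y₁ := Subgroup.map_mono hEY
    haveI hE₁n : E₁.Normal := hn _ hE₁P (Or.inl hE₁c)
    have hxE : (x : G) ∈ E₁ := ⟨x, hCE (Subgroup.mem_subgroupOf.2 hxC), rfl⟩
    by_cases hcy : IsCyclic Y₁
    · haveI : IsCyclic E₁ := isCyclic_of_injective (Subgroup.inclusion hEY₁)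
        (Subgroup.inclusion_injective hEY₁)
      exact fix_normal_cyclic (hP.to_le hE₁P) hg hgp hxE
    obtain ⟨y, hyY, hyE⟩ : ∃ y ∈ Y₁, y ∉ E₁ := by
      refine SetLike.not_le_iff_exists.1 fun hle => ?_
      have := Subgroup.card_le_of_le hle
      rw [hY₁c, hE₁c, hk, pow_succ] at this
      have := hp.out.one_lt
      have := pow_pos hp.out.pos k
      nlinarith
    have hyc : Subgroup.zpowers y ≤ Y₁ := (Subgroup.zpowers_le).2 hyY
    have hY₁p : IsPGroup p Y₁ := hP.to_le hY₁P
    obtain ⟨j, hj⟩ := IsPGroup.iff_card.1 (hY₁p.to_le hyc)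
    have hjk : j ≤ k := by
      have h5 : j ≤ k + 1 := (Nat.pow_dvd_pow_iff_le_right hp.out.one_lt).1
        (hj ▸ hY₁c ▸ Subgroup.card_dvd_of_le hyc)
      by_contra hcon
      refine hcy ?_
      have : Subgroup.zpowers y = Y₁ := Subgroup.eq_of_le_of_card_ge hyc
        (by rw [hY₁c, hj]; exact Nat.pow_le_pow_right hp.out.pos (by omega))
      exact this ▸ inferInstance
    have hyc' : Nat.card ((Subgroup.zpowers y).subgroupOf Y₁) = p ^ j :=
      (Nat.card_congr (Subgroup.subgroupOfEquivOfLe hyc).toEquiv).trans hj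
    obtain ⟨E', hE', hyE'⟩ := Sylow.exists_subgroup_card_pow_prime_le p (m := k)
      (hY₁c ▸ pow_dvd_pow p (by omega)) ((Subgroup.zpowers y).subgroupOf Y₁) hyc' hjk
    set E₂ := E'.map Y₁.subtype
    have hE₂Y : E₂ ≤ Y₁ := Subgroup.map_subtype_le _
    have hyE₂ : y ∈ E₂ := ⟨⟨y, hyY⟩, hyE' (Subgroup.mem_subgroupOf.2 (Subgroup.mem_zpowers y)), rfl⟩
    have hE₂c : Nat.card E₂ = d := by
      rw [Subgroup.card_map_of_injective Y₁.subtype_injective, hE', hk]
    haveI hE₂n : E₂.Normal := hn _ (hE₂Y.trans hY₁P) (Or.inl hE₂c)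
    have hsup : E₁ ⊔ E₂ = Y₁ := by
      have hle : E₁ ⊔ E₂ ≤ Y₁ := sup_le hEY₁ hE₂Y
      refine Subgroup.eq_of_le_of_card_ge hle ?_
      obtain ⟨m, hm⟩ := IsPGroup.iff_card.1 (hY₁p.to_le hle)
      rw [hY₁c, hm]
      refine Nat.pow_le_pow_right hp.out.pos ?_
      by_contra hcon
      have h7 : E₁ = E₁ ⊔ E₂ := Subgroup.eq_of_le_of_card_ge le_sup_left
        (by rw [hm, hE₁c, hk]; exact Nat.pow_le_pow_right hp.out.pos (by omega))
      exact hyE (h7 ▸ Subgroup.mem_sup_right hyE₂)
    haveI hY₁n : Y₁.Normal := hsup ▸ Subgroup.sup_normal E₁ E₂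
    have hgY : g ∈ Subgroup.normalizer (Y₁ : Set G) := by
      rw [Subgroup.normalizer_eq_top]; exact Subgroup.mem_top g
    have hcen := Cfsg.Agent.Solv.centralizes_of_frattini Y₁ hY₁p g hgY hgp (fun z hz => by
      have h8 : z * g * z⁻¹ * g⁻¹ ∈ Y₁ := by
        rw [show z * g * z⁻¹ * g⁻¹ = z * (g * z⁻¹ * g⁻¹) by group]
        exact mul_mem hz (hY₁n.conj_mem _ (inv_mem hz) g)
      refine ⟨⟨_, h8⟩, ?_, rfl⟩
      simp only [frattini, Order.radical, SetLike.mem_coe, Subgroup.mem_iInf]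
      intro M hM
      haveI := Cfsg.Agent.Solv.coatom_normal hY₁p hM
      have hMi := Cfsg.Agent.Solv.coatom_index hY₁p hM
      have hMc : Nat.card (M.map Y₁.subtype) = d := by
        have h9 := M.card_mul_index
        rw [hMi, hY₁c, pow_succ] at h9
        rw [Subgroup.card_map_of_injective Y₁.subtype_injective, hk]
        exact Nat.eq_of_mul_eq_mul_right hp.out.pos h9
      haveI := hn _ ((Subgroup.map_subtype_le M).trans hY₁P) (Or.inl hMc)
      have hsub : (M.map Y₁.subtype).subgroupOf Y₁ = M := by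
        rw [Subgroup.subgroupOf, Subgroup.comap_map_eq_self_of_injective Y₁.subtype_injective]
      have h10 : z⁻¹⁻¹ * (g * z⁻¹ * g⁻¹) ∈ M.map Y₁.subtype :=
        fix_normal_quot (Y := Y₁) (K := M.map Y₁.subtype) (Subgroup.map_subtype_le M)
          (by rw [Subgroup.relIndex, hsub, hMi]) hg hgp (inv_mem hz)
      rw [inv_inv, ← mul_assoc, ← mul_assoc] at h10
      obtain ⟨w, hw, hwe⟩ := h10
      rwa [show (⟨_, h8⟩ : Y₁) = w from Subtype.ext hwe.symm])
    exact mem_centralizer_set.1 hcen _ (hEY₁ hxE)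
  rw [mem_centralizer_set]
  intro a ha
  have := hα ⟨a, ha⟩
  rw [key] at this
  exact this.symm

/-- A supersolvably embedded p-subgroup. -/
theorem isSupersolvable_of_centralizes : ∀ (n : ℕ) (G : Type u) [Group G] [Finite G],
    Nat.card G = n → ∀ (P : Subgroup G) [P.Normal], IsPGroup p P →
    (∀ g ∈ predGen p G, (orderOf g).Coprime p → g ∈ Subgroup.centralizer (P : Set G)) →
    Cfsg.IsSupersolvable (G ⧸ P) → Cfsg.IsSupersolvable G := by
  intro n
  induction n using Nat.strong_induction_on with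
  | _ n ih =>
    intro G _ _ hn P _ hP hc hq
    by_cases hPb : P = ⊥
    · subst hPb
      exact isSupersolvable_of_surjective hq QuotientGroup.quotientBot.toMonoidHom
        QuotientGroup.quotientBot.surjective
    obtain ⟨N, hN, hNP⟩ := exists_isMinNormal_le inferInstance hPb
    haveI := hN.1
    have hNp : IsPGroup p N := hP.to_le hNP
    haveI : Group.IsNilpotent N := hNp.isNilpotent
    have hNab := hN.isMulCommutative inferInstance
    obtain ⟨q, hq', hexp, hNq, j, hj0, hj⟩ := hN.exists_prime hNab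
    obtain ⟨i, hi⟩ := IsPGroup.iff_card.1 hNp
    obtain rfl : q = p := (Nat.prime_dvd_prime_iff_eq hq' hp.out).1
      (hq'.dvd_of_dvd_pow (hi ▸ hj ▸ dvd_pow_self q hj0.ne'))
    set θ : G →* MulAut N := MulAut.conjNormal
    have hfix : ∀ a ∈ predGen q G, θ a = 1 := by
      have hA : ∀ a ∈ predGen q G, ∃ m : ℕ, θ a ^ q ^ m = 1 := fun a ha => by
        refine ⟨(orderOf a).factorization q, ?_⟩
        set b := a ^ q ^ (orderOf a).factorization q
        have hb : (orderOf b).Coprime q := by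
          rw [Nat.coprime_comm, hp.out.coprime_iff_not_dvd,
            orderOf_pow_of_dvd (pow_ne_zero _ hp.out.ne_zero) (Nat.ordProj_dvd _ _)]
          exact Nat.not_dvd_ordCompl hp.out (orderOf_pos _).ne'
        have h1 := hc b (pow_mem ha _) hb
        rw [← map_pow]
        refine MulEquiv.ext fun x => Subtype.ext ?_
        show b * (x : G) * b⁻¹ = x
        rw [Subgroup.mem_centralizer_iff] at h1
        rw [mul_inv_eq_iff_eq_mul]
        exact (h1 x (hNP x.2)).symm
      set I := (predGen q G).map θ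
      have hI : IsPGroup q I := by
        rintro ⟨_, a, ha, rfl⟩
        obtain ⟨m, hm⟩ := hA a ha
        exact ⟨m, Subtype.ext (by simpa using hm)⟩
      letI : MulAction I ↥N := MulAction.compHom ↥N I.subtype
      obtain ⟨z, hz, hz1⟩ := hI.exists_fixed_point_of_prime_dvd_card_of_fixed_point ↥N
        (hj ▸ dvd_pow_self q hj0.ne') (a := (1 : N)) (fun f => map_one (f : MulAut N))
      let F : Subgroup G :=
        { carrier := {x | x ∈ N ∧ ∀ a ∈ predGen q G, a * x * a⁻¹ = x}
          one_mem' := ⟨one_mem _, fun a _ => by simp⟩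
          mul_mem' := fun {x y} hx hy => ⟨mul_mem hx.1 hy.1, fun a ha => by
            calc a * (x * y) * a⁻¹ = a * x * a⁻¹ * (a * y * a⁻¹) := by group
              _ = x * y := by rw [hx.2 a ha, hy.2 a ha]⟩
          inv_mem' := fun {x} hx => ⟨inv_mem hx.1, fun a ha => by
            calc a * x⁻¹ * a⁻¹ = (a * x * a⁻¹)⁻¹ := by group
              _ = x⁻¹ := by rw [hx.2 a ha]⟩ }
      have hFn : F.Normal := ⟨fun x hx g => ⟨hN.1.conj_mem x hx.1 g, fun a ha => by
        have ha' : g⁻¹ * a * g ∈ predGen q G := by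
          simpa using (predGen_normal q).conj_mem a ha g⁻¹
        calc a * (g * x * g⁻¹) * a⁻¹ = g * ((g⁻¹ * a * g) * x * (g⁻¹ * a * g)⁻¹) * g⁻¹ := by group
          _ = g * x * g⁻¹ := by rw [hx.2 _ ha']⟩⟩
      have hFN : F = N := (hN.2.2 F hFn fun x hx => hx.1).resolve_left fun h => hz1 (by
        have hzF : (z : G) ∈ F := ⟨z.2, fun a ha =>
          congrArg Subtype.val (hz ⟨θ a, Subgroup.mem_map_of_mem θ ha⟩)⟩
        rw [h, Subgroup.mem_bot] at hzF
        exact (Subtype.ext hzF.symm))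
      intro a ha
      refine MulEquiv.ext fun x => Subtype.ext ?_
      exact ((hFN.symm ▸ x.2 : (x : G) ∈ F).2 a ha)
    have hscal : ∀ g : G, ∃ m : ℕ, ∀ x : N, θ g x = x ^ m := by
      intro g
      haveI := hNab
      haveI : Nontrivial N := (Subgroup.nontrivial_iff_ne_bot N).2 hN.2.1
      have hpred : ∀ x : N, (θ g).toMonoidHom^[q - 1] x = x := fun x => by
        have h1 : θ (g ^ (q - 1)) = 1 := hfix _ (Subgroup.subset_closure (Or.inr ⟨g, rfl⟩))
        rw [map_pow] at h1
        have hit : ∀ m : ℕ, (θ g).toMonoidHom^[m] x = ((θ g) ^ m) x := by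
          intro m
          induction m with
          | zero => rfl
          | succ m ihm => rw [Function.iterate_succ_apply', ihm, pow_succ', MulAut.mul_apply]; rfl
        rw [hit, h1]; rfl
      obtain ⟨v, m, hv1, hv⟩ := exists_pow_eigenvector
        (fun x : N => Subtype.ext (by simpa using hexp x x.2)) (θ g).toMonoidHom hpred
      refine ⟨m, fun x => ?_⟩
      let K : Subgroup G :=
        { carrier := {y | ∃ hy : y ∈ N, θ g ⟨y, hy⟩ = (⟨y, hy⟩ : N) ^ m}
          one_mem' := ⟨one_mem _, by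
            rw [show (⟨1, one_mem N⟩ : N) = 1 from rfl, map_one, one_pow]⟩
          mul_mem' := fun {a b} ⟨ha, ha'⟩ ⟨hb, hb'⟩ => ⟨mul_mem ha hb, by
            rw [show (⟨a * b, mul_mem ha hb⟩ : N) = ⟨a, ha⟩ * ⟨b, hb⟩ from rfl, map_mul, ha', hb',
              mul_pow]⟩
          inv_mem' := fun {a} ⟨ha, ha'⟩ => ⟨inv_mem ha, by
            rw [show (⟨a⁻¹, inv_mem ha⟩ : N) = ⟨a, ha⟩⁻¹ from rfl, map_inv, ha', inv_pow]⟩ }
      have hKn : K.Normal := ⟨fun y ⟨hy, hy'⟩ h => ⟨hN.1.conj_mem y hy h, by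
        have hcomm : θ g * θ h = θ h * θ g := by
          have h1 : θ ⁅g, h⁆ = 1 := hfix _ (Subgroup.subset_closure (Or.inl ⟨g, h, rfl⟩))
          rwa [map_commutatorElement, commutatorElement_eq_one_iff_mul_comm] at h1
        have e : (⟨h * y * h⁻¹, hN.1.conj_mem y hy h⟩ : N) = θ h ⟨y, hy⟩ := rfl
        rw [e, ← MulAut.mul_apply, hcomm, MulAut.mul_apply, hy', map_pow]⟩⟩
      have hKN : K = N := (hN.2.2 K hKn fun y ⟨hy, _⟩ => hy).resolve_left fun h => hv1 (by
        have hvK : (v : G) ∈ K := ⟨v.2, hv⟩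
        rw [h, Subgroup.mem_bot] at hvK
        exact Subtype.ext hvK)
      obtain ⟨_, hx'⟩ := (hKN.symm ▸ x.2 : (x : G) ∈ K)
      exact hx'
    haveI : IsCyclic N := by
      obtain ⟨x, hx, hx1⟩ := (Subgroup.bot_or_exists_ne_one N).resolve_left hN.2.1
      have hzn : (Subgroup.zpowers x).Normal := ⟨fun y hy g => by
        obtain ⟨i, rfl⟩ := hy
        obtain ⟨m, hm⟩ := hscal g
        have e : g * x * g⁻¹ = x ^ m := by
          simpa [θ] using congrArg Subtype.val (hm ⟨x, hx⟩)
        show g * x ^ i * g⁻¹ ∈ Subgroup.zpowers x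
        rw [← conj_zpow, e]
        exact zpow_mem (pow_mem (Subgroup.mem_zpowers x) m) i⟩
      have heq : Subgroup.zpowers x = N := (hN.2.2 _ hzn ((Subgroup.zpowers_le).2 hx)).resolve_left
        fun h => hx1 (Subgroup.zpowers_eq_bot.1 h)
      exact heq ▸ inferInstance
    refine isSupersolvable_of_cyclic_normal N ?_
    have hlt : Nat.card (G ⧸ N) < n := hn ▸ card_quotient_lt hN.2.1
    set π := QuotientGroup.mk' N
    haveI : (P.map π).Normal := Subgroup.Normal.map inferInstance π (QuotientGroup.mk'_surjective N)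
    refine ih _ hlt (G ⧸ N) rfl (P.map π) (hP.map π) (fun g hg hgp => ?_) ?_
    · obtain ⟨a, ha, rfl⟩ := predGen_map_le π (QuotientGroup.mk'_surjective N) hg
      set e := q ^ (orderOf a).factorization q
      have hb : (orderOf (a ^ e)).Coprime q := by
        rw [Nat.coprime_comm, hp.out.coprime_iff_not_dvd,
          orderOf_pow_of_dvd (pow_ne_zero _ hp.out.ne_zero) (Nat.ordProj_dvd _ _)]
        exact Nat.not_dvd_ordCompl hp.out (orderOf_pos _).ne'
      have h1 := hc _ (pow_mem ha e) hb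
      have h2 : π (a ^ e) ∈ Subgroup.centralizer ((P.map π : Subgroup (G ⧸ N)) : Set (G ⧸ N)) := by
        rw [Subgroup.mem_centralizer_iff]
        rintro _ ⟨y, hy, rfl⟩
        rw [← map_mul, ← map_mul, Subgroup.mem_centralizer_iff.1 h1 y hy]
      rw [map_pow] at h2
      obtain ⟨b, hb'⟩ := exists_pow_eq_self_of_coprime (n := e) (x := π a) (hgp.pow_right _).symm
      rw [← hb']
      exact pow_mem h2 b
    · exact isSupersolvable_of_surjective hq
        (QuotientGroup.quotientQuotientEquivQuotient N P hNP).symm.toMonoidHom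
        (QuotientGroup.quotientQuotientEquivQuotient N P hNP).symm.surjective

end Cfsg.Agent.Lead.ClosedOrderD
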