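import Cfsg.Agent.Lib.Lead.ClosedOrderDEmbedded
import Cfsg.Agent.Lib.Fusion.Reduction

/-!
# Supersolvability from strongly closed subgroups of one order
-/

set_option autoImplicit false

namespace Cfsg.Agent.Lead.ClosedOrderD

open Cfsg.Agent.Fusion Cfsg.Agent.Perm

universe u

/-- Every noncyclic Sylow subgroup of `E` has an order `d` all of whose subgroups are strongly closed
in it with respect to `G`. -/
def GoodIn {G : Type u} [Group G] (E : Subgroup G) : Prop :=
  ∀ p : ℕ, p.Prime → ∀ P : Subgroup G, SylIn p P E → ¬ IsCyclic P →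
    ∃ d, (∃ k, d = p ^ k) ∧ 1 < d ∧ d < Nat.card P ∧ AllClosed P d

/-- A good group has a normal Sylow subgroup for the largest prime. -/
theorem sylow_normal_of_good : ∀ (n : ℕ) (H : Type u) [Group H] [Finite H], Nat.card H = n →
    GoodIn (⊤ : Subgroup H) → ∀ p : ℕ, p.Prime → (∀ q : ℕ, q.Prime → q ∣ Nat.card H → q ≤ p) →
    p ∣ Nat.card H → ∀ P : Sylow p H, (P : Subgroup H).Normal := by
  intro n
  induction n using Nat.strong_induction_on with
  | _ n ih =>
    intro H _ _ hn hgood p hp hmax hpd P
    haveI := Fact.mk hp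
    obtain ⟨r, hr, hrd, hrmin⟩ : ∃ r : ℕ, r.Prime ∧ r ∣ Nat.card H ∧
        ∀ q : ℕ, q.Prime → q ∣ Nat.card H → r ≤ q := by
      have h1 : Nat.card H ≠ 1 := fun h => hp.ne_one (Nat.dvd_one.1 (h ▸ hpd))
      exact ⟨_, Nat.minFac_prime h1, Nat.minFac_dvd _,
        fun q hq hqd => Nat.minFac_le_of_dvd hq.two_le hqd⟩
    haveI := Fact.mk hr
    by_cases hpr : r = p
    · subst hpr
      have hH : IsPGroup r H := by
        rw [IsPGroup.iff_card]
        refine ⟨(Nat.card H).primeFactorsList.length, ?_⟩
        exact Nat.eq_prime_pow_of_unique_prime_dvd Nat.card_pos.ne' fun {d} hd hdd =>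
          le_antisymm (hmax d hd hdd) (hrmin d hd hdd)
      have htop : (P : Subgroup H) = ⊤ :=
        ((sylIn_top P).eq_of_le (Q := ⊤) (hH.to_subgroup ⊤) le_top le_rfl).symm
      rw [htop]; infer_instance
    have hq : (Nat.card H).Coprime (r - 1) := Nat.coprime_of_dvd fun q hq h1 h2 => by
      have := hrmin q hq h1
      have h3 := hr.one_lt
      have := Nat.le_of_dvd (by omega) h2
      omega
    obtain ⟨R⟩ : Nonempty (Sylow r H) := inferInstance
    have hnpc : Cfsg.HasNormalPComplement r H := by
      by_cases hcy : IsCyclic (R : Subgroup H)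
      · exact hnpc_cyclic (sylIn_top R) hq
      · obtain ⟨d, hd, hd1, hd2, hcl⟩ := hgood r hr R (sylIn_top R) hcy
        exact hnpc (sylIn_top R) hq R rfl hd hd1 hd2 hcl
    set N := Cfsg.pResidual r H
    have hNc := hnpc_iff.1 hnpc
    have hNr : ¬ r ∣ Nat.card N := coprime_card_iff_not_dvd.1 hNc
    have hcompl := isComplement'_of_coprime_card R hNc
    have hlt : Nat.card N < n := by
      rcases Nat.lt_or_ge (Nat.card N) n with h | h
      · exact h
      · have := Subgroup.eq_top_of_le_card N (hn ▸ h)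
        rw [show Nat.card N = Nat.card H by rw [this, Subgroup.card_top]] at hNr
        exact absurd hrd hNr
    have hpN : (P : Subgroup H) ≤ N := fun x hx => by
      obtain ⟨k, hk⟩ := IsPGroup.iff_orderOf.1 P.isPGroup' ⟨x, hx⟩
      rw [Subgroup.orderOf_mk] at hk
      exact Subgroup.subset_closure (show (orderOf x).Coprime r by
        rw [hk]; exact Nat.Coprime.pow_left k ((Nat.coprime_primes hp hr).2 (Ne.symm hpr)))
    have hgoodN : GoodIn (⊤ : Subgroup N) := by
      intro q hq' Q hQ hcy
      haveI := Fact.mk hq'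
      by_cases hqr : q = r
      · subst hqr
        exfalso
        refine hcy ?_
        have h1 : Nat.card Q = 1 := by
          obtain ⟨k, hk⟩ := IsPGroup.iff_card.1 hQ.isPGroup
          rcases k with _ | k
          · simpa using hk
          · exact absurd ((dvd_pow_self q (Nat.succ_ne_zero k)).trans
              (hk ▸ Subgroup.card_subgroup_dvd_card Q)) hNr
        haveI := (Nat.card_eq_one_iff_unique.1 h1).1
        exact isCyclic_of_subsingleton
      have hQH : SylIn q (Q.map N.subtype) ⊤ := by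
        refine ⟨le_top, hQ.isPGroup.map _, ?_⟩
        rw [Subgroup.relIndex_top_right, Subgroup.index_map_subtype]
        intro hd
        rcases hq'.dvd_mul.1 hd with h | h
        · exact hQ.not_dvd (by rwa [Subgroup.relIndex_top_right])
        · rw [hcompl.symm.index_eq_card] at h
          obtain ⟨k, hk⟩ := IsPGroup.iff_card.1 R.isPGroup'
          rw [hk] at h
          exact hqr ((Nat.prime_dvd_prime_iff_eq hq' hr).1 (hq'.dvd_of_dvd_pow h))
      have hcy' : ¬ IsCyclic (Q.map N.subtype) := fun h => hcy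
        ((Q.equivMapOfInjective N.subtype N.subtype_injective).isCyclic.2 h)
      obtain ⟨d, hd, hd1, hd2, hcl⟩ := hgood q hq' _ hQH hcy'
      refine ⟨d, hd, hd1, by rwa [Subgroup.card_map_of_injective N.subtype_injective] at hd2, ?_⟩
      intro F hF hFc x hx g hgx
      have := hcl (F.map N.subtype) (Subgroup.map_mono hF)
        (by rwa [Subgroup.card_map_of_injective N.subtype_injective]) (x : H) ⟨x, hx, rfl⟩ (g : H)
        ⟨_, hgx, rfl⟩
      obtain ⟨w, hw, hwe⟩ := this
      have e : g * x * g⁻¹ = w := Subtype.ext hwe.symm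
      exact e ▸ hw
    set P' : Sylow p N := P.subtype hpN
    have hpN' : p ∣ Nat.card N := by
      have h1 : p ∣ Nat.card (P : Subgroup H) := P.dvd_card_of_dvd_card hpd
      exact h1.trans (Subgroup.card_dvd_of_le hpN)
    haveI := ih _ hlt N rfl hgoodN p hp
      (fun q hq' hqd => hmax q hq' (hqd.trans (Subgroup.card_subgroup_dvd_card N))) hpN' P'
    haveI : (P' : Subgroup N).Characteristic := P'.characteristic_of_normal inferInstance
    have h2 : ((P' : Subgroup N).map N.subtype).Normal := ConjAct.normal_of_characteristic_of_normal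
    rwa [show (P' : Subgroup N).map N.subtype = (P : Subgroup H) from
      Subgroup.map_subgroupOf_eq_of_le hpN] at h2

/-- The supersolvability criterion. -/
theorem isSupersolvable_of_goodIn : ∀ (n : ℕ) (G : Type u) [Group G] [Finite G] (E : Subgroup G)
    [E.Normal], Nat.card E = n → GoodIn E → Cfsg.IsSupersolvable (G ⧸ E) →
    Cfsg.IsSupersolvable G := by
  intro n
  induction n using Nat.strong_induction_on with
  | _ n ih =>
    intro G _ _ E _ hn hgood hq
    by_cases hE : E = ⊥
    · subst hE
      exact isSupersolvable_of_surjective hq QuotientGroup.quotientBot.toMonoidHom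
        QuotientGroup.quotientBot.surjective
    haveI : Nontrivial E := (Subgroup.nontrivial_iff_ne_bot E).2 hE
    obtain ⟨p, hp, hpd, hmax⟩ := exists_max_prime (n := Nat.card E) Finite.one_lt_card
    haveI := Fact.mk hp
    obtain ⟨Pe⟩ : Nonempty (Sylow p E) := inferInstance
    have hgoodE : GoodIn (⊤ : Subgroup E) := by
      intro q hq' Q hQ hcy
      haveI := Fact.mk hq'
      obtain ⟨S, hS⟩ := hQ.exists_sylow
      have hQG : SylIn q (Q.map E.subtype) E := hS ▸ sylIn_map E S
      obtain ⟨d, hd, hd1, hd2, hcl⟩ := hgood q hq' _ hQG fun h => hcy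
        ((Q.equivMapOfInjective E.subtype E.subtype_injective).isCyclic.2 h)
      refine ⟨d, hd, hd1, by rwa [Subgroup.card_map_of_injective E.subtype_injective] at hd2, ?_⟩
      intro F hF hFc x hx g hgx
      obtain ⟨w, hw, hwe⟩ := hcl (F.map E.subtype) (Subgroup.map_mono hF)
        (by rwa [Subgroup.card_map_of_injective E.subtype_injective]) (x : G) ⟨x, hx, rfl⟩ (g : G)
        ⟨_, hgx, rfl⟩
      have e : g * x * g⁻¹ = w := Subtype.ext hwe.symm
      exact e ▸ hw
    haveI := sylow_normal_of_good _ E rfl hgoodE p hp hmax hpd Pe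
    haveI : (Pe : Subgroup E).Characteristic := Pe.characteristic_of_normal inferInstance
    set P := (Pe : Subgroup E).map E.subtype with hPdef
    haveI hPn : P.Normal := ConjAct.normal_of_characteristic_of_normal
    have hPp : IsPGroup p P := Pe.isPGroup'.map _
    have hPE : P ≤ E := Subgroup.map_subtype_le _
    have hPS : SylIn p P E := sylIn_map E Pe
    have hP1 : P ≠ ⊥ := fun h => by
      rw [hPdef, Subgroup.map_eq_bot_iff_of_injective _ E.subtype_injective] at h
      have := Pe.ne_bot_of_dvd_card hpd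
      exact this h
    set π := QuotientGroup.mk' P
    haveI hEn : (E.map π).Normal := Subgroup.Normal.map inferInstance π (QuotientGroup.mk'_surjective P)
    have hlt : Nat.card (E.map π) < n := by
      have h1 := Subgroup.relIndex_ker (f := π) (K := E)
      rw [QuotientGroup.ker_mk'] at h1
      have h2 := Subgroup.relIndex_mul_relIndex ⊥ P E bot_le hPE
      rw [Subgroup.relIndex_bot_left, Subgroup.relIndex_bot_left, h1] at h2
      have h3 : 1 < Nat.card P := by
        haveI : Nontrivial P := (Subgroup.nontrivial_iff_ne_bot P).2 hP1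
        exact Finite.one_lt_card
      have h4 : 0 < Nat.card (E.map π) := Nat.card_pos
      have h5 := Nat.mul_le_mul_right (Nat.card (E.map π)) (show 2 ≤ Nat.card P from h3)
      omega
    have hgoodQ : GoodIn (E.map π) := by
      intro q hq' Q hQ hcy
      haveI := Fact.mk hq'
      obtain ⟨R₀, hR₀⟩ := exists_sylIn (p := q) E
      have hR₀π : SylIn q (R₀.map π) (E.map π) :=
        ⟨Subgroup.map_mono hR₀.le, hR₀.isPGroup.map _, fun hd => hR₀.not_dvd (hd.trans (by
          have h6 := Subgroup.index_map_dvd (R₀.subgroupOf E) (π.subgroupMap_surjective E)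
          have h7 : (R₀.subgroupOf E).map (π.subgroupMap E) = (R₀.map π).subgroupOf (E.map π) := by
            ext ⟨y, hy⟩
            constructor
            · rintro ⟨⟨x, hxE⟩, hx, he⟩
              exact ⟨x, hx, congrArg Subtype.val he⟩
            · rintro ⟨x, hx, he⟩
              exact ⟨⟨x, hR₀.le hx⟩, hx, Subtype.ext he⟩
          rw [h7] at h6
          exact h6))⟩
      obtain ⟨ē, hē, he⟩ := hR₀π.conj_eq hQ
      obtain ⟨e, heE, rfl⟩ := hē
      set R := cj R₀ e with hRdef
      have hR : SylIn q R E := hR₀.cj' (Subgroup.le_normalizer heE)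
      have hRQ : R.map π = Q := by
        rw [hRdef, cj, ← he, cj, Subgroup.map_map, Subgroup.map_map]
        congr 1
      by_cases hqp : q = p
      · subst hqp
        exfalso
        refine hcy ?_
        obtain ⟨x, hx, hxR⟩ := hPS.conj_eq hR
        have : R = P := hxR ▸ cj_of_normal P x
        have h1 : Q = ⊥ := by
          rw [← hRQ, this, Subgroup.map_eq_bot_iff, QuotientGroup.ker_mk']
        rw [h1]
        exact isCyclic_of_subsingleton
      have hinj : ∀ x ∈ R, π x = 1 → x = 1 := fun x hx h1 => by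
        have hxP : x ∈ P := (QuotientGroup.eq_one_iff x).1 h1
        obtain ⟨i, hi⟩ := IsPGroup.iff_orderOf.1 hR.isPGroup ⟨x, hx⟩
        obtain ⟨j, hj⟩ := IsPGroup.iff_orderOf.1 hPp ⟨x, hxP⟩
        rw [Subgroup.orderOf_mk] at hi hj
        refine orderOf_eq_one_iff.1 (Nat.eq_one_of_dvd_coprimes (a := q ^ i) (b := p ^ j)
          (((Nat.coprime_primes hq' hp).2 hqp).pow i j) (hi ▸ dvd_rfl) (hj ▸ dvd_rfl))
      let eR : R ≃* Q := MulEquiv.ofBijective
        ((π.comp R.subtype).codRestrict Q fun x => hRQ ▸ Subgroup.mem_map_of_mem π x.2) ⟨by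
          rw [injective_iff_map_eq_one]
          intro x hx
          exact Subtype.ext (hinj x x.2 (congrArg Subtype.val hx)), fun y => by
          obtain ⟨x, hx, hxy⟩ := (hRQ.symm ▸ y.2 : (y : G ⧸ P) ∈ R.map π)
          exact ⟨⟨x, hx⟩, Subtype.ext hxy⟩⟩
      obtain ⟨d, hd, hd1, hd2, hcl⟩ := hgood q hq' R hR fun h => hcy (eR.isCyclic.1 h)
      refine ⟨d, hd, hd1, by rwa [← Nat.card_congr eR.toEquiv], ?_⟩
      intro F hF hFc x hx g hgx
      set F₀ := R ⊓ F.comap π with hF₀
      have hF₀F : F₀.map π = F := by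
        refine le_antisymm ((Subgroup.map_mono inf_le_right).trans (Subgroup.map_comap_le _ _)) ?_
        intro y hy
        obtain ⟨z, hz, rfl⟩ := (hRQ.symm ▸ hF hy : y ∈ R.map π)
        exact ⟨z, ⟨hz, hy⟩, rfl⟩
      have hF₀c : Nat.card F₀ = Nat.card F := by
        rw [← hF₀F]
        refine (Nat.card_congr (Equiv.ofBijective
          (fun z : F₀ => (⟨π z, Subgroup.mem_map_of_mem π z.2⟩ : F₀.map π)) ⟨?_, ?_⟩))
        · intro z z' hzz
          have h1 : π ((z : G)⁻¹ * z') = 1 := by
            have h0 : π (z : G) = π (z' : G) := congrArg Subtype.val hzz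
            rw [map_mul, map_inv, h0, inv_mul_cancel]
          exact Subtype.ext (inv_mul_eq_one.1 (hinj _ (mul_mem (inv_mem z.2.1) z'.2.1) h1))
        · rintro ⟨_, z, hz, rfl⟩
          exact ⟨⟨z, hz⟩, rfl⟩
      obtain ⟨x₀, hx₀, rfl⟩ := (hF₀F.symm ▸ hx : x ∈ F₀.map π)
      obtain ⟨g₀, rfl⟩ := QuotientGroup.mk'_surjective P g
      obtain ⟨y, hy, hye⟩ := (hRQ.symm ▸ hgx : π g₀ * π x₀ * (π g₀)⁻¹ ∈ R.map π)
      have hyP : y⁻¹ * (g₀ * x₀ * g₀⁻¹) ∈ P := (QuotientGroup.eq_one_iff _).1 (by
        show π (y⁻¹ * (g₀ * x₀ * g₀⁻¹)) = 1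
        rw [map_mul, map_inv, map_mul, map_mul, map_inv, hye, inv_mul_cancel])
      set z := g₀ * x₀ * g₀⁻¹ with hz
      -- the `q`-element `z` of `R P` is conjugate under `P` into `R`
      have hzRP : Subgroup.zpowers z ≤ R ⊔ P := by
        rw [Subgroup.zpowers_le]
        have := mul_mem (Subgroup.mem_sup_left (T := P) hy) (Subgroup.mem_sup_right (S := R) hyP)
        simpa using this
      have hzq : IsPGroup q (Subgroup.zpowers z) := by
        refine (isPGroup_cj (hR.isPGroup.to_le (Subgroup.zpowers_le.2 hx₀.1)) g₀).to_le ?_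
        rw [Subgroup.zpowers_le, hz]
        exact conj_mem_cj (Subgroup.mem_zpowers x₀)
      have hRsyl : SylIn q R (R ⊔ P) := hR.mono le_sup_left (sup_le hR.le hPE)
      obtain ⟨w, hw, hwR⟩ := hRsyl.conj_le hzq hzRP
      rw [← SetLike.mem_coe, Subgroup.mul_normal] at hw
      obtain ⟨a, ha, k, hk, hak⟩ := hw
      subst hak
      have hkz : k * z * k⁻¹ ∈ R := by
        have h1 : (a * k) * z * (a * k)⁻¹ ∈ R :=
          hwR (conj_mem_cj (Subgroup.mem_zpowers z))
        have h2 := mul_mem (mul_mem (inv_mem (show a ∈ R from ha)) h1) (show a ∈ R from ha)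
        convert h2 using 1
        group
      have h3 := hcl F₀ inf_le_left (by rwa [hF₀c]) x₀ hx₀ (k * g₀) (by
        convert hkz using 1
        rw [hz]; group)
      have h4 : π (k * g₀ * x₀ * (k * g₀)⁻¹) ∈ F := hF₀F ▸ Subgroup.mem_map_of_mem π h3
      have hk1 : π k = 1 := (QuotientGroup.eq_one_iff k).2 hk
      rw [map_mul, map_mul, map_inv, map_mul, hk1, one_mul] at h4
      exact h4
    have hsq : Cfsg.IsSupersolvable (G ⧸ P) := by
      refine ih _ hlt (G ⧸ P) (E.map π) rfl hgoodQ ?_
      exact isSupersolvable_of_surjective hq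
        (QuotientGroup.quotientQuotientEquivQuotient P E hPE).symm.toMonoidHom
        (QuotientGroup.quotientQuotientEquivQuotient P E hPE).symm.surjective
    by_cases hcy : IsCyclic P
    · exact isSupersolvable_of_cyclic_normal P hsq
    obtain ⟨d, hd, hd1, hd2, hcl⟩ := hgood p hp P hPS hcy
    refine isSupersolvable_of_centralizes _ G rfl P hPp (fun g hg hgp => ?_) hsq
    refine centralizes_normal hPp hd hd1 hd2 (fun F hF hFc => ⟨fun x hx h => ?_⟩)
      (by rw [Subgroup.normalizer_eq_top]; exact Subgroup.mem_top g) hg hgp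
    exact hcl F hF hFc x hx h (hPn.conj_mem x (hF hx) h)

end Cfsg.Agent.Lead.ClosedOrderD
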