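import Cfsg.Agent.S3110
import Cfsg.Agent.S1221
import Cfsg.Agent.Lib.Perm.Fpf.QuatAut
import Cfsg.Agent.Lib.Solv.UniqueSub
import Cfsg.Agent.Lib.Solv.AbelianConj
import Cfsg.Agent.Lib.Fusion.PLayerBasics
import Cfsg.Agent.Lib.Fusion.PStableQuotient

/-!
# Cores of involution centralisers with a self-centralising normal subgroup of rank three

If the locals are constrained, the closure `W` of the cores over a Sylow subgroup is odd and its
normaliser contains every centraliser of an involution of that Sylow subgroup; so either `W = 1`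
or the normaliser is strongly embedded, and then `W ≤ O(G)`.
-/

set_option autoImplicit false
set_option linter.style.haveILetI false
set_option linter.unusedSectionVars false

open Cfsg Cfsg.Agent Cfsg.Agent.Fusion

namespace Cfsg.Agent.Scn3

universe u

variable {G : Type u} [Group G] [Finite G]

/-- A group with a normal 2-subgroup with solvable centraliser is 2-constrained. -/
theorem constrained_of_solvable_cent {X : Type u} [Group X] [Finite X] {T : Subgroup X} [T.Normal]
    (hT : IsPGroup 2 T) (hsol : Group.IsSolvable ↥(Subgroup.centralizer (T : Set X))) :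
    Cfsg.IsPConstrained 2 X := by
  haveI : Fact (Nat.Prime 2) := ⟨Nat.prime_two⟩
  rw [isPConstrained_iff_pLayer, pLayer_eq_bot_iff, Cfsg.layer, sSup_eq_bot]
  intro K hK
  exfalso
  set O := Cfsg.pPrimeCore 2 X with hOd
  let π := QuotientGroup.mk' O
  have hπ : Function.Surjective π := QuotientGroup.mk'_surjective O
  haveI : (T.map π).Normal := Subgroup.Normal.map inferInstance _ hπ
  have h0 := pPrimeCore_quotient_eq_bot (p := 2) (G := X)
  have hTp : T.map π ≤ Cfsg.pCore 2 (X ⧸ O) := le_pCore (hT.map π)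
  have hcomm : K ≤ Subgroup.centralizer (T.map π : Set (X ⧸ O)) := by
    refine le_trans ?_ (Subgroup.centralizer_le (fun x hx => hTp hx))
    rw [← Subgroup.commutator_eq_bot_iff_le_centralizer, eq_bot_iff, ← fitting_eq_pCore h0]
    exact le_trans (Subgroup.commutator_mono (Solv.component_le_layer hK) le_rfl)
      Solv.layer_commutator_fitting.le
  have hsub : K ≤ (Subgroup.centralizer (T : Set X)).map π := by
    intro k hk
    obtain ⟨x, rfl⟩ := hπ k
    refine ⟨x, Subgroup.mem_centralizer_iff.2 fun y hy => ?_, rfl⟩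
    have h1 : π y * π x = π x * π y := Subgroup.mem_centralizer_iff.1 (hcomm hk) (π y) ⟨y, hy, rfl⟩
    have h2 : x * y * x⁻¹ * y⁻¹ ∈ O := (QuotientGroup.eq_one_iff _).1 (by
      show π (x * y * x⁻¹ * y⁻¹) = 1
      rw [map_mul, map_mul, map_mul, map_inv, map_inv, ← h1, mul_inv_cancel_right, mul_inv_cancel])
    have h3 : x * y * x⁻¹ * y⁻¹ ∈ T :=
      T.mul_mem (‹T.Normal›.conj_mem y hy x) (T.inv_mem hy)
    have h4 : x * y * x⁻¹ * y⁻¹ ∈ O ⊓ T := ⟨h2, h3⟩
    rw [coprime_inf_pGroup (card_pPrimeCore_coprime 2 X) hT, Subgroup.mem_bot, mul_inv_eq_one,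
      mul_inv_eq_iff_eq_mul] at h4
    exact h4.symm
  haveI := Solv.qs_nontrivial hK.2
  haveI := hK.2.1
  haveI : Group.IsSolvable ↥(Subgroup.centralizer (T : Set X)) := hsol
  haveI : Group.IsSolvable ↥((Subgroup.centralizer (T : Set X)).map π) :=
    solvable_of_surjective (π.subgroupMap_surjective (Subgroup.centralizer (T : Set X)))
  exact Group.IsPerfect.not_isSolvable (G := K)
    (solvable_of_solvable_injective (Subgroup.inclusion_injective hsub))

theorem locCons_of_solvable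
    (h : ∀ t : G, orderOf t = 2 → Group.IsSolvable ↥(Subgroup.centralizer ({t} : Set G))) :
    Lie.CoreFun.LocCons G := by
  intro T hT hT1
  haveI : Fact (Nat.Prime 2) := ⟨Nat.prime_two⟩
  obtain ⟨k, hk⟩ := IsPGroup.iff_card.1 hT
  have hk0 : k ≠ 0 := fun e => hT1 (Subgroup.card_eq_one.1 (by rw [hk, e, pow_zero]))
  obtain ⟨t, ht⟩ := exists_prime_orderOf_dvd_card' (G := T) 2 (hk ▸ dvd_pow_self 2 hk0)
  have hN : (T : Subgroup G) ≤ Subgroup.normalizer (T : Set G) := Subgroup.le_normalizer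
  haveI : (T.subgroupOf (Subgroup.normalizer (T : Set G))).Normal :=
    ⟨fun x hx g => Subgroup.mem_subgroupOf.2 ((Subgroup.mem_normalizer_iff.1 g.2 _).1 hx)⟩
  refine constrained_of_solvable_cent (T := T.subgroupOf (Subgroup.normalizer (T : Set G)))
    (hT.comap_of_injective _ (Subgroup.subtype_injective _)) ?_
  haveI := h (t : G) (by rw [Subgroup.orderOf_coe]; exact ht)
  let f : ↥(Subgroup.centralizer ((T.subgroupOf (Subgroup.normalizer (T : Set G)) :
      Subgroup ↥(Subgroup.normalizer (T : Set G))) : Set ↥(Subgroup.normalizer (T : Set G)))) →*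
      ↥(Subgroup.centralizer ({(t : G)} : Set G)) :=
    { toFun := fun x => ⟨x.1.1, Subgroup.mem_centralizer_singleton_iff.2
        (congrArg Subtype.val (Subgroup.mem_centralizer_iff.1 x.2 ⟨t, hN t.2⟩ t.2)).symm⟩
      map_one' := rfl
      map_mul' := fun _ _ => rfl }
  exact solvable_of_solvable_injective (f := f)
    fun a b e => Subtype.ext (Subtype.ext (congrArg (fun w : ↥(Subgroup.centralizer ({(t : G)} : Set G)) => (w : G)) e))

/-- A constrained core-free group whose 2-core has rank one and which has 2-rank three is a 2-group. -/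
theorem rank_one_local {X : Type u} [Group X] [Finite X]
    (hc : Subgroup.centralizer (Cfsg.pCore 2 X : Set X) ≤ Cfsg.pCore 2 X)
    (h1 : Cfsg.PRankLE 2 1 ↥(Cfsg.pCore 2 X)) {E : Subgroup X} (hE : Cfsg.IsElementaryAbelian 2 E)
    (h8 : 8 ≤ Nat.card E) : IsPGroup 2 X := by
  classical
  haveI : Fact (Nat.Prime 2) := ⟨Nat.prime_two⟩
  set Q := Cfsg.pCore 2 X with hQ
  haveI : Q.Normal := Solv.pCore_normal 2
  have hQp : IsPGroup 2 Q := isPGroup_pCore 2 X
  have hpair : ∀ {x y : ↥Q}, x * x = 1 → y * y = 1 → x * y = y * x → x ≠ 1 → y ≠ 1 → x = y := by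
    intro x y hx hy hxy hx1 hy1
    by_contra hne
    have hB : Cfsg.IsElementaryAbelian 2 (Subgroup.zpowers x ⊔ Subgroup.zpowers y) :=
      Local.elemAb_sup (Local.elemAb_zpowers (by rw [sq, hx])) (Local.elemAb_zpowers (by rw [sq, hy])) (by
        intro u hu v hv
        obtain ⟨i, rfl⟩ := Subgroup.mem_zpowers_iff.1 hu
        obtain ⟨j, rfl⟩ := Subgroup.mem_zpowers_iff.1 hv
        exact ((show Commute x y from hxy).zpow_zpow i j).eq)
    have hcard := h1 _ hB.1 hB.2
    have hox : orderOf x = 2 := orderOf_eq_prime (by rw [sq, hx]) hx1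
    have heq := Subgroup.eq_of_le_of_card_ge (le_sup_left : Subgroup.zpowers x ≤
      Subgroup.zpowers x ⊔ Subgroup.zpowers y) (by rw [Nat.card_zpowers, hox]; simpa using hcard)
    have hyx : y ∈ Subgroup.zpowers x := heq ▸ Subgroup.mem_sup_right (Subgroup.mem_zpowers y)
    obtain ⟨i, hi⟩ := Subgroup.mem_zpowers_iff.1 hyx
    rw [← zpow_mod_orderOf, hox] at hi
    rcases Int.emod_two_eq_zero_or_one i with e | e
    · rw [Nat.cast_ofNat, e, zpow_zero] at hi; exact hy1 hi.symm
    · rw [Nat.cast_ofNat, e, zpow_one] at hi; exact hne hi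
  have hu : Solv.UniqueOrderP 2 Q := by
    intro x y hx hy hy1
    by_cases hx1 : x = 1
    · rw [hx1]; exact one_mem _
    haveI : Nontrivial ↥Q := ⟨⟨y, 1, hy1⟩⟩
    haveI := hQp.center_nontrivial
    obtain ⟨z, hz⟩ := exists_prime_orderOf_dvd_card' (G := Subgroup.center ↥Q) 2 (by
      obtain ⟨k, hk⟩ := IsPGroup.iff_card.1 (hQp.to_subgroup (Subgroup.center ↥Q))
      have : 1 < Nat.card (Subgroup.center ↥Q) := Finite.one_lt_card_iff_nontrivial.2 inferInstance
      exact hk ▸ dvd_pow_self 2 (by rintro rfl; rw [pow_zero] at hk; omega))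
    have hz2 : (z : ↥Q) * z = 1 := by
      have := pow_orderOf_eq_one z
      rw [hz, sq] at this
      exact congrArg Subtype.val this
    have hz1 : (z : ↥Q) ≠ 1 := fun e => by rw [show z = 1 from Subtype.ext e, orderOf_one] at hz; omega
    rw [sq] at hx hy
    rw [hpair hx hz2 (Subgroup.mem_center_iff.1 z.2 x) hx1 hz1,
      hpair hy hz2 (Subgroup.mem_center_iff.1 z.2 y) hy1 hz1]
    exact Subgroup.mem_zpowers _
  -- an element of odd order acting trivially on the core is trivial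
  have hodd : ∀ x : X, Odd (orderOf x) → MulAut.conjNormal (H := Q) x = 1 → x = 1 := by
    intro x hx hf
    have hxC : x ∈ Subgroup.centralizer (Q : Set X) := Subgroup.mem_centralizer_iff.2 fun q hq => by
      have := congrArg (fun f : MulAut ↥Q => ((f ⟨q, hq⟩ : ↥Q) : X)) hf
      simp only [MulAut.conjNormal_apply, MulAut.one_apply] at this
      exact (mul_inv_eq_iff_eq_mul.1 this).symm
    obtain ⟨j, hj⟩ := IsPGroup.iff_orderOf.1 hQp ⟨x, hc hxC⟩
    rw [Subgroup.orderOf_mk] at hj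
    rcases Nat.eq_zero_or_pos j with rfl | hj0
    · exact orderOf_eq_one_iff.1 (by simpa using hj)
    · exact absurd ((Nat.even_pow' hj0.ne').2 even_two) (Nat.not_even_iff_odd.2 (hj ▸ hx))
  have hall : (∀ (f : MulAut ↥Q) (n : ℕ), Odd n → f ^ n = 1 → f = 1) → IsPGroup 2 X := by
    intro hA x
    obtain ⟨n, m, hm, hnm⟩ := Nat.exists_eq_pow_mul_and_not_dvd (orderOf_pos x).ne' 2 (by norm_num)
    have hg : orderOf (x ^ 2 ^ n) = m := by
      rw [orderOf_pow_of_dvd (by positivity) (hnm ▸ dvd_mul_right _ _), hnm,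
        Nat.mul_div_cancel_left _ (by positivity)]
    have hm' : Odd (orderOf (x ^ 2 ^ n)) := hg ▸ Nat.odd_iff.2 (Nat.two_dvd_ne_zero.1 hm)
    exact ⟨n, hodd _ hm' (hA _ _ hm' (by rw [← map_pow, pow_orderOf_eq_one, map_one]))⟩
  rcases Solv.cyclic_or_quaternion hQp hu with hcyc | ⟨-, n, ⟨e⟩⟩
  · exact hall fun f k hk hf => Perm.Fpf.QuatAut.eq_one_of_odd_cyclic hQp hk hf
  have hconj : ∀ (f : MulAut ↥Q), MulAut.congr e f = 1 → f = 1 := fun f hf =>
    (MulAut.congr e).injective (hf.trans (map_one _).symm)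
  rcases n with _ | _ | n
  · haveI : IsCyclic (QuaternionGroup (2 ^ 0)) := QuaternionGroup.quaternionGroup_one_isCyclic
    haveI : IsCyclic ↥Q := e.isCyclic.2 inferInstance
    exact hall fun f k hk hf => Perm.Fpf.QuatAut.eq_one_of_odd_cyclic hQp hk hf
  · -- the quaternion group of order eight is too small
    exfalso
    obtain ⟨φ, hφ⟩ := Perm.Fpf.QuatAut.aut_perm
    let ψ : X →* Equiv.Perm (Fin 4) := φ.comp ((MulAut.congr e).toMonoidHom.comp (MulAut.conjNormal (H := Q)))
    have hker : ∀ x, x ∈ ψ.ker → x ∈ Q ∧ ∀ q ∈ Q, q * x = x * q := by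
      intro x hx
      have h' : MulAut.conjNormal (H := Q) x = 1 := hconj _ ((injective_iff_map_eq_one φ).1 hφ _ hx)
      have hq : ∀ q ∈ Q, q * x = x * q := fun q hq => by
        have := congrArg (fun f : MulAut ↥Q => ((f ⟨q, hq⟩ : ↥Q) : X)) h'
        simp only [MulAut.conjNormal_apply, MulAut.one_apply] at this
        exact (mul_inv_eq_iff_eq_mul.1 this).symm
      exact ⟨hc (Subgroup.mem_centralizer_iff.2 hq), hq⟩
    have hk2 : Nat.card ψ.ker ≤ 2 := by
      let g : ψ.ker → Subgroup.center (QuaternionGroup 2) := fun x =>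
        ⟨e ⟨x, (hker x x.2).1⟩, Subgroup.mem_center_iff.2 fun y => by
          obtain ⟨y, rfl⟩ := e.surjective y
          rw [← map_mul, ← map_mul]
          exact congrArg e (Subtype.ext ((hker x x.2).2 y y.2))⟩
      have hg : Function.Injective g := fun a b h => 
        Subtype.ext (congrArg (fun q : ↥Q => (q : X)) (e.injective (congrArg Subtype.val h)))
      refine (Nat.card_le_card_of_injective g hg).trans ?_
      rw [Nat.card_eq_fintype_card]
      decide +kernel
    have hQ8 : Nat.card ↥Q = 8 := by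
      rw [Nat.card_congr e.toEquiv, Nat.card_eq_fintype_card, QuaternionGroup.card]; rfl
    have hX : Nat.card X ∣ Nat.card ψ.ker * 24 := by
      rw [← Subgroup.card_mul_index ψ.ker, Subgroup.index_ker]
      exact Nat.mul_dvd_mul_left _ ((Subgroup.card_subgroup_dvd_card ψ.range).trans (by
        rw [Nat.card_perm, Nat.card_fin]; rfl))
    have hQE : Nat.card ↥(Q ⊓ E) ≤ 2 := by
      have hel : Cfsg.IsElementaryAbelian 2 ((Q ⊓ E).subgroupOf Q) :=
        ⟨⟨⟨fun a b => Subtype.ext (Subtype.ext (Local.elemAb_commute hE a.2.2 b.2.2))⟩⟩,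
          fun a ha => Subtype.ext (hE.2 _ ha.2)⟩
      have := h1 _ hel.1 hel.2
      rwa [Nat.card_congr (Subgroup.subgroupOfEquivOfLe inf_le_left).toEquiv, pow_one] at this
    have hp := hQp.to_sup_of_normal_left (Local.elemAb_isPGroup hE)
    obtain ⟨k, hk⟩ := IsPGroup.iff_card.1 hp
    have hprod := Solv.card_sup_mul_card_inf Q E
    rw [hk, hQ8] at hprod
    have hd : 2 ^ k ∣ Nat.card ψ.ker * 24 := hk ▸ (Subgroup.card_subgroup_dvd_card _).trans hX
    have h32 : 32 ≤ 2 ^ k := by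
      have := Nat.mul_le_mul_left (2 ^ k) hQE
      omega
    have h5 : 5 ≤ k := by
      by_contra hlt
      have := Nat.pow_le_pow_right (show 0 < 2 by norm_num) (show k ≤ 4 by omega)
      omega
    have h32d : 32 ∣ Nat.card ψ.ker * 24 := (pow_dvd_pow 2 h5).trans hd
    have : 0 < Nat.card ψ.ker := Nat.card_pos
    interval_cases Nat.card ψ.ker <;> omega
  · haveI : NeZero (2 ^ (n + 2)) := ⟨by positivity⟩
    have h3 : 3 ≤ 2 ^ (n + 2) := by
      have := Nat.pow_le_pow_right (show 0 < 2 by norm_num) (show 2 ≤ n + 2 by omega)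
      omega
    exact hall fun f k hk hf => hconj f (Perm.Fpf.QuatAut.eq_one_of_odd_big h3
      (hQp.of_equiv e) hk (by rw [← map_pow, hf, map_one]))

/-- A criterion for strong embedding. -/
theorem se_criterion (S : Sylow 2 G) (hS1 : (S : Subgroup G) ≠ ⊥) {M : Subgroup G} (hM : M ≠ ⊤)
    (hN : Subgroup.normalizer ((S : Subgroup G) : Set G) ≤ M)
    (hC : ∀ t ∈ (S : Subgroup G), orderOf t = 2 → Subgroup.centralizer ({t} : Set G) ≤ M) :
    Cfsg.IsStronglyEmbedded M := by
  haveI : Fact (Nat.Prime 2) := ⟨Nat.prime_two⟩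
  have hSM : (S : Subgroup G) ≤ M := Subgroup.le_normalizer.trans hN
  have hmove : ∀ {u : G}, u ∈ M → orderOf u = 2 → ∃ h ∈ M, h * u * h⁻¹ ∈ (S : Subgroup G) := by
    intro u hu hu2
    have hp : IsPGroup 2 ↥(Subgroup.zpowers (⟨u, hu⟩ : M)) :=
      IsPGroup.of_card (n := 1) (by rw [Nat.card_zpowers, Subgroup.orderOf_mk, hu2, pow_one])
    obtain ⟨P, hP⟩ := hp.exists_le_sylow
    obtain ⟨g, hg⟩ := MulAction.exists_smul_eq M P (S.subtype hSM)
    refine ⟨g, g.2, ?_⟩
    have h1 : g * ⟨u, hu⟩ * g⁻¹ ∈ (g • P : Sylow 2 M) :=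
      ⟨⟨u, hu⟩, hP (Subgroup.mem_zpowers _), rfl⟩
    rw [hg] at h1
    exact h1
  obtain ⟨k, hk⟩ := IsPGroup.iff_card.1 S.isPGroup'
  have hk0 : k ≠ 0 := fun e => hS1 (Subgroup.card_eq_one.1 (by rw [hk, e, pow_zero]))
  obtain ⟨z0, hz0⟩ : ∃ z : Subgroup.center ↥(S : Subgroup G), orderOf z = 2 := by
    haveI : Nontrivial ↥(S : Subgroup G) := Finite.one_lt_card_iff_nontrivial.1
      (by rw [hk]; exact Nat.one_lt_two_pow hk0)
    haveI := S.isPGroup'.center_nontrivial
    obtain ⟨j, hj⟩ := IsPGroup.iff_card.1 (S.isPGroup'.to_subgroup (Subgroup.center ↥(S : Subgroup G)))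
    have : 1 < Nat.card (Subgroup.center ↥(S : Subgroup G)) :=
      Finite.one_lt_card_iff_nontrivial.2 inferInstance
    exact exists_prime_orderOf_dvd_card' 2 (hj ▸ dvd_pow_self 2 (by rintro rfl; rw [pow_zero] at hj; omega))
  obtain ⟨z, hz⟩ : ∃ z : G, z = ((z0 : ↥(S : Subgroup G)) : G) := ⟨_, rfl⟩
  have hz2 : orderOf z = 2 := by rw [hz, Subgroup.orderOf_coe, Subgroup.orderOf_coe, hz0]
  have hzS : z ∈ (S : Subgroup G) := hz ▸ (z0 : ↥(S : Subgroup G)).2
  have hzc : ∀ s ∈ (S : Subgroup G), s * z = z * s := fun s hs =>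
    hz ▸ congrArg Subtype.val (Subgroup.mem_center_iff.1 z0.2 ⟨s, hs⟩)
  -- conjugating an involution of `S` into `M` happens inside `M`
  have key : ∀ {t g : G}, t ∈ (S : Subgroup G) → orderOf t = 2 → g * t * g⁻¹ ∈ M → g ∈ M := by
    intro t g ht ht2 hgt
    have ho : ∀ (a b : G), orderOf (a * b * a⁻¹) = orderOf b := fun a b => MulEquiv.orderOf_eq (MulAut.conj a) b
    obtain ⟨h, hh, hhS⟩ := hmove hgt (by rw [ho, ht2])
    rw [show h * (g * t * g⁻¹) * h⁻¹ = (h * g) * t * (h * g)⁻¹ by group] at hhS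
    obtain ⟨g₁, rfl⟩ : ∃ g₁, g = h⁻¹ * g₁ := ⟨h * g, by group⟩
    rw [mul_inv_cancel_left] at hhS
    refine mul_mem (inv_mem hh) ?_
    have hzM : g₁ * z * g₁⁻¹ ∈ M := by
      refine hC _ hhS (by rw [ho, ht2]) (Subgroup.mem_centralizer_singleton_iff.2 ?_)
      exact ((show Commute t z from hzc t ht).symm.map (MulAut.conj g₁)).eq
    obtain ⟨a, ha, haS⟩ := hmove hzM (by rw [ho, hz2])
    rw [show a * (g₁ * z * g₁⁻¹) * a⁻¹ = (a * g₁) * z * (a * g₁)⁻¹ by group] at haS
    have h2 : ((a * g₁) • S : Sylow 2 G) ≤ M := by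
      rintro _ ⟨s, hs, rfl⟩
      refine hC _ haS (by rw [ho, hz2]) (Subgroup.mem_centralizer_singleton_iff.2 ?_)
      exact ((show Commute s z from hzc s hs).map (MulAut.conj (a * g₁))).eq
    obtain ⟨c, hc⟩ := MulAction.exists_smul_eq M (((a * g₁) • S).subtype h2) (S.subtype hSM)
    rw [Sylow.smul_subtype] at hc
    have h3 : (c : G) • (a * g₁) • S = S := Sylow.subtype_injective hc
    have h4 : (c : G) * (a * g₁) ∈ M :=
      hN (Sylow.smul_eq_iff_mem_normalizer.1 (by rw [mul_smul, h3]))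
    have h5 := mul_mem (inv_mem (mul_mem c.2 ha)) h4
    rwa [show ((c : G) * a)⁻¹ * ((c : G) * (a * g₁)) = g₁ by group] at h5
  refine ⟨hM, even_iff_two_dvd.2 ((hk ▸ dvd_pow_self 2 hk0).trans (Subgroup.card_dvd_of_le hSM)), fun g hg => ?_⟩
  rw [← Nat.not_even_iff_odd]
  intro he
  obtain ⟨⟨u, huM, s, hsM, hsu⟩, hu⟩ := exists_prime_orderOf_dvd_card' 2 he.two_dvd
  replace hu : orderOf u = 2 := (Subgroup.orderOf_coe _).trans hu
  have hsu' : g * s * g⁻¹ = u := hsu
  have hs2 : orderOf s = 2 := by rw [← hu, ← hsu', ← MulEquiv.orderOf_eq (MulAut.conj g) s]; rfl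
  obtain ⟨h, hh, hhS⟩ := hmove hsM hs2
  refine hg ?_
  have h1 : g * h⁻¹ ∈ M := key hhS (by rw [← hs2]; exact MulEquiv.orderOf_eq (MulAut.conj h) s) (by
    rw [show g * h⁻¹ * (h * s * h⁻¹) * (g * h⁻¹)⁻¹ = g * s * g⁻¹ by group, hsu']; exact huM)
  simpa using mul_mem h1 hh

/-- The core theorem: constrained locals and a closure that is constant on each Sylow subgroup. -/
theorem cores_trivial_of (h2c : Lie.CoreFun.LocCons G) (hO : Cfsg.oddCore G = ⊥) (S : Sylow 2 G)
    (hE : ∃ E : Subgroup G, E ≤ (S : Subgroup G) ∧ Cfsg.IsElementaryAbelian 2 E ∧ 8 ≤ Nat.card E)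
    (hbig : ∀ t ∈ (S : Subgroup G), orderOf t = 2 → ∃ F : Subgroup G, F ≤ (S : Subgroup G) ∧
      F ≤ Subgroup.centralizer ({t} : Set G) ∧ t ∈ F ∧ Cfsg.IsElementaryAbelian 2 F ∧ 8 ≤ Nat.card F)
    (hW₀ : ∀ S' : Sylow 2 G, ∃ W : Subgroup G, Odd (Nat.card ↥W) ∧
      (∀ F : Subgroup G, F ≤ (S' : Subgroup G) → Cfsg.IsElementaryAbelian 2 F → 8 ≤ Nat.card F →
        W = ⨆ b : {b : G // b ∈ F ∧ b ≠ 1}, Cfsg.centralizerPPrimeCore 2 (b : G)) ∧
      ∀ B : Subgroup G, B ≤ (S' : Subgroup G) → ¬ Cfsg.PRankLE 2 1 ↥B →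
        Subgroup.normalizer (B : Set G) ≤ Subgroup.normalizer (W : Set G)) :
    ∀ t : G, orderOf t = 2 → Cfsg.centralizerPPrimeCore 2 t = ⊥ := by
  classical
  haveI : Fact (Nat.Prime 2) := ⟨Nat.prime_two⟩
  obtain ⟨W, hWodd, hWf, hWn⟩ := hW₀ S
  obtain ⟨E, hES, hEe, hE8⟩ := hE
  have hr1 : ∀ {F B : Subgroup G}, Cfsg.IsElementaryAbelian 2 F → 8 ≤ Nat.card F → F ≤ B →
      ¬ Cfsg.PRankLE 2 1 ↥B := by
    intro F B hF h8 hFB h
    have := h (F.subgroupOf B) ⟨⟨fun x y => Subtype.ext (Subtype.ext (Local.elemAb_commute hF x.2 y.2))⟩⟩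
      fun x hx => Subtype.ext (hF.2 _ hx)
    rw [Nat.card_congr (Subgroup.subgroupOfEquivOfLe hFB).toEquiv] at this
    omega
  have hWS := hWn _ le_rfl (hr1 hEe hE8 hES)
  have hθW : ∀ t ∈ (S : Subgroup G), orderOf t = 2 → Cfsg.centralizerPPrimeCore 2 t ≤ W := by
    intro t htS ht2
    obtain ⟨F, hFS, -, htF, hF, hF8⟩ := hbig t htS ht2
    rw [(hWf F hFS hF hF8)]
    exact le_iSup (fun b : {b : G // b ∈ F ∧ b ≠ 1} => Cfsg.centralizerPPrimeCore 2 (b : G))
      ⟨t, htF, fun e => by rw [e, orderOf_one] at ht2; omega⟩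
  suffices hW1 : W = ⊥ by
    intro t ht2
    obtain ⟨P, hP⟩ := (IsPGroup.of_card (n := 1) (by rw [Nat.card_zpowers, ht2, pow_one]) :
      IsPGroup 2 ↥(Subgroup.zpowers t)).exists_le_sylow
    obtain ⟨g, hg⟩ := MulAction.exists_smul_eq G P S
    have htS : g * t * g⁻¹ ∈ (S : Subgroup G) := hg ▸ ⟨t, hP (Subgroup.mem_zpowers t), rfl⟩
    have h := hθW _ htS (by rw [← ht2]; exact MulEquiv.orderOf_eq (MulAut.conj g) t)
    rw [hW1, le_bot_iff, Lie.CoreFun.core_equivariant, Subgroup.map_eq_bot_iff_of_injective _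
      (MulAut.conj g).injective] at h
    exact h
  by_contra hW1
  have hWco : (Nat.card W).Coprime 2 := Nat.coprime_two_right.2 hWodd
  have hM : Subgroup.normalizer (W : Set G) ≠ ⊤ := by
    intro h
    haveI : W.Normal := Subgroup.normalizer_eq_top_iff.1 h
    exact hW1 (le_bot_iff.1 (hO ▸ le_pPrimeCore hWco))
  -- centralisers of involutions of `S` normalise `W`
  have hC : ∀ t ∈ (S : Subgroup G), orderOf t = 2 →
      Subgroup.centralizer ({t} : Set G) ≤ Subgroup.normalizer (W : Set G) := by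
    intro t htS ht2
    obtain ⟨C, hCd⟩ : ∃ C, C = Subgroup.centralizer ({t} : Set G) := ⟨_, rfl⟩
    obtain ⟨F, hFS, hFC, -, hF, hF8⟩ := hbig t htS ht2
    obtain ⟨R, hR⟩ := ((S.isPGroup'.to_le (inf_le_left : (S : Subgroup G) ⊓ C ≤ S)).comap_of_injective
      C.subtype C.subtype_injective).exists_le_sylow
    obtain ⟨S', hS'⟩ := (R.isPGroup'.map C.subtype).exists_le_sylow
    have hFR : F.subgroupOf C ≤ (R : Subgroup C) := fun x hx => hR ⟨hFS hx, x.2⟩
    have hFS' : F ≤ (S' : Subgroup G) := fun x hx =>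
      hS' ⟨⟨x, hCd ▸ hFC hx⟩, hFR hx, rfl⟩
    obtain ⟨W', -, hWf', hWn'⟩ := hW₀ S'
    have hWW : W' = W := (hWf' F hFS' hF hF8).trans (hWf F hFS hF hF8).symm
    subst hWW
    have hRW : (R : Subgroup C).map C.subtype ≤ Subgroup.normalizer (W' : Set G) :=
      hS'.trans (Subgroup.le_normalizer.trans (hWn' _ le_rfl (hr1 hF hF8 hFS')))
    -- the local data
    set O := Cfsg.pPrimeCore 2 ↥C with hOd
    have hθ : Cfsg.centralizerPPrimeCore 2 t = O.map C.subtype := by
      subst hCd; rfl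
    have hOW : O.map C.subtype ≤ Subgroup.normalizer (W' : Set G) :=
      (hθ ▸ hθW t htS ht2).trans Subgroup.le_normalizer
    let π := QuotientGroup.mk' O
    have hπ : Function.Surjective π := QuotientGroup.mk'_surjective O
    have hcons : Cfsg.IsPConstrained 2 ↥C :=
      hCd ▸ isPConstrained_iff_pLayer.2 (Lie.CoreFun.layer_bot h2c ht2)
    set N := Cfsg.pPrimePCore 2 ↥C with hNd
    haveI : N.Normal := by rw [hNd]; unfold Cfsg.pPrimePCore; infer_instance
    let P : Sylow 2 ↥N := Sylow.ofCard (((R : Subgroup C) ⊓ N).subgroupOf N) (by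
      rw [Nat.card_congr (Subgroup.subgroupOfEquivOfLe inf_le_right).toEquiv, Solv.AbelianConj.card_sylow_inf])
    have hPm : (P : Subgroup N).map N.subtype = (R : Subgroup C) ⊓ N :=
      Subgroup.map_subgroupOf_eq_of_le inf_le_right
    obtain ⟨T, hT⟩ : ∃ T, T = (R : Subgroup C) ⊓ N := ⟨_, rfl⟩
    have hTp : T.map π = Cfsg.pCore 2 (↥C ⧸ O) := by
      rw [hT, ← hPm]; exact map_sylIn_pPrimePCore (sylIn_map N P)
    have hTO : T ⊔ O = N := by
      rw [show O = π.ker from (QuotientGroup.ker_mk' O).symm, ← Subgroup.comap_map_eq, hTp]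
      rfl
    have hfrat : Subgroup.normalizer (T : Set ↥C) ⊔ N = ⊤ := by
      rw [hT, ← hPm]; exact Sylow.normalizer_sup_eq_top P
    by_cases hT1 : Cfsg.PRankLE 2 1 ↥(Cfsg.pCore 2 (↥C ⧸ O))
    · have hinj : Function.Injective (π.comp (R : Subgroup C).subtype) := by
        refine (injective_iff_map_eq_one _).2 fun x hx => Subtype.ext ?_
        have : (x : ↥C) ∈ O ⊓ (R : Subgroup C) := ⟨(QuotientGroup.eq_one_iff _).1 hx, x.2⟩
        rwa [coprime_inf_pGroup (card_pPrimeCore_coprime 2 ↥C) R.isPGroup', Subgroup.mem_bot] at this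
      have hFC' : F ≤ C := hCd ▸ hFC
      let F₁ : Subgroup ↥(R : Subgroup C) := (F.subgroupOf C).subgroupOf (R : Subgroup C)
      have hF₁ : Cfsg.IsElementaryAbelian 2 F₁ :=
        ⟨⟨⟨fun x y => Subtype.ext (Subtype.ext (Subtype.ext (Local.elemAb_commute hF x.2 y.2)))⟩⟩,
          fun x hx => Subtype.ext (Subtype.ext (hF.2 _ hx))⟩
      have h8 : 8 ≤ Nat.card ↥(F₁.map (π.comp (R : Subgroup C).subtype)) := by
        rw [Subgroup.card_map_of_injective hinj, Nat.card_congr (Subgroup.subgroupOfEquivOfLe hFR).toEquiv,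
          Nat.card_congr (Subgroup.subgroupOfEquivOfLe hFC').toEquiv]
        exact hF8
      have hE' : Cfsg.IsElementaryAbelian 2 (F₁.map (π.comp (R : Subgroup C).subtype)) := by
        refine ⟨Fusion.isMulCommutative_map _ hF₁.1, ?_⟩
        rintro _ ⟨x, hx, rfl⟩
        rw [← map_pow, hF₁.2 x hx, map_one]
      have hp : IsPGroup 2 (↥C ⧸ O) :=
        rank_one_local (centralizer_pCore_quotient_le hcons) hT1 hE' h8
      have hRO : (R : Subgroup C) ⊔ O = ⊤ := by
        rw [show O = π.ker from (QuotientGroup.ker_mk' O).symm, ← Subgroup.comap_map_eq]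
        have hidx : Odd ((R : Subgroup C).map π).index := by
          have hd := Subgroup.index_map_dvd (f := π) (R : Subgroup C) hπ
          exact Odd.of_dvd_nat (Nat.odd_iff.2 (Nat.two_dvd_ne_zero.1 R.not_dvd_index)) hd
        obtain ⟨j, hj⟩ := IsPGroup.iff_card.1 hp
        obtain ⟨i, -, hi⟩ := (Nat.dvd_prime_pow Nat.prime_two).1
          (hj ▸ Subgroup.index_dvd_card ((R : Subgroup C).map π))
        rw [hi] at hidx
        rcases Nat.eq_zero_or_pos i with rfl | hi0
        · rw [show (R : Subgroup C).map π = ⊤ from Subgroup.index_eq_one.1 (by simpa using hi), Subgroup.comap_top]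
        · exact absurd ((Nat.even_pow' hi0.ne').2 even_two) (Nat.not_even_iff_odd.2 hidx)
      rw [← hCd, ← Subgroup.range_subtype C, MonoidHom.range_eq_map, ← hRO, Subgroup.map_sup]
      exact sup_le hRW hOW
    · have hTR : T ≤ (R : Subgroup C) := hT ▸ inf_le_left
      have hTS' : T.map C.subtype ≤ (S' : Subgroup G) := (Subgroup.map_mono hTR).trans hS'
      have hTr : ¬ Cfsg.PRankLE 2 1 ↥(T.map C.subtype) := by
        intro h
        apply hT1
        have hinj : Function.Injective (π.subgroupMap T) := by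
          refine (injective_iff_map_eq_one _).2 fun x hx => Subtype.ext ?_
          have : (x : ↥C) ∈ O ⊓ T := ⟨(QuotientGroup.eq_one_iff _).1 (congrArg Subtype.val hx), x.2⟩
          rwa [coprime_inf_pGroup (card_pPrimeCore_coprime 2 ↥C) (R.isPGroup'.to_le hTR),
            Subgroup.mem_bot] at this
        let e : ↥(Cfsg.pCore 2 (↥C ⧸ O)) ≃* ↥(T.map C.subtype) :=
          (MulEquiv.subgroupCongr hTp).symm.trans
            ((MulEquiv.ofBijective _ ⟨hinj, π.subgroupMap_surjective T⟩).symm.trans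
              (T.equivMapOfInjective C.subtype C.subtype_injective))
        intro B hBc hB2
        rw [← Subgroup.card_map_of_injective (f := e.toMonoidHom) e.injective]
        refine h _ (Fusion.isMulCommutative_map _ hBc) ?_
        rintro _ ⟨b, hb, rfl⟩
        rw [← map_pow, hB2 b hb, map_one]
      have hNT := hWn' _ hTS' hTr
      rw [← hCd, ← Subgroup.range_subtype C, MonoidHom.range_eq_map, ← hfrat, ← hTO, Subgroup.map_sup,
        Subgroup.map_sup]
      exact sup_le ((Subgroup.le_normalizer_map (H := T) C.subtype).trans hNT)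
        (sup_le (hTS'.trans (Subgroup.le_normalizer.trans (hWn' _ le_rfl (hr1 hF hF8 hFS')))) hOW)
  have hS1 : (S : Subgroup G) ≠ ⊥ := fun e => by
    have := Subgroup.card_le_of_le hES
    rw [e, Subgroup.card_bot] at this
    omega
  have hse := se_criterion S hS1 hM hWS hC
  have h := S1221.result _ hse
  rw [hO, le_bot_iff, Subgroup.map_eq_bot_iff_of_injective _ (Subgroup.subtype_injective _)] at h
  haveI : (W.subgroupOf (Subgroup.normalizer (W : Set G))).Normal := Subgroup.normal_in_normalizer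
  have h' : W.subgroupOf (Subgroup.normalizer (W : Set G)) ≤
      Cfsg.oddCore ↥(Subgroup.normalizer (W : Set G)) :=
    le_pPrimeCore (by rwa [Nat.card_congr (Subgroup.subgroupOfEquivOfLe Subgroup.le_normalizer).toEquiv])
  rw [h, le_bot_iff, Subgroup.subgroupOf_eq_bot, disjoint_iff, inf_of_le_left Subgroup.le_normalizer] at h'
  exact hW1 h'

/-- With constrained locals and a self-centralising normal subgroup of rank three, cores vanish. -/
theorem cores_trivial (h2c : Lie.CoreFun.LocCons G) (hO : Cfsg.oddCore G = ⊥) (S : Sylow 2 G)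
    (A : Subgroup ↥(S : Subgroup G)) (hAn : A.Normal) (hAab : IsMulCommutative ↥A)
    (hAC : Subgroup.centralizer (A : Set ↥(S : Subgroup G)) = A) (hA3 : ¬ Cfsg.PRankLE 2 2 ↥A) :
    ∀ t : G, orderOf t = 2 → Cfsg.centralizerPPrimeCore 2 t = ⊥ := by
  classical
  haveI : Fact (Nat.Prime 2) := ⟨Nat.prime_two⟩
  obtain ⟨E, hES, hEe, hE8, hEn⟩ : ∃ E : Subgroup G, E ≤ (S : Subgroup G) ∧ Cfsg.IsElementaryAbelian 2 E ∧
      8 ≤ Nat.card E ∧ ∀ s ∈ (S : Subgroup G), ∀ e ∈ E, s * e * s⁻¹ ∈ E := by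
    obtain ⟨B, hBA, hBe, hB8⟩ := SSF.exists_big (p := 2) hA3
    let E0 : Subgroup ↥(S : Subgroup G) :=
      { carrier := {x | x ∈ A ∧ x ^ 2 = 1}
        one_mem' := ⟨A.one_mem, one_pow 2⟩
        mul_mem' := fun {x y} hx hy => ⟨A.mul_mem hx.1 hy.1, by
          have hc : Commute x y := congrArg Subtype.val (hAab.is_comm.comm ⟨x, hx.1⟩ ⟨y, hy.1⟩)
          rw [hc.mul_pow, hx.2, hy.2, mul_one]⟩
        inv_mem' := fun {x} hx => ⟨A.inv_mem hx.1, by rw [inv_pow, hx.2, inv_one]⟩ }
    refine ⟨E0.map (S : Subgroup G).subtype, Subgroup.map_subtype_le _, ⟨⟨⟨?_⟩⟩, ?_⟩, ?_, ?_⟩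
    · rintro ⟨_, x, hx, rfl⟩ ⟨_, y, hy, rfl⟩
      exact Subtype.ext (congrArg (fun w : ↥A => ((w : ↥(S : Subgroup G)) : G))
        (hAab.is_comm.comm ⟨x, hx.1⟩ ⟨y, hy.1⟩))
    · rintro _ ⟨x, hx, rfl⟩
      exact congrArg Subtype.val hx.2
    · rw [Subgroup.card_map_of_injective (S : Subgroup G).subtype_injective]
      refine (show 8 ≤ Nat.card B by simpa using hB8).trans (Subgroup.card_le_of_le fun x hx => ?_)
      exact ⟨hBA hx, hBe.2 x hx⟩
    · rintro s hs _ ⟨x, hx, rfl⟩
      exact ⟨⟨s, hs⟩ * x * ⟨s, hs⟩⁻¹, ⟨hAn.conj_mem x hx.1 _, by rw [conj_pow, hx.2, mul_one, mul_inv_cancel]⟩, rfl⟩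
  -- each involution of `S` lies in an elementary subgroup of order eight
  have hbig : ∀ t ∈ (S : Subgroup G), orderOf t = 2 → ∃ F : Subgroup G, F ≤ (S : Subgroup G) ∧
      F ≤ Subgroup.centralizer ({t} : Set G) ∧ t ∈ F ∧ Cfsg.IsElementaryAbelian 2 F ∧ 8 ≤ Nat.card F := by
    intro t htS ht2
    by_cases htE : t ∈ E
    · exact ⟨E, hES, fun x hx => Subgroup.mem_centralizer_singleton_iff.2
        (Local.elemAb_commute hEe hx htE), htE, hEe, hE8⟩
    have ht' : t * t = 1 := by rw [← sq, ← ht2, pow_orderOf_eq_one]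
    have hti : t⁻¹ = t := inv_eq_of_mul_eq_one_right ht'
    have hconj : ∀ e ∈ E, t * e * t⁻¹ ∈ E := hEn t htS
    let f : ↥E →* ↥E :=
      { toFun := fun e => e * ⟨t * e * t⁻¹, hconj e e.2⟩
        map_one' := Subtype.ext (by simp)
        map_mul' := fun a b => Subtype.ext (by
          have hc := Local.elemAb_commute hEe b.2 (hconj a a.2)
          simp only [Subgroup.coe_mul]
          calc (a : G) * b * (t * (a * b) * t⁻¹) = a * (b * (t * a * t⁻¹)) * (t * b * t⁻¹) := by group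
            _ = a * ((t * a * t⁻¹) * b) * (t * b * t⁻¹) := by rw [hc]
            _ = _ := by group) }
    obtain ⟨D, hD⟩ : ∃ D, D = E ⊓ Subgroup.centralizer ({t} : Set G) := ⟨_, rfl⟩
    have hker : f.ker.map E.subtype ≤ D := by
      rintro _ ⟨e, he, rfl⟩
      have h1 : (e : G) * (t * e * t⁻¹) = 1 := congrArg Subtype.val (MonoidHom.mem_ker.1 he)
      have h2 : (e : G) * e = 1 := by rw [← sq]; exact hEe.2 _ e.2
      have h3 : t * (e : G) * t⁻¹ = e :=
        (eq_inv_of_mul_eq_one_right h1).trans (inv_eq_of_mul_eq_one_right h2)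
      rw [hD]
      exact ⟨e.2, Subgroup.mem_centralizer_singleton_iff.2 (mul_inv_eq_iff_eq_mul.1 h3).symm⟩
    have hran : f.range.map E.subtype ≤ D := by
      rintro _ ⟨_, ⟨e, rfl⟩, rfl⟩
      rw [hD]
      refine ⟨(f e).2, Subgroup.mem_centralizer_singleton_iff.2 ?_⟩
      show (e : G) * (t * e * t⁻¹) * t = t * ((e : G) * (t * e * t⁻¹))
      have hc := Local.elemAb_commute hEe e.2 (hconj e e.2)
      rw [hc]
      calc t * (e : G) * t⁻¹ * e * t = t * e * (t⁻¹ * e * t) := by group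
        _ = t * e * (t * e * t⁻¹) := by rw [hti]
        _ = t * ((e : G) * (t * e * t⁻¹)) := by group
        _ = t * ((t * e * t⁻¹) * e) := by rw [hc]
    have h8 : 8 ≤ Nat.card D * Nat.card D := by
      refine hE8.trans ?_
      rw [← Subgroup.card_mul_index f.ker, Subgroup.index_ker]
      refine Nat.mul_le_mul ?_ ?_
      · rw [← Subgroup.card_map_of_injective E.subtype_injective]; exact Subgroup.card_le_of_le hker
      · rw [← Subgroup.card_map_of_injective E.subtype_injective]; exact Subgroup.card_le_of_le hran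
    have hDe : Cfsg.IsElementaryAbelian 2 D := Local.elemAb_mono hEe (hD ▸ inf_le_left)
    have hF : Cfsg.IsElementaryAbelian 2 (D ⊔ Subgroup.zpowers t) :=
      Local.elemAb_sup hDe (Local.elemAb_zpowers (by rw [sq, ht'])) fun d hd x hx => by
        obtain ⟨i, rfl⟩ := Subgroup.mem_zpowers_iff.1 hx
        exact ((show Commute d t from Subgroup.mem_centralizer_singleton_iff.1
          (Subgroup.mem_inf.1 (hD ▸ hd)).2).zpow_right i).eq
    refine ⟨D ⊔ Subgroup.zpowers t, sup_le ((hD ▸ inf_le_left : D ≤ E).trans hES) (Subgroup.zpowers_le.2 htS),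
      sup_le (hD ▸ inf_le_right) (Subgroup.zpowers_le.2 (Subgroup.mem_centralizer_singleton_iff.2 rfl)),
      Subgroup.mem_sup_right (Subgroup.mem_zpowers t), hF, ?_⟩
    obtain ⟨k, hk⟩ := Local.elemAb_card_pow hF
    have hlt : Nat.card D < Nat.card ↥(D ⊔ Subgroup.zpowers t) := by
      refine lt_of_le_of_ne (Subgroup.card_le_of_le le_sup_left) fun e => htE ?_
      exact (hD ▸ inf_le_left : D ≤ E) ((Subgroup.eq_of_le_of_card_ge le_sup_left e.ge) ▸
        Subgroup.mem_sup_right (Subgroup.mem_zpowers t))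
    rw [hk] at hlt ⊢
    by_contra h
    have hk2 : k ≤ 2 := by
      by_contra h3
      have := Nat.pow_le_pow_right (show 0 < 2 by norm_num) (show 3 ≤ k by omega)
      omega
    have h4 : 2 ^ k ≤ 4 := (Nat.pow_le_pow_right (by norm_num) hk2).trans (by norm_num)
    obtain ⟨j, hj⟩ := Local.elemAb_card_pow hDe
    have hj1 : j ≤ 1 := by
      by_contra h1
      have := Nat.pow_le_pow_right (show 0 < 2 by norm_num) (show 2 ≤ j by omega)
      omega
    rw [hj] at h8
    interval_cases j <;> omega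
  refine cores_trivial_of h2c hO S ⟨E, hES, hEe, hE8⟩ hbig (fun S' => ?_)
  obtain ⟨W, hodd, hW⟩ := S3110.result h2c S A hAn hAab hAC hA3 S'
  refine ⟨W, hodd, fun F hF hFe hF8 => (hW F hF fun h => ?_).1, fun B hB hB1 => (hW B hB hB1).2⟩
  have := h ⊤ ⟨⟨fun x y => Subtype.ext (Subtype.ext (Local.elemAb_commute hFe x.1.2 y.1.2))⟩⟩
    fun x _ => Subtype.ext (hFe.2 _ x.2)
  rw [Subgroup.card_top] at this
  omega

end Cfsg.Agent.Scn3
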