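import Cfsg.Agent.Lib.Lead.CharTwoConn
import Cfsg.Agent.Lib.Fusion.TwoNilpCent.Tools
import Cfsg.Agent.Lib.Fusion.TwoNilpCent.RankThree
import Cfsg.Agent.S0502
import Cfsg.Agent.S0111

/-!
# Cores of centralisers when the 2-rank is at least three

If the 2-locals are constrained, there is no subgroup of index two and no Sylow 2-subgroup has a
normal elementary subgroup of order eight, the normaliser of the closure of the cores contains the
centraliser of a central involution, hence of every involution, and is strongly embedded.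
-/

set_option autoImplicit false
set_option linter.style.haveILetI false
set_option linter.unusedSectionVars false

open Cfsg Cfsg.Agent Cfsg.Agent.Fusion Cfsg.Agent.Local

namespace Cfsg.Agent.Scn3.Dich

universe u

open _root_.Cfsg.Agent.Lie.CoreFun (Wc)
open _root_.Cfsg.Agent.TwoNilpCent (El8 elemAb_cj card_centralizer_ne_four)


variable {G : Type u} [Group G] [Finite G]

/-- An element of a Sylow subgroup whose commutators with it are central involutions lies in `O_{2',2}`. -/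
theorem mem_pre_of_comm {C : Type u} [Group C] [Finite C] (hc : Cfsg.IsPConstrained 2 C) (R : Sylow 2 C)
    {v w : C} (hvc : ∀ c : C, c * v = v * c) (hv : v * v = 1) (hwR : w ∈ (R : Subgroup C))
    (h : ∀ q ∈ (R : Subgroup C), q * w * q⁻¹ * w⁻¹ ∈ Subgroup.zpowers v) :
    w ∈ Cfsg.pPrimePCore 2 C := by
  classical
  haveI : Fact (Nat.Prime 2) := ⟨Nat.prime_two⟩
  set O := Cfsg.pPrimeCore 2 C with hO
  let π := QuotientGroup.mk' O
  have hπ : Function.Surjective π := QuotientGroup.mk'_surjective O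
  obtain ⟨Q, hQ⟩ : ∃ Q, Q = Cfsg.pCore 2 (C ⧸ O) := ⟨_, rfl⟩
  haveI : Q.Normal := hQ ▸ Solv.pCore_normal 2
  have hcent : Subgroup.centralizer (Q : Set (C ⧸ O)) ≤ Q := hQ ▸ centralizer_pCore_quotient_le hc
  obtain ⟨V, hV⟩ : ∃ V, V = Subgroup.zpowers (π v) := ⟨_, rfl⟩
  have hVc : ∀ z ∈ V, ∀ y : C ⧸ O, y * z = z * y := by
    intro z hz y
    obtain ⟨i, rfl⟩ := Subgroup.mem_zpowers_iff.1 (hV ▸ hz)
    obtain ⟨c, rfl⟩ := hπ y
    exact ((show Commute (π c) (π v) from (show Commute c v from hvc c).map π).zpow_right i).eq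
  have hV2 : ∀ z ∈ V, z * z = 1 := by
    intro z hz
    obtain ⟨i, rfl⟩ := Subgroup.mem_zpowers_iff.1 (hV ▸ hz)
    rw [← zpow_add, ← two_mul, zpow_mul, zpow_two, ← map_mul, hv, map_one, one_zpow]
  haveI : V.Normal := ⟨fun z hz g => by rw [hVc z hz g, mul_inv_cancel_right]; exact hz⟩
  let μ := QuotientGroup.mk' V
  haveI : (Q.map μ).Normal := Subgroup.Normal.map inferInstance _ (QuotientGroup.mk'_surjective V)
  obtain ⟨Y, hY⟩ : ∃ Y, Y = (Subgroup.centralizer (Q.map μ : Set _)).comap μ := ⟨_, rfl⟩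
  haveI : Y.Normal := by rw [hY]; infer_instance
  have hmem : ∀ {y : C ⧸ O}, y ∈ Y ↔ ∀ q ∈ Q, q * y * q⁻¹ * y⁻¹ ∈ V := by
    intro y
    rw [hY, Subgroup.mem_comap, Subgroup.mem_centralizer_iff]
    constructor
    · intro hy q hq
      refine (QuotientGroup.eq_one_iff _).1 ?_
      show μ (q * y * q⁻¹ * y⁻¹) = 1
      rw [map_mul, map_mul, map_mul, map_inv, map_inv, hy (μ q) ⟨q, hq, rfl⟩, mul_inv_cancel_right,
        mul_inv_cancel]
    · rintro hy _ ⟨q, hq, rfl⟩
      have h1 : μ (q * y * q⁻¹ * y⁻¹) = 1 := (QuotientGroup.eq_one_iff _).2 (hy q hq)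
      rwa [map_mul, map_mul, map_mul, map_inv, map_inv, mul_inv_eq_one, mul_inv_eq_iff_eq_mul] at h1
  have hsq : ∀ y ∈ Y, y * y ∈ Q := by
    intro y hy
    refine hcent (Subgroup.mem_centralizer_iff.2 fun q hq => ?_)
    have hzV := hmem.1 hy q hq
    obtain ⟨z, hz⟩ : ∃ z, z = q * y * q⁻¹ * y⁻¹ := ⟨_, rfl⟩
    rw [← hz] at hzV
    have h1 : q * y * q⁻¹ = z * y := by rw [hz, inv_mul_cancel_right]
    refine mul_inv_eq_iff_eq_mul.1 ?_
    calc q * (y * y) * q⁻¹ = (q * y * q⁻¹) * (q * y * q⁻¹) := by group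
      _ = z * y * (z * y) := by rw [h1]
      _ = z * (y * z) * y := by group
      _ = z * (z * y) * y := by rw [hVc z hzV y]
      _ = (z * z) * (y * y) := by group
      _ = y * y := by rw [hV2 z hzV, one_mul]
  have hYp : IsPGroup 2 Y := by
    intro y
    obtain ⟨k, hk⟩ := (hQ ▸ isPGroup_pCore 2 (C ⧸ O) : IsPGroup 2 Q) ⟨_, hsq y y.2⟩
    refine ⟨k + 1, Subtype.ext ?_⟩
    have h1 := congrArg Subtype.val hk
    simp only [SubgroupClass.coe_pow, OneMemClass.coe_one] at h1 ⊢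
    rw [pow_succ', pow_mul, sq, h1]
  have hw : π w ∈ Y := hmem.2 fun q hq => by
    obtain ⟨r, hr, rfl⟩ : q ∈ (R : Subgroup C).map π :=
      pCore_le_sylIn (sylIn_top (R.mapSurjective hπ)) (hQ ▸ hq)
    rw [← map_inv, ← map_inv, ← map_mul, ← map_mul, ← map_mul, hV, ← MonoidHom.map_zpowers]
    exact ⟨_, h r hr, rfl⟩
  exact Subgroup.mem_comap.2 (le_pCore hYp hw)

/-- An odd subgroup normalised by an involution of `O_{2',2}` is its centraliser times the core. -/
theorem decomp_mem {C : Type u} [Group C] [Finite C] {w : C} (hw : w ∈ Cfsg.pPrimePCore 2 C)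
    (hw2 : w * w = 1) {L : Subgroup C} (hL : Odd (Nat.card L)) (hwL : ∀ l ∈ L, w * l * w⁻¹ ∈ L)
    {l : C} (hl : l ∈ L) :
    ∃ e ∈ L, ∃ d ∈ Cfsg.pPrimeCore 2 C, e * w = w * e ∧ l = e * d := by
  haveI : Fact (Nat.Prime 2) := ⟨Nat.prime_two⟩
  set O := Cfsg.pPrimeCore 2 C with hO
  have hwi : w⁻¹ = w := inv_eq_of_mul_eq_one_right hw2
  obtain ⟨c, hc⟩ : ∃ c, c = l⁻¹ * (w * l * w⁻¹) := ⟨_, rfl⟩
  have hcL : c ∈ L := hc ▸ mul_mem (inv_mem hl) (hwL l hl)
  haveI : (Cfsg.pPrimePCore 2 C).Normal := by unfold Cfsg.pPrimePCore; infer_instance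
  have hcN : c ∈ Cfsg.pPrimePCore 2 C := by
    rw [hc, show l⁻¹ * (w * l * w⁻¹) = (l⁻¹ * w * l) * w⁻¹ by group]
    refine mul_mem ?_ (inv_mem hw)
    simpa using (‹(Cfsg.pPrimePCore 2 C).Normal›).conj_mem w hw l⁻¹
  have hco : Odd (orderOf c) :=
    Odd.of_dvd_nat hL (Subgroup.orderOf_dvd_natCard L hcL)
  have hcO : c ∈ O := by
    obtain ⟨k, hk⟩ := IsPGroup.iff_orderOf.1 (isPGroup_pCore 2 (C ⧸ O))
      ⟨QuotientGroup.mk' O c, Subgroup.mem_comap.1 hcN⟩
    rw [Subgroup.orderOf_mk] at hk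
    rcases Nat.eq_zero_or_pos k with rfl | hk0
    · rw [pow_zero, orderOf_eq_one_iff] at hk
      exact (QuotientGroup.eq_one_iff _).1 hk
    · exfalso
      have hd := orderOf_map_dvd (QuotientGroup.mk' O) c
      rw [hk] at hd
      exact Nat.not_even_iff_odd.2 hco (even_iff_two_dvd.2 ((dvd_pow_self 2 hk0.ne').trans hd))
  have hinv : w * c * w⁻¹ = c⁻¹ := by
    rw [hc, hwi]
    calc w * (l⁻¹ * (w * l * w)) * w = w * l⁻¹ * w * l * (w * w) := by group
      _ = w⁻¹ * l⁻¹ * w⁻¹ * l := by rw [hw2, mul_one, hwi]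
      _ = (l⁻¹ * (w * l * w))⁻¹ := by group
  obtain ⟨k, hk⟩ := hco
  obtain ⟨d, hd⟩ : ∃ d, d = c ^ (k + 1) := ⟨_, rfl⟩
  have hdd : d * d = c := by
    rw [hd, ← pow_add, show k + 1 + (k + 1) = orderOf c + 1 by omega, pow_succ, pow_orderOf_eq_one, one_mul]
  have hdinv : w * d * w⁻¹ = d⁻¹ := by rw [hd, ← conj_pow, hinv, inv_pow]
  refine ⟨l * d, mul_mem hl (hd ▸ pow_mem hcL _), d⁻¹, inv_mem (hd ▸ pow_mem hcO _), ?_, by group⟩
  have h1 : w * (l * d) * w⁻¹ = l * d := by
    calc w * (l * d) * w⁻¹ = l * (l⁻¹ * (w * l * w⁻¹)) * (w * d * w⁻¹) := by group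
      _ = l * (d * d) * d⁻¹ := by rw [← hc, hdinv, hdd]
      _ = l * d := by group
  exact (mul_inv_eq_iff_eq_mul.1 h1).symm

theorem orderOf_of_mem {F : Subgroup G} (hF : Cfsg.IsElementaryAbelian 2 F) {a : G} (ha : a ∈ F) (ha1 : a ≠ 1) :
    orderOf a = 2 := orderOf_eq_prime (hF.2 a ha) ha1

theorem conj_cent {a g x : G} (hx : x ∈ Subgroup.centralizer ({a} : Set G)) :
    g * x * g⁻¹ ∈ Subgroup.centralizer ({g * a * g⁻¹} : Set G) :=
  Subgroup.mem_centralizer_singleton_iff.2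
    ((show Commute x a from Subgroup.mem_centralizer_singleton_iff.1 hx).map (MulAut.conj g)).eq

theorem four_cases {U : Subgroup G} (hU : Cfsg.IsElementaryAbelian 2 U) (h4 : Nat.card U = 4) {z u : G}
    (hz : z ∈ U) (hu : u ∈ U) (hz1 : z ≠ 1) (hu1 : u ≠ 1) (huz : u ≠ z) :
    ∀ w ∈ U, w = 1 ∨ w = z ∨ w = u ∨ w = u * z := by
  intro w hw
  by_contra hcon
  push Not at hcon
  have hzz : z * z = 1 := by rw [← sq]; exact hU.2 z hz
  have hn1 : u * z ≠ 1 := fun h => huz (mul_right_cancel (h.trans hzz.symm))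
  have hnu : u * z ≠ u := fun h => hz1 (mul_eq_left.1 h)
  have hnz : u * z ≠ z := fun h => hu1 (mul_eq_right.1 h)
  let v : Fin 5 → U := ![1, ⟨z, hz⟩, ⟨u, hu⟩, ⟨u * z, mul_mem hu hz⟩, ⟨w, hw⟩]
  have hv : Function.Injective v := by
    intro i j h
    fin_cases i <;> fin_cases j <;>
      first
        | rfl
        | (exfalso; simp [v, Subtype.ext_iff, hz1, hu1, hn1, hnu, hnz, huz, hcon.1, hcon.2.1, hcon.2.2.1,
            hcon.2.2.2, Ne.symm hz1, Ne.symm hu1, Ne.symm hn1, Ne.symm hnu, Ne.symm hnz, Ne.symm huz,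
            Ne.symm hcon.1, Ne.symm hcon.2.1, Ne.symm hcon.2.2.1, Ne.symm hcon.2.2.2] at h)
  have := Nat.card_le_card_of_injective v hv
  rw [Nat.card_fin, h4] at this
  omega

theorem le_four_of_not_eight {k : ℕ} (h : ¬ 8 ≤ 2 ^ k) : 2 ^ k ≤ 4 := by
  have : k ≤ 2 := by
    by_contra h3
    exact h ((show 8 ≤ 2 ^ 3 by norm_num).trans (Nat.pow_le_pow_right two_pos (by omega)))
  exact (Nat.pow_le_pow_right two_pos this).trans (by norm_num)

theorem wc_eq (h : Lie.CoreFun.LocCons G) {F V : Subgroup G} (hF : Cfsg.IsElementaryAbelian 2 F)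
    (hVF : V ≤ F) (h4 : 4 ≤ Nat.card ↥V) (h8 : 8 ≤ Nat.card ↥F) : Wc V = Wc F :=
  Lie.CoreFun.Wc_eq h hF h8 hVF h4

theorem Wc_cj (V : Subgroup G) (g : G) : cj (Wc V) g = Wc (cj V g) := by
  rw [Wc, Wc, cj, Subgroup.map_iSup]
  refine le_antisymm (iSup_le fun b => ?_) (iSup_le fun c => ?_)
  · rw [← Lie.CoreFun.core_equivariant]
    exact le_iSup (fun c : {c : G // c ∈ cj V g ∧ c ≠ 1} => Cfsg.centralizerPPrimeCore 2 (c : G))
      ⟨g * b.1 * g⁻¹, conj_mem_cj b.2.1, fun h => b.2.2 (conj_eq_one_iff.1 h)⟩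
  · obtain ⟨b, hb, hbc⟩ := c.2.1
    refine le_trans ?_ (le_iSup (fun d : {d : G // d ∈ V ∧ d ≠ 1} =>
      (Cfsg.centralizerPPrimeCore 2 (d : G)).map (MulAut.conj g).toMonoidHom)
      ⟨b, hb, fun h => c.2.2 (by rw [← hbc, h, map_one])⟩)
    show _ ≤ (Cfsg.centralizerPPrimeCore 2 b).map (MulAut.conj g).toMonoidHom
    rw [← Lie.CoreFun.core_equivariant, show g * b * g⁻¹ = c.1 from hbc]

theorem normalizer_le_Wc (V : Subgroup G) :
    Subgroup.normalizer (V : Set G) ≤ Subgroup.normalizer (Wc V : Set G) := fun g hg =>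
  mem_normalizer_iff_cj.2 (by rw [Wc_cj, cj_eq_self hg])

theorem core_le_Wc' {V : Subgroup G} {a : G} (ha : a ∈ V) (ha1 : a ≠ 1) :
    Cfsg.centralizerPPrimeCore 2 a ≤ Wc V :=
  le_iSup (fun b : {b : G // b ∈ V ∧ b ≠ 1} => Cfsg.centralizerPPrimeCore 2 (b : G)) ⟨a, ha, ha1⟩

theorem Wc_inf_centralizer (h : Lie.CoreFun.LocCons G) {F : Subgroup G} (hF : Cfsg.IsElementaryAbelian 2 F)
    (h8 : 8 ≤ Nat.card F) {a : G} (ha : a ∈ F) (ha1 : a ≠ 1) :
    Wc F ⊓ Subgroup.centralizer {a} = Cfsg.centralizerPPrimeCore 2 a := by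
  haveI : Fact (Nat.Prime 2) := ⟨Nat.prime_two⟩
  exact (SSF.complete hF (by norm_num; exact h8)
    (SSF.functor_of_equivariant Lie.CoreFun.core_hC (fun a g _ => Lie.CoreFun.core_equivariant a g)
      (fun a b ha hb hab => Lie.CoreFun.core_balance_two h ⟨1, by rw [ha.1, pow_one]⟩ hb.1 hab)
      hF (by norm_num; exact h8))).2 a ha ha1

/-- The setting: a normal four group of a Sylow subgroup without a normal `El8`. -/
structure Base (S : Sylow 2 G) (U : Subgroup G) : Prop where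
  lc : Lie.CoreFun.LocCons G
  le : U ≤ (S : Subgroup G)
  norm : (S : Subgroup G) ≤ Subgroup.normalizer (U : Set G)
  elem : Cfsg.IsElementaryAbelian 2 U
  card : Nat.card ↥U = 4
  rank : ∃ E : Subgroup G, E ≤ (S : Subgroup G) ∧ El8 E
  small : ∀ N : Subgroup G, N ≤ (S : Subgroup G) → Cfsg.IsElementaryAbelian 2 N →
    (S : Subgroup G) ≤ Subgroup.normalizer (N : Set G) → Nat.card ↥N < 8

theorem exists_base (lc : Lie.CoreFun.LocCons G) (S : Sylow 2 G) (hrank : ∃ E : Subgroup G, E ≤ (S : Subgroup G) ∧ El8 E)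
    (hsmall : ∀ N : Subgroup G, N ≤ (S : Subgroup G) → Cfsg.IsElementaryAbelian 2 N →
      (S : Subgroup G) ≤ Subgroup.normalizer (N : Set G) → Nat.card ↥N < 8) :
    ∃ U : Subgroup G, Base S U := by
  obtain ⟨E, hES, hE, hE8⟩ := hrank
  obtain ⟨V, hVn, hV, hV4⟩ := exists_normal_four S.isPGroup' (E.subgroupOf (S : Subgroup G))
    ⟨⟨⟨fun a b => Subtype.ext (Subtype.ext (elemAb_commute hE a.2 b.2))⟩⟩, fun a ha => Subtype.ext (hE.2 _ ha)⟩
    (by rw [Nat.card_congr (Subgroup.subgroupOfEquivOfLe hES).toEquiv]; exact hE8)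
  refine ⟨V.map (S : Subgroup G).subtype, lc, Subgroup.map_subtype_le _, ?_, ?_, ?_, ⟨E, hES, hE, hE8⟩, hsmall⟩
  · have h := Subgroup.le_normalizer_map (H := V) (S : Subgroup G).subtype
    rwa [@Subgroup.normalizer_eq_top _ _ _ hVn, ← MonoidHom.range_eq_map, Subgroup.range_subtype] at h
  · refine ⟨Fusion.isMulCommutative_map _ hV.1, ?_⟩
    rintro _ ⟨a, ha, rfl⟩
    exact congrArg (fun w : ↥(S : Subgroup G) => (w : G)) (hV.2 a ha)
  · rw [Subgroup.card_map_of_injective (S : Subgroup G).subtype_injective, hV4]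

namespace Base

variable {S : Sylow 2 G} {U : Subgroup G} (B : Base S U)
include B

theorem relIndex_centralizer_le {F : Subgroup G} (hFS : F ≤ (S : Subgroup G)) :
    (Subgroup.centralizer (U : Set G)).relIndex F ≤ 2 := by
  classical
  haveI : Fact (Nat.Prime 2) := ⟨Nat.prime_two⟩
  by_contra hlt
  push Not at hlt
  set H := (Subgroup.centralizer (U : Set G)).subgroupOf F with hH
  have h3 : 3 ≤ Nat.card (↥F ⧸ H) := hlt
  obtain ⟨z, hzU, hzc, hz1⟩ : ∃ z ∈ U, (∀ s ∈ (S : Subgroup G), s * z = z * s) ∧ z ≠ 1 := by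
    haveI : (U.subgroupOf (S : Subgroup G)).Normal :=
      ⟨fun v hv g => (Subgroup.mem_normalizer_iff.1 (B.norm g.2) _).1 hv⟩
    haveI : Nontrivial ↥(U.subgroupOf (S : Subgroup G)) := Finite.one_lt_card_iff_nontrivial.1 (by
      rw [Nat.card_congr (Subgroup.subgroupOfEquivOfLe B.le).toEquiv, B.card]; norm_num)
    obtain ⟨z, hz, hzc, hz1⟩ := Perm.exists_ne_one_center S.isPGroup' (U.subgroupOf (S : Subgroup G))
    exact ⟨z, hz, fun s hs => congrArg Subtype.val (Subgroup.mem_center_iff.1 hzc ⟨s, hs⟩),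
      fun h => hz1 (Subtype.ext h)⟩
  obtain ⟨u, huU, huz⟩ : ∃ u ∈ U, u ∉ Subgroup.zpowers z := by
    by_contra h
    push Not at h
    have := Subgroup.card_le_of_le (show U ≤ Subgroup.zpowers z from h)
    rw [B.card, Nat.card_zpowers, orderOf_of_mem B.elem hzU hz1] at this
    omega
  have hu1 : u ≠ 1 := fun h => huz (h ▸ one_mem _)
  -- `U` consists of `1`, `z`, `u` and `u * z`
  have hall : ∀ w ∈ U, w = 1 ∨ w = z ∨ w = u ∨ w = u * z := by
    intro w hw
    by_contra hcon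
    push Not at hcon
    have hzz : z * z = 1 := by rw [← sq]; exact B.elem.2 z hzU
    have huu : u * u = 1 := by rw [← sq]; exact B.elem.2 u huU
    have hn1 : u * z ≠ 1 := fun h => huz (by
      rw [eq_inv_of_mul_eq_one_left h]; exact inv_mem (Subgroup.mem_zpowers z))
    have hnu : u * z ≠ u := fun h => hz1 (mul_eq_left.1 h)
    have hnz : u * z ≠ z := fun h => hu1 (mul_eq_right.1 h)
    have hzu : z ≠ u := fun h => huz (h ▸ Subgroup.mem_zpowers z)
    let v : Fin 5 → U := ![1, ⟨z, hzU⟩, ⟨u, huU⟩, ⟨u * z, mul_mem huU hzU⟩, ⟨w, hw⟩]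
    have hv : Function.Injective v := by
      intro i j h
      fin_cases i <;> fin_cases j <;>
        first
          | rfl
          | (exfalso; simp [v, Subtype.ext_iff, hz1, hu1, hn1, hnu, hnz, hzu, hcon.1, hcon.2.1, hcon.2.2.1,
              hcon.2.2.2, Ne.symm hz1, Ne.symm hu1, Ne.symm hn1, Ne.symm hnu, Ne.symm hnz, Ne.symm hzu,
              Ne.symm hcon.1, Ne.symm hcon.2.1, Ne.symm hcon.2.2.1, Ne.symm hcon.2.2.2] at h)
    have := Nat.card_le_card_of_injective v hv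
    rw [Nat.card_fin, B.card] at this
    omega
  have hcent : ∀ f : ↥F, (f : G) * u * (f : G)⁻¹ = u → f ∈ H := by
    intro f hf
    rw [hH, Subgroup.mem_subgroupOf]
    refine Subgroup.mem_centralizer_iff.2 fun w hw => ?_
    have h1 : (f : G) * z = z * f := hzc _ (hFS f.2)
    have h2 : (f : G) * u = u * f := mul_inv_eq_iff_eq_mul.1 hf
    rcases hall w hw with rfl | rfl | rfl | rfl
    · simp
    · exact h1.symm
    · exact h2.symm
    · exact ((show Commute (f : G) u from h2).mul_right h1).eq.symm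
  have himg : ∀ f : ↥F, f ∉ H → (f : G) * u * (f : G)⁻¹ = u * z := by
    intro f hf
    have hne : (f : G) * u * (f : G)⁻¹ ≠ u := fun h => hf (hcent f h)
    have hmem : (f : G) * u * (f : G)⁻¹ ∈ U := (Subgroup.mem_normalizer_iff.1 (B.norm (hFS f.2)) u).1 huU
    rcases hall _ hmem with h | h | h | h
    · exact absurd (conj_eq_one_iff.1 h) hu1
    · exfalso
      refine huz ?_
      have : u = z := by
        calc u = (f : G)⁻¹ * ((f : G) * u * (f : G)⁻¹) * f := by group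
          _ = (f : G)⁻¹ * (z * f) := by rw [h]; group
          _ = z := by rw [← hzc _ (hFS f.2)]; group
      rw [this]; exact Subgroup.mem_zpowers z
    · exact absurd h hne
    · exact h
  have hsub : ∀ q q' : ↥F ⧸ H, q ≠ QuotientGroup.mk 1 → q' ≠ QuotientGroup.mk 1 → q = q' := by
    intro q q'
    refine QuotientGroup.induction_on q fun a => QuotientGroup.induction_on q' fun b ha hb => ?_
    have hnot : ∀ c : ↥F, (QuotientGroup.mk c : ↥F ⧸ H) ≠ QuotientGroup.mk 1 → c ∉ H := fun c hc h =>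
      hc (QuotientGroup.eq.2 (by simpa using inv_mem h))
    have e1 := himg a (hnot a ha)
    have e2 := himg b (hnot b hb)
    refine QuotientGroup.eq.2 (hcent _ ?_)
    rw [Subgroup.coe_mul, Subgroup.coe_inv]
    calc (a : G)⁻¹ * b * u * ((a : G)⁻¹ * b)⁻¹ = (a : G)⁻¹ * ((b : G) * u * (b : G)⁻¹) * a := by group
      _ = (a : G)⁻¹ * ((a : G) * u * (a : G)⁻¹) * a := by rw [e1, e2]
      _ = u := by group
  letI : Fintype (↥F ⧸ H) := Fintype.ofFinite _
  rw [Nat.card_eq_fintype_card] at h3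
  obtain ⟨x, y, w, hxy, hxw, hyw⟩ := Fintype.two_lt_card_iff.1 (by omega : 2 < Fintype.card (↥F ⧸ H))
  by_cases hx : x = QuotientGroup.mk 1
  · exact hyw (hsub y w (fun h => hxy (hx.trans h.symm)) fun h => hxw (hx.trans h.symm))
  · by_cases hy : y = QuotientGroup.mk 1
    · exact hxw (hsub x w hx fun h => hyw (hy.trans h.symm))
    · exact hxy (hsub x y hx hy)

theorem centralizer_fixed_four {F : Subgroup G} (hFS : F ≤ (S : Subgroup G)) (hF : El8 F) :
    4 ≤ Nat.card ↥(F ⊓ Subgroup.centralizer (U : Set G)) := by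
  have hidx := B.relIndex_centralizer_le hFS
  have h := ((Subgroup.centralizer (U : Set G)).subgroupOf F).card_mul_index
  have hc : Nat.card ↥((Subgroup.centralizer (U : Set G)).subgroupOf F) = Nat.card ↥(F ⊓ Subgroup.centralizer (U : Set G)) := by
    rw [← Subgroup.card_map_of_injective F.subtype_injective, Subgroup.subgroupOf_map_subtype, inf_comm]
  rw [hc] at h
  have h8 := hF.2
  have := Nat.mul_le_mul_left (Nat.card ↥(F ⊓ Subgroup.centralizer (U : Set G))) hidx
  rw [Subgroup.relIndex] at this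
  omega

theorem wc_of_el8 {F : Subgroup G} (hFS : F ≤ (S : Subgroup G)) (hF : El8 F) : Wc F = Wc U := by
  have h4 := B.centralizer_fixed_four hFS hF
  set F0 := F ⊓ Subgroup.centralizer (U : Set G)
  have hA : Cfsg.IsElementaryAbelian 2 (U ⊔ F0) :=
    elemAb_sup B.elem (elemAb_mono hF.1 inf_le_left) fun u hu f hf => Subgroup.mem_centralizer_iff.1 hf.2 u hu
  rw [← wc_eq B.lc hF.1 (inf_le_left : F0 ≤ F) h4 hF.2]
  by_cases h8 : 8 ≤ Nat.card ↥(U ⊔ F0 : Subgroup G)
  · rw [wc_eq B.lc hA le_sup_right h4 h8, ← wc_eq B.lc hA le_sup_left B.card.ge h8]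
  · obtain ⟨k, hk⟩ := elemAb_card_pow hA
    have hle : Nat.card ↥(U ⊔ F0 : Subgroup G) ≤ 4 := by
      rw [hk] at h8 ⊢
      exact le_four_of_not_eight h8
    exact (congrArg Wc (Subgroup.eq_of_le_of_card_ge le_sup_right (hle.trans h4) : F0 = U ⊔ F0)).trans
      (congrArg Wc (Subgroup.eq_of_le_of_card_ge le_sup_left (B.card.symm ▸ hle) : U = U ⊔ F0)).symm

theorem exists_el8_four : ∃ F : Subgroup G, F ≤ (S : Subgroup G) ∧ El8 F ∧ U ≤ F := by
  obtain ⟨E, hES, hE⟩ := B.rank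
  have h4 := B.centralizer_fixed_four hES hE
  set F0 := E ⊓ Subgroup.centralizer (U : Set G)
  have hA : Cfsg.IsElementaryAbelian 2 (U ⊔ F0) :=
    elemAb_sup B.elem (elemAb_mono hE.1 inf_le_left) fun u hu f hf => Subgroup.mem_centralizer_iff.1 hf.2 u hu
  by_cases h8 : 8 ≤ Nat.card ↥(U ⊔ F0 : Subgroup G)
  · exact ⟨U ⊔ F0, sup_le B.le (inf_le_left.trans hES), ⟨hA, h8⟩, le_sup_left⟩
  · haveI : Fact (Nat.Prime 2) := ⟨Nat.prime_two⟩
    obtain ⟨k, hk⟩ := elemAb_card_pow hA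
    have hk2 : k ≤ 2 := by
      by_contra hlt
      exact h8 (hk ▸ Nat.pow_le_pow_right two_pos (by omega : 3 ≤ k))
    have hle : Nat.card ↥(U ⊔ F0 : Subgroup G) ≤ 4 := hk ▸ Nat.pow_le_pow_right two_pos hk2
    have e1 : U = U ⊔ F0 := Subgroup.eq_of_le_of_card_ge le_sup_left (by rw [B.card]; exact hle)
    have e2 : F0 = U ⊔ F0 := Subgroup.eq_of_le_of_card_ge le_sup_right (hle.trans h4)
    exact ⟨E, hES, hE, (e1.trans e2.symm).le.trans inf_le_left⟩

theorem big_of_commute {b : G} (hb : b ∈ (S : Subgroup G)) (hb2 : orderOf b = 2)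
    (hbU : b ∈ Subgroup.centralizer (U : Set G)) : ∃ F : Subgroup G, F ≤ (S : Subgroup G) ∧ El8 F ∧ b ∈ F := by
  haveI : Fact (Nat.Prime 2) := ⟨Nat.prime_two⟩
  by_cases h : b ∈ U
  · obtain ⟨F, hFS, hF, hUF⟩ := B.exists_el8_four
    exact ⟨F, hFS, hF, hUF h⟩
  · have hb' : b ^ 2 = 1 := by rw [← hb2, pow_orderOf_eq_one]
    have hA : Cfsg.IsElementaryAbelian 2 (U ⊔ Subgroup.zpowers b) :=
      elemAb_sup B.elem (elemAb_zpowers hb') fun u hu x hx => by
        obtain ⟨i, rfl⟩ := Subgroup.mem_zpowers_iff.1 hx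
        exact ((show Commute u b from Subgroup.mem_centralizer_iff.1 hbU u hu).zpow_right i).eq
    refine ⟨_, sup_le B.le (Subgroup.zpowers_le.2 hb), ⟨hA, ?_⟩, Subgroup.mem_sup_right (Subgroup.mem_zpowers b)⟩
    obtain ⟨k, hk⟩ := elemAb_card_pow hA
    have hlt : 2 ^ 2 < Nat.card ↥(U ⊔ Subgroup.zpowers b : Subgroup G) := by
      rw [show (2 : ℕ) ^ 2 = Nat.card ↥U by rw [B.card]; norm_num]
      refine lt_of_le_of_ne (Subgroup.card_le_of_le le_sup_left) fun e => h ?_
      rw [Subgroup.eq_of_le_of_card_ge le_sup_left e.ge]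
      exact Subgroup.mem_sup_right (Subgroup.mem_zpowers b)
    rw [hk] at hlt ⊢
    exact Nat.pow_le_pow_right two_pos (Nat.succ_le_of_lt ((Nat.pow_lt_pow_iff_right one_lt_two).1 hlt))

theorem odd_wc : Odd (Nat.card ↥(Wc U)) := by
  obtain ⟨F, hFS, hF, -⟩ := B.exists_el8_four
  rw [← B.wc_of_el8 hFS hF]
  exact Lie.CoreFun.Wc_odd B.lc hF.1 hF.2

theorem normalizer_le {Q F : Subgroup G} (hQS : Q ≤ (S : Subgroup G)) (hFQ : F ≤ Q) (hF : El8 F) :
    Subgroup.normalizer (Q : Set G) ≤ Subgroup.normalizer (Wc U : Set G) := by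
  intro g hg
  refine mem_normalizer_iff_cj.2 ?_
  conv_lhs => rw [← B.wc_of_el8 (hFQ.trans hQS) hF]
  rw [Wc_cj]
  refine B.wc_of_el8 ((cj_mono hFQ g).trans ((cj_eq_self hg).le.trans hQS)) ⟨elemAb_cj hF.1 g, ?_⟩
  rw [card_cj]; exact hF.2

theorem normalizer_sylow_le :
    Subgroup.normalizer ((S : Subgroup G) : Set G) ≤ Subgroup.normalizer (Wc U : Set G) := by
  obtain ⟨E, hES, hE⟩ := B.rank
  exact B.normalizer_le le_rfl hES hE

theorem sylow_le : (S : Subgroup G) ≤ Subgroup.normalizer (Wc U : Set G) :=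
  Subgroup.le_normalizer.trans B.normalizer_sylow_le

/-- The central involutions of `C_S(U)` lie in `U`. -/
theorem mem_of_central {x : G} (hxS : x ∈ (S : Subgroup G)) (hxU : x ∈ Subgroup.centralizer (U : Set G))
    (hx : x * x = 1)
    (hxc : ∀ s ∈ (S : Subgroup G), s ∈ Subgroup.centralizer (U : Set G) → s * x = x * s) : x ∈ U := by
  obtain ⟨S0, hS0⟩ : ∃ S0, S0 = (S : Subgroup G) ⊓ Subgroup.centralizer (U : Set G) := ⟨_, rfl⟩
  let N : Subgroup G :=
    { carrier := {y | y ∈ S0 ∧ y * y = 1 ∧ ∀ s ∈ S0, s * y = y * s}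
      one_mem' := ⟨one_mem _, one_mul 1, fun s _ => by simp⟩
      mul_mem' := fun {a b} ha hb => ⟨mul_mem ha.1 hb.1, by
          rw [show a * b * (a * b) = a * (b * a) * b by group, ha.2.2 b hb.1,
            show a * (a * b) * b = (a * a) * (b * b) by group, ha.2.1, hb.2.1, one_mul],
        fun s hs => by
          rw [← mul_assoc, ha.2.2 s hs, mul_assoc, hb.2.2 s hs, mul_assoc]⟩
      inv_mem' := fun {a} (ha : a ∈ S0 ∧ a * a = 1 ∧ ∀ s ∈ S0, s * a = a * s) => by
        show a⁻¹ ∈ S0 ∧ a⁻¹ * a⁻¹ = 1 ∧ ∀ s ∈ S0, s * a⁻¹ = a⁻¹ * s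
        rw [inv_eq_of_mul_eq_one_right ha.2.1]; exact ha }
  have hNe : Cfsg.IsElementaryAbelian 2 N :=
    ⟨⟨⟨fun a b => Subtype.ext (b.2.2.2 _ a.2.1)⟩⟩, fun a ha => by rw [sq]; exact ha.2.1⟩
  have hNS : N ≤ (S : Subgroup G) := fun y hy => (Subgroup.mem_inf.1 (hS0 ▸ hy.1)).1
  have hn0 : ∀ g ∈ (S : Subgroup G), ∀ y ∈ S0, g * y * g⁻¹ ∈ S0 := by
    intro g hg y hy
    rw [hS0] at hy ⊢
    refine ⟨(S : Subgroup G).mul_mem ((S : Subgroup G).mul_mem hg hy.1) ((S : Subgroup G).inv_mem hg), Subgroup.mem_centralizer_iff.2 fun u hu => ?_⟩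
    have hu' : g⁻¹ * u * g ∈ U := by
      simpa using (Subgroup.mem_normalizer_iff.1 (B.norm (inv_mem hg)) u).1 hu
    calc u * (g * y * g⁻¹) = g * ((g⁻¹ * u * g) * y) * g⁻¹ := by group
      _ = g * (y * (g⁻¹ * u * g)) * g⁻¹ := by rw [Subgroup.mem_centralizer_iff.1 hy.2 _ hu']
      _ = g * y * g⁻¹ * u := by group
  have hNn : (S : Subgroup G) ≤ Subgroup.normalizer (N : Set G) := by
    intro g hg
    refine mem_normalizer_of_cj_le ?_
    rintro _ ⟨y, hy, rfl⟩
    show g * y * g⁻¹ ∈ N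
    refine ⟨hn0 g hg y hy.1, ?_, fun s hs => ?_⟩
    · rw [show g * y * g⁻¹ * (g * y * g⁻¹) = g * (y * y) * g⁻¹ by group, hy.2.1, mul_one, mul_inv_cancel]
    · have hs' : g⁻¹ * s * g ∈ S0 := by simpa using hn0 g⁻¹ (inv_mem hg) s hs
      calc s * (g * y * g⁻¹) = g * ((g⁻¹ * s * g) * y) * g⁻¹ := by group
        _ = g * (y * (g⁻¹ * s * g)) * g⁻¹ := by rw [hy.2.2 _ hs']
        _ = g * y * g⁻¹ * s := by group
  have hUN : U ≤ N := fun y hy => ⟨hS0 ▸ ⟨B.le hy, Subgroup.mem_centralizer_iff.2 fun u hu =>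
      elemAb_commute B.elem hu hy⟩, by rw [← sq]; exact B.elem.2 y hy,
    fun s hs => (Subgroup.mem_centralizer_iff.1 (Subgroup.mem_inf.1 (hS0 ▸ hs)).2 y hy).symm⟩
  obtain ⟨k, hk⟩ := elemAb_card_pow hNe
  have h4 : Nat.card ↥N ≤ Nat.card ↥U := by
    rw [B.card, hk]
    exact le_four_of_not_eight (not_le.2 (hk ▸ B.small N hNS hNe hNn))
  rw [Subgroup.eq_of_le_of_card_ge hUN h4]
  exact ⟨hS0 ▸ ⟨hxS, hxU⟩, hx, fun s hs => hxc s (Subgroup.mem_inf.1 (hS0 ▸ hs)).1
    (Subgroup.mem_inf.1 (hS0 ▸ hs)).2⟩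

theorem exists_central : ∃ z ∈ U, z ≠ 1 ∧ ∀ s ∈ (S : Subgroup G), s * z = z * s := by
  haveI : Fact (Nat.Prime 2) := ⟨Nat.prime_two⟩
  haveI : (U.subgroupOf (S : Subgroup G)).Normal :=
    ⟨fun v hv g => (Subgroup.mem_normalizer_iff.1 (B.norm g.2) _).1 hv⟩
  haveI : Nontrivial ↥(U.subgroupOf (S : Subgroup G)) := Finite.one_lt_card_iff_nontrivial.1 (by
    rw [Nat.card_congr (Subgroup.subgroupOfEquivOfLe B.le).toEquiv, B.card]; norm_num)
  obtain ⟨z, hz, hzc, hz1⟩ := Perm.exists_ne_one_center S.isPGroup' (U.subgroupOf (S : Subgroup G))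
  exact ⟨z, hz, fun h => hz1 (Subtype.ext h),
    fun s hs => congrArg Subtype.val (Subgroup.mem_center_iff.1 hzc ⟨s, hs⟩)⟩

/-- The centraliser of a central involution normalises the closure. -/
theorem centralizer_central_le {z : G} (hzU : z ∈ U) (hz1 : z ≠ 1)
    (hzc : ∀ s ∈ (S : Subgroup G), s * z = z * s) :
    Subgroup.centralizer ({z} : Set G) ≤ Subgroup.normalizer (Wc U : Set G) := by
  classical
  haveI : Fact (Nat.Prime 2) := ⟨Nat.prime_two⟩
  obtain ⟨F, hFS, hF, hUF⟩ := B.exists_el8_four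
  have hWF : Wc F = Wc U := B.wc_of_el8 hFS hF
  have hz2 : orderOf z = 2 := orderOf_eq_prime (B.elem.2 z hzU) hz1
  have hzz : z * z = 1 := by rw [← sq]; exact B.elem.2 z hzU
  obtain ⟨C, hC⟩ : ∃ C, C = Subgroup.centralizer ({z} : Set G) := ⟨_, rfl⟩
  have hSC : (S : Subgroup G) ≤ C := fun s hs => hC ▸ Subgroup.mem_centralizer_singleton_iff.2 (hzc s hs)
  set R : Sylow 2 ↥C := S.subtype hSC with hR
  have hcons : Cfsg.IsPConstrained 2 ↥C :=
    hC ▸ isPConstrained_iff_pLayer.2 (Lie.CoreFun.layer_bot B.lc hz2)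
  have hθW : Cfsg.centralizerPPrimeCore 2 z ≤ Wc U := core_le_Wc' hzU hz1
  set O := Cfsg.pPrimeCore 2 ↥C with hO
  have hOθ : O.map C.subtype = Cfsg.centralizerPPrimeCore 2 z := by subst hC; rfl
  set N := Cfsg.pPrimePCore 2 ↥C with hN
  haveI : N.Normal := by rw [hN]; unfold Cfsg.pPrimePCore; infer_instance
  have hNM : N.map C.subtype ≤ Subgroup.normalizer (Wc U : Set G) := by
    have h1 : N ≤ (R : Subgroup ↥C) ⊔ O := by
      conv_rhs => rw [show O = (QuotientGroup.mk' O).ker from (QuotientGroup.ker_mk' O).symm,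
        ← Subgroup.comap_map_eq]
      exact Subgroup.comap_mono
        (pCore_le_sylIn (sylIn_top (R.mapSurjective (QuotientGroup.mk'_surjective O))))
    refine (Subgroup.map_mono h1).trans ?_
    rw [Subgroup.map_sup, hOθ]
    refine sup_le ?_ (hθW.trans Subgroup.le_normalizer)
    rintro _ ⟨x, hx, rfl⟩
    exact B.sylow_le hx
  have hzC : z ∈ C := hSC (B.le hzU)
  have hUN : ∀ (u : G) (hu : u ∈ U), (⟨u, hSC (B.le hu)⟩ : ↥C) ∈ N := by
    intro u hu
    refine mem_pre_of_comm hcons R (v := ⟨z, hzC⟩)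
      (fun c => Subtype.ext (Subgroup.mem_centralizer_singleton_iff.1 (hC ▸ c.2)))
      (Subtype.ext hzz) (B.le hu) fun q hq => ?_
    have hqu : (q : G) * u * (q : G)⁻¹ ∈ U := (Subgroup.mem_normalizer_iff.1 (B.norm hq) u).1 hu
    have hcU : (q : G) * u * (q : G)⁻¹ * u⁻¹ ∈ U := mul_mem hqu (inv_mem hu)
    suffices h : (q : G) * u * (q : G)⁻¹ * u⁻¹ = 1 ∨ (q : G) * u * (q : G)⁻¹ * u⁻¹ = z by
      rcases h with h | h
      · rw [show q * (⟨u, hSC (B.le hu)⟩ : ↥C) * q⁻¹ * (⟨u, hSC (B.le hu)⟩ : ↥C)⁻¹ = 1 from Subtype.ext h]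
        exact one_mem _
      · rw [show q * (⟨u, hSC (B.le hu)⟩ : ↥C) * q⁻¹ * (⟨u, hSC (B.le hu)⟩ : ↥C)⁻¹ = ⟨z, hzC⟩ from Subtype.ext h]
        exact Subgroup.mem_zpowers _
    by_cases hu1 : u = 1
    · left; simp [hu1]
    by_cases huz : u = z
    · left; rw [huz, hzc (q : G) hq, mul_inv_cancel_right, mul_inv_cancel]
    rcases four_cases B.elem B.card hzU hu hz1 hu1 huz _ hcU with h | h | h | h
    · exact Or.inl h
    · exact Or.inr h
    · exfalso
      rw [mul_inv_eq_iff_eq_mul, show u * u = 1 by rw [← sq]; exact B.elem.2 u hu] at h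
      exact hu1 (conj_eq_one_iff.1 h)
    · exfalso
      rw [mul_inv_eq_iff_eq_mul] at h
      replace h : (q : G) * u * (q : G)⁻¹ = z := h.trans (by
        rw [elemAb_commute B.elem hu hzU, mul_assoc, show u * u = 1 by rw [← sq]; exact B.elem.2 u hu, mul_one])
      refine huz ?_
      calc u = (q : G)⁻¹ * ((q : G) * u * (q : G)⁻¹) * q := by group
        _ = (q : G)⁻¹ * (z * q) := by rw [h]; group
        _ = z := by rw [← hzc (q : G) hq]; group
  intro x hx
  obtain ⟨W', hW'⟩ : ∃ W', W' = cj (Wc U) x := ⟨_, rfl⟩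
  have hxC : x ∈ C := hC ▸ hx
  have hUW : U ≤ Subgroup.normalizer (W' : Set G) := by
    intro u hu
    rw [hW', ← cj_normalizer, mem_cj]
    exact hNM ⟨⟨x, hxC⟩⁻¹ * ⟨u, hSC (B.le hu)⟩ * ⟨x, hxC⟩, by
      simpa using (‹N.Normal›).conj_mem _ (hUN u hu) (⟨x, hxC⟩⁻¹ : ↥C), rfl⟩
  have hWodd : Odd (Nat.card ↥W') := by rw [hW', card_cj]; exact B.odd_wc
  have hWz : W' ⊓ Subgroup.centralizer {z} = Cfsg.centralizerPPrimeCore 2 z := by
    have hzc' : x * z * x⁻¹ = z := mul_inv_eq_iff_eq_mul.2 (Subgroup.mem_centralizer_singleton_iff.1 hx)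
    have hcC : cj (Subgroup.centralizer ({z} : Set G)) x = Subgroup.centralizer {z} :=
      cj_eq_self_of_mem hx
    rw [hW', ← hcC, ← cj_inf, ← hWF, Wc_inf_centralizer B.lc hF.1 hF.2 (hUF hzU) hz1,
      cj, ← Lie.CoreFun.core_equivariant, hzc']
  refine mem_normalizer_of_cj_le ?_
  rw [← hW']
  haveI := B.elem.1
  have hgen := S0058.result U W' (TwoNilpCent.not_isCyclic_of_four B.elem B.card.ge) hUW (by
    rw [B.card]
    exact Nat.Coprime.pow_left 2 (Nat.coprime_two_left.2 hWodd))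
  rw [← hgen]
  refine iSup₂_le fun v hv => ?_
  obtain ⟨hvU, hv1⟩ := hv
  by_cases hvz : v = z
  · rw [hvz, hWz]; exact hθW
  -- `z` lies in `O_{2',2}` of the centraliser of `v`
  have hv2 : orderOf v = 2 := orderOf_eq_prime (B.elem.2 v hvU) hv1
  obtain ⟨D, hD⟩ : ∃ D, D = Subgroup.centralizer ({v} : Set G) := ⟨_, rfl⟩
  have hconsv : Cfsg.IsPConstrained 2 ↥D :=
    hD ▸ isPConstrained_iff_pLayer.2 (Lie.CoreFun.layer_bot B.lc hv2)
  obtain ⟨S0, hS0⟩ : ∃ S0, S0 = (S : Subgroup G) ⊓ Subgroup.centralizer (U : Set G) := ⟨_, rfl⟩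
  have hS0D : S0 ≤ D := fun s hs => hD ▸ Subgroup.mem_centralizer_singleton_iff.2
    (Subgroup.mem_centralizer_iff.1 (Subgroup.mem_inf.1 (hS0 ▸ hs)).2 v hvU).symm
  have hUS0 : U ≤ S0 := fun u hu => hS0 ▸ ⟨B.le hu, Subgroup.mem_centralizer_iff.2 fun w hw =>
    elemAb_commute B.elem hw hu⟩
  obtain ⟨Rv, hRv⟩ := ((S.isPGroup'.to_le (hS0 ▸ inf_le_left : S0 ≤ (S : Subgroup G))).comap_of_injective
    D.subtype D.subtype_injective).exists_le_sylow
  have hidx : (S0.subgroupOf D).relIndex (Rv : Subgroup ↥D) ≤ 2 := by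
    obtain ⟨P, hP⟩ := (Rv.isPGroup'.map D.subtype).exists_le_sylow
    have h1 : Nat.card ↥(Rv : Subgroup ↥D) ≤ Nat.card ↥(S : Subgroup G) := by
      rw [← Subgroup.card_map_of_injective D.subtype_injective]
      exact (Subgroup.card_le_of_le hP).trans_eq (P.card_eq_multiplicity.trans S.card_eq_multiplicity.symm)
    have h2 := ((Subgroup.centralizer (U : Set G)).subgroupOf (S : Subgroup G)).card_mul_index
    have h3 : Nat.card ↥((Subgroup.centralizer (U : Set G)).subgroupOf (S : Subgroup G)) = Nat.card ↥S0 := by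
      rw [← Subgroup.card_map_of_injective (S : Subgroup G).subtype_injective, Subgroup.subgroupOf_map_subtype,
        hS0, inf_comm]
    rw [h3] at h2
    have h4 := B.relIndex_centralizer_le (le_refl (S : Subgroup G))
    rw [Subgroup.relIndex] at h4
    have h5 := ((S0.subgroupOf D).subgroupOf (Rv : Subgroup ↥D)).card_mul_index
    have hRv' : S0.subgroupOf D ≤ (Rv : Subgroup ↥D) := hRv
    rw [Nat.card_congr (Subgroup.subgroupOfEquivOfLe hRv').toEquiv,
      Nat.card_congr (Subgroup.subgroupOfEquivOfLe hS0D).toEquiv] at h5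
    rw [Subgroup.relIndex]
    refine Nat.le_of_mul_le_mul_left (h5.le.trans (h1.trans (h2.symm.le.trans ?_))) Nat.card_pos
    exact Nat.mul_le_mul_left _ h4
  have hnorm : ∀ q ∈ (Rv : Subgroup ↥D), ∀ y ∈ S0, (q : G) * y * (q : G)⁻¹ ∈ S0 := by
    intro q hq y hy
    haveI : ((S0.subgroupOf D).subgroupOf (Rv : Subgroup ↥D)).Normal := by
      rcases Nat.eq_or_lt_of_le hidx with e | e
      · exact Subgroup.normal_of_index_eq_two e
      · have h0 : ((S0.subgroupOf D).subgroupOf (Rv : Subgroup ↥D)).index ≠ 0 :=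
          Subgroup.index_ne_zero_of_finite
        rw [Subgroup.relIndex] at e
        rw [Subgroup.index_eq_one.1 (by omega : ((S0.subgroupOf D).subgroupOf (Rv : Subgroup ↥D)).index = 1)]
        infer_instance
    exact this.conj_mem ⟨⟨y, hS0D hy⟩, hRv hy⟩ hy ⟨q, hq⟩
  have hzR : (⟨z, hS0D (hUS0 hzU)⟩ : ↥D) ∈ (Rv : Subgroup ↥D) := hRv (hUS0 hzU)
  have hzpre : (⟨z, hS0D (hUS0 hzU)⟩ : ↥D) ∈ Cfsg.pPrimePCore 2 ↥D := by
    have hvD : v ∈ D := hS0D (hUS0 hvU)
    refine mem_pre_of_comm hconsv Rv (v := ⟨v, hvD⟩)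
      (fun c => Subtype.ext (Subgroup.mem_centralizer_singleton_iff.1 (hD ▸ c.2)))
      (Subtype.ext (by rw [← sq]; exact B.elem.2 v hvU)) hzR fun q hq => ?_
    have hqD : (q : G) * v = v * q := Subgroup.mem_centralizer_singleton_iff.1 (hD ▸ q.2)
    have hqz : (q : G) * z * (q : G)⁻¹ ∈ U := by
      have h0 := hnorm q hq z (hUS0 hzU)
      rw [hS0] at h0
      refine B.mem_of_central h0.1 h0.2 ?_ fun s hs hsU => ?_
      · rw [show (q : G) * z * (q : G)⁻¹ * ((q : G) * z * (q : G)⁻¹) = (q : G) * (z * z) * (q : G)⁻¹ by group,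
          hzz, mul_one, mul_inv_cancel]
      · have hs' : (q : G)⁻¹ * s * q ∈ S0 := by
          have := hnorm q⁻¹ (inv_mem hq) s (hS0 ▸ ⟨hs, hsU⟩)
          simpa using this
        calc s * ((q : G) * z * (q : G)⁻¹) = q * (((q : G)⁻¹ * s * q) * z) * (q : G)⁻¹ := by group
          _ = q * (z * ((q : G)⁻¹ * s * q)) * (q : G)⁻¹ := by rw [hzc _ (Subgroup.mem_inf.1 (hS0 ▸ hs')).1]
          _ = (q : G) * z * (q : G)⁻¹ * s := by group
    rcases four_cases B.elem B.card hzU hvU hz1 hv1 hvz _ hqz with h | h | h | h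
    · exact absurd (conj_eq_one_iff.1 h) hz1
    · rw [show q * (⟨z, hS0D (hUS0 hzU)⟩ : ↥D) * q⁻¹ * (⟨z, hS0D (hUS0 hzU)⟩ : ↥D)⁻¹ = 1 from
        Subtype.ext (by
          show (q : G) * z * (q : G)⁻¹ * z⁻¹ = 1
          rw [h, mul_inv_cancel])]
      exact one_mem _
    · exfalso
      refine hvz ?_
      calc v = (q : G)⁻¹ * (q * v) := by group
        _ = (q : G)⁻¹ * (v * q) := by rw [hqD]
        _ = (q : G)⁻¹ * ((q : G) * z * (q : G)⁻¹ * q) := by rw [h]
        _ = z := by group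
    · rw [show q * (⟨z, hS0D (hUS0 hzU)⟩ : ↥D) * q⁻¹ * (⟨z, hS0D (hUS0 hzU)⟩ : ↥D)⁻¹ = ⟨v, hvD⟩ from
        Subtype.ext (by
          show (q : G) * z * (q : G)⁻¹ * z⁻¹ = v
          rw [h, mul_inv_cancel_right])]
      exact Subgroup.mem_zpowers _
  intro l hl
  obtain ⟨hlW, hlv⟩ := hl
  have hlD : l ∈ D := hD ▸ hlv
  obtain ⟨e, he, d, hd, hew, hled⟩ := decomp_mem hzpre (Subtype.ext hzz) (L := W'.subgroupOf D) (by
      refine Odd.of_dvd_nat hWodd ?_
      rw [← Subgroup.card_map_of_injective D.subtype_injective, Subgroup.subgroupOf_map_subtype]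
      exact Subgroup.card_dvd_of_le inf_le_left)
    (fun y hy => by
      show z * (y : G) * z⁻¹ ∈ W'
      exact (Subgroup.mem_normalizer_iff.1 (hUW hzU) _).1 hy) (l := ⟨l, hlD⟩) hlW
  obtain ⟨Fv, hFv⟩ : ∃ Fv, Fv = Cfsg.centralizerPPrimeCore 2 v := ⟨_, rfl⟩
  have hdv : (d : G) ∈ Fv := by subst hD; exact hFv ▸ ⟨d, hd, rfl⟩
  have hev : (e : G) ∈ Fv := by
    rw [hFv]
    refine Lie.CoreFun.core_balance_two B.lc ⟨1, by rw [hz2, pow_one]⟩ hv2 (elemAb_commute B.elem hzU hvU) ⟨?_, hD ▸ e.2⟩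
    rw [← hWz]
    exact ⟨he, Subgroup.mem_centralizer_singleton_iff.2 (congrArg Subtype.val hew)⟩
  have hFU : Fv ≤ Wc U := hFv ▸ core_le_Wc' hvU hv1
  rw [show l = (e : G) * (d : G) from congrArg Subtype.val hled]
  exact mul_mem (hFU hev) (hFU hdv)

end Base

theorem wc_agree {S S' : Sylow 2 G} {U U' F : Subgroup G} (B : Base S U) (B' : Base S' U')
    (h1 : F ≤ (S : Subgroup G)) (h2 : F ≤ (S' : Subgroup G)) (hF : El8 F) : Wc U' = Wc U :=
  (B'.wc_of_el8 h2 hF).symm.trans (B.wc_of_el8 h1 hF)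

section Main

variable (hall : ∀ S : Sylow 2 G, ∃ U : Subgroup G, Base S U)
include hall

/-- An involution with an `El8` in its centraliser in `S`. -/
theorem centralizer_big_le {S : Sylow 2 G} {U : Subgroup G} (B : Base S U) {a : G} (ha : orderOf a = 2)
    {F : Subgroup G} (hFS : F ≤ (S : Subgroup G)) (hF : El8 F) (haF : a ∈ F) :
    Subgroup.centralizer ({a} : Set G) ≤ Subgroup.normalizer (Wc U : Set G) := by
  classical
  haveI : Fact (Nat.Prime 2) := ⟨Nat.prime_two⟩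
  have ha1 : a ≠ 1 := fun h => by rw [h, orderOf_one] at ha; omega
  obtain ⟨C, hC⟩ : ∃ C, C = Subgroup.centralizer ({a} : Set G) := ⟨_, rfl⟩
  have hFC : F ≤ C := fun f hf => hC ▸ Subgroup.mem_centralizer_singleton_iff.2 (elemAb_commute hF.1 hf haF)
  obtain ⟨R, hR⟩ := ((elemAb_isPGroup hF.1).comap_of_injective C.subtype C.subtype_injective).exists_le_sylow
  obtain ⟨S', hS'⟩ := (R.isPGroup'.map C.subtype).exists_le_sylow
  have hFS' : F ≤ (S' : Subgroup G) := fun f hf => hS' ⟨⟨f, hFC hf⟩, hR hf, rfl⟩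
  obtain ⟨U', B'⟩ := hall S'
  rw [← wc_agree B B' hFS hFS' hF]
  obtain ⟨z, hzU, hz1, hzc⟩ := B'.exists_central
  by_cases hac : ∀ s ∈ (S' : Subgroup G), s * a = a * s
  · exact B'.centralizer_central_le (B'.mem_of_central (hFS' haF)
      (Subgroup.mem_centralizer_iff.2 fun u hu => hac u (B'.le hu))
      (by rw [← sq, ← ha, pow_orderOf_eq_one]) fun s hs _ => hac s hs) ha1 hac
  have hza : z ≠ a := fun e => hac fun s hs => e ▸ hzc s hs
  have hzC : z ∈ C := hC ▸ Subgroup.mem_centralizer_singleton_iff.2 (hzc a (hFS' haF)).symm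
  have hRe : (R : Subgroup ↥C) = (S' : Subgroup G).subgroupOf C :=
    (R.3 (S'.isPGroup'.comap_of_injective C.subtype C.subtype_injective) fun x hx => hS' ⟨x, hx, rfl⟩).symm
  have hzR : (⟨z, hzC⟩ : ↥C) ∈ (R : Subgroup ↥C) := hRe ▸ B'.le hzU
  have haC : a ∈ C := hFC haF
  have haR : (⟨a, haC⟩ : ↥C) ∈ (R : Subgroup ↥C) := hR haF
  have hcons : Cfsg.IsPConstrained 2 ↥C :=
    hC ▸ isPConstrained_iff_pLayer.2 (Lie.CoreFun.layer_bot B.lc ha)
  have haa : a * a = 1 := by rw [← sq, ← ha, pow_orderOf_eq_one]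
  have hzz : z * z = 1 := by rw [← sq]; exact B'.elem.2 z hzU
  have hacent : ∀ c : ↥C, c * ⟨a, haC⟩ = ⟨a, haC⟩ * c := fun c =>
    Subtype.ext (Subgroup.mem_centralizer_singleton_iff.1 (hC ▸ c.2))
  have hzcent : ∀ c ∈ (R : Subgroup ↥C), c * ⟨z, hzC⟩ = ⟨z, hzC⟩ * c := fun c hc =>
    Subtype.ext (hzc _ (hS' ⟨c, hc, rfl⟩))
  set N := Cfsg.pPrimePCore 2 ↥C with hN
  haveI : N.Normal := by rw [hN]; unfold Cfsg.pPrimePCore; infer_instance
  set O := Cfsg.pPrimeCore 2 ↥C with hO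
  have haN : (⟨a, haC⟩ : ↥C) ∈ N := mem_pre_of_comm hcons R (v := ⟨a, haC⟩) hacent (Subtype.ext haa) haR
    fun q _ => by rw [hacent q, mul_inv_cancel_right, mul_inv_cancel]; exact one_mem _
  have hzN : (⟨z, hzC⟩ : ↥C) ∈ N := mem_pre_of_comm hcons R (v := ⟨a, haC⟩) hacent (Subtype.ext haa) hzR
    fun q hq => by rw [hzcent q hq, mul_inv_cancel_right, mul_inv_cancel]; exact one_mem _
  let P : Sylow 2 ↥N := Sylow.ofCard (((R : Subgroup ↥C) ⊓ N).subgroupOf N) (by
    rw [Nat.card_congr (Subgroup.subgroupOfEquivOfLe inf_le_right).toEquiv, Solv.AbelianConj.card_sylow_inf])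
  have hPm : (P : Subgroup N).map N.subtype = (R : Subgroup ↥C) ⊓ N :=
    Subgroup.map_subgroupOf_eq_of_le inf_le_right
  obtain ⟨T, hT⟩ : ∃ T, T = (R : Subgroup ↥C) ⊓ N := ⟨_, rfl⟩
  have hTp : T.map (QuotientGroup.mk' O) = Cfsg.pCore 2 (↥C ⧸ O) := by
    rw [hT, ← hPm]; exact map_sylIn_pPrimePCore (sylIn_map N P)
  have hTO : T ⊔ O = N := by
    conv_lhs => rw [show O = (QuotientGroup.mk' O).ker from (QuotientGroup.ker_mk' O).symm,
      ← Subgroup.comap_map_eq, hTp]
    rfl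
  have hfrat : Subgroup.normalizer (T : Set ↥C) ⊔ N = ⊤ := by
    rw [hT, ← hPm]; exact Sylow.normalizer_sup_eq_top P
  obtain ⟨Tg, hTg⟩ : ∃ Tg, Tg = T.map C.subtype := ⟨_, rfl⟩
  have hTS' : Tg ≤ (S' : Subgroup G) := hTg ▸ (Subgroup.map_mono (hT ▸ inf_le_left)).trans hS'
  have hFM : Wc F = Wc U' := B'.wc_of_el8 hFS' hF
  -- the involutions of the centre
  let Z : Subgroup G :=
    { carrier := {x | x ∈ Tg ∧ x * x = 1 ∧ ∀ y ∈ Tg, y * x = x * y}
      one_mem' := ⟨one_mem _, one_mul 1, fun s _ => by simp⟩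
      mul_mem' := fun {b c} hb hc => ⟨mul_mem hb.1 hc.1, by
          rw [show b * c * (b * c) = b * (c * b) * c by group, hb.2.2 c hc.1,
            show b * (b * c) * c = (b * b) * (c * c) by group, hb.2.1, hc.2.1, one_mul],
        fun s hs => by rw [← mul_assoc, hb.2.2 s hs, mul_assoc, hc.2.2 s hs, mul_assoc]⟩
      inv_mem' := fun {b} hb => by rw [inv_eq_of_mul_eq_one_right hb.2.1]; exact hb }
  have hZe : Cfsg.IsElementaryAbelian 2 Z :=
    ⟨⟨⟨fun b c => Subtype.ext (c.2.2.2 _ b.2.1)⟩⟩, fun b hb => by rw [sq]; exact hb.2.1⟩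
  have hnZ : Subgroup.normalizer (Tg : Set G) ≤ Subgroup.normalizer (Z : Set G) := by
    intro g hg
    refine mem_normalizer_of_cj_le ?_
    rintro _ ⟨y, hy, rfl⟩
    show g * y * g⁻¹ ∈ Z
    refine ⟨(Subgroup.mem_normalizer_iff.1 hg _).1 hy.1, ?_, fun s hs => ?_⟩
    · rw [show g * y * g⁻¹ * (g * y * g⁻¹) = g * (y * y) * g⁻¹ by group, hy.2.1, mul_one, mul_inv_cancel]
    · have hs' : g⁻¹ * s * g ∈ Tg := by
        simpa using (Subgroup.mem_normalizer_iff.1 (inv_mem hg) _).1 hs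
      calc s * (g * y * g⁻¹) = g * ((g⁻¹ * s * g) * y) * g⁻¹ := by group
        _ = g * (y * (g⁻¹ * s * g)) * g⁻¹ := by rw [hy.2.2 _ hs']
        _ = g * y * g⁻¹ * s := by group
  have haT : a ∈ Tg := hTg ▸ ⟨⟨a, haC⟩, hT ▸ ⟨haR, haN⟩, rfl⟩
  have hzT : z ∈ Tg := hTg ▸ ⟨⟨z, hzC⟩, hT ▸ ⟨hzR, hzN⟩, rfl⟩
  have hTC : ∀ y ∈ Tg, y * a = a * y := fun y hy =>
    Subgroup.mem_centralizer_singleton_iff.1 (hC ▸ (Subgroup.map_subtype_le T (hTg ▸ hy)))
  have haZ : a ∈ Z := ⟨haT, haa, hTC⟩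
  have hzZ : z ∈ Z := ⟨hzT, hzz, fun y hy => hzc y (hTS' hy)⟩
  have hNT : Subgroup.normalizer (Tg : Set G) ≤ Subgroup.normalizer (Wc U' : Set G) := by
    by_cases h8 : 8 ≤ Nat.card ↥Z
    · exact B'.normalizer_le (F := Z) hTS' (fun x (hx : x ∈ Tg ∧ x * x = 1 ∧ ∀ y ∈ Tg, y * x = x * y) => hx.1) ⟨hZe, h8⟩
    -- otherwise the centre involutions form the four group generated by `a` and `z`
    obtain ⟨k, hk⟩ := elemAb_card_pow hZe
    have h4 : Nat.card ↥Z ≤ 4 := hk ▸ le_four_of_not_eight (hk ▸ h8)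
    obtain ⟨V, hV⟩ : ∃ V, V = Subgroup.zpowers a ⊔ Subgroup.zpowers z := ⟨_, rfl⟩
    have hVe : Cfsg.IsElementaryAbelian 2 V := hV ▸ elemAb_sup (elemAb_zpowers (by rw [sq, haa]))
      (elemAb_zpowers (by rw [sq, hzz])) fun x hx y hy => by
        obtain ⟨i, rfl⟩ := Subgroup.mem_zpowers_iff.1 hx
        obtain ⟨j, rfl⟩ := Subgroup.mem_zpowers_iff.1 hy
        exact ((show Commute a z from hzc a (hFS' haF)).zpow_zpow i j).eq
    have hV4 : 4 ≤ Nat.card ↥V := by
      obtain ⟨j, hj⟩ := elemAb_card_pow hVe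
      have hlt : Nat.card ↥(Subgroup.zpowers a) < Nat.card ↥V := by
        refine lt_of_le_of_ne (Subgroup.card_le_of_le (hV ▸ le_sup_left)) fun e => hza ?_
        have h1 : z ∈ Subgroup.zpowers a := (Subgroup.eq_of_le_of_card_ge (hV ▸ le_sup_left) e.ge) ▸
          hV ▸ Subgroup.mem_sup_right (Subgroup.mem_zpowers z)
        obtain ⟨i, hi⟩ := Subgroup.mem_zpowers_iff.1 h1
        rw [← zpow_mod_orderOf, ha] at hi
        rcases Int.emod_two_eq_zero_or_one i with e | e
        · rw [Nat.cast_ofNat, e, zpow_zero] at hi; exact absurd hi.symm hz1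
        · rw [Nat.cast_ofNat, e, zpow_one] at hi; exact hi.symm
      rw [Nat.card_zpowers, ha, hj] at hlt
      rw [hj]
      refine (show 4 ≤ 2 ^ 2 by norm_num).trans (Nat.pow_le_pow_right two_pos ?_)
      by_contra h
      have := Nat.pow_le_pow_right (show 0 < 2 by norm_num) (show j ≤ 1 by omega)
      omega
    have hVZ : V = Z := Subgroup.eq_of_le_of_card_ge
      (hV ▸ sup_le (Subgroup.zpowers_le.2 haZ) (Subgroup.zpowers_le.2 hzZ)) (h4.trans hV4)
    have hVS : V ≤ (S' : Subgroup G) := hV ▸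
      sup_le (Subgroup.zpowers_le.2 (hFS' haF)) (Subgroup.zpowers_le.2 (B'.le hzU))
    have hFV : Cfsg.IsElementaryAbelian 2 (F ⊔ V) := by
      refine elemAb_sup hF.1 hVe fun f hf x hx => ?_
      have h1 : V ≤ Subgroup.centralizer ({f} : Set G) := hV ▸ sup_le
        (Subgroup.zpowers_le.2 (Subgroup.mem_centralizer_singleton_iff.2 (elemAb_commute hF.1 haF hf)))
        (Subgroup.zpowers_le.2 (Subgroup.mem_centralizer_singleton_iff.2 (hzc f (hFS' hf)).symm))
      exact (Subgroup.mem_centralizer_singleton_iff.1 (h1 hx)).symm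
    have h8' : 8 ≤ Nat.card ↥(F ⊔ V) := hF.2.trans (Subgroup.card_le_of_le le_sup_left)
    have hWV : Wc V = Wc U' := (wc_eq B.lc hFV le_sup_right hV4 h8').trans
      (B'.wc_of_el8 (sup_le hFS' hVS) ⟨hFV, h8'⟩)
    exact hnZ.trans (hVZ ▸ hWV ▸ normalizer_le_Wc V)
  have hOW : O.map C.subtype ≤ Subgroup.normalizer (Wc U' : Set G) := by
    subst hC
    exact ((core_le_Wc' haF ha1).trans hFM.le).trans Subgroup.le_normalizer
  rw [← hC, ← Subgroup.range_subtype C, MonoidHom.range_eq_map, ← hfrat, ← hTO, Subgroup.map_sup,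
    Subgroup.map_sup, ← hTg]
  refine sup_le ((Subgroup.le_normalizer_map (H := T) C.subtype).trans ?_) (sup_le (hTS'.trans B'.sylow_le) hOW)
  rw [← hTg]; exact hNT

/-- Every centraliser of an involution of `S` normalises the closure. -/
theorem centralizer_le {S : Sylow 2 G} {U : Subgroup G} (B : Base S U)
    (hconj : ∀ a : G, orderOf a = 2 → ∃ b ∈ (S : Subgroup G), b ∈ Subgroup.centralizer (U : Set G) ∧ IsConj a b)
    {a : G} (haS : a ∈ (S : Subgroup G)) (ha : orderOf a = 2) :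
    Subgroup.centralizer ({a} : Set G) ≤ Subgroup.normalizer (Wc U : Set G) := by
  classical
  haveI : Fact (Nat.Prime 2) := ⟨Nat.prime_two⟩
  obtain ⟨z, hzU', hz1, hzc⟩ := B.exists_central
  have hzS : z ∈ (S : Subgroup G) := B.le hzU'
  have hz2 : orderOf z = 2 := orderOf_eq_prime (B.elem.2 z hzU') hz1
  have hzM := B.centralizer_central_le hzU' hz1 hzc
  have hT2 : SylIn 2 (S : Subgroup G) (Subgroup.normalizer (Wc U : Set G)) :=
    (sylIn_top S).mono B.sylow_le le_top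
  obtain ⟨n, hn⟩ : ∃ n, n = Nat.card G - Nat.card ↥((S : Subgroup G) ⊓ Subgroup.centralizer ({a} : Set G)) :=
    ⟨_, rfl⟩
  induction n using Nat.strong_induction_on generalizing a with
  | _ n ih =>
    by_cases hbig : ∃ F : Subgroup G, F ≤ (S : Subgroup G) ∧ El8 F ∧ a ∈ F
    · obtain ⟨F, hFS, hF, haF⟩ := hbig
      exact centralizer_big_le hall B ha hFS hF haF
    set C := Subgroup.centralizer ({a} : Set G) with hC
    set R := (S : Subgroup G) ⊓ C with hR
    have ha1 : a ≠ 1 := fun h => by rw [h, orderOf_one] at ha; omega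
    have haR : a ∈ R := ⟨haS, Subgroup.mem_centralizer_singleton_iff.2 rfl⟩
    have hE : ¬ ∃ F : Subgroup G, F ≤ R ∧ El8 F := by
      rintro ⟨F, hFR, hF⟩
      refine hbig ⟨F ⊔ Subgroup.zpowers a, sup_le (hFR.trans inf_le_left) (Subgroup.zpowers_le.2 haS),
        ⟨?_, hF.2.trans (Subgroup.card_le_of_le le_sup_left)⟩, Subgroup.mem_sup_right (Subgroup.mem_zpowers a)⟩
      exact elemAb_sup hF.1 (elemAb_zpowers (by rw [← ha]; exact pow_orderOf_eq_one a)) fun f hf x hx => by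
        obtain ⟨i, rfl⟩ := Subgroup.mem_zpowers_iff.1 hx
        exact ((show Commute f a from Subgroup.mem_centralizer_singleton_iff.1 (hFR hf).2).zpow_right i).eq
    obtain ⟨R', hR', hRR'⟩ := exists_sylIn_ge (S.isPGroup'.to_inf_left (K := C))
      (inf_le_right (a := (S : Subgroup G)))
    have hfull : R ≠ R' := by
      intro hfull
      obtain ⟨b, hbS, hbU, hab⟩ := hconj a ha
      obtain ⟨g, hg⟩ := isConj_iff.1 hab
      have hb2 : orderOf b = 2 := by
        rw [← hg, show g * a * g⁻¹ = MulAut.conj g a from rfl, MulEquiv.orderOf_eq, ha]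
      obtain ⟨F, hFS, hF, hbF⟩ := B.big_of_commute hbS hb2 hbU
      have hFC : cj F g⁻¹ ≤ C := by
        rintro _ ⟨f, hf, rfl⟩
        have h1 : f ∈ Subgroup.centralizer ({g * a * g⁻¹} : Set G) :=
          Subgroup.mem_centralizer_singleton_iff.2 (by rw [hg]; exact elemAb_commute hF.1 hf hbF)
        have h2 := conj_cent (g := g⁻¹) h1
        have h3 : g⁻¹ * (g * a * g⁻¹) * g⁻¹⁻¹ = a := by group
        rw [h3] at h2
        exact h2
      have hp : IsPGroup 2 ↥(cj F g⁻¹) := elemAb_isPGroup (elemAb_cj hF.1 _)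
      obtain ⟨c, -, hc⟩ := (hfull ▸ hR' : SylIn 2 R C).conj_le hp hFC
      exact hE ⟨_, hc, elemAb_cj (elemAb_cj hF.1 _) c, by rw [card_cj, card_cj]; exact hF.2⟩
    have hgrow := SylIn.normalizer_growth hRR' hfull hR'.isPGroup
    set R1 := R' ⊓ Subgroup.normalizer (R : Set G) with hR1
    have hR1M : R1 ≤ Subgroup.normalizer (Wc U : Set G) := by
      have haU : a ∉ Subgroup.centralizer (U : Set G) := fun h => hbig (B.big_of_commute haS ha h)
      have hzR : z ∈ R := ⟨hzS, Subgroup.mem_centralizer_singleton_iff.2 (hzc a haS).symm⟩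
      have hzU : z ∈ Subgroup.centralizer (U : Set G) :=
        Subgroup.mem_centralizer_iff.2 fun u hu => hzc u (B.le hu)
      -- the involutions of `R` centralising `U`
      have honly : ∀ b ∈ R, orderOf b = 2 → b ∈ Subgroup.centralizer (U : Set G) → b = z := by
        intro b hbR hb2 hbU
        by_contra hne
        refine hE ⟨Subgroup.closure {a, b, z}, (Subgroup.closure_le _).2 ?_, ?_, ?_⟩
        · rintro x (rfl | rfl | rfl)
          exacts [haR, hbR, hzR]
        · refine elemAb_closure _ ?_ ?_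
          · have e1 : b * a = a * b := Subgroup.mem_centralizer_singleton_iff.1 hbR.2
            have e2 := hzc a haS
            have e3 := hzc b hbR.1
            rintro x (rfl | rfl | rfl) y (rfl | rfl | rfl)
            exacts [rfl, e1.symm, e2, e1, rfl, e3, e2.symm, e3.symm, rfl]
          · rintro x (rfl | rfl | rfl)
            · rw [← ha]; exact pow_orderOf_eq_one _
            · rw [← hb2]; exact pow_orderOf_eq_one _
            · rw [← hz2]; exact pow_orderOf_eq_one _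
        · set K := Subgroup.closure ({a, b, z} : Set G)
          set L := Subgroup.closure ({b, z} : Set G)
          have hLK : L ≤ K := Subgroup.closure_mono (by intro x hx; exact Or.inr hx)
          have hLU : L ≤ Subgroup.centralizer (U : Set G) := (Subgroup.closure_le _).2 (by
            rintro x (rfl | rfl); exacts [hbU, hzU])
          have haL : a ∉ L := fun h => haU (hLU h)
          have hK : Cfsg.IsElementaryAbelian 2 K := by
            refine elemAb_closure _ ?_ ?_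
            · have e1 : b * a = a * b := Subgroup.mem_centralizer_singleton_iff.1 hbR.2
              have e2 := hzc a haS
              have e3 := hzc b hbR.1
              rintro x (rfl | rfl | rfl) y (rfl | rfl | rfl)
              exacts [rfl, e1.symm, e2, e1, rfl, e3, e2.symm, e3.symm, rfl]
            · rintro x (rfl | rfl | rfl)
              · rw [← ha]; exact pow_orderOf_eq_one _
              · rw [← hb2]; exact pow_orderOf_eq_one _
              · rw [← hz2]; exact pow_orderOf_eq_one _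
          obtain ⟨i, hi⟩ := elemAb_card_pow (elemAb_mono hK hLK)
          obtain ⟨j, hj⟩ := elemAb_card_pow hK
          have hL4 : 2 < Nat.card ↥L := by
            have hb1 : b ≠ 1 := fun h => by rw [h, orderOf_one] at hb2; omega
            let v : Fin 3 → L := ![1, ⟨b, Subgroup.subset_closure (Or.inl rfl)⟩, ⟨z, Subgroup.subset_closure (Or.inr rfl)⟩]
            have hv : Function.Injective v := by
              intro i j h
              fin_cases i <;> fin_cases j <;>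
                first
                  | rfl
                  | (exfalso; simp [v, Subtype.ext_iff, hb1, hz1, hne, Ne.symm hb1, Ne.symm hz1, Ne.symm hne] at h)
            have := Nat.card_le_card_of_injective v hv
            rw [Nat.card_fin] at this
            omega
          have hlt : Nat.card ↥L < Nat.card ↥K := by
            refine lt_of_le_of_ne (Subgroup.card_le_of_le hLK) fun e => haL ?_
            rw [Subgroup.eq_of_le_of_card_ge hLK e.ge]
            exact Subgroup.subset_closure (Or.inl rfl)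
          rw [hi] at hL4 hlt
          rw [hj] at hlt ⊢
          have : i < j := (Nat.pow_lt_pow_iff_right one_lt_two).1 hlt
          have : 2 ≤ i := by
            by_contra hh
            have : 2 ^ i ≤ 2 ^ 1 := Nat.pow_le_pow_right two_pos (by omega)
            omega
          exact (show 8 ≤ 2 ^ 3 by norm_num).trans (Nat.pow_le_pow_right two_pos (by omega))
      -- squares of elements of `R` centralise `U`
      have hsq : ∀ r ∈ R, r * r ∈ Subgroup.centralizer (U : Set G) := by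
        intro r hr
        set H := (Subgroup.centralizer (U : Set G)).subgroupOf (S : Subgroup G)
        have hidx : H.index ≤ 2 := (B.relIndex_centralizer_le le_rfl)
        have : (⟨r, hr.1⟩ : ↥(S : Subgroup G)) * ⟨r, hr.1⟩ ∈ H := by
          rcases Nat.eq_or_lt_of_le hidx with h | h
          · exact Subgroup.mul_self_mem_of_index_two h _
          · have h0 : H.index ≠ 0 := Subgroup.index_ne_zero_of_finite
            rw [Subgroup.index_eq_one.1 (by omega : H.index = 1)]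
            exact Subgroup.mem_top _
        exact Subgroup.mem_subgroupOf.1 this
      by_cases hexp : ∀ r ∈ R, r * r = 1
      · -- then `a` would have a centraliser of order four in `S`
        exfalso
        obtain ⟨E, hES, hE'⟩ := B.rank
        refine card_centralizer_ne_four S.isPGroup' (E.subgroupOf (S : Subgroup G))
          ⟨⟨⟨fun x y => Subtype.ext (Subtype.ext (elemAb_commute hE'.1 x.2 y.2))⟩⟩, fun x hx => Subtype.ext (hE'.1.2 _ hx)⟩
          (by rw [Nat.card_congr (Subgroup.subgroupOfEquivOfLe hES).toEquiv]; exact hE'.2) ⟨a, haS⟩ ?_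
        -- `R` consists of `1`, `a`, `z` and `a * z`
        have hR4 : ∀ r ∈ R, r = 1 ∨ r = z ∨ r = a ∨ r = z * a := by
          intro r hr
          by_cases hrU : r ∈ Subgroup.centralizer (U : Set G)
          · by_cases hr1 : r = 1
            · exact Or.inl hr1
            · exact Or.inr (Or.inl (honly r hr (orderOf_eq_prime (by rw [sq]; exact hexp r hr) hr1) hrU))
          · have hraU : r * a ∈ Subgroup.centralizer (U : Set G) := by
              set H := (Subgroup.centralizer (U : Set G)).subgroupOf (S : Subgroup G)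
              have hidx : H.index = 2 := by
                refine le_antisymm (B.relIndex_centralizer_le le_rfl) (Nat.one_lt_iff_ne_zero_and_ne_one.2 ⟨Subgroup.index_ne_zero_of_finite, fun h => haU ?_⟩)
                exact Subgroup.mem_subgroupOf.1 ((Subgroup.index_eq_one.1 h).ge (Subgroup.mem_top (⟨a, haS⟩ : ↥(S : Subgroup G))))
              have := (Subgroup.mul_mem_iff_of_index_two hidx (a := (⟨r, hr.1⟩ : ↥(S : Subgroup G))) (b := ⟨a, haS⟩)).2
                (iff_of_false (fun h => hrU (Subgroup.mem_subgroupOf.1 h)) (fun h => haU (Subgroup.mem_subgroupOf.1 h)))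
              exact Subgroup.mem_subgroupOf.1 this
            have haa : a * a = 1 := hexp a haR
            by_cases h1 : r * a = 1
            · refine Or.inr (Or.inr (Or.inl ?_))
              calc r = (r * a) * a := by rw [mul_assoc, haa, mul_one]
                _ = a := by rw [h1, one_mul]
            · have hra : r * a ∈ R := mul_mem hr haR
              have := honly _ hra (orderOf_eq_prime (by rw [sq]; exact hexp _ hra) h1) hraU
              refine Or.inr (Or.inr (Or.inr ?_))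
              rw [← this, mul_assoc, haa, mul_one]
        refine le_trans (Nat.card_le_card_of_surjective
          (fun i : Fin 4 => (![1, ⟨⟨z, hzS⟩, Subgroup.mem_centralizer_singleton_iff.2 (Subtype.ext (hzc a haS).symm)⟩,
            ⟨⟨a, haS⟩, Subgroup.mem_centralizer_singleton_iff.2 rfl⟩,
            ⟨⟨z * a, mul_mem hzS haS⟩, Subgroup.mem_centralizer_singleton_iff.2 (Subtype.ext (by
              show z * a * a = a * (z * a)
              rw [← mul_assoc, hzc a haS]))⟩] i :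
            ↥(Subgroup.centralizer ({⟨a, haS⟩} : Set ↥(S : Subgroup G))))) ?_) (by simp)
        rintro ⟨⟨r, hrS⟩, hr⟩
        have hrR : r ∈ R := ⟨hrS, Subgroup.mem_centralizer_singleton_iff.2
          (congrArg Subtype.val (Subgroup.mem_centralizer_singleton_iff.1 hr))⟩
        rcases hR4 r hrR with h | h | h | h
        · exact ⟨0, Subtype.ext (Subtype.ext h.symm)⟩
        · exact ⟨1, Subtype.ext (Subtype.ext h.symm)⟩
        · exact ⟨2, Subtype.ext (Subtype.ext h.symm)⟩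
        · exact ⟨3, Subtype.ext (Subtype.ext h.symm)⟩
      push Not at hexp
      obtain ⟨r₀, hr₀, hr₀1⟩ := hexp
      set Q := Subgroup.closure ((fun r => r * r) '' (R : Set G))
      have hQU : Q ≤ R ⊓ Subgroup.centralizer (U : Set G) := (Subgroup.closure_le _).2 (by
        rintro _ ⟨r, hr, rfl⟩; exact ⟨mul_mem hr hr, hsq r hr⟩)
      have hQn : ∀ g ∈ R1, ∀ q ∈ Q, g * q * g⁻¹ ∈ Q := by
        intro g hg q hq
        have hmap : Q.map (MulAut.conj g).toMonoidHom ≤ Q := by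
          rw [MonoidHom.map_closure, Subgroup.closure_le]
          rintro _ ⟨_, ⟨r, hr, rfl⟩, rfl⟩
          exact Subgroup.subset_closure ⟨g * r * g⁻¹, (Subgroup.mem_normalizer_iff.1 hg.2 r).1 hr, by simp [mul_assoc]⟩
        exact hmap ⟨q, hq, rfl⟩
      have hzQ : z ∈ Q := by
        have hq0 : Q ≠ ⊥ := fun h => hr₀1 ((Subgroup.mem_bot).1 (h ▸ Subgroup.subset_closure ⟨r₀, hr₀, rfl⟩ : r₀ * r₀ ∈ (⊥ : Subgroup G)))
        haveI : Nontrivial ↥Q := (Subgroup.nontrivial_iff_ne_bot Q).2 hq0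
        obtain ⟨k, hk0, hk⟩ := (S.isPGroup'.to_le (hQU.trans (inf_le_left.trans inf_le_left))).nontrivial_iff_card.1
          (inferInstance : Nontrivial ↥Q)
        obtain ⟨q, hq⟩ := exists_prime_orderOf_dvd_card' (G := ↥Q) 2 (hk.symm ▸ dvd_pow_self 2 hk0.ne')
        rw [← Subgroup.orderOf_coe] at hq
        rw [← honly q (hQU q.2).1 hq (hQU q.2).2]
        exact q.2
      intro g hg
      have hgz : g * z * g⁻¹ = z := honly _ (hQU (hQn g hg z hzQ)).1
        (by rw [show g * z * g⁻¹ = MulAut.conj g z from rfl, MulEquiv.orderOf_eq, hz2]) (hQU (hQn g hg z hzQ)).2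
      exact hzM (Subgroup.mem_centralizer_singleton_iff.2 (mul_inv_eq_iff_eq_mul.1 hgz))
    -- move `R1` into `S`
    obtain ⟨m, hm, hmR⟩ := hT2.conj_le (hR'.isPGroup.to_le inf_le_left) hR1M
    have haR1 : a ∈ R1 := hgrow.le haR
    have ha' : m * a * m⁻¹ ∈ (S : Subgroup G) := hmR (conj_mem_cj haR1)
    have ha'2 : orderOf (m * a * m⁻¹) = 2 := by
      rw [show m * a * m⁻¹ = MulAut.conj m a from rfl, MulEquiv.orderOf_eq, ha]
    have hsub : cj R1 m ≤ (S : Subgroup G) ⊓ Subgroup.centralizer ({m * a * m⁻¹} : Set G) := by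
      refine le_inf hmR ?_
      rintro _ ⟨x, hx, rfl⟩
      exact conj_cent (hR'.le hx.1)
    have hlt : Nat.card ↥R < Nat.card ↥((S : Subgroup G) ⊓ Subgroup.centralizer ({m * a * m⁻¹} : Set G)) := by
      refine lt_of_lt_of_le ?_ ((card_cj R1 m).symm.le.trans (Subgroup.card_le_of_le hsub))
      exact lt_of_le_of_ne (Subgroup.card_le_of_le hgrow.le) fun e =>
        hgrow.ne (Subgroup.eq_of_le_of_card_ge hgrow.le e.ge)
    have hbound := Subgroup.card_le_card_group ((S : Subgroup G) ⊓ Subgroup.centralizer ({m * a * m⁻¹} : Set G))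
    have hrec := ih _ (by omega) ha' ha'2 rfl
    intro x hx
    have := mul_mem (mul_mem (inv_mem hm) (hrec (conj_cent (g := m) hx))) hm
    rwa [show m⁻¹ * (m * x * m⁻¹) * m = x by group] at this

end Main

theorem exists_conj_commute (h2 : ∀ N : Subgroup G, N.Normal → N.index ≠ 2) {S : Sylow 2 G} {U : Subgroup G}
    (B : Base S U) {a : G} (ha : orderOf a = 2) :
    ∃ b ∈ (S : Subgroup G), b ∈ Subgroup.centralizer (U : Set G) ∧ IsConj a b := by
  haveI : Fact (Nat.Prime 2) := ⟨Nat.prime_two⟩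
  obtain ⟨g, -, hg⟩ := (sylIn_top S).conj_le
    (IsPGroup.of_card (n := 1) (by rw [Nat.card_zpowers, ha, pow_one]) : IsPGroup 2 ↥(Subgroup.zpowers a)) le_top
  have hxS : g * a * g⁻¹ ∈ (S : Subgroup G) := hg (conj_mem_cj (Subgroup.mem_zpowers a))
  have hx2 : orderOf (g * a * g⁻¹) = 2 := by
    rw [show g * a * g⁻¹ = MulAut.conj g a from rfl, MulEquiv.orderOf_eq, ha]
  have hax : IsConj a (g * a * g⁻¹) := isConj_iff.2 ⟨g, rfl⟩
  set T := (S : Subgroup G) ⊓ Subgroup.centralizer (U : Set G) with hT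
  by_cases hxT : g * a * g⁻¹ ∈ T
  · exact ⟨_, hxT.1, hxT.2, hax⟩
  have hrel : T.relIndex (S : Subgroup G) = 2 := by
    refine le_antisymm ?_ (Nat.one_lt_iff_ne_zero_and_ne_one.2 ⟨Subgroup.index_ne_zero_of_finite,
      fun h => hxT (Subgroup.relIndex_eq_one.1 h hxS)⟩)
    rw [hT, Subgroup.inf_relIndex_left]
    exact B.relIndex_centralizer_le le_rfl
  rcases S0111.result S T inf_le_left hrel _ hx2 hxS hxT with ⟨N, hN, hi, -⟩ | ⟨k, hk⟩
  · exact absurd hi (h2 N hN)
  · exact ⟨_, hk.1, hk.2, hax.trans (isConj_iff.2 ⟨k, rfl⟩)⟩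

/-- Constrained locals, no subgroup of index two, rank at least three: the cores are trivial. -/
theorem cores_of_rank_three (lc : Lie.CoreFun.LocCons G) (h2 : ∀ N : Subgroup G, N.Normal → N.index ≠ 2)
    (h3 : ¬ Cfsg.PRankLE 2 2 G) (hO : Cfsg.oddCore G = ⊥) :
    ∀ t : G, orderOf t = 2 → Cfsg.centralizerPPrimeCore 2 t = ⊥ := by
  classical
  haveI : Fact (Nat.Prime 2) := ⟨Nat.prime_two⟩
  by_cases hc : ∃ S : Sylow 2 G, Cfsg.IsFourConnected (S : Subgroup G)
  · obtain ⟨S, hS⟩ := hc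
    exact Scn3.cores_of_connected lc h3 hO S hS
  push Not at hc
  have hrank : ∀ S : Sylow 2 G, ∃ E : Subgroup G, E ≤ (S : Subgroup G) ∧ El8 E := by
    intro S
    obtain ⟨A, -, hA, hA8⟩ := SSF.exists_big (p := 2) (H := (⊤ : Subgroup G)) (by
      intro h
      refine h3 fun A hA hA2 => ?_
      have h1 := h (A.subgroupOf ⊤) ⟨⟨fun x y => Subtype.ext (Subtype.ext (congrArg Subtype.val
        (hA.is_comm.comm ⟨_, x.2⟩ ⟨_, y.2⟩) :))⟩⟩ fun x hx => Subtype.ext (hA2 _ hx)
      rwa [Nat.card_congr (Subgroup.subgroupOfEquivOfLe le_top).toEquiv] at h1)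
    obtain ⟨g, -, hg⟩ := (sylIn_top S).conj_le (elemAb_isPGroup hA) le_top
    exact ⟨cj A g, hg, elemAb_cj hA g, by rw [card_cj]; simpa using hA8⟩
  have hall : ∀ S : Sylow 2 G, ∃ U : Subgroup G, Base S U := by
    intro S
    refine exists_base lc S (hrank S) fun N hNS hN hNn => ?_
    by_contra hlt
    haveI : (N.subgroupOf (S : Subgroup G)).Normal :=
      ⟨fun v hv g => (Subgroup.mem_normalizer_iff.1 (hNn g.2) _).1 hv⟩
    exact hc S (S0502.result S.isPGroup' (N.subgroupOf (S : Subgroup G))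
      ⟨⟨fun a b => Subtype.ext (Subtype.ext (elemAb_commute hN a.2 b.2))⟩⟩
      (fun a ha => Subtype.ext (hN.2 _ ha))
      (by rw [Nat.card_congr (Subgroup.subgroupOfEquivOfLe hNS).toEquiv]; omega))
  obtain ⟨S⟩ : Nonempty (Sylow 2 G) := inferInstance
  obtain ⟨U, B⟩ := hall S
  have hθW : ∀ b ∈ (S : Subgroup G), orderOf b = 2 → b ∈ Subgroup.centralizer (U : Set G) →
      Cfsg.centralizerPPrimeCore 2 b ≤ Wc U := by
    intro b hbS hb2 hbU
    obtain ⟨F, hFS, hF, hbF⟩ := B.big_of_commute hbS hb2 hbU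
    exact (core_le_Wc' hbF (fun h => by rw [h, orderOf_one] at hb2; omega)).trans (B.wc_of_el8 hFS hF).le
  suffices hW : Wc U = ⊥ by
    intro t ht
    obtain ⟨b, hbS, hbU, hb⟩ := exists_conj_commute h2 B ht
    obtain ⟨g, rfl⟩ := isConj_iff.1 hb
    have h := hθW _ hbS (by rw [← ht]; exact MulEquiv.orderOf_eq (MulAut.conj g) t) hbU
    rw [hW, le_bot_iff, Lie.CoreFun.core_equivariant, Subgroup.map_eq_bot_iff_of_injective _
      (MulAut.conj g).injective] at h
    exact h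
  by_contra hW
  have hWco : (Nat.card ↥(Wc U)).Coprime 2 := Nat.coprime_two_right.2 B.odd_wc
  have hM : Subgroup.normalizer (Wc U : Set G) ≠ ⊤ := by
    intro h
    haveI : (Wc U).Normal := Subgroup.normalizer_eq_top_iff.1 h
    exact hW (le_bot_iff.1 (hO ▸ le_pPrimeCore hWco))
  have hS1 : (S : Subgroup G) ≠ ⊥ := fun e => by
    have := Subgroup.card_le_of_le B.le
    rw [e, Subgroup.card_bot, B.card] at this
    omega
  have h := S1221.result _ (se_criterion S hS1 hM B.normalizer_sylow_le fun t htS ht =>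
    centralizer_le hall B (fun a ha => exists_conj_commute h2 B ha) htS ht)
  rw [hO, le_bot_iff, Subgroup.map_eq_bot_iff_of_injective _ (Subgroup.subtype_injective _)] at h
  haveI : ((Wc U).subgroupOf (Subgroup.normalizer (Wc U : Set G))).Normal := Subgroup.normal_in_normalizer
  have h' : (Wc U).subgroupOf (Subgroup.normalizer (Wc U : Set G)) ≤
      Cfsg.oddCore ↥(Subgroup.normalizer (Wc U : Set G)) :=
    le_pPrimeCore (by rwa [Nat.card_congr (Subgroup.subgroupOfEquivOfLe Subgroup.le_normalizer).toEquiv])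
  rw [h, le_bot_iff, Subgroup.subgroupOf_eq_bot, disjoint_iff, inf_of_le_left Subgroup.le_normalizer] at h'
  exact hW h'

end Cfsg.Agent.Scn3.Dich
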