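import Cfsg.Agent.Lib.Lead.CentraliserPower
import Cfsg.Agent.Lib.Lie.ExtremelyPrimitive.Basic
import Cfsg.Agent.Lib.Perm.Primitive
import Cfsg.Agent.Lib.Perm.MinNormal

/-!
An extremely primitive group is of affine type or almost simple.
-/

set_option autoImplicit false

namespace Cfsg.Agent.Lead.ExtPrimReduce

open Cfsg Subgroup MulAction
open Cfsg.Agent.Lie.ExtPrim (Hyp)

variable {G Ω : Type*} [Group G] [Finite G] [MulAction G Ω] [FaithfulSMul G Ω] [Finite Ω]

section Inner

variable (h : Hyp G Ω) (a : Ω) (T D : Subgroup G)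

include h

/-- A regular simple subgroup on which part of the stabiliser induces the inner automorphisms cannot occur. -/
theorem no_inner [IsSimpleGroup T] (hnab : ¬ IsMulCommutative T)
    (hinj : ∀ s ∈ T, ∀ t ∈ T, s • a = t • a → s = t)
    (hDH : D ≤ stabilizer G a) (hDn : stabilizer G a ≤ Subgroup.normalizer (D : Set G))
    (hin : ∀ s ∈ T, ∃ d ∈ D, ∀ t ∈ T, d * t * d⁻¹ = s * t * s⁻¹)
    (hout : ∀ d ∈ D, ∃ s ∈ T, ∀ t ∈ T, d * t * d⁻¹ = s * t * s⁻¹)
    (hP : ∀ g ∈ stabilizer G a, ∀ t ∈ T, (g * t * g⁻¹) • a = t • a → Commute (g * t * g⁻¹) t) :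
    False := by
  set H := stabilizer G a with hH
  have hact : ∀ g ∈ H, ∀ t : G, g • (t • a) = (g * t * g⁻¹) • a := by
    intro g hg t
    rw [mul_smul, mul_smul, inv_smul_eq_iff.2 (mem_stabilizer_iff.1 hg).symm]
  let S : T → Subgroup H := fun t => stabilizer H ((t : G) • a)
  have hS : ∀ (t : T) (g : H), g ∈ S t ↔ ((g : G) * t * (g : G)⁻¹) • a = (t : G) • a := fun t g => by
    rw [mem_stabilizer_iff, Subgroup.smul_def, hact g g.2]
  -- elements of `D` lying in `S t` are those inducing elements commuting with `t`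
  have hSD : ∀ (t : T) (d : G) (hd : d ∈ D) (s : G), s ∈ T → (∀ u ∈ T, d * u * d⁻¹ = s * u * s⁻¹) →
      ((⟨d, hDH hd⟩ : H) ∈ S t ↔ s * t = t * s) := by
    intro t d hd s hs he
    rw [hS]
    show (d * (t : G) * d⁻¹) • a = _ ↔ _
    rw [he t t.2]
    constructor
    · intro h1
      have h2 := hinj _ (T.mul_mem (T.mul_mem hs t.2) (T.inv_mem hs)) _ t.2 h1
      simpa [mul_assoc] using congrArg (fun z => z * s) h2
    · intro h1
      rw [h1, mul_inv_cancel_right]
  have hne : ∀ t : T, t ≠ 1 → ∃ s : T, (s : G) * t ≠ t * s := by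
    intro t ht
    by_contra hall
    push Not at hall
    have hc : t ∈ Subgroup.center T :=
      Subgroup.mem_center_iff.2 fun s => Subtype.ext (hall s)
    rcases (inferInstance : (Subgroup.center T).Normal).eq_bot_or_eq_top with hb | hb
    · rw [hb, Subgroup.mem_bot] at hc; exact ht hc
    · exact hnab ⟨⟨fun u v => (Subgroup.mem_center_iff.1 (hb ▸ Subgroup.mem_top u) v).symm⟩⟩
  have hStop : ∀ t : T, t ≠ 1 → S t ≠ ⊤ := by
    intro t ht he
    obtain ⟨s, hs⟩ := hne t ht
    obtain ⟨d, hd, hde⟩ := hin s s.2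
    exact hs ((hSD t d hd s s.2 hde).1 (he ▸ Subgroup.mem_top _))
  have hcoatom : ∀ t : T, t ≠ 1 → IsCoatom (S t) := by
    intro t ht
    haveI := h.ep a ((t : G) • a)
    obtain ⟨g, hg⟩ : ∃ g : H, g • ((t : G) • a) ≠ (t : G) • a := by
      by_contra hall
      push Not at hall
      exact hStop t ht ((Subgroup.eq_top_iff' _).2 hall)
    let w : orbit H ((t : G) • a) := ⟨_, mem_orbit_self _⟩
    haveI : Nontrivial (orbit H ((t : G) • a)) :=
      ⟨w, ⟨_, mem_orbit _ g⟩, fun e => hg (congrArg Subtype.val e).symm⟩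
    have hw : stabilizer H w = S t := by
      ext x
      rw [mem_stabilizer_iff, mem_stabilizer_iff, Subtype.ext_iff]
      rfl
    exact hw ▸ IsPreprimitive.isCoatom_stabilizer_of_isPreprimitive (G := H) w
  refine CentPow.false_of_simple (Γ := T) (fun x n hxn => ?_) hnab (fun x hx => ?_)
  · have hx1 : x ≠ 1 := fun e => hxn (by rw [e, one_pow])
    have hle : S x ≤ S (x ^ n) := by
      intro g hg
      rw [hS] at hg ⊢
      set u := (g : G) * x * (g : G)⁻¹ with hu
      have hcm : Commute u (x : G) := hP g g.2 x x.2 hg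
      have hfix : ((x : G)⁻¹ * u) ∈ H := by
        rw [hH, mem_stabilizer_iff, mul_smul, hg, inv_smul_smul]
      have hp := H.pow_mem hfix n
      rw [((hcm.symm).inv_left).mul_pow, inv_pow] at hp
      rw [hH, mem_stabilizer_iff, mul_smul, inv_smul_eq_iff] at hp
      rw [Subgroup.coe_pow, ← conj_pow, ← hu]
      exact hp
    have heq : S x = S (x ^ n) := by
      rcases (hcoatom x hx1).le_iff.1 hle with e | e
      · exact absurd e (hStop _ hxn)
      · exact e.symm
    ext s
    rw [CentPow.mem_cz, CentPow.mem_cz]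
    obtain ⟨d, hd, hde⟩ := hin s s.2
    have h1 := hSD x d hd s s.2 hde
    have h2 := hSD (x ^ n) d hd s s.2 hde
    rw [heq] at h1
    constructor
    · intro e
      exact Subtype.ext (h1.1 (h2.2 (congrArg Subtype.val e)))
    · intro e
      exact Subtype.ext (h2.1 (h1.2 (congrArg Subtype.val e)))
  · refine le_antisymm (fun s hs => ?_) Subgroup.le_normalizer
    obtain ⟨d, hd, hde⟩ := hin s s.2
    by_contra hsx
    rw [CentPow.mem_cz] at hsx
    have hdx : (⟨d, hDH hd⟩ : H) ∉ S x := fun h1 => hsx (Subtype.ext ((hSD x d hd s s.2 hde).1 h1))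
    set E : Subgroup H := D.subgroupOf H ⊓ S x with hE
    haveI : (D.subgroupOf H).Normal := (Subgroup.normal_subgroupOf_iff_le_normalizer hDH).2 hDn
    have hnE : S x ≤ Subgroup.normalizer (E : Set H) := fun g hg =>
      Subgroup.mem_normalizer_fintype fun e he =>
        ⟨(inferInstance : (D.subgroupOf H).Normal).conj_mem e he.1 g,
          (S x).mul_mem ((S x).mul_mem hg he.2) ((S x).inv_mem hg)⟩
    have hdE : (⟨d, hDH hd⟩ : H) ∈ Subgroup.normalizer (E : Set H) := by
      refine Subgroup.mem_normalizer_fintype fun e he => ?_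
      obtain ⟨c, hc, hce⟩ := hout e he.1
      have hcx := (hSD x e he.1 c hc hce).1 he.2
      refine ⟨(inferInstance : (D.subgroupOf H).Normal).conj_mem e he.1 _, ?_⟩
      have hmem : d * (e : G) * d⁻¹ ∈ D := D.mul_mem (D.mul_mem hd he.1) (D.inv_mem hd)
      refine (hSD x _ hmem ((s : G) * c * (s : G)⁻¹)
        (T.mul_mem (T.mul_mem s.2 hc) (T.inv_mem s.2)) (fun u hu => ?_)).2 ?_
      · have k1 : (e : G) * (d⁻¹ * u * d) * (e : G)⁻¹ = c * ((s : G)⁻¹ * u * s) * c⁻¹ := by
          have hsu : (s : G)⁻¹ * u * s ∈ T := T.mul_mem (T.mul_mem (T.inv_mem s.2) hu) s.2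
          have k2 : d⁻¹ * u * d = (s : G)⁻¹ * u * s := by
            have k3 := hde _ hsu
            calc d⁻¹ * u * d = d⁻¹ * ((s : G) * ((s : G)⁻¹ * u * s) * (s : G)⁻¹) * d := by group
              _ = d⁻¹ * (d * ((s : G)⁻¹ * u * s) * d⁻¹) * d := by rw [k3]
              _ = _ := by group
          rw [k2, hce _ hsu]
        have k4 := hde _ (T.mul_mem (T.mul_mem hc (T.mul_mem (T.mul_mem (T.inv_mem s.2) hu) s.2))
          (T.inv_mem hc))
        calc d * (e : G) * d⁻¹ * u * (d * (e : G) * d⁻¹)⁻¹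
            = d * ((e : G) * (d⁻¹ * u * d) * (e : G)⁻¹) * d⁻¹ := by group
          _ = (s : G) * (c * ((s : G)⁻¹ * u * s) * c⁻¹) * (s : G)⁻¹ := by rw [k1, k4]
          _ = _ := by group
      · have hcs : (⟨c, hc⟩ : T) ∈ CentPow.cz x := CentPow.mem_cz.2 (Subtype.ext hcx)
        have := CentPow.mem_cz.1 ((Subgroup.mem_normalizer_iff.1 hs _).1 hcs)
        exact congrArg Subtype.val this
    have htop : Subgroup.normalizer (E : Set H) = ⊤ := by
      rcases (hcoatom x hx).le_iff.1 hnE with e | e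
      · exact e
      · exact absurd (e ▸ hdE) hdx
    have hnormal : (CentPow.cz x).Normal := by
      constructor
      intro c hc s'
      obtain ⟨d', hd', hde'⟩ := hin s' s'.2
      obtain ⟨e, he, hee⟩ := hin c c.2
      have heS : (⟨e, hDH he⟩ : H) ∈ E :=
        ⟨he, (hSD x e he c c.2 hee).2 (congrArg Subtype.val (CentPow.mem_cz.1 hc))⟩
      have := ((Subgroup.mem_normalizer_iff.1 (htop ▸ Subgroup.mem_top (⟨d', hDH hd'⟩ : H))) _).1 heS
      have hmem : d' * e * d'⁻¹ ∈ D := D.mul_mem (D.mul_mem hd' he) (D.inv_mem hd')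
      rw [CentPow.mem_cz]
      refine Subtype.ext ((hSD x _ hmem ((s' : G) * c * (s' : G)⁻¹)
        (s' * c * s'⁻¹).2 (fun u hu => ?_)).1 this.2)
      have hsu : (s' : G)⁻¹ * u * s' ∈ T := T.mul_mem (T.mul_mem (T.inv_mem s'.2) hu) s'.2
      have k2 : d'⁻¹ * u * d' = (s' : G)⁻¹ * u * s' := by
        have k3 := hde' _ hsu
        calc d'⁻¹ * u * d' = d'⁻¹ * ((s' : G) * ((s' : G)⁻¹ * u * s') * (s' : G)⁻¹) * d' := by group
          _ = d'⁻¹ * (d' * ((s' : G)⁻¹ * u * s') * d'⁻¹) * d' := by rw [k3]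
          _ = _ := by group
      have k4 := hde' _ (T.mul_mem (T.mul_mem c.2 hsu) (T.inv_mem c.2))
      calc d' * e * d'⁻¹ * u * (d' * e * d'⁻¹)⁻¹
          = d' * (e * (d'⁻¹ * u * d') * e⁻¹) * d'⁻¹ := by group
        _ = (s' : G) * ((c : G) * ((s' : G)⁻¹ * u * s') * (c : G)⁻¹) * (s' : G)⁻¹ := by
          rw [k2, hee _ hsu, k4]
        _ = _ := by group
    obtain ⟨s', hs'⟩ := hne x hx
    rcases hnormal.eq_bot_or_eq_top with e | e
    · have hxx : x ∈ CentPow.cz x := CentPow.mem_cz.2 rfl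
      rw [e, Subgroup.mem_bot] at hxx
      exact hx hxx
    · have hss : s' ∈ CentPow.cz x := by rw [e]; exact Subgroup.mem_top s'
      exact hs' (congrArg Subtype.val (CentPow.mem_cz.1 hss))

end Inner

section Main

open Cfsg.Agent.Perm (IsMinNormal normal_isPretransitive eq_one_of_centralizes)

variable (h : Hyp G Ω) (a : Ω)

include h a

/-- If the part of the stabiliser in a transitive normal subgroup fixes a further point it is trivial. -/
theorem fix_bot (L : Subgroup G) [L.Normal] [IsPretransitive L Ω] {w : Ω} (hw : w ≠ a)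
    (hfix : ∀ d ∈ L ⊓ stabilizer G a, d • w = w) : L ⊓ stabilizer G a = ⊥ := by
  obtain ⟨l, hl⟩ := exists_smul_eq L a w
  rw [Subgroup.smul_def] at hl
  have hnorm : ∀ b : Ω, stabilizer G b ≤ Subgroup.normalizer ((L ⊓ stabilizer G b : Subgroup G) : Set G) :=
    fun b g hg => Subgroup.mem_normalizer_fintype fun x hx =>
      ⟨(inferInstance : L.Normal).conj_mem x hx.1 g,
        (stabilizer G b).mul_mem ((stabilizer G b).mul_mem hg hx.2) ((stabilizer G b).inv_mem hg)⟩
  have hle : L ⊓ stabilizer G a ≤ L ⊓ stabilizer G w := fun d hd => ⟨hd.1, hfix d hd⟩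
  have heq : L ⊓ stabilizer G a = L ⊓ stabilizer G w := by
    refine Subgroup.eq_of_le_of_card_ge hle ?_
    refine Nat.card_le_card_of_injective (fun x : (L ⊓ stabilizer G w : Subgroup G) =>
      (⟨(l : G)⁻¹ * x * l, ?_, ?_⟩ : (L ⊓ stabilizer G a : Subgroup G))) fun x y hxy => ?_
    · have := (inferInstance : L.Normal).conj_mem x x.2.1 (l : G)⁻¹
      rwa [inv_inv] at this
    · have h1 : (x : G) • w = w := x.2.2
      show ((l : G)⁻¹ * x * l) • a = a
      rw [mul_smul, mul_smul, hl, h1, inv_smul_eq_iff, hl]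
    · have hxy' := congrArg Subtype.val hxy
      exact Subtype.ext (by simpa using hxy')
  exact Cfsg.Agent.Lie.ExtPrim.normal_bot h (Ne.symm hw) _ inf_le_right (hnorm a) (heq ▸ hnorm w)

/-- A non-trivial such part is transitive on every suborbit. -/
theorem suborbit (L : Subgroup G) [L.Normal] [IsPretransitive L Ω] (hne : L ⊓ stabilizer G a ≠ ⊥)
    {w : Ω} (hw : w ≠ a) {g : G} (hg : g ∈ stabilizer G a) :
    ∃ m ∈ L ⊓ stabilizer G a, m • w = g • w := by
  have hn : stabilizer G a ≤ Subgroup.normalizer ((L ⊓ stabilizer G a : Subgroup G) : Set G) :=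
    fun g hg => Subgroup.mem_normalizer_fintype fun x hx =>
      ⟨(inferInstance : L.Normal).conj_mem x hx.1 g,
        (stabilizer G a).mul_mem ((stabilizer G a).mul_mem hg hx.2) ((stabilizer G a).inv_mem hg)⟩
  rcases Cfsg.Agent.Lie.ExtPrim.fix_or_transitive h a w _ inf_le_right hn with h1 | h1
  · exact absurd (fix_bot h a L hw fun d hd => h1 w (mem_orbit_self w) d hd) hne
  · exact h1 _ (mem_orbit w (⟨g, hg⟩ : stabilizer G a))

theorem main (N : Subgroup G) (hN : IsMinNormal N) (hnab : ¬ IsMulCommutative N) :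
    IsSimpleGroup N ∧ Subgroup.centralizer (N : Set G) = ⊥ := by
  classical
  haveI := h.prim
  haveI := hN.1
  haveI : IsPretransitive N Ω := normal_isPretransitive N hN.2.1
  set H := stabilizer G a with hH
  haveI : Nontrivial Ω := by
    obtain ⟨w, g, -, hgw⟩ := Cfsg.Agent.Lie.ExtPrim.exists_moved h a
    exact ⟨_, _, hgw⟩
  have hmax : IsCoatom H := IsPreprimitive.isCoatom_stabilizer_of_isPreprimitive (G := G) a
  -- a minimal normal subgroup of `N`
  let P : Subgroup G → Prop := fun U => U ≠ ⊥ ∧ U ≤ N ∧ N ≤ Subgroup.normalizer (U : Set G) ∧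
    ∀ L ≤ U, N ≤ Subgroup.normalizer (L : Set G) → L = ⊥ ∨ L = U
  obtain ⟨T, hT⟩ := (Set.toFinite {U : Subgroup G | U ≠ ⊥ ∧ U ≤ N ∧ N ≤ Subgroup.normalizer (U : Set G)}).exists_minimal
    ⟨N, hN.2.1, le_rfl, Subgroup.le_normalizer⟩
  have hPT : P T := ⟨hT.1.1, hT.1.2.1, hT.1.2.2, fun L hL hLn => by
    by_cases hb : L = ⊥
    · exact Or.inl hb
    · exact Or.inr (le_antisymm hL (hT.2 ⟨hb, hL.trans hT.1.2.1, hLn⟩ hL))⟩
  let cT : G → Subgroup G := fun g => T.map (MulAut.conj g).toMonoidHom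
  have mem_cT : ∀ {g x : G}, x ∈ cT g ↔ g⁻¹ * x * g ∈ T := by
    intro g x
    rw [Subgroup.mem_map_equiv]
    rw [MulAut.conj_symm_apply]
  have conj_mem_cT : ∀ (g : G) {x : G}, x ∈ T → g * x * g⁻¹ ∈ cT g := fun g x hx =>
    mem_cT.2 (by simpa [mul_assoc] using hx)
  have hcT : ∀ g, P (cT g) := by
    intro g
    refine ⟨fun e => hPT.1 ?_, fun x hx => ?_, fun n hn => ?_, fun L hL hLn => ?_⟩
    · exact (Subgroup.map_eq_bot_iff_of_injective T (MulAut.conj g).injective).1 e
    · have := hN.1.conj_mem _ (hPT.2.1 (mem_cT.1 hx)) g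
      simpa [mul_assoc] using this
    · refine Subgroup.mem_normalizer_fintype fun x hx => mem_cT.2 ?_
      have hm : g⁻¹ * n * g ∈ N := by simpa using hN.1.conj_mem n hn g⁻¹
      have := (Subgroup.mem_normalizer_iff.1 (hPT.2.2.1 hm) _).1 (mem_cT.1 hx)
      simpa [mul_assoc] using this
    · have hL' : L.map (MulAut.conj g⁻¹).toMonoidHom ≤ T := by
        rintro _ ⟨x, hx, rfl⟩
        simpa using mem_cT.1 (hL hx)
      have hL'n : N ≤ Subgroup.normalizer (L.map (MulAut.conj g⁻¹).toMonoidHom : Set G) := by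
        intro n hn
        refine Subgroup.mem_normalizer_fintype ?_
        rintro _ ⟨x, hx, rfl⟩
        have hm : g * n * g⁻¹ ∈ N := hN.1.conj_mem n hn g
        refine ⟨g * n * g⁻¹ * x * (g * n * g⁻¹)⁻¹, (Subgroup.mem_normalizer_iff.1 (hLn hm) x).1 hx, ?_⟩
        simp [mul_assoc]
      rcases hPT.2.2.2 _ hL' hL'n with e | e
      · exact Or.inl ((Subgroup.map_eq_bot_iff_of_injective L (MulAut.conj g⁻¹).injective).1 e)
      · refine Or.inr (le_antisymm hL fun x hx => ?_)
        have := mem_cT.1 hx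
        rw [← e] at this
        obtain ⟨y, hy, hye⟩ := this
        have : y = x := by simpa using hye
        exact this ▸ hy
  have hone : cT 1 = T := Subgroup.ext fun x => by rw [mem_cT]; simp
  have hdis : ∀ U V, P U → P V → U ≠ V → U ⊓ V = ⊥ := by
    intro U V hU hV hne
    have hn : N ≤ Subgroup.normalizer ((U ⊓ V : Subgroup G) : Set G) := fun n hn =>
      Subgroup.mem_normalizer_fintype fun x hx => ⟨(Subgroup.mem_normalizer_iff.1 (hU.2.2.1 hn) x).1 hx.1,
        (Subgroup.mem_normalizer_iff.1 (hV.2.2.1 hn) x).1 hx.2⟩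
    rcases hU.2.2.2 _ inf_le_left hn with e | e
    · exact e
    · rcases hV.2.2.2 _ inf_le_right hn with e' | e'
      · exact e'
      · exact absurd (e.symm.trans e') hne
  have hcomm : ∀ U V, P U → P V → U ≠ V → ∀ u ∈ U, ∀ v ∈ V, u * v = v * u := by
    intro U V hU hV hne u hu v hv
    have h1 : u * v * u⁻¹ * v⁻¹ ∈ U ⊓ V := by
      refine ⟨?_, V.mul_mem ((Subgroup.mem_normalizer_iff.1 (hV.2.2.1 (hU.2.1 hu)) v).1 hv) (V.inv_mem hv)⟩
      rw [show u * v * u⁻¹ * v⁻¹ = u * (v * u⁻¹ * v⁻¹) by group]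
      exact U.mul_mem hu ((Subgroup.mem_normalizer_iff.1 (hU.2.2.1 (hV.2.1 hv)) _).1 (U.inv_mem hu))
    rw [hdis U V hU hV hne, Subgroup.mem_bot] at h1
    rw [mul_inv_eq_one, mul_inv_eq_iff_eq_mul] at h1
    exact h1
  have hsup : N = ⨆ g, cT g := by
    haveI : (⨆ g, cT g).Normal := by
      constructor
      intro x hx k
      have : (⨆ g, cT g).map (MulAut.conj k).toMonoidHom ≤ ⨆ g, cT g := by
        rw [Subgroup.map_iSup]
        refine iSup_le fun g => le_iSup_of_le (k * g) ?_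
        rintro _ ⟨y, hy, rfl⟩
        refine mem_cT.2 ?_
        have := mem_cT.1 hy
        simpa [mul_assoc] using this
      exact this ⟨x, hx, rfl⟩
    refine (hN.2.2 _ inferInstance (iSup_le fun g => (hcT g).2.1)).resolve_left (fun e => hPT.1 ?_) |>.symm
    rw [eq_bot_iff, ← e, ← hone]
    exact le_iSup cT 1
  have hTnab : ¬ ∀ x ∈ T, ∀ y ∈ T, x * y = y * x := by
    intro hab
    have hc : ∀ g, ∀ x ∈ cT g, ∀ g', ∀ y ∈ cT g', x * y = y * x := by
      intro g x hx g' y hy
      by_cases e : cT g = cT g'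
      · rw [← e] at hy
        have h1 := congrArg (fun z => g * z * g⁻¹) (hab _ (mem_cT.1 hx) _ (mem_cT.1 hy))
        simpa [mul_assoc] using h1
      · exact hcomm _ _ (hcT g) (hcT g') e x hx y hy
    refine hnab ⟨⟨fun x y => Subtype.ext ?_⟩⟩
    have h1 : N ≤ Subgroup.centralizer (N : Set G) := by
      rw [Subgroup.le_centralizer_iff]
      conv_lhs => rw [hsup]
      refine iSup_le fun g' => ?_
      rw [Subgroup.le_centralizer_iff]
      conv_lhs => rw [hsup]
      exact iSup_le fun g x hx => Subgroup.mem_centralizer_iff.2 fun y hy => (hc g x hx g' y hy).symm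
    exact (Subgroup.mem_centralizer_iff.1 (h1 y.2) x x.2)
  haveI hTs : IsSimpleGroup T := by
    haveI : Nontrivial T := (Subgroup.nontrivial_iff_ne_bot T).2 hPT.1
    refine ⟨fun K hK => ?_⟩
    have hn : N ≤ Subgroup.normalizer (K.map T.subtype : Set G) := by
      conv_lhs => rw [hsup]
      refine iSup_le fun g => fun x hx => Subgroup.mem_normalizer_fintype ?_
      rintro _ ⟨y, hy, rfl⟩
      by_cases e : cT g = T
      · rw [e] at hx
        exact ⟨⟨x, hx⟩ * y * ⟨x, hx⟩⁻¹, hK.conj_mem y hy _, rfl⟩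
      · refine ⟨y, hy, ?_⟩
        show (y : G) = x * y * x⁻¹
        rw [hcomm _ _ (hcT g) hPT e x hx y y.2, mul_inv_cancel_right]
    rcases hPT.2.2.2 _ (Subgroup.map_subtype_le K) hn with e | e
    · exact Or.inl ((Subgroup.map_eq_bot_iff_of_injective K T.subtype_injective).1 e)
    · refine Or.inr ((Subgroup.eq_top_iff' K).2 fun x => ?_)
      have hxm : (x : G) ∈ K.map T.subtype := by rw [e]; exact x.2
      obtain ⟨y, hy, hye⟩ := hxm
      exact (Subtype.ext hye : y = x) ▸ hy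
  have hTnab' : ¬ IsMulCommutative T := fun hc => hTnab fun x hx y hy =>
    congrArg Subtype.val (hc.is_comm.comm (⟨x, hx⟩ : T) ⟨y, hy⟩)
  by_cases hk : ∀ g, cT g = T
  · -- one factor
    have hTN : T = N := (le_antisymm hPT.2.1 (hsup.le.trans (iSup_le fun g => (hk g).le)))
    have hNs : IsSimpleGroup N := hTN ▸ hTs
    refine ⟨hNs, ?_⟩
    by_contra hC
    set C := Subgroup.centralizer (N : Set G) with hCdef
    haveI : C.Normal := by rw [hCdef]; infer_instance
    haveI : IsPretransitive C Ω := normal_isPretransitive C hC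
    have hsemi : ∀ n ∈ N, n • a = a → n = 1 := fun n hn hfix =>
      eq_one_of_centralizes (M := C) (Subgroup.mem_centralizer_iff.2 fun c hc =>
        (Subgroup.mem_centralizer_iff.1 hc n hn).symm) hfix
    have hinj : ∀ s ∈ N, ∀ t ∈ N, s • a = t • a → s = t := fun s hs t ht e =>
      inv_mul_eq_one.1 (hsemi _ (N.mul_mem (N.inv_mem hs) ht) (by rw [mul_smul, ← e, inv_smul_smul]))
    refine no_inner h a N ((N ⊔ C) ⊓ H) hnab hinj inf_le_right ?_ ?_ ?_ ?_
    · exact fun g hg => Subgroup.mem_normalizer_fintype fun x hx =>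
        ⟨(inferInstance : (N ⊔ C).Normal).conj_mem x hx.1 g, H.mul_mem (H.mul_mem hg hx.2) (H.inv_mem hg)⟩
    · intro s hs
      obtain ⟨⟨c, hc⟩, hca⟩ := exists_smul_eq C a (s⁻¹ • a)
      refine ⟨s * c, ⟨Subgroup.mul_mem_sup hs hc, ?_⟩, fun t ht => ?_⟩
      · show (s * c) • a = a
        rw [mul_smul, show c • a = s⁻¹ • a from hca, smul_inv_smul]
      · rw [show s * c * t * (s * c)⁻¹ = s * (c * t) * c⁻¹ * s⁻¹ by group,
          (Subgroup.mem_centralizer_iff.1 hc t ht).symm]
        group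
    · rintro d ⟨hd, -⟩
      have hd' : d ∈ ((N ⊔ C : Subgroup G) : Set G) := hd
      rw [Subgroup.normal_mul] at hd'
      obtain ⟨s, hs, c, hc, rfl⟩ := hd'
      refine ⟨s, hs, fun t ht => ?_⟩
      rw [show s * c * t * (s * c)⁻¹ = s * (c * t) * c⁻¹ * s⁻¹ by group,
        (Subgroup.mem_centralizer_iff.1 hc t ht).symm]
      group
    · intro g _ t ht e
      rw [hinj _ (hN.1.conj_mem t ht g) t ht e]
  exfalso
  push Not at hk
  obtain ⟨g₀, hg₀⟩ := hk
  -- the stabiliser permutes the factors transitively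
  have htr : ∀ g, ∃ k ∈ H, cT g = cT k := by
    intro g
    obtain ⟨⟨n, hn⟩, hna⟩ := exists_smul_eq N a (g⁻¹ • a)
    refine ⟨g * n, ?_, ?_⟩
    · show (g * n) • a = a
      rw [mul_smul, show n • a = g⁻¹ • a from hna, smul_inv_smul]
    · ext x
      rw [mem_cT, mem_cT]
      have hnn := Subgroup.inv_mem _ (hPT.2.2.1 hn)
      rw [Subgroup.mem_normalizer_iff.1 hnn (g⁻¹ * x * g)]
      simp [mul_assoc]
  obtain ⟨k₀, hk₀, hk₀e⟩ := htr g₀
  have hk₀T : cT k₀ ≠ T := hk₀e ▸ hg₀
  have hmul : ∀ g k, ∀ x ∈ cT k, g * x * g⁻¹ ∈ cT (g * k) := by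
    intro g k x hx
    rw [mem_cT] at hx ⊢
    simpa [mul_assoc] using hx
  set M := N ⊓ H with hM
  have hMn : H ≤ Subgroup.normalizer (M : Set G) := fun g hg => Subgroup.mem_normalizer_fintype fun x hx =>
    ⟨hN.1.conj_mem x hx.1 g, H.mul_mem (H.mul_mem hg hx.2) (H.inv_mem hg)⟩
  let C : G → Subgroup G := fun g => N ⊓ Subgroup.centralizer (cT g : Set G)
  have hCn : ∀ g, N ≤ Subgroup.normalizer (C g : Set G) := by
    intro g n hn
    refine Subgroup.mem_normalizer_fintype fun x hx => ⟨hN.1.conj_mem x hx.1 n, ?_⟩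
    refine Subgroup.mem_centralizer_iff.2 fun y hy => ?_
    have h1 : n⁻¹ * y * n ∈ cT g := by
      simpa using (Subgroup.mem_normalizer_iff.1 (Subgroup.inv_mem _ ((hcT g).2.2.1 hn)) y).1 hy
    calc y * (n * x * n⁻¹) = n * ((n⁻¹ * y * n) * x) * n⁻¹ := by group
      _ = n * (x * (n⁻¹ * y * n)) * n⁻¹ := by rw [Subgroup.mem_centralizer_iff.1 hx.2 _ h1]
      _ = _ := by group
  have hmemC : ∀ g k, cT g ≠ cT k → ∀ x ∈ cT g, x ∈ C k := fun g k hne x hx =>
    ⟨(hcT g).2.1 hx, Subgroup.mem_centralizer_iff.2 fun y hy => (hcomm _ _ (hcT g) (hcT k) hne x hx y hy).symm⟩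
  set R : Subgroup G := ⨅ k : G, M ⊔ C k with hR
  have hMR : M ≤ R := le_iInf fun k => le_sup_left
  have hRN : R ≤ N := (iInf_le _ 1).trans (sup_le inf_le_left inf_le_left)
  have hRn : H ≤ Subgroup.normalizer (R : Set G) := by
    intro g hg
    refine Subgroup.mem_normalizer_fintype fun x hx => ?_
    rw [SetLike.mem_coe, hR, Subgroup.mem_iInf]
    intro k
    have h1 : x ∈ M ⊔ C (g⁻¹ * k) := (Subgroup.mem_iInf.1 hx) _
    have h2 : (M ⊔ C (g⁻¹ * k)).map (MulAut.conj g).toMonoidHom ≤ M ⊔ C k := by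
      rw [Subgroup.map_sup]
      refine sup_le_sup ?_ ?_
      · rintro _ ⟨y, hy, rfl⟩
        exact (Subgroup.mem_normalizer_iff.1 (hMn hg) y).1 hy
      · rintro _ ⟨y, hy, rfl⟩
        refine ⟨hN.1.conj_mem y hy.1 g, Subgroup.mem_centralizer_iff.2 fun z hz => ?_⟩
        have h3 := hmul g⁻¹ k z hz
        rw [inv_inv] at h3
        show z * (g * y * g⁻¹) = g * y * g⁻¹ * z
        calc z * (g * y * g⁻¹) = g * ((g⁻¹ * z * g) * y) * g⁻¹ := by group
          _ = g * (y * (g⁻¹ * z * g)) * g⁻¹ := by rw [Subgroup.mem_centralizer_iff.1 hy.2 _ h3]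
          _ = _ := by group
    exact h2 ⟨x, h1, rfl⟩
  have hTle : ¬ T ≤ H := by
    intro hle
    refine hN.2.1 (Cfsg.Agent.Lie.ExtPrim.normal_stab_bot h a N ?_ hN.1)
    rw [hsup]
    refine iSup_le fun g => ?_
    obtain ⟨k, hk, hke⟩ := htr g
    rw [hke]
    intro x hx
    have := H.mul_mem (H.mul_mem hk (hle (mem_cT.1 hx))) (H.inv_mem hk)
    have hxH : x ∈ H := by simpa [mul_assoc] using this
    exact hxH
  rcases (hmax.le_iff.1 (le_sup_left : H ≤ H ⊔ R)) with hcase | hcase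
  · -- surjective projections
    have hRtop : R = N := by
      refine le_antisymm hRN fun n hn => ?_
      have h1 : n ∈ H ⊔ R := hcase ▸ Subgroup.mem_top n
      rw [← SetLike.mem_coe, Subgroup.coe_mul_of_left_le_normalizer_right H R hRn] at h1
      obtain ⟨x, hx, r, hr, rfl⟩ := h1
      refine R.mul_mem (hMR ⟨?_, hx⟩) hr
      simpa using N.mul_mem hn (N.inv_mem (hRN hr))
    have hfull : ∀ k, N ≤ M ⊔ C k := fun k => hRtop ▸ iInf_le _ k
    -- a subgroup normalised by `M` and by `C k` is normalised by `N`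
    have hnorN : ∀ (k : G) (L : Subgroup G), M ≤ Subgroup.normalizer (L : Set G) →
        C k ≤ Subgroup.normalizer (L : Set G) → N ≤ Subgroup.normalizer (L : Set G) :=
      fun k L h1 h2 => (hfull k).trans (sup_le h1 h2)
    have hK : ∀ g, cT g ⊓ M = ⊥ := by
      intro g
      have hn : N ≤ Subgroup.normalizer ((cT g ⊓ M : Subgroup G) : Set G) := by
        refine hnorN g _ (fun m hm => ?_) (fun c hc => ?_)
        · exact Subgroup.mem_normalizer_fintype fun x hx =>
            ⟨(Subgroup.mem_normalizer_iff.1 ((hcT g).2.2.1 hm.1) x).1 hx.1,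
              M.mul_mem (M.mul_mem hm hx.2) (M.inv_mem hm)⟩
        · refine Subgroup.mem_normalizer_fintype fun x hx => ?_
          rw [(Subgroup.mem_centralizer_iff.1 hc.2 x hx.1).symm, mul_inv_cancel_right]
          exact hx
      rcases (hcT g).2.2.2 _ inf_le_left hn with e | e
      · exact e
      · exfalso
        refine hTle fun t ht => ?_
        obtain ⟨k, hk, hke⟩ := htr g
        have h1 : k * t * k⁻¹ ∈ cT g ⊓ M := by rw [e, hke]; exact conj_mem_cT k ht
        have h2 := H.mul_mem (H.mul_mem (H.inv_mem hk) h1.2.2) hk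
        simpa [mul_assoc] using h2
    let A : G → G → Prop := fun g k => ∀ t ∈ cT g, ∃ u ∈ cT k, u⁻¹ * t ∈ M
    have hA : ∀ g k, cT g ≠ cT k → (∃ t ∈ cT g, t ≠ 1 ∧ ∃ u ∈ cT k, u⁻¹ * t ∈ M) → A g k := by
      intro g k hne ⟨t₀, ht₀, ht₀1, u₀, hu₀, hm₀⟩
      let L : Subgroup G :=
        { carrier := {t | t ∈ cT g ∧ ∃ u ∈ cT k, u⁻¹ * t ∈ M}
          one_mem' := ⟨Subgroup.one_mem _, 1, Subgroup.one_mem _, by simp⟩
          mul_mem' := by
            rintro t s ⟨ht, u, hu, hm⟩ ⟨hs, v, hv, hm'⟩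
            refine ⟨Subgroup.mul_mem _ ht hs, v * u, Subgroup.mul_mem _ hv hu, ?_⟩
            have h1 := hcomm _ _ (hcT g) (hcT k) hne t ht v⁻¹ (Subgroup.inv_mem _ hv)
            rw [show (v * u)⁻¹ * (t * s) = u⁻¹ * (v⁻¹ * t) * s by group, ← h1,
              show u⁻¹ * (t * v⁻¹) * s = (u⁻¹ * t) * (v⁻¹ * s) by group]
            exact M.mul_mem hm hm'
          inv_mem' := by
            rintro t ⟨ht, u, hu, hm⟩
            refine ⟨Subgroup.inv_mem _ ht, u⁻¹, Subgroup.inv_mem _ hu, ?_⟩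
            rw [inv_inv]
            have h1 := hcomm _ _ (hcT g) (hcT k) hne t⁻¹ (Subgroup.inv_mem _ ht) u hu
            have h2 := M.inv_mem hm
            rw [mul_inv_rev, inv_inv, h1] at h2
            exact h2 }
      intro t ht
      have hn : N ≤ Subgroup.normalizer (L : Set G) := by
        refine hnorN g L (fun m hm => ?_) (fun c hc => ?_)
        · refine Subgroup.mem_normalizer_fintype fun x hx => ?_
          obtain ⟨hxg, u, hu, hux⟩ := hx
          refine ⟨(Subgroup.mem_normalizer_iff.1 ((hcT g).2.2.1 hm.1) x).1 hxg, m * u * m⁻¹,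
            (Subgroup.mem_normalizer_iff.1 ((hcT k).2.2.1 hm.1) u).1 hu, ?_⟩
          rw [show (m * u * m⁻¹)⁻¹ * (m * x * m⁻¹) = m * (u⁻¹ * x) * m⁻¹ by group]
          exact M.mul_mem (M.mul_mem hm hux) (M.inv_mem hm)
        · refine Subgroup.mem_normalizer_fintype fun x hx => ?_
          rw [(Subgroup.mem_centralizer_iff.1 hc.2 x hx.1).symm, mul_inv_cancel_right]
          exact hx
      rcases (hcT g).2.2.2 L (fun x hx => hx.1) hn with e | e
      · exact absurd (Subgroup.mem_bot.1 (e ▸ (⟨ht₀, u₀, hu₀, hm₀⟩ : t₀ ∈ L))) ht₀1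
      · exact ((e.symm ▸ ht : t ∈ L)).2
    -- every two distinct factors are linked
    have hlink : ∀ g k, cT g ≠ cT k → A g k := by
      suffices hl : ∀ k ∈ H, cT k ≠ T → A 1 k by
        intro g k hne
        obtain ⟨x, hx, hxe⟩ := htr g
        obtain ⟨y, hy, hye⟩ := htr (x⁻¹ * k)
        have hne' : cT y ≠ T := by
          rw [← hye]
          intro e
          refine hne (Subgroup.ext fun z => ?_)
          rw [hxe, mem_cT]
          constructor
          · intro hz
            have h1 : x⁻¹ * z * x ∈ cT (x⁻¹ * k) := e.symm ▸ hz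
            have := hmul x _ _ h1
            simpa [mul_assoc] using this
          · intro hz
            have := hmul x⁻¹ k z hz
            rw [e, inv_inv] at this
            exact this
        intro t ht
        rw [hxe] at ht
        obtain ⟨u, hu, hm⟩ := hl y hy hne' _ (hone.symm ▸ mem_cT.1 ht)
        rw [← hye] at hu
        refine ⟨x * u * x⁻¹, by simpa [mul_assoc] using hmul x _ u hu, ?_⟩
        rw [show (x * u * x⁻¹)⁻¹ * t = x * (u⁻¹ * (x⁻¹ * t * x)) * x⁻¹ by group]
        exact (Subgroup.mem_normalizer_iff.1 (hMn hx) _).1 hm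
      intro k hk hkne
      obtain ⟨⟨t, ht⟩, hne1⟩ := exists_ne (1 : T)
      have ht1 : t ≠ 1 := fun e => hne1 (Subtype.ext e)
      have htm : t ∉ M := fun hm => ht1 (Subgroup.mem_bot.1 ((hK 1) ▸ (⟨hone.symm ▸ ht, hm⟩ : t ∈ cT 1 ⊓ M)))
      have hw : t • a ≠ a := fun e => htm ⟨hPT.2.1 ht, e⟩
      have hMb : M ≠ ⊥ := by
        intro hMb
        refine hTnab fun x hx y hy => ?_
        have hxC : x ∈ C 1 := by
          have := hfull 1 (hPT.2.1 hx)
          rwa [hMb, bot_sup_eq] at this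
        exact (Subgroup.mem_centralizer_iff.1 hxC.2 y (hone.symm ▸ hy)).symm
      obtain ⟨m, hm, hmw⟩ := suborbit h a N hMb hw hk
      refine hA 1 k (by rw [hone]; exact Ne.symm hkne) ⟨m * t * m⁻¹, ?_, ?_, k * t * k⁻¹, conj_mem_cT k ht, ?_⟩
      · exact hone.symm ▸ (Subgroup.mem_normalizer_iff.1 (hPT.2.2.1 hm.1) t).1 ht
      · exact fun e => ht1 (by simpa using e)
      · refine ⟨N.mul_mem (N.inv_mem (hN.1.conj_mem t (hPT.2.1 ht) k)) (hN.1.conj_mem t (hPT.2.1 ht) m), ?_⟩
        show ((k * t * k⁻¹)⁻¹ * (m * t * m⁻¹)) • a = a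
        have e1 : (m * t * m⁻¹) • a = m • (t • a) := by
          rw [mul_smul, mul_smul, inv_smul_eq_iff.2 (show a = m • a from hm.2.symm)]
        have e2 : (k * t * k⁻¹) • a = k • (t • a) := by
          rw [mul_smul, mul_smul, inv_smul_eq_iff.2 (show a = k • a from (show k • a = a from hk).symm)]
        rw [mul_smul, e1, hmw, ← e2, inv_smul_smul]
    -- so there are exactly two factors
    have htwo : ∀ g, cT g = T ∨ cT g = cT k₀ := by
      intro g
      by_contra hc
      push Not at hc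
      refine hTnab fun t ht s hs => ?_
      obtain ⟨u, hu, hm⟩ := hlink 1 g (by rw [hone]; exact hc.1.symm) t (hone.symm ▸ ht)
      obtain ⟨v, hv, hm'⟩ := hlink 1 k₀ (by rw [hone]; exact hk₀T.symm) s (hone.symm ▸ hs)
      have cuv : Commute u v := hcomm _ _ (hcT g) (hcT k₀) hc.2 u hu v hv
      have cus : Commute u s := hcomm _ _ (hcT g) hPT hc.1 u hu s hs
      have cvt : Commute v t := hcomm _ _ (hcT k₀) hPT hk₀T v hv t ht
      have cut : Commute u t := hcomm _ _ (hcT g) hPT hc.1 u hu t ht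
      have cvs : Commute v s := hcomm _ _ (hcT k₀) hPT hk₀T v hv s hs
      have hmem : (u⁻¹ * t) * (v⁻¹ * s) * (u⁻¹ * t)⁻¹ * (v⁻¹ * s)⁻¹ ∈ M :=
        M.mul_mem (M.mul_mem (M.mul_mem hm hm') (M.inv_mem hm)) (M.inv_mem hm')
      have e1 : (u⁻¹ * t) * (v⁻¹ * s) * (u⁻¹ * t)⁻¹ * (v⁻¹ * s)⁻¹ = t * s * t⁻¹ * s⁻¹ := by
        have h1 : Commute u⁻¹ (v⁻¹ * s) := (cuv.inv_inv).mul_right cus.inv_left
        have h2 : Commute t v⁻¹ := cvt.symm.inv_right
        have h3 : Commute u⁻¹ t := cut.inv_left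
        calc (u⁻¹ * t) * (v⁻¹ * s) * (u⁻¹ * t)⁻¹ * (v⁻¹ * s)⁻¹
            = u⁻¹ * (t * (v⁻¹ * s) * t⁻¹) * u * (v⁻¹ * s)⁻¹ := by group
          _ = u⁻¹ * (v⁻¹ * (t * s * t⁻¹)) * u * (v⁻¹ * s)⁻¹ := by
            rw [← mul_assoc t v⁻¹ s, h2.eq]; group
          _ = v⁻¹ * (t * s * t⁻¹) * (s⁻¹ * v) := by
            have h4 : Commute u⁻¹ (v⁻¹ * (t * s * t⁻¹)) :=
              (cuv.inv_inv).mul_right ((cut.mul_right cus).mul_right cut.inv_right).inv_left
            rw [h4.eq]; group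
          _ = _ := by
            have h5 : Commute v⁻¹ (t * s * t⁻¹ * s⁻¹) :=
              (((cvt.mul_right cvs).mul_right cvt.inv_right).mul_right cvs.inv_right).inv_left
            rw [show v⁻¹ * (t * s * t⁻¹) * (s⁻¹ * v) = v⁻¹ * (t * s * t⁻¹ * s⁻¹) * v by group, h5.eq]
            group
      have h0 : t * s * t⁻¹ * s⁻¹ ∈ cT 1 ⊓ M := ⟨hone.symm ▸
        T.mul_mem (T.mul_mem (T.mul_mem ht hs) (T.inv_mem ht)) (T.inv_mem hs), e1 ▸ hmem⟩
      rw [hK 1, Subgroup.mem_bot, mul_inv_eq_one, mul_inv_eq_iff_eq_mul] at h0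
      exact h0
    have hTM : N ≤ M ⊔ T := by
      conv_lhs => rw [hsup]
      refine iSup_le fun g => ?_
      rcases htwo g with e | e
      · exact e.le.trans le_sup_right
      · rw [e]
        intro u hu
        obtain ⟨v, hv, hm⟩ := hlink k₀ 1 (by rw [hone]; exact hk₀T) u hu
        rw [show u = v * (v⁻¹ * u) by group]
        exact Subgroup.mul_mem _ (Subgroup.mem_sup_right (hone ▸ hv)) (Subgroup.mem_sup_left hm)
    have hTM' : ∀ s ∈ N, ∃ t ∈ T, ∃ m ∈ M, s = t * m := by
      intro s hs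
      have hMT : M ≤ Subgroup.normalizer (T : Set G) := fun m hm => hPT.2.2.1 hm.1
      have h1 : s ∈ ((T ⊔ M : Subgroup G) : Set G) := (sup_comm M T) ▸ hTM hs
      rw [Subgroup.coe_mul_of_right_le_normalizer_left T M hMT] at h1
      obtain ⟨t, ht, m, hm, rfl⟩ := h1
      exact ⟨t, ht, m, hm, rfl⟩
    refine no_inner h a T M hTnab' (fun s hs t ht e => ?_) inf_le_right hMn ?_ ?_ ?_
    · have h1 : s⁻¹ * t ∈ cT 1 ⊓ M := ⟨hone.symm ▸ T.mul_mem (T.inv_mem hs) ht,
        ⟨N.mul_mem (N.inv_mem (hPT.2.1 hs)) (hPT.2.1 ht), by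
          show (s⁻¹ * t) • a = a
          rw [mul_smul, ← e, inv_smul_smul]⟩⟩
      rw [hK 1, Subgroup.mem_bot] at h1
      exact inv_mul_eq_one.1 h1
    · intro s hs
      have h1 : s ∈ ((M ⊔ C 1 : Subgroup G) : Set G) := hfull 1 (hPT.2.1 hs)
      rw [Subgroup.coe_mul_of_left_le_normalizer_right M (C 1) (fun m hm => hCn 1 hm.1)] at h1
      obtain ⟨m, hm, c, hc, rfl⟩ := h1
      refine ⟨m, hm, fun t ht => ?_⟩
      rw [show m * c * t * (m * c)⁻¹ = m * (c * t) * c⁻¹ * m⁻¹ by group,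
        (Subgroup.mem_centralizer_iff.1 hc.2 t (hone.symm ▸ ht)).symm]
      group
    · rintro m hm
      have h1 : m ∈ (⨆ g, cT g) := hsup ▸ hm.1
      have h2 : (⨆ g, cT g) ≤ T ⊔ C 1 := iSup_le fun g => by
        by_cases e : cT g = T
        · exact e.le.trans le_sup_left
        · exact fun x hx => Subgroup.mem_sup_right (hmemC g 1 (by rw [hone]; exact e) x hx)
      have h3 : m ∈ ((T ⊔ C 1 : Subgroup G) : Set G) := h2 h1
      rw [Subgroup.coe_mul_of_right_le_normalizer_left T (C 1) (fun c hc => hPT.2.2.1 hc.1)] at h3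
      obtain ⟨s, hs, c, hc, rfl⟩ := h3
      refine ⟨s, hs, fun t ht => ?_⟩
      rw [show s * c * t * (s * c)⁻¹ = s * (c * t) * c⁻¹ * s⁻¹ by group,
        (Subgroup.mem_centralizer_iff.1 hc.2 t (hone.symm ▸ ht)).symm]
      group
    · intro g hg t ht e
      by_cases eT : cT g = T
      · have h1 : t⁻¹ * (g * t * g⁻¹) ∈ cT 1 ⊓ M := by
          have h2 : g * t * g⁻¹ ∈ T := eT ▸ conj_mem_cT g ht
          refine ⟨hone.symm ▸ T.mul_mem (T.inv_mem ht) h2,
            ⟨N.mul_mem (N.inv_mem (hPT.2.1 ht)) (hPT.2.1 h2), ?_⟩⟩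
          show (t⁻¹ * (g * t * g⁻¹)) • a = a
          rw [mul_smul, e, inv_smul_smul]
        rw [hK 1, Subgroup.mem_bot, inv_mul_eq_one] at h1
        rw [← h1]
      · exact hcomm _ _ (hcT g) hPT eT _ (conj_mem_cT g ht) t ht
  · -- projections inside the stabiliser
    have hRM : R = M := le_antisymm (le_inf hRN (le_sup_right.trans hcase.le)) hMR
    have hkey : ∀ g k, cT g ≠ cT k → ∀ t ∈ cT g, ∀ u ∈ cT k, u⁻¹ * t ∈ M → t ∈ M := by
      intro g k hne t ht u hu hm
      rw [← hRM, hR, Subgroup.mem_iInf]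
      intro j
      by_cases e : cT g = cT j
      · rw [show t = u * (u⁻¹ * t) by group]
        exact Subgroup.mul_mem _ (Subgroup.mem_sup_right (hmemC k j (e ▸ Ne.symm hne) u hu))
          (Subgroup.mem_sup_left hm)
      · exact Subgroup.mem_sup_right (hmemC g j e t ht)
    obtain ⟨t, ht, htH⟩ := SetLike.not_le_iff_exists.1 hTle
    have hw : t • a ≠ a := htH
    by_cases hMb : M = ⊥
    · -- regular
      have hinj : ∀ s ∈ N, ∀ u ∈ N, s • a = u • a → s = u := by
        intro s hs u hu e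
        refine inv_mul_eq_one.1 (Subgroup.mem_bot.1 (hMb ▸ (⟨N.mul_mem (N.inv_mem hs) hu, ?_⟩ : s⁻¹ * u ∈ M)))
        show (s⁻¹ * u) • a = a
        rw [mul_smul, ← e, inv_smul_smul]
      have hact : ∀ g ∈ H, ∀ x : G, g • (x • a) = (g * x * g⁻¹) • a := fun g hg x => by
        rw [mul_smul, mul_smul, inv_smul_eq_iff.2 (show a = g • a from (show g • a = a from hg).symm)]
      let K1 : Subgroup H :=
        { carrier := {g | cT (g : G) = T}
          one_mem' := hone
          mul_mem' := by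
            intro g k hg hk
            show cT ((g : G) * k) = T
            ext x
            have e1 := congrArg (fun U : Subgroup G => (g : G)⁻¹ * x * g ∈ U) (show cT (k : G) = T from hk)
            have e2 := congrArg (fun U : Subgroup G => x ∈ U) (show cT (g : G) = T from hg)
            simp only [mem_cT, eq_iff_iff] at e1 e2
            rw [mem_cT, mul_inv_rev, ← e2, ← e1]
            simp [mul_assoc]
          inv_mem' := by
            intro g hg
            show cT ((g : G)⁻¹) = T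
            ext x
            have e2 := congrArg (fun U : Subgroup G => (g : G) * x * (g : G)⁻¹ ∈ U) (show cT (g : G) = T from hg)
            simp only [mem_cT, eq_iff_iff] at e2
            rw [mem_cT, inv_inv, ← e2]
            simp [mul_assoc] }
      have hcen : ∀ g ∈ H, cT g = T → ∀ s ∈ T, g * s * g⁻¹ = s := by
        intro g hg hgT s hs
        by_cases hs1 : s = 1
        · simp [hs1]
        haveI := h.ep a (s • a)
        have hsub : stabilizer H (s • a) ≤ K1 := by
          intro x hx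
          have h1 : ((x : G) * s * (x : G)⁻¹) • a = s • a := by rw [← hact x x.2]; exact hx
          have h2 := hinj _ (hN.1.conj_mem s (hPT.2.1 hs) x) s (hPT.2.1 hs) h1
          show cT (x : G) = T
          by_contra hne
          have h3 : s ∈ cT (x : G) ⊓ T := ⟨h2 ▸ conj_mem_cT _ hs, hs⟩
          rw [hdis _ _ (hcT _) hPT hne, Subgroup.mem_bot] at h3
          exact hs1 h3
        have hK1 : K1 ≠ ⊤ := fun e => hk₀T (show (⟨k₀, hk₀⟩ : H) ∈ K1 from e ▸ Subgroup.mem_top _)
        haveI : Nontrivial (orbit H (s • a)) := by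
          refine ⟨⟨_, mem_orbit_self _⟩, ⟨_, mem_orbit _ (⟨k₀, hk₀⟩ : H)⟩, fun e => ?_⟩
          have e' : s • a = k₀ • (s • a) := congrArg Subtype.val e
          have h5 : (⟨k₀, hk₀⟩ : H) ∈ stabilizer H (s • a) := e'.symm
          exact hk₀T (hsub h5 : (⟨k₀, hk₀⟩ : H) ∈ K1)
        have hco : IsCoatom (stabilizer H (s • a)) := by
          have h4 := IsPreprimitive.isCoatom_stabilizer_of_isPreprimitive (G := H)
            (⟨_, mem_orbit_self _⟩ : orbit H (s • a))
          convert h4 using 1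
          ext x
          rw [mem_stabilizer_iff, mem_stabilizer_iff, Subtype.ext_iff]
          rfl
        rcases hco.le_iff.1 hsub with e | e
        · exact absurd e hK1
        · have h1 : (⟨g, hg⟩ : H) ∈ stabilizer H (s • a) := e ▸ (hgT : (⟨g, hg⟩ : H) ∈ K1)
          have h2 : (g * s * g⁻¹) • a = s • a := by rw [← hact g hg]; exact h1
          exact hinj _ (hN.1.conj_mem s (hPT.2.1 hs) g) s (hPT.2.1 hs) h2
      set Y := Subgroup.closure {z : G | ∃ g ∈ H, g * t * g⁻¹ = z} with hY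
      have hYN : Y ≤ N := (Subgroup.closure_le _).2 fun z ⟨g, _, hz⟩ => hz ▸ hN.1.conj_mem t (hPT.2.1 ht) g
      have hYn : H ≤ Subgroup.normalizer (Y : Set G) := by
        intro g hg
        refine Subgroup.mem_normalizer_fintype fun x hx => ?_
        have h1 : Y.map (MulAut.conj g).toMonoidHom ≤ Y := by
          rw [hY, MonoidHom.map_closure]
          refine Subgroup.closure_mono ?_
          rintro _ ⟨_, ⟨k, hk, rfl⟩, rfl⟩
          exact ⟨g * k, H.mul_mem hg hk, by simp [mul_assoc]⟩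
        exact h1 ⟨x, hx, rfl⟩
      have hYab : ∀ x ∈ Y, ∀ y ∈ Y, x * y = y * x := by
        have hgen : ∀ x ∈ {z : G | ∃ g ∈ H, g * t * g⁻¹ = z}, ∀ y ∈ {z : G | ∃ g ∈ H, g * t * g⁻¹ = z},
            x * y = y * x := by
          rintro _ ⟨g, hg, rfl⟩ _ ⟨k, hk, rfl⟩
          by_cases e : cT g = cT k
          · have h1 : cT (k⁻¹ * g) = T := by
              ext x
              have e1 := congrArg (fun U : Subgroup G => k * x * k⁻¹ ∈ U) e
              simp only [mem_cT, eq_iff_iff] at e1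
              rw [mem_cT]
              simpa [mul_assoc] using e1
            have h2 := hcen _ (H.mul_mem (H.inv_mem hk) hg) h1 t ht
            rw [show g * t * g⁻¹ = k * (k⁻¹ * g * t * (k⁻¹ * g)⁻¹) * k⁻¹ by group, h2]
          · exact hcomm _ _ (hcT g) (hcT k) e _ (conj_mem_cT g ht) _ (conj_mem_cT k ht)
        haveI := Subgroup.isMulCommutative_closure hgen
        exact fun x hx y hy => congrArg Subtype.val (mul_comm' (⟨x, hx⟩ : Y) ⟨y, hy⟩)
      rcases (hmax.le_iff.1 (le_sup_left : H ≤ H ⊔ Y)) with e | e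
      · refine hnab ⟨⟨fun x y => Subtype.ext ?_⟩⟩
        have hall : ∀ n ∈ N, n ∈ Y := by
          intro n hn
          have h1 : n ∈ ((H ⊔ Y : Subgroup G) : Set G) := e ▸ Subgroup.mem_top n
          rw [Subgroup.coe_mul_of_left_le_normalizer_right H Y hYn] at h1
          obtain ⟨g, hg, z, hz, rfl⟩ := h1
          have h2 : g ∈ M := ⟨by simpa using N.mul_mem hn (N.inv_mem (hYN hz)), hg⟩
          rw [hMb, Subgroup.mem_bot] at h2
          show g * z ∈ Y
          rw [h2, one_mul]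
          exact hz
        exact hYab x (hall x x.2) y (hall y y.2)
      · refine htH (e.le (Subgroup.mem_sup_right (Subgroup.subset_closure ⟨1, H.one_mem, by simp⟩)))
    · obtain ⟨m, hm, hmw⟩ := suborbit h a N hMb hw hk₀
      have h1 : (k₀ * t * k₀⁻¹)⁻¹ * (m * t * m⁻¹) ∈ M := by
        refine ⟨N.mul_mem (N.inv_mem (hN.1.conj_mem t (hPT.2.1 ht) k₀)) (hN.1.conj_mem t (hPT.2.1 ht) m), ?_⟩
        show ((k₀ * t * k₀⁻¹)⁻¹ * (m * t * m⁻¹)) • a = a
        have e1 : (m * t * m⁻¹) • a = m • (t • a) := by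
          rw [mul_smul, mul_smul, inv_smul_eq_iff.2 (show a = m • a from hm.2.symm)]
        have e2 : (k₀ * t * k₀⁻¹) • a = k₀ • (t • a) := by
          rw [mul_smul, mul_smul, inv_smul_eq_iff.2 (show a = k₀ • a from (show k₀ • a = a from hk₀).symm)]
        rw [mul_smul, e1, hmw, ← e2, inv_smul_smul]
      have h2 := hkey 1 k₀ (by rw [hone]; exact hk₀T.symm) _
        (hone.symm ▸ (Subgroup.mem_normalizer_iff.1 (hPT.2.2.1 hm.1) t).1 ht) _ (conj_mem_cT k₀ ht) h1
      have h3 : m⁻¹ * (m * t * m⁻¹) * m ∈ M := M.mul_mem (M.mul_mem (M.inv_mem hm) h2) hm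
      exact htH (by simpa [mul_assoc] using h3.2)

end Main

end Cfsg.Agent.Lead.ExtPrimReduce
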