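import Mathlib
import Cfsg.Prelude.Def_ClassicalGeometry
import Cfsg.Agent.Lib.Lead.GLBasic

/-!
`GO^+_2` is dihedral; conjugating transvections into a root group.
-/

set_option autoImplicit false

namespace Cfsg.Agent.Lead.FormsMisc

open Matrix Cfsg

variable {F : Type*} [Field F]

theorem plus_one_apply (v : Fin 1 ⊕ Fin 1 → F) :
    quadFormPlus 1 F v = v (.inl 0) * v (.inr 0) := by
  simp [quadFormPlus]

theorem mulVec_two (g : Matrix (Fin 1 ⊕ Fin 1) (Fin 1 ⊕ Fin 1) F) (v : Fin 1 ⊕ Fin 1 → F)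
    (i : Fin 1 ⊕ Fin 1) : (g *ᵥ v) i = g i (.inl 0) * v (.inl 0) + g i (.inr 0) * v (.inr 0) := by
  simp [Matrix.mulVec, dotProduct, Fintype.sum_sum_type]

theorem goPlus_two [Fintype F] :
    Nonempty (isometryGroup F (quadFormPlus 1 F) ≃* DihedralGroup (Fintype.card F - 1)) := by
  set n := Fintype.card F - 1 with hn
  have hq : 1 < Fintype.card F := Fintype.one_lt_card
  haveI : NeZero n := ⟨by omega⟩
  obtain ⟨u, hu⟩ := IsCyclic.exists_generator (α := Fˣ)
  have hord : orderOf u = n := by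
    rw [orderOf_eq_card_of_forall_mem_zpowers hu, GLBasic.card_units_eq]
  let χ : ZMod n → Fˣ := fun k => u ^ k.val
  have hadd : ∀ a b : ZMod n, χ (a + b) = χ a * χ b := fun a b => by
    show u ^ (a + b).val = u ^ a.val * u ^ b.val
    rw [← pow_add, pow_eq_pow_iff_modEq, hord, ZMod.val_add]
    exact Nat.mod_modEq _ _
  have hzero : χ 0 = 1 := by simp [χ]
  have hsub : ∀ a b : ZMod n, χ (b - a) = χ b * (χ a)⁻¹ := fun a b => by
    rw [eq_mul_inv_iff_mul_eq, ← hadd, sub_add_cancel]
  have hinj : Function.Injective χ := fun a b h => ZMod.val_injective n (by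
    have := pow_eq_pow_iff_modEq.mp h
    rw [hord] at this
    exact (Nat.ModEq.eq_of_lt_of_lt this (ZMod.val_lt a) (ZMod.val_lt b)))
  have hsurj : ∀ x : Fˣ, ∃ k, χ k = x := fun x => by
    obtain ⟨m, rfl⟩ := Subgroup.mem_zpowers_iff.mp (hu x)
    refine ⟨(m : ZMod n), ?_⟩
    show u ^ ((m : ZMod n).val) = u ^ m
    rw [← zpow_natCast, zpow_eq_zpow_iff_modEq, hord, ZMod.val_intCast]
    exact Int.emod_emod_of_dvd m (dvd_refl _)
  let dM : Fˣ → Matrix (Fin 1 ⊕ Fin 1) (Fin 1 ⊕ Fin 1) F := fun x =>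
    fromBlocks (diagonal fun _ => (x : F)) 0 0 (diagonal fun _ => ((x⁻¹ : Fˣ) : F))
  let sM : Fˣ → Matrix (Fin 1 ⊕ Fin 1) (Fin 1 ⊕ Fin 1) F := fun x =>
    fromBlocks 0 (diagonal fun _ => ((x⁻¹ : Fˣ) : F)) (diagonal fun _ => (x : F)) 0
  let M : DihedralGroup n → Matrix (Fin 1 ⊕ Fin 1) (Fin 1 ⊕ Fin 1) F := fun d =>
    match d with
    | .r k => dM (χ k)
    | .sr k => sM (χ k)
  have hM1 : M 1 = 1 := by
    show dM (χ 0) = 1
    rw [hzero]
    simp [dM]
  have hdd : ∀ x y : Fˣ, dM (x * y) = dM x * dM y := fun x y => by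
    ext i j
    rcases i with i | i <;> rcases j with j | j <;> fin_cases i <;> fin_cases j <;>
      simp [dM, Matrix.mul_apply, Fintype.sum_sum_type, mul_comm]
  have hds : ∀ x y : Fˣ, sM (y * x⁻¹) = dM x * sM y := fun x y => by
    ext i j
    rcases i with i | i <;> rcases j with j | j <;> fin_cases i <;> fin_cases j <;>
      simp [dM, sM, Matrix.mul_apply, Fintype.sum_sum_type, mul_comm]
  have hsd : ∀ x y : Fˣ, sM (x * y) = sM x * dM y := fun x y => by
    ext i j
    rcases i with i | i <;> rcases j with j | j <;> fin_cases i <;> fin_cases j <;>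
      simp [dM, sM, Matrix.mul_apply, Fintype.sum_sum_type, mul_comm]
  have hss : ∀ x y : Fˣ, dM (y * x⁻¹) = sM x * sM y := fun x y => by
    ext i j
    rcases i with i | i <;> rcases j with j | j <;> fin_cases i <;> fin_cases j <;>
      simp [dM, sM, Matrix.mul_apply, Fintype.sum_sum_type, mul_comm]
  have hMmul : ∀ a b, M (a * b) = M a * M b := by
    rintro (i | i) (j | j)
    · show dM (χ (i + j)) = dM (χ i) * dM (χ j)
      rw [hadd, hdd]
    · show sM (χ (j - i)) = dM (χ i) * sM (χ j)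
      rw [hsub, hds]
    · show sM (χ (i + j)) = sM (χ i) * dM (χ j)
      rw [hadd, hsd]
    · show dM (χ (j - i)) = sM (χ i) * sM (χ j)
      rw [hsub, hss]
  let Ψ : DihedralGroup n →* Matrix (Fin 1 ⊕ Fin 1) (Fin 1 ⊕ Fin 1) F :=
    { toFun := M, map_one' := hM1, map_mul' := hMmul }
  let Φ : DihedralGroup n →* GL (Fin 1 ⊕ Fin 1) F := Ψ.toHomUnits
  have hval : ∀ d, (Φ d : Matrix (Fin 1 ⊕ Fin 1) (Fin 1 ⊕ Fin 1) F) = M d := fun _ => rfl
  have hΦ : Function.Injective Φ := by
    intro a b h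
    have h' : M a = M b := by rw [← hval, ← hval, h]
    rcases a with i | i <;> rcases b with j | j
    · have := congrFun (congrFun h' (.inl 0)) (.inl 0)
      simp [M, dM] at this
      exact congrArg DihedralGroup.r (hinj (Units.ext this))
    · have := congrFun (congrFun h' (.inl 0)) (.inl 0)
      simp [M, dM, sM] at this <;> exact absurd this.symm (Units.ne_zero _)
    · have := congrFun (congrFun h' (.inl 0)) (.inl 0)
      simp [M, dM, sM] at this <;> exact absurd this.symm (Units.ne_zero _)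
    · have := congrFun (congrFun h' (.inr 0)) (.inl 0)
      simp [M, sM] at this
      exact congrArg DihedralGroup.sr (hinj (Units.ext this))
  refine ⟨((MonoidHom.ofInjective hΦ).trans (MulEquiv.subgroupCongr ?_)).symm⟩
  ext g
  constructor
  · rintro ⟨d, rfl⟩ v _
    show quadFormPlus 1 F ((Φ d : Matrix _ _ F) *ᵥ v) = quadFormPlus 1 F v
    rw [hval, plus_one_apply, plus_one_apply, mulVec_two, mulVec_two]
    rcases d with k | k <;> simp [M, dM, sM] <;> field_simp
  · intro hg
    set G := (g : Matrix (Fin 1 ⊕ Fin 1) (Fin 1 ⊕ Fin 1) F)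
    have hQ : ∀ x y : F, (G (.inl 0) (.inl 0) * x + G (.inl 0) (.inr 0) * y) *
        (G (.inr 0) (.inl 0) * x + G (.inr 0) (.inr 0) * y) = x * y := fun x y => by
      have h : quadFormPlus 1 F (G *ᵥ Sum.elim (fun _ => x) fun _ => y) =
          quadFormPlus 1 F (Sum.elim (fun _ => x) fun _ => y) :=
        hg (Sum.elim (fun _ => x) fun _ => y) (Sum.elim (fun _ => x) fun _ => y)
      rw [plus_one_apply, plus_one_apply, mulVec_two, mulVec_two] at h
      simpa using h
    have e1 := hQ 1 0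
    have e2 := hQ 0 1
    have e3 := hQ 1 1
    simp only [mul_one, mul_zero, add_zero, zero_add] at e1 e2 e3
    set a := G (.inl 0) (.inl 0) with ha
    set b := G (.inl 0) (.inr 0) with hb
    set c := G (.inr 0) (.inl 0) with hc
    set d := G (.inr 0) (.inr 0) with hd
    have e4 : a * d + b * c = 1 := by linear_combination e3 - e1 - e2
    have hG : G = fromBlocks (diagonal fun _ => a) (diagonal fun _ => b) (diagonal fun _ => c)
        (diagonal fun _ => d) := by
      ext i j
      rcases i with i | i <;> rcases j with j | j <;> fin_cases i <;> fin_cases j <;>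
        simp [ha, hb, hc, hd]
    rcases mul_eq_zero.mp e1 with h0 | h0
    · have hc0 : c ≠ 0 := fun h => by simp [h0, h] at e4
      have hd0 : d = 0 := by
        rcases mul_eq_zero.mp e2 with h | h
        · simp [h0, h] at e4
        · exact h
      obtain ⟨k, hk⟩ := hsurj (Units.mk0 c hc0)
      refine ⟨.sr k, Units.ext ?_⟩
      rw [hval]
      show sM (χ k) = G
      rw [hk, hG, h0, hd0]
      have hbc : b = c⁻¹ := eq_inv_of_mul_eq_one_left (by linear_combination e4 - d * h0)
      simp [sM, hbc]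
    · have ha0 : a ≠ 0 := fun h => by simp [h0, h] at e4
      have hb0 : b = 0 := by
        rcases mul_eq_zero.mp e2 with h | h
        · exact h
        · simp [h0, h] at e4
      obtain ⟨k, hk⟩ := hsurj (Units.mk0 a ha0)
      refine ⟨.r k, Units.ext ?_⟩
      rw [hval]
      show dM (χ k) = G
      rw [hk, hG, h0, hb0]
      have hda : d = a⁻¹ := eq_inv_of_mul_eq_one_right (by linear_combination e4 - b * h0)
      simp [dM, hda]

theorem trans_conj (n : ℕ) (t : Matrix.SpecialLinearGroup (Fin (n + 2)) F)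
    (ht : Cfsg.IsTransvection (t : Matrix (Fin (n + 2)) (Fin (n + 2)) F)) :
    ∃ (g : Matrix.SpecialLinearGroup (Fin (n + 2)) F) (v : Fin (n + 2) → F), v 0 = 0 ∧
      ((g⁻¹ * t * g : Matrix.SpecialLinearGroup (Fin (n + 2)) F) :
        Matrix (Fin (n + 2)) (Fin (n + 2)) F) = 1 + Matrix.vecMulVec v (Pi.single 0 1) := by
  classical
  obtain ⟨hr, hsq⟩ := ht
  set N := (t : Matrix (Fin (n + 2)) (Fin (n + 2)) F) - 1 with hN
  obtain ⟨⟨a, ha⟩, ha0, hspan⟩ := finrank_eq_one_iff'.mp (show Module.finrank F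
    (LinearMap.range N.mulVecLin) = 1 from hr)
  have hcol : ∀ j, ∃ c : F, c • a = N *ᵥ Pi.single j 1 := fun j => by
    obtain ⟨c, hc⟩ := hspan ⟨_, ⟨Pi.single j 1, rfl⟩⟩
    exact ⟨c, congrArg Subtype.val hc⟩
  choose φ hφ using hcol
  have hNeq : N = vecMulVec a φ := by
    refine Matrix.ext_of_mulVec_single fun j => ?_
    rw [← hφ j, vecMulVec_mulVec]
    ext i
    simp [Pi.single_apply, mul_comm]
  have hane : a ≠ 0 := fun h => ha0 (Subtype.ext h)
  have hφ0 : φ ≠ 0 := fun h => by
    have : N = 0 := by rw [hNeq, h, vecMulVec_zero]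
    rw [this, Matrix.rank_zero] at hr
    exact zero_ne_one hr
  have hdot : φ ⬝ᵥ a = 0 := by
    rw [hNeq, vecMulVec_mul_vecMulVec] at hsq
    obtain ⟨i, hi⟩ := Function.ne_iff.mp hane
    obtain ⟨j, hj⟩ := Function.ne_iff.mp hφ0
    have := congrFun (congrFun hsq i) j
    simp [vecMulVec_apply] at this
    rcases this with h | h | h
    exacts [absurd h hi, h, absurd h hj]
  obtain ⟨k, hk⟩ := Function.ne_iff.mp hφ0
  set M : Matrix (Fin (n + 2)) (Fin (n + 2)) F :=
    ((1 : Matrix (Fin (n + 2)) (Fin (n + 2)) F).updateCol k φ).submatrix id (Equiv.swap 0 k)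
  have hMdet : M.det ≠ 0 := by
    have h1 : ((1 : Matrix (Fin (n + 2)) (Fin (n + 2)) F).updateCol k φ).det = φ k := by
      rw [← Matrix.cramer_apply, Matrix.cramer_one]; rfl
    simp only [M]
    rw [Matrix.det_permute', h1]
    rcases Int.units_eq_one_or (Equiv.Perm.sign (Equiv.swap 0 k)) with h | h <;> rw [h] <;>
      simpa using hk
  have hM0 : M *ᵥ Pi.single 0 1 = φ := by
    ext i
    simp [M]
  set P : GL (Fin (n + 2)) F := Matrix.GeneralLinearGroup.mkOfDetNeZero M hMdet with hP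
  set h : Matrix (Fin (n + 2)) (Fin (n + 2)) F := ((P⁻¹ : GL (Fin (n + 2)) F) : Matrix _ _ F)ᵀ
  have hh : φ ᵥ* h = Pi.single 0 1 := by
    rw [← Matrix.mulVec_transpose, Matrix.transpose_transpose, ← hM0]
    exact Cfsg.Agent.Classical.gl_inv_mulVec_cancel P _
  set d := (Matrix.GeneralLinearGroup.det P : F) with hd
  set G := h * Matrix.diagonal (fun i => if i = 0 then d else 1) with hG
  have hGdet : G.det = 1 := by
    rw [hG, Matrix.det_mul, Matrix.det_transpose, Matrix.det_diagonal, Finset.prod_ite_eq',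
      if_pos (Finset.mem_univ _), hd, ← Matrix.GeneralLinearGroup.val_det_apply, map_inv,
      ← Units.val_mul, inv_mul_cancel, Units.val_one]
  have hφG : φ ᵥ* G = d • Pi.single 0 1 := by
    rw [hG, ← Matrix.vecMul_vecMul, hh]
    ext i
    rw [Matrix.vecMul_diagonal]
    by_cases hi : i = 0 <;> simp [hi]
  set g : Matrix.SpecialLinearGroup (Fin (n + 2)) F := ⟨G, hGdet⟩
  refine ⟨g, d • ((g⁻¹ : Matrix.SpecialLinearGroup (Fin (n + 2)) F) :
    Matrix (Fin (n + 2)) (Fin (n + 2)) F) *ᵥ a, ?_, ?_⟩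
  · set w := ((g⁻¹ : Matrix.SpecialLinearGroup (Fin (n + 2)) F) :
      Matrix (Fin (n + 2)) (Fin (n + 2)) F) *ᵥ a with hw
    have e : G *ᵥ w = a := by
      rw [hw, Matrix.mulVec_mulVec]
      have := congrArg Subtype.val (mul_inv_cancel g)
      rw [Matrix.SpecialLinearGroup.coe_mul, Matrix.SpecialLinearGroup.coe_one] at this
      rw [this, Matrix.one_mulVec]
    have := hdot
    rw [← e, Matrix.dotProduct_mulVec, hφG, smul_dotProduct, single_one_dotProduct] at this
    rw [Pi.smul_apply]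
    exact this
  · rw [Matrix.SpecialLinearGroup.coe_mul, Matrix.SpecialLinearGroup.coe_mul,
      show (t : Matrix (Fin (n + 2)) (Fin (n + 2)) F) = 1 + N from (add_sub_cancel _ _).symm, hNeq,
      Matrix.mul_add, Matrix.mul_one, Matrix.add_mul]
    congr 1
    · exact congrArg Subtype.val (inv_mul_cancel g)
    · show _ * vecMulVec a φ * G = _
      rw [Matrix.mul_vecMulVec, Matrix.vecMulVec_mul, hφG]
      ext i j
      simp [vecMulVec_apply]
      ring

end Cfsg.Agent.Lead.FormsMisc
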