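import Mathlib

/-!
The numerical part of the classification of nonsolvable groups with four automorphism orbits.
-/

set_option autoImplicit false

namespace Cfsg.Agent.Lead.FourOrb

theorem two_pow_mod_three {α : ℕ} (h : 2 ^ α % 3 = 1) (hα : 1 ≤ α) :
    2 ^ α = 4 ∨ 2 ^ α = 16 ∨ 64 ≤ 2 ^ α := by
  rcases Nat.lt_or_ge α 6 with h6 | h6
  · interval_cases α <;> norm_num at *
  · exact Or.inr (Or.inr (le_trans (by norm_num) (Nat.pow_le_pow_right (by norm_num) h6)))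

theorem two_pow_mod_five {α : ℕ} (h : 2 ^ α % 5 = 1) (hα : 1 ≤ α) :
    2 ^ α = 16 ∨ 256 ≤ 2 ^ α := by
  rcases Nat.lt_or_ge α 8 with h8 | h8
  · interval_cases α <;> norm_num at *
  · exact Or.inr (le_trans (by norm_num) (Nat.pow_le_pow_right (by norm_num) h8))

theorem three_pow_cases {β : ℕ} (hβ : 1 ≤ β) :
    3 ^ β = 3 ∨ 3 ^ β = 9 ∨ 3 ^ β = 27 ∨ 81 ≤ 3 ^ β := by
  rcases Nat.lt_or_ge β 4 with h4 | h4
  · interval_cases β <;> norm_num
  · exact Or.inr (Or.inr (Or.inr (le_trans (by norm_num) (Nat.pow_le_pow_right (by norm_num) h4))))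

theorem five_pow_cases {β : ℕ} (hβ : 1 ≤ β) :
    5 ^ β = 5 ∨ 5 ^ β = 25 ∨ 125 ≤ 5 ^ β := by
  rcases Nat.lt_or_ge β 3 with h3 | h3
  · interval_cases β <;> norm_num
  · exact Or.inr (Or.inr (le_trans (by norm_num) (Nat.pow_le_pow_right (by norm_num) h3)))

/-- `q + 1` and `q + 2` are prime powers only in two small cases. -/
theorem mersenne_case {q r α γ : ℕ} (hq : q.Prime) (hr : r.Prime) (hA : 2 ^ α = q + 1)
    (hR : r ^ γ = q + 2) (hq2 : q ≠ 2) :
    (2 ^ α = 4 ∧ q = 3 ∧ r ^ γ = 5) ∨ (2 ^ α = 8 ∧ q = 7 ∧ r ^ γ = 9) := by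
  by_cases hq3 : q = 3
  · subst hq3; exact Or.inl ⟨hA, rfl, hR⟩
  have h3q : ¬ 3 ∣ q := fun h => hq3 ((Nat.prime_dvd_prime_iff_eq Nat.prime_three hq).1 h).symm
  have h3a : ¬ 3 ∣ 2 ^ α := fun h =>
    absurd (Nat.prime_three.dvd_of_dvd_pow h) (by norm_num)
  have h3 : 3 ∣ q + 2 := by omega
  have hr3 : r = 3 :=
    ((Nat.prime_dvd_prime_iff_eq Nat.prime_three hr).1 (Nat.prime_three.dvd_of_dvd_pow (hR ▸ h3))).symm
  subst hr3
  have hq5 : 5 ≤ q := by
    have := hq.two_le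
    rcases Nat.lt_or_ge q 5 with h | h
    · interval_cases q
      all_goals first | omega | exact absurd hq (by norm_num)
    · exact h
  have hα3 : 3 ≤ α := by
    by_contra h
    have : 2 ^ α ≤ 4 :=
      (Nat.pow_le_pow_right (n := 2) (by norm_num) (show α ≤ 2 by omega)).trans_eq (by norm_num)
    omega
  have h8 : 8 ∣ 2 ^ α := (show (8 : ℕ) = 2 ^ 3 by norm_num) ▸ pow_dvd_pow 2 hα3
  have hev : Even γ := by
    by_contra ho
    obtain ⟨d, rfl⟩ := Nat.not_even_iff_odd.1 ho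
    have h38 : 3 ^ (2 * d + 1) % 8 = 3 := by
      rw [pow_succ, pow_mul, Nat.mul_mod, Nat.pow_mod]; norm_num
    obtain ⟨c, hc⟩ := h8
    rw [hc] at hA
    clear hc
    generalize 3 ^ (2 * d + 1) = X at h38 hR
    omega
  obtain ⟨d, rfl⟩ := hev
  have hd : 3 ^ (d + d) = 3 ^ d * 3 ^ d := pow_add 3 d d
  have hd1 : 1 ≤ 3 ^ d := Nat.one_le_pow _ _ (by norm_num)
  obtain ⟨m, hm⟩ : ∃ m, 3 ^ d = m + 1 := ⟨3 ^ d - 1, by omega⟩
  rw [hd, hm] at hR
  have hprod : 2 ^ α = m * (m + 2) := by nlinarith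
  obtain ⟨i, -, hi⟩ := (Nat.dvd_prime_pow Nat.prime_two).1 (hprod ▸ dvd_mul_right m (m + 2) : m ∣ 2 ^ α)
  obtain ⟨j, -, hj⟩ := (Nat.dvd_prime_pow Nat.prime_two).1 (hprod ▸ dvd_mul_left (m + 2) m : m + 2 ∣ 2 ^ α)
  have hij : i < j := (Nat.pow_lt_pow_iff_right (by norm_num)).1 (by omega : 2 ^ i < 2 ^ j)
  have h2i : 2 * 2 ^ i ≤ 2 ^ j := by
    rw [← pow_succ']; exact Nat.pow_le_pow_right (by norm_num) hij
  have hm2 : m = 1 ∨ m = 2 := by
    have : m ≠ 0 := by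
      intro h0; subst h0
      have : 1 ≤ 2 ^ i := Nat.one_le_two_pow
      omega
    omega
  rcases hm2 with rfl | rfl
  · exfalso; omega
  · refine Or.inr ?_
    rw [hd, hm]
    omega

/-- Both odd normaliser indices equal to two. -/
theorem case_two_two {q r A Q R α β γ k : ℕ} (hq : q.Prime) (hr : r.Prime) (hq2 : q ≠ 2) (hr2 : r ≠ 2)
    (hqr : q ≠ r) (hA : A = 2 ^ α) (hQ : Q = q ^ β) (hR : R = r ^ γ) (hα : 1 ≤ α) (hβ : 1 ≤ β)
    (hγ : 1 ≤ γ) (hk : A = k * q + 1) (heq : 2 * k * Q * R + 2 = A * (Q + R)) :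
    (A = 4 ∧ Q * R = 15) ∨ (A = 8 ∧ Q * R = 63) := by
  have hq3 : 3 ≤ q := by have := hq.two_le; omega
  have hk1 : 1 ≤ k := by
    rcases Nat.eq_zero_or_pos k with rfl | h
    · have : 2 ≤ A := hA ▸ Nat.le_self_pow (by omega) 2
      simp at hk; omega
    · exact h
  have hqQ : q ∣ Q := hQ ▸ dvd_pow_self q (by omega)
  have hR3 : 3 ≤ R := by
    have h1 : r ≤ R := hR ▸ Nat.le_self_pow (by omega) r
    have := hr.two_le
    omega
  have hRq : (R : ℤ) ≡ 2 [ZMOD q] := by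
    rw [Int.modEq_iff_dvd]
    obtain ⟨Q', rfl⟩ := hqQ
    subst hk
    refine ⟨(k : ℤ) * (q * Q' + R) + Q' - 2 * k * Q' * R, ?_⟩
    have e : (2 : ℤ) * k * (q * Q') * R + 2 = (k * q + 1) * (q * Q' + R) := by exact_mod_cast heq
    linear_combination e
  have hRne : R ≠ 2 := by omega
  have hRge : q + 2 ≤ R := by
    by_contra hlt
    obtain ⟨c, hc⟩ := Int.modEq_iff_dvd.1 hRq
    have h1 : ((2 : ℤ) - R) ≠ 0 := by omega
    have h2 : |(2 : ℤ) - R| < q := by rw [abs_lt]; omega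
    exact h1 (Int.eq_zero_of_abs_lt_dvd ⟨c, hc⟩ h2)
  by_cases hb : β = 1
  · subst hb
    rw [pow_one] at hQ
    subst Q
    obtain ⟨m, rfl⟩ : ∃ m, R = q + m := ⟨R - q, by omega⟩
    have hm : k * q * m + 2 = 2 * q + m := by subst hk; nlinarith
    have hk' : k = 1 := by
      by_contra hne
      have : 2 * q * m ≤ k * q * m := by
        exact Nat.mul_le_mul_right m (Nat.mul_le_mul_right q (by omega))
      nlinarith
    subst hk'
    have hm2 : m = 2 := by nlinarith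
    subst hm2
    rcases mersenne_case hq hr (α := α) (γ := γ) (by omega) (by omega) hq2 with ⟨a, b, c⟩ | ⟨a, b, c⟩
    · exact Or.inl ⟨hA ▸ a, by rw [b]⟩
    · exact Or.inr ⟨hA ▸ a, by rw [b]⟩
  · exfalso
    have hQ2 : 3 * q ≤ Q := by
      have : q ^ 2 ≤ Q := hQ ▸ Nat.pow_le_pow_right (by omega) (by omega)
      nlinarith
    have hz : (k : ℤ) * (2 * Q * R - q * Q - q * R) = Q + R - 2 := by
      have e : (2 : ℤ) * k * Q * R + 2 = (k * q + 1) * (Q + R) := by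
        exact_mod_cast (hk ▸ heq)
      linear_combination e
    have hD : (0 : ℤ) < 2 * Q * R - q * Q - q * R := by
      by_contra hD
      have : (k : ℤ) * (2 * Q * R - q * Q - q * R) ≤ 0 :=
        mul_nonpos_of_nonneg_of_nonpos (by positivity) (by omega)
      omega
    have hDle : (2 * Q * R - q * Q - q * R : ℤ) ≤ Q + R - 2 := by
      rw [← hz]
      exact le_mul_of_one_le_left hD.le (by exact_mod_cast hk1)
    have f1 : (R : ℤ) + 1 ≤ 2 * R - q - 1 := by omega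
    have f2 : (3 * q : ℤ) * (R + 1) ≤ Q * (2 * R - q - 1) :=
      mul_le_mul (by exact_mod_cast hQ2) f1 (by positivity) (by positivity)
    nlinarith

theorem bound {A Q R x y z : ℕ} (hx : x ≤ A) (hy : y ≤ Q) (hz : z ≤ R) :
    x * (Q * R) ≤ A * Q * R ∧ y * (A * R) ≤ A * Q * R ∧ z * (A * Q) ≤ A * Q * R ∧
      x * y * z ≤ A * Q * R :=
  ⟨(Nat.mul_le_mul_right _ hx).trans_eq (by ring), (Nat.mul_le_mul_right _ hy).trans_eq (by ring),
    (Nat.mul_le_mul_right _ hz).trans_eq (by ring), Nat.mul_le_mul (Nat.mul_le_mul hx hy) hz⟩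

theorem case_one {A Q R α β : ℕ} (hA : A = 2 ^ α) (hQ : Q = 3 ^ β) (hα : 1 ≤ α) (hβ : 1 ≤ β)
    (hAm : A % 3 = 1) (hRm : R % 3 = 1) (hR7 : 7 ≤ R)
    (heq : 2 * Q * R + 3 * A * R + 2 * A * Q = A * Q * R + 6) : False := by
  have ha := two_pow_mod_three (hA ▸ hAm) hα
  have hb := three_pow_cases hβ
  rw [← hA] at ha
  rw [← hQ] at hb
  clear hA hQ
  rcases ha with rfl | rfl | a <;> rcases hb with rfl | rfl | rfl | b <;>
    first
      | omega
      | nlinarith [bound a b hR7]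
      | nlinarith [bound (le_refl 4) b hR7]
      | nlinarith [bound (le_refl 16) b hR7]
      | nlinarith [bound a (le_refl 3) hR7]
      | nlinarith [bound a (le_refl 9) hR7]
      | nlinarith [bound a (le_refl 27) hR7]

theorem case_two {A Q R α β γ : ℕ} (hA : A = 2 ^ α) (hQ : Q = 3 ^ β) (hR : R = 5 ^ γ) (hα : 1 ≤ α)
    (hβ : 1 ≤ β) (hγ : 1 ≤ γ) (hAm : A % 3 = 1) (hQm : Q % 5 = 1)
    (heq : 10 * Q * R + 6 * A * R + 15 * A * Q = A * Q * R + 30) : False := by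
  have ha := two_pow_mod_three (hA ▸ hAm) hα
  have hb := three_pow_cases hβ
  have hc := five_pow_cases hγ
  rw [← hA] at ha
  rw [← hQ] at hb
  rw [← hR] at hc
  clear hA hQ hR
  rcases hb with rfl | rfl | rfl | b <;> (try (norm_num at hQm; done)) <;>
    rcases ha with rfl | rfl | a <;> rcases hc with rfl | rfl | c <;>
    first
      | omega
      | nlinarith
      | nlinarith [bound a b c]
      | nlinarith [bound (le_refl 4) b c]
      | nlinarith [bound (le_refl 16) b c]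
      | nlinarith [bound a b (le_refl 5)]
      | nlinarith [bound a b (le_refl 25)]

theorem case_three {A Q R α β γ : ℕ} (hA : A = 2 ^ α) (hQ : Q = 5 ^ β) (hR : R = 3 ^ γ) (hα : 1 ≤ α)
    (hβ : 1 ≤ β) (hγ : 1 ≤ γ) (hAm : A % 5 = 1) (hQm : Q % 3 = 1)
    (heq : 6 * Q * R + 10 * A * R + 15 * A * Q = A * Q * R + 30) : False := by
  have ha := two_pow_mod_five (hA ▸ hAm) hα
  have hb := five_pow_cases hβ
  have hc := three_pow_cases hγ
  rw [← hA] at ha
  rw [← hQ] at hb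
  rw [← hR] at hc
  clear hA hQ hR
  rcases ha with rfl | a <;> rcases hb with rfl | rfl | b <;> rcases hc with rfl | rfl | rfl | c <;>
    first
      | omega
      | nlinarith [bound a b c]
      | nlinarith [bound a b (le_refl 3)]
      | nlinarith [bound a b (le_refl 9)]
      | nlinarith [bound a b (le_refl 27)]
      | nlinarith [bound a (le_refl 25) c]
      | nlinarith [bound (le_refl 16) b c]
      | nlinarith

set_option maxHeartbeats 1000000 in
theorem arith_sorted {q r A Q R α β γ b c na nb nc : ℕ} (hq : q.Prime) (hr : r.Prime) (hq2 : q ≠ 2)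
    (hr2 : r ≠ 2) (hqr : q ≠ r) (hA : A = 2 ^ α) (hQ : Q = q ^ β) (hR : R = r ^ γ) (hα : 1 ≤ α)
    (hβ : 1 ≤ β) (hγ : 1 ≤ γ) (hb : b = 2 ∨ b = r) (hc : c = 2 ∨ c = q) (haA : q ∣ A - 1)
    (hbQ : b ∣ Q - 1) (hcR : c ∣ R - 1) (hna : na * q = Q * R) (hnb : nb * b = A * R)
    (hnc : nc * c = A * Q)
    (heq : na * (A - 1) + nb * (Q - 1) + nc * (R - 1) + 1 = A * Q * R) :
    (A = 4 ∧ Q * R = 15) ∨ (A = 8 ∧ Q * R = 63) := by
  have hq3 : 3 ≤ q := by have := hq.two_le; omega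
  have hr3 : 3 ≤ r := by have := hr.two_le; omega
  have hA2 : 2 ≤ A := hA ▸ Nat.le_self_pow (by omega) 2
  have hQq : q ≤ Q := hQ ▸ Nat.le_self_pow (by omega) q
  have hRr : r ≤ R := hR ▸ Nat.le_self_pow (by omega) r
  obtain ⟨A', rfl⟩ : ∃ A', A = A' + 1 := ⟨A - 1, by omega⟩
  obtain ⟨Q', rfl⟩ : ∃ Q', Q = Q' + 1 := ⟨Q - 1, by omega⟩
  obtain ⟨R', rfl⟩ : ∃ R', R = R' + 1 := ⟨R - 1, by omega⟩
  simp only [Nat.add_sub_cancel] at heq haA hbQ hcR
  have e1 : q * (na * A') + (Q' + 1) * (R' + 1) = (A' + 1) * (Q' + 1) * (R' + 1) := by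
    linear_combination A' * hna
  have e2 : b * (nb * Q') + (A' + 1) * (R' + 1) = (A' + 1) * (Q' + 1) * (R' + 1) := by
    linear_combination Q' * hnb
  have e3 : c * (nc * R') + (A' + 1) * (Q' + 1) = (A' + 1) * (Q' + 1) * (R' + 1) := by
    linear_combination R' * hnc
  generalize ht1 : na * A' = T1 at e1 heq
  generalize ht2 : nb * Q' = T2 at e2 heq
  generalize ht3 : nc * R' = T3 at e3 heq
  have hG : 2 * q * r ≤ (A' + 1) * (Q' + 1) * (R' + 1) :=
    Nat.mul_le_mul (Nat.mul_le_mul hA2 hQq) hRr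
  have hqr15 : 15 ≤ q * r := by
    rcases Nat.lt_or_ge q 5 with h | h
    · have : q = 3 := by
        interval_cases q
        · rfl
        · exact absurd hq (by norm_num)
      subst this
      have : r ≠ 4 := fun e => absurd (e ▸ hr) (by norm_num)
      omega
    · calc 15 = 5 * 3 := rfl
        _ ≤ q * r := Nat.mul_le_mul h hr3
  rcases hb with hb | hb <;> rcases hc with hc | hc <;> subst b <;> subst c
  · -- both two
    obtain ⟨k, hk⟩ := haA
    refine case_two_two hq hr hq2 hr2 hqr hA hQ hR hα hβ hγ (k := k) (by rw [hk, mul_comm]) ?_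
    have hnq : na * A' = k * (na * q) := by rw [hk]; ring
    rw [hna] at hnq
    rw [← ht1, hnq] at heq
    linear_combination 2 * heq - e2 - e3
  · -- q = 3
    exfalso
    have hq5 : q = 3 := by
      by_contra hne
      have : 5 ≤ q := by
        have : q ≠ 4 := fun e => absurd (e ▸ hq) (by norm_num)
        omega
      nlinarith
    subst hq5
    refine case_one hA hQ hα hβ (by omega) (R := R' + 1) (by omega) ?_ ?_
    · have : r ≠ 4 := fun e => absurd (e ▸ hr) (by norm_num)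
      omega
    · linear_combination 2 * e1 + 3 * e2 + 2 * e3 - 6 * heq
  · -- q and r are three and five
    exfalso
    have hsmall : (q = 3 ∧ r = 5) ∨ (q = 5 ∧ r = 3) := by
      have hq4 : q ≠ 4 := fun e => absurd (e ▸ hq) (by norm_num)
      have hr4 : r ≠ 4 := fun e => absurd (e ▸ hr) (by norm_num)
      have hq6 : q ≠ 6 := fun e => absurd (e ▸ hq) (by norm_num)
      have hr6 : r ≠ 6 := fun e => absurd (e ▸ hr) (by norm_num)
      by_contra hne
      have : (5 ≤ q ∧ 7 ≤ r) ∨ (7 ≤ q ∧ 5 ≤ r) ∨ (q = 3 ∧ 7 ≤ r) ∨ (7 ≤ q ∧ r = 3) := by omega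
      rcases this with ⟨h1, h2⟩ | ⟨h1, h2⟩ | ⟨rfl, h2⟩ | ⟨h1, rfl⟩ <;> nlinarith
    rcases hsmall with ⟨rfl, rfl⟩ | ⟨rfl, rfl⟩
    · refine case_two hA hQ hR hα hβ hγ (by omega) (by omega) ?_
      linear_combination 10 * e1 + 6 * e2 + 15 * e3 - 30 * heq
    · refine case_three hA hQ hR hα hβ hγ (by omega) (by omega) ?_
      linear_combination 6 * e1 + 10 * e2 + 15 * e3 - 30 * heq
  · exfalso
    nlinarith

theorem arith {q r A Q R α β γ a b c na nb nc : ℕ} (hq : q.Prime) (hr : r.Prime) (hq2 : q ≠ 2)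
    (hr2 : r ≠ 2) (hqr : q ≠ r) (hA : A = 2 ^ α) (hQ : Q = q ^ β) (hR : R = r ^ γ) (hα : 1 ≤ α)
    (hβ : 1 ≤ β) (hγ : 1 ≤ γ) (ha : a = q ∨ a = r) (hb : b = 2 ∨ b = r) (hc : c = 2 ∨ c = q)
    (haA : a ∣ A - 1) (hbQ : b ∣ Q - 1) (hcR : c ∣ R - 1) (hna : na * a = Q * R)
    (hnb : nb * b = A * R) (hnc : nc * c = A * Q)
    (heq : na * (A - 1) + nb * (Q - 1) + nc * (R - 1) + 1 = A * Q * R) :
    (A = 4 ∧ Q * R = 15) ∨ (A = 8 ∧ Q * R = 63) := by
  rcases ha with rfl | rfl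
  · exact arith_sorted hq hr hq2 hr2 hqr hA hQ hR hα hβ hγ hb hc haA hbQ hcR hna hnb hnc heq
  · rw [mul_comm Q R]
    refine arith_sorted hr hq hr2 hq2 hqr.symm hA hR hQ hα hγ hβ hc hb haA hcR hbQ
      (by rw [hna, mul_comm]) hnc hnb ?_
    rw [mul_right_comm, ← heq]; ring

end Cfsg.Agent.Lead.FourOrb
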