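import Mathlib
import Cfsg.Prelude.Def_Transfer
import Cfsg.Agent.Lib.Lead.FourOrbitsArith
import Cfsg.Agent.Lib.Char.Burnside
import Cfsg.Agent.Lib.Perm.Fpf.Entry
import Cfsg.Agent.Lib.Lie.InvCentralizerFour

/-!
A finite nonsolvable group whose automorphism group has four orbits is `A₅`.
The proof only needs Burnside's two-prime theorem, transfer and fixed-point-free actions.
-/

set_option autoImplicit false

namespace Cfsg.Agent.Lead.FourOrb

open Cfsg.Agent.Perm.Fpf
open scoped Pointwise

universe u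

variable {G : Type u} [Group G] [Finite G]

/-- The standing hypothesis. -/
def Hyp (G : Type u) [Group G] : Prop :=
  ¬ Group.IsSolvable G ∧ Nat.card (MulAction.orbitRel.Quotient (MulAut G) G) = 4

theorem three_le_primes (hG : Hyp G) : 3 ≤ (Nat.card G).primeFactors.card := by
  by_contra hlt
  have h2 : (Nat.card G).primeFactors.card ≤ 2 := by omega
  refine hG.1 ?_
  obtain ⟨p, q, hp, hq, hall⟩ : ∃ p q : ℕ, p.Prime ∧ q.Prime ∧
      ∀ r ∈ (Nat.card G).primeFactors, r = p ∨ r = q := by
    rcases Nat.lt_or_ge (Nat.card G).primeFactors.card 1 with h | h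
    · exact ⟨2, 2, Nat.prime_two, Nat.prime_two, fun r hr => by
        rw [Finset.card_eq_zero.1 (by omega : (Nat.card G).primeFactors.card = 0)] at hr
        exact absurd hr (Finset.notMem_empty r)⟩
    rcases Nat.lt_or_ge (Nat.card G).primeFactors.card 2 with h' | h'
    · obtain ⟨p, hp⟩ := Finset.card_eq_one.1 (by omega : (Nat.card G).primeFactors.card = 1)
      have hpp : p.Prime := Nat.prime_of_mem_primeFactors (hp ▸ Finset.mem_singleton_self p)
      exact ⟨p, p, hpp, hpp, fun r hr => Or.inl (Finset.mem_singleton.1 (hp ▸ hr))⟩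
    · obtain ⟨p, q, -, hpq⟩ := Finset.card_eq_two.1 (by omega : (Nat.card G).primeFactors.card = 2)
      refine ⟨p, q, Nat.prime_of_mem_primeFactors (n := Nat.card G) (by rw [hpq]; simp),
        Nat.prime_of_mem_primeFactors (n := Nat.card G) (by rw [hpq]; simp), fun r hr => ?_⟩
      rw [hpq] at hr
      simpa using hr
  exact Cfsg.Agent.Char.isSolvable_of_two_primes hp hq _ rfl fun r hr hd =>
    hall r (Nat.mem_primeFactors.2 ⟨hr, hd, Nat.card_pos.ne'⟩)

theorem orders (hG : Hyp G) :
    (∀ g : G, g ≠ 1 → (orderOf g).Prime) ∧ (Nat.card G).primeFactors.card = 3 ∧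
      ∀ x y : G, orderOf x = orderOf y → ∃ α : MulAut G, α x = y := by
  classical
  let Ω := MulAction.orbitRel.Quotient (MulAut G) G
  haveI : Fintype Ω := Fintype.ofFinite Ω
  let f : Ω → ℕ := Quotient.lift orderOf (by
    intro a b hab
    obtain ⟨α, rfl⟩ := MulAction.orbitRel_apply.1 hab
    exact (MulEquiv.orderOf_eq α b))
  have hf : ∀ g : G, f (Quotient.mk'' g) = orderOf g := fun g => rfl
  set S := insert 1 (Nat.card G).primeFactors with hS
  set im := Finset.univ.image f with him
  have h1 : (1 : ℕ) ∉ (Nat.card G).primeFactors := fun h =>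
    Nat.not_prime_one (Nat.prime_of_mem_primeFactors h)
  have hScard : S.card = (Nat.card G).primeFactors.card + 1 := Finset.card_insert_of_notMem h1
  have hsub : S ⊆ im := by
    intro k hk
    rw [him, Finset.mem_image]
    rcases Finset.mem_insert.1 hk with rfl | hk
    · exact ⟨Quotient.mk'' (1 : G), Finset.mem_univ _, (hf 1).trans orderOf_one⟩
    · haveI := Fact.mk (Nat.prime_of_mem_primeFactors hk)
      obtain ⟨g, hg⟩ := exists_prime_orderOf_dvd_card' (G := G) k (Nat.dvd_of_mem_primeFactors hk)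
      exact ⟨Quotient.mk'' g, Finset.mem_univ _, (hf g).trans hg⟩
  have hle : im.card ≤ 4 := by
    refine Finset.card_image_le.trans ?_
    rw [Finset.card_univ, ← Nat.card_eq_fintype_card]
    exact hG.2.le
  have h3 := three_le_primes hG
  have hSim : S.card ≤ im.card := Finset.card_le_card hsub
  have heq : S = im := Finset.eq_of_subset_of_card_le hsub (by omega)
  refine ⟨fun g hg => ?_, by omega, fun x y hxy => ?_⟩
  · have : orderOf g ∈ S := by
      rw [heq, him]; exact Finset.mem_image.2 ⟨Quotient.mk'' g, Finset.mem_univ _, hf g⟩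
    rcases Finset.mem_insert.1 this with h | h
    · exact absurd (orderOf_eq_one_iff.1 h) hg
    · exact Nat.prime_of_mem_primeFactors h
  · have hinj : Set.InjOn f (Finset.univ : Finset Ω) := by
      refine Finset.card_image_iff.1 ?_
      rw [Finset.card_univ, ← Nat.card_eq_fintype_card, hG.2, ← him]
      omega
    have e : (Quotient.mk'' y : Ω) = Quotient.mk'' x :=
      hinj (Finset.mem_coe.2 (Finset.mem_univ _)) (Finset.mem_coe.2 (Finset.mem_univ _))
        ((hf y).trans (hxy.symm.trans (hf x).symm))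
    obtain ⟨α, hα⟩ := MulAction.orbitRel_apply.1 (Quotient.eq''.1 e)
    exact ⟨α, hα⟩

theorem prime_order (hG : Hyp G) {g : G} (hg : g ≠ 1) : (orderOf g).Prime := (orders hG).1 g hg

theorem order_mem (hG : Hyp G) {g : G} (hg : g ≠ 1) : orderOf g ∈ (Nat.card G).primeFactors :=
  Nat.mem_primeFactors.2 ⟨prime_order hG hg, orderOf_dvd_natCard g, Nat.card_pos.ne'⟩

/-- No proper nontrivial subgroup is invariant under all automorphisms. -/
theorem char_top (hG : Hyp G) {N : Subgroup G} (hinv : ∀ α : MulAut G, ∀ x ∈ N, α x ∈ N)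
    (hN : N ≠ ⊥) : N = ⊤ := by
  classical
  haveI : N.Normal := ⟨fun x hx g => hinv (MulAut.conj g) x hx⟩
  have hmem : ∀ x : G, x ≠ 1 → orderOf x ∣ Nat.card N → x ∈ N := by
    intro x hx hd
    haveI := Fact.mk (prime_order hG hx)
    obtain ⟨n, hn⟩ := exists_prime_orderOf_dvd_card' (G := N) (orderOf x) hd
    obtain ⟨α, hα⟩ := (orders hG).2.2 (n : G) x (by rw [Subgroup.orderOf_coe, hn])
    exact hα ▸ hinv α n n.2
  by_cases hall : ∀ s ∈ (Nat.card G).primeFactors, s ∣ Nat.card N
  · rw [eq_top_iff]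
    intro x _
    by_cases hx : x = 1
    · rw [hx]; exact N.one_mem
    · exact hmem x hx (hall _ (order_mem hG hx))
  · exfalso
    push Not at hall
    obtain ⟨s, hs, hsN⟩ := hall
    have hquot : ∀ t : ℕ, t.Prime → t ∣ Nat.card (G ⧸ N) → ¬ t ∣ Nat.card N := by
      intro t ht htq htN
      haveI := Fact.mk ht
      obtain ⟨g, hg⟩ := exists_prime_orderOf_dvd_card' (G := G ⧸ N) t htq
      obtain ⟨x, rfl⟩ := QuotientGroup.mk'_surjective N g
      have hne : (QuotientGroup.mk' N) x ≠ 1 := fun e => by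
        rw [e, orderOf_one] at hg; exact ht.ne_one hg.symm
      have hx : x ≠ 1 := fun e => hne (by rw [e, map_one])
      have hdt : t ∣ orderOf x := hg ▸ orderOf_map_dvd _ x
      have : t = orderOf x := (Nat.prime_dvd_prime_iff_eq ht (prime_order hG hx)).1 hdt
      exact hne ((QuotientGroup.eq_one_iff x).2 (hmem x hx (this ▸ htN)))
    obtain ⟨u, hu, huN⟩ := Nat.exists_prime_and_dvd
      (show Nat.card N ≠ 1 from fun e => hN (N.card_eq_one.1 e))
    have hcard := N.card_mul_index
    have hNG : Nat.card N ∣ Nat.card G := Subgroup.card_subgroup_dvd_card N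
    have hQG : Nat.card (G ⧸ N) ∣ Nat.card G := Subgroup.card_quotient_dvd_card N
    have huG : u ∈ (Nat.card G).primeFactors :=
      Nat.mem_primeFactors.2 ⟨hu, huN.trans hNG, Nat.card_pos.ne'⟩
    obtain ⟨a, b, c, hab, hac, hbc, habc⟩ := Finset.card_eq_three.1 (orders hG).2.1
    have hpr : ∀ w ∈ (Nat.card G).primeFactors, w.Prime := fun w => Nat.prime_of_mem_primeFactors
    have hmems : ∀ t : ℕ, t.Prime → t ∣ Nat.card G → t = a ∨ t = b ∨ t = c := fun t ht htd => by
      have : t ∈ (Nat.card G).primeFactors := Nat.mem_primeFactors.2 ⟨ht, htd, Nat.card_pos.ne'⟩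
      rw [habc] at this
      simpa using this
    have hw : ∀ w : ℕ, w ∈ (Nat.card G).primeFactors → ∃ x y : ℕ, x.Prime ∧ y.Prime ∧
        ∀ t : ℕ, t.Prime → t ∣ Nat.card G → t ≠ w → t = x ∨ t = y := by
      intro w hw'
      rw [habc] at hw'
      have ha := hpr a (by rw [habc]; simp)
      have hb := hpr b (by rw [habc]; simp)
      have hc := hpr c (by rw [habc]; simp)
      simp only [Finset.mem_insert, Finset.mem_singleton] at hw'
      rcases hw' with rfl | rfl | rfl
      · exact ⟨b, c, hb, hc, fun t ht htd hne => by rcases hmems t ht htd with h | h | h <;> tauto⟩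
      · exact ⟨a, c, ha, hc, fun t ht htd hne => by rcases hmems t ht htd with h | h | h <;> tauto⟩
      · exact ⟨a, b, ha, hb, fun t ht htd hne => by rcases hmems t ht htd with h | h | h <;> tauto⟩
    obtain ⟨x, y, hxp, hyp, hxy⟩ := hw s hs
    haveI : Group.IsSolvable N := Cfsg.Agent.Char.isSolvable_of_two_primes hxp hyp _ rfl
      fun t ht htd => hxy t ht (htd.trans hNG) fun e => hsN (e ▸ htd)
    obtain ⟨x', y', hxp', hyp', hxy'⟩ := hw u huG
    haveI : Group.IsSolvable (G ⧸ N) := Cfsg.Agent.Char.isSolvable_of_two_primes hxp' hyp' _ rfl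
      fun t ht htd => hxy' t ht (htd.trans hQG) fun e => hquot t ht htd (e ▸ huN)
    exact hG.1 ((Group.isSolvable_iff_subgroup_quotient N).2 ⟨inferInstance, inferInstance⟩)

theorem center_bot (hG : Hyp G) : Subgroup.center G = ⊥ := by
  by_contra h
  have htop := char_top hG (fun α x hx => by
    rw [Subgroup.mem_center_iff] at hx ⊢
    intro y
    obtain ⟨z, rfl⟩ := α.surjective y
    rw [← map_mul, hx z, map_mul]) h
  refine hG.1 ⟨⟨1, ?_⟩⟩
  rw [derivedSeries_one, commutator_eq_bot_iff_center_eq_top]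
  exact htop

theorem card_center_one (hG : Hyp G) {x : G} (h : ∀ y : G, y * x = x * y) : x = 1 := by
  have : x ∈ Subgroup.center G := Subgroup.mem_center_iff.2 h
  rw [center_bot hG] at this
  exact Subgroup.mem_bot.1 this

section Local

variable {s : ℕ} [hs : Fact s.Prime]

/-- No normal complement to a Sylow subgroup. -/
theorem no_complement (hG : Hyp G) (hd : s ∣ Nat.card G) (P : Sylow s G) {N : Subgroup G}
    [N.Normal] (hN : N.IsComplement' (P : Subgroup G)) : False := by
  have hidx : Nat.card N = (P : Subgroup G).index := hN.index_eq_card.symm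
  have hidx' : Nat.card (G ⧸ N) = Nat.card (P : Subgroup G) :=
    N.index_eq_card.symm.trans hN.symm.index_eq_card
  have hmem : ∀ x : G, x ∈ N ↔ ¬ s ∣ orderOf x := by
    intro x
    constructor
    · intro hx h
      exact P.not_dvd_index (hidx ▸ h.trans (Subgroup.orderOf_dvd_natCard N hx))
    · intro hx
      rw [← QuotientGroup.eq_one_iff, ← orderOf_eq_one_iff]
      obtain ⟨k, hk⟩ := IsPGroup.iff_card.1 P.2
      have h1 : orderOf (x : G ⧸ N) ∣ s ^ k := by
        rw [← hk, ← hidx']; exact orderOf_dvd_natCard _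
      have h2 : orderOf (x : G ⧸ N) ∣ orderOf x := orderOf_map_dvd (QuotientGroup.mk' N) x
      exact Nat.eq_one_of_dvd_coprimes
        (((Nat.coprime_pow_left_iff (by omega : 0 < k + 1) s _).2
          ((Nat.Prime.coprime_iff_not_dvd hs.out).2 hx))) (h1.trans (pow_dvd_pow s (by omega))) h2
  by_cases hbot : N = ⊥
  · rw [hbot, Subgroup.isComplement'_bot_left] at hN
    haveI : Group.IsNilpotent (P : Subgroup G) := P.2.isNilpotent
    exact hG.1 (Group.isSolvable_of_surjective (f := (P : Subgroup G).subtype)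
      (fun g => ⟨⟨g, hN ▸ Subgroup.mem_top g⟩, rfl⟩))
  · have htop := char_top hG (fun α x hx => by
      rw [hmem] at hx ⊢; rwa [MulEquiv.orderOf_eq]) hbot
    obtain ⟨x, hx⟩ := exists_prime_orderOf_dvd_card' (G := G) s hd
    exact (hmem x).1 (htop ▸ Subgroup.mem_top x) (hx ▸ dvd_rfl)

theorem cent_pgroup (hG : Hyp G) {x : G} (hx : orderOf x = s) :
    IsPGroup s (Subgroup.centralizer ({x} : Set G)) := by
  intro ⟨y, hy⟩
  refine ⟨1, Subtype.ext ?_⟩
  show y ^ s ^ 1 = 1
  rw [pow_one]
  by_cases hy1 : y = 1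
  · rw [hy1, one_pow]
  have hp := prime_order hG hy1
  have hc : Commute x y := (Subgroup.mem_centralizer_singleton_iff.1 hy).symm
  rw [show y ^ s = y ^ orderOf y from ?_, pow_orderOf_eq_one]
  congr 1
  by_contra hne
  have hco : (orderOf x).Coprime (orderOf y) := by
    rw [hx]; exact (Nat.coprime_primes hs.out hp).2 hne
  have hm := hc.orderOf_mul_eq_mul_orderOf_of_coprime hco
  have hxy : x * y ≠ 1 := fun e => by
    rw [e, orderOf_one, hx] at hm
    exact hs.out.ne_one (Nat.eq_one_of_mul_eq_one_right hm.symm)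
  have := prime_order hG hxy
  rw [hm, hx] at this
  exact Nat.not_prime_mul hs.out.ne_one hp.ne_one this

theorem cent_eq_of_central (hG : Hyp G) (P : Sylow s G) {x : G} (hx : orderOf x = s)
    (hc : x ∈ Subgroup.centralizer ((P : Subgroup G) : Set G)) :
    Subgroup.centralizer ({x} : Set G) = P := by
  refine P.3 (cent_pgroup hG hx) fun y hy => Subgroup.mem_centralizer_singleton_iff.2 ?_
  exact Subgroup.mem_centralizer_iff.1 hc y hy

theorem order_eq_of_mem (hG : Hyp G) (P : Sylow s G) {x : G} (hx : x ∈ (P : Subgroup G))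
    (h1 : x ≠ 1) : orderOf x = s := by
  obtain ⟨k, hk⟩ := P.2 ⟨x, hx⟩
  have hk' : x ^ s ^ k = 1 := congrArg Subtype.val hk
  exact (Nat.prime_dvd_prime_iff_eq (prime_order hG h1) hs.out).1
    ((prime_order hG h1).dvd_of_dvd_pow (orderOf_dvd_of_pow_eq_one hk'))

theorem sylow_ne_bot (hd : s ∣ Nat.card G) (P : Sylow s G) : (P : Subgroup G) ≠ ⊥ :=
  P.ne_bot_of_dvd_card hd

theorem cent_card (hG : Hyp G) (hd : s ∣ Nat.card G) {x : G} (hx : orderOf x = s) :
    Nat.card (Subgroup.centralizer ({x} : Set G)) = s ^ (Nat.card G).factorization s := by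
  obtain ⟨P⟩ := (inferInstance : Nonempty (Sylow s G))
  haveI : Nontrivial (P : Subgroup G) := (Subgroup.nontrivial_iff_ne_bot _).2 (sylow_ne_bot hd P)
  haveI := P.2.center_nontrivial
  obtain ⟨z, hz⟩ := exists_ne (1 : Subgroup.center (P : Subgroup G))
  have hz1 : ((z : (P : Subgroup G)) : G) ≠ 1 := fun e => hz (Subtype.ext (Subtype.ext e))
  have hzs := order_eq_of_mem hG P (z : (P : Subgroup G)).2 hz1
  have hzc : ((z : (P : Subgroup G)) : G) ∈ Subgroup.centralizer ((P : Subgroup G) : Set G) :=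
    Subgroup.mem_centralizer_iff.2 fun y hy =>
      congrArg Subtype.val (Subgroup.mem_center_iff.1 z.2 ⟨y, hy⟩)
  obtain ⟨α, hα⟩ := (orders hG).2.2 _ x (hzs.trans hx.symm)
  rw [← P.card_eq_multiplicity, ← cent_eq_of_central hG P hzs hzc]
  refine (Nat.card_congr ?_).symm
  exact α.toEquiv.subtypeEquiv fun y => by
    simp only [Subgroup.mem_centralizer_singleton_iff]
    rw [← hα]
    exact ⟨fun h => by show α y * α _ = α _ * α y; rw [← map_mul, h, map_mul],
      fun h => α.injective (by rw [map_mul, map_mul]; exact h)⟩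

/-- The centralizer of an element of order `s`, as a Sylow subgroup. -/
theorem exists_sylow_cent (hG : Hyp G) (hd : s ∣ Nat.card G) {x : G} (hx : orderOf x = s) :
    ∃ P : Sylow s G, (P : Subgroup G) = Subgroup.centralizer ({x} : Set G) :=
  ⟨Sylow.ofCard _ (cent_card hG hd hx), rfl⟩

theorem card_central (hG : Hyp G) (hd : s ∣ Nat.card G) (P : Sylow s G) :
    Nat.card {x : G // orderOf x = s} = Nat.card (Sylow s G) *
      (Nat.card ↥((P : Subgroup G) ⊓ Subgroup.centralizer ((P : Subgroup G) : Set G)) - 1) := by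
  classical
  haveI := Fintype.ofFinite G
  let W : Sylow s G → Subgroup G := fun Q =>
    (Q : Subgroup G) ⊓ Subgroup.centralizer ((Q : Subgroup G) : Set G)
  have hWc : ∀ Q, Nat.card (W Q) = Nat.card (W P) := by
    intro Q
    obtain ⟨g, hg⟩ := MulAction.exists_smul_eq G P Q
    subst hg
    have hm : ∀ y : G, g * y * g⁻¹ ∈ ((g • P : Sylow s G) : Subgroup G) ↔ y ∈ (P : Subgroup G) := by
      intro y
      rw [Sylow.coe_subgroup_smul]
      show MulAut.conj g • y ∈ MulAut.conj g • (P : Subgroup G) ↔ _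
      exact Subgroup.smul_mem_pointwise_smul_iff
    refine (Nat.card_congr ((MulAut.conj g).toEquiv.subtypeEquiv fun y => ?_)).symm
    show y ∈ W P ↔ g * y * g⁻¹ ∈ W (g • P)
    simp only [W, Subgroup.mem_inf, Subgroup.mem_centralizer_iff, hm, SetLike.mem_coe]
    refine and_congr_right fun _ => ⟨fun h z hz => ?_, fun h z hz => ?_⟩
    · obtain ⟨w, rfl⟩ : ∃ w, g * w * g⁻¹ = z := ⟨g⁻¹ * z * g, by group⟩
      rw [hm] at hz
      calc g * w * g⁻¹ * (g * y * g⁻¹) = g * (w * y) * g⁻¹ := by group
        _ = g * (y * w) * g⁻¹ := by rw [h w hz]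
        _ = _ := by group
    · have := h _ ((hm z).2 hz)
      calc z * y = g⁻¹ * (g * z * g⁻¹ * (g * y * g⁻¹)) * g := by group
        _ = g⁻¹ * (g * y * g⁻¹ * (g * z * g⁻¹)) * g := by rw [this]
        _ = y * z := by group
  let φ : (Σ Q : Sylow s G, {w : W Q // w ≠ 1}) → {x : G // orderOf x = s} := fun a =>
    ⟨a.2.1, order_eq_of_mem hG a.1 a.2.1.2.1 fun e => a.2.2 (Subtype.ext e)⟩
  have hb : Function.Bijective φ := by
    constructor
    · rintro ⟨Q, w, hw⟩ ⟨Q', w', hw'⟩ e
      have e' : (w : G) = (w' : G) := congrArg Subtype.val e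
      have h1 := cent_eq_of_central hG Q (order_eq_of_mem hG Q w.2.1 fun h => hw (Subtype.ext h)) w.2.2
      have h2 := cent_eq_of_central hG Q' (order_eq_of_mem hG Q' w'.2.1 fun h => hw' (Subtype.ext h)) w'.2.2
      rw [e', h2] at h1
      obtain rfl : Q' = Q := Sylow.ext h1
      obtain rfl : w = w' := Subtype.ext e'
      rfl
    · rintro ⟨x, hx⟩
      obtain ⟨Q, hQ⟩ := exists_sylow_cent hG hd hx
      have hxW : x ∈ W Q := ⟨hQ ▸ Subgroup.mem_centralizer_singleton_iff.2 rfl,
        Subgroup.mem_centralizer_iff.2 fun y hy =>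
          Subgroup.mem_centralizer_singleton_iff.1 (hQ ▸ hy)⟩
      refine ⟨⟨Q, ⟨x, hxW⟩, fun e => ?_⟩, rfl⟩
      rw [show x = 1 from congrArg Subtype.val e, orderOf_one] at hx
      exact hs.out.ne_one hx.symm
  rw [← Nat.card_eq_of_bijective φ hb, Nat.card_sigma]
  have hone : ∀ Q, Nat.card {w : W Q // w ≠ 1} = Nat.card (W P) - 1 := fun Q => by
    rw [← hWc Q, Nat.card_eq_fintype_card, Nat.card_eq_fintype_card, Fintype.card_subtype_compl,
      Fintype.card_subtype_eq]
  simp only [hone, Finset.sum_const, Finset.card_univ, smul_eq_mul]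
  rw [← Nat.card_eq_fintype_card]

theorem card_sylow_mul (P : Sylow s G) :
    Nat.card (Sylow s G) * (Nat.card (P : Subgroup G) *
      (P : Subgroup G).relIndex (Subgroup.normalizer ((P : Subgroup G) : Set G))) = Nat.card G := by
  rw [P.card_eq_index_normalizer, Subgroup.relIndex, ← Nat.card_congr
    (Subgroup.subgroupOfEquivOfLe (Subgroup.le_normalizer (H := (P : Subgroup G)))).toEquiv,
    Subgroup.card_mul_index, mul_comm]
  exact Subgroup.card_mul_index _

theorem pq_false {X : Type*} [Group X] [Finite X] {K V : Type*} [Field K] [AddCommGroup V]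
    [Module K V] [Nontrivial V] {ρ : X →* Module.End K V} (hρ : IsFpf ρ) {v w : X} {t r : ℕ}
    [Fact t.Prime] [Fact r.Prime] (hw : orderOf w = r) (hv : v ^ t = 1)
    (hU : v * w * v⁻¹ ∈ Subgroup.zpowers w)
    (hfix : ∀ j : ℕ, j ∈ Finset.range t → j ≠ 0 → v ^ j * w ≠ w * v ^ j) (hv1 : v ≠ 1) : False := by
  have hr0 : (r : K) ≠ 0 := hρ.prime_ne_zero hw
  have hconj : ∀ j : ℕ, v ^ j * w * (v ^ j)⁻¹ ∈ Subgroup.zpowers w := by
    intro j
    induction j with
    | zero => simp
    | succ j ih =>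
      obtain ⟨a, ha⟩ := ih
      obtain ⟨b, hb⟩ := hU
      refine ⟨b * a, ?_⟩
      show w ^ (b * a) = _
      rw [zpow_mul, show w ^ b = v * w * v⁻¹ from hb, conj_zpow, show w ^ a = _ from ha, pow_succ']
      group
  have hrow : ∀ i : ℕ, ∑ j ∈ Finset.range t, ρ (w ^ i * v ^ j * (w ^ i)⁻¹) = 0 := by
    intro i
    have e : ∀ j, ρ (w ^ i * v ^ j * (w ^ i)⁻¹) = ρ (w ^ i) * (ρ v ^ j * ρ (w ^ i)⁻¹) := by
      intro j; rw [← map_pow, ← map_mul, ← map_mul, mul_assoc]
    simp only [e]
    rw [← Finset.mul_sum, ← Finset.sum_mul, hρ.geom_sum_zero hv1 hv, zero_mul, mul_zero]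
  have hsum : ∑ j ∈ Finset.range t, ∑ i ∈ Finset.range r, ρ (w ^ i * v ^ j * (w ^ i)⁻¹) = 0 := by
    rw [Finset.sum_comm]; exact Finset.sum_eq_zero fun i _ => hrow i
  rw [Finset.sum_eq_single 0] at hsum
  · simp only [pow_zero, mul_one, mul_inv_cancel, map_one, Finset.sum_const, Finset.card_range,
      nsmul_eq_mul, mul_one] at hsum
    rw [← map_natCast (algebraMap K (Module.End K V)),
      ← map_zero (algebraMap K (Module.End K V))] at hsum
    exact hr0 ((algebraMap K (Module.End K V)).injective hsum)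
  · intro j hj hj0
    obtain ⟨a, ha⟩ := hconj j
    replace ha : w ^ a = v ^ j * w * (v ^ j)⁻¹ := ha
    set u := w * (w ^ a)⁻¹ with hu
    have hcw : Commute w (w ^ a)⁻¹ := ((Commute.refl w).zpow_right a).inv_right
    have hur : u ^ r = 1 := by
      rw [hu, hcw.mul_pow, ← hw, inv_pow, pow_orderOf_eq_one, one_mul, inv_eq_one, ← zpow_natCast,
        ← zpow_mul, mul_comm, zpow_mul, zpow_natCast, pow_orderOf_eq_one, one_zpow]
    have hu1 : u ≠ 1 := fun e => by
      rw [hu, mul_inv_eq_one, ha] at e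
      exact hfix j hj hj0 (eq_mul_inv_iff_mul_eq.1 e).symm
    have e : ∀ i : ℕ, ρ (w ^ i * v ^ j * (w ^ i)⁻¹) = ρ u ^ i * ρ (v ^ j) := by
      intro i
      rw [← map_pow, ← map_mul, hu, hcw.mul_pow, inv_pow, ha, conj_pow]
      congr 1
      group
    simp only [e]
    rw [← Finset.sum_mul, hρ.geom_sum_zero hu1 hur, zero_mul]
  · intro h0; exact absurd (Finset.mem_range.2 (Fact.out : t.Prime).pos) h0

/-- The abelian Sylow subgroups have normaliser index a prime dividing `|P| - 1`. -/
theorem abelian_index (hG : Hyp G) (hd : s ∣ Nat.card G) (P : Sylow s G)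
    (hab : (P : Subgroup G) ≤ Subgroup.centralizer ((P : Subgroup G) : Set G)) {e : ℕ}
    (he : e = (P : Subgroup G).relIndex (Subgroup.normalizer ((P : Subgroup G) : Set G))) :
    e.Prime ∧ e ≠ s ∧ e ∣ Nat.card G ∧ e ∣ Nat.card (P : Subgroup G) - 1 := by
  set N := Subgroup.normalizer ((P : Subgroup G) : Set G) with hN
  have hPN : (P : Subgroup G) ≤ N := Subgroup.le_normalizer
  have hes : ¬ s ∣ e := fun h => P.not_dvd_index
    (h.trans (he ▸ Subgroup.relIndex_dvd_index_of_le hPN))
  have he1 : e ≠ 1 := by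
    intro e1
    have hNP : N ≤ (P : Subgroup G) := Subgroup.relIndex_eq_one.1 (he ▸ e1)
    have hc := MonoidHom.ker_transferSylow_isComplement' P (hNP.trans hab)
    exact no_complement hG hd P hc
  haveI : ((P : Subgroup G).subgroupOf N).Normal := Subgroup.normal_in_normalizer
  obtain ⟨E₀, hE₀⟩ := Subgroup.exists_left_complement'_of_coprime (N := (P : Subgroup G).subgroupOf N) (by
    rw [Nat.card_congr (Subgroup.subgroupOfEquivOfLe hPN).toEquiv, P.card_eq_multiplicity]
    refine Nat.Coprime.pow_left _ ((Nat.Prime.coprime_iff_not_dvd hs.out).2 ?_)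
    show ¬ s ∣ (P : Subgroup G).relIndex N
    rw [← he]; exact hes)
  set E := E₀.map N.subtype with hE
  have hEcard : Nat.card E = e := by
    rw [hE, Subgroup.card_map_of_injective N.subtype_injective, he]
    exact (hE₀.index_eq_card).symm
  have hEN : E ≤ N := Subgroup.map_subtype_le E₀
  have heG : e ∣ Nat.card G := hEcard ▸ Subgroup.card_subgroup_dvd_card E
  have hord : ∀ a ∈ E, a ≠ 1 → orderOf a ≠ s := fun a ha _ h =>
    hes (h ▸ hEcard ▸ Subgroup.orderOf_dvd_natCard E ha)
  have hfix : ∀ a ∈ E, a ≠ 1 → (P : Subgroup G) ⊓ Subgroup.centralizer {a} = ⊥ := by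
    intro a ha ha1
    rw [eq_bot_iff]
    rintro x ⟨hx, hxa⟩
    rw [Subgroup.mem_bot]
    by_contra hx1
    have hxs := order_eq_of_mem hG P hx hx1
    obtain ⟨k, hk⟩ := cent_pgroup hG hxs ⟨a, Subgroup.mem_centralizer_singleton_iff.2
      (Subgroup.mem_centralizer_singleton_iff.1 hxa).symm⟩
    exact hord a ha ha1 ((Nat.prime_dvd_prime_iff_eq (prime_order hG ha1) hs.out).1
      ((prime_order hG ha1).dvd_of_dvd_pow (orderOf_dvd_of_pow_eq_one (congrArg Subtype.val hk))))
  haveI hPc : IsMulCommutative (P : Subgroup G) :=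
    ⟨⟨fun a b => Subtype.ext (Subgroup.mem_centralizer_iff.1 (hab b.2) a a.2)⟩⟩
  have hF : HasFpf E := hasFpf_of_conj (sylow_ne_bot hd P) hEN hfix
  have hEord : ∀ a : E, a ≠ 1 → (orderOf a).Prime := fun a ha => by
    rw [← Subgroup.orderOf_coe]; exact prime_order hG fun h => ha (Subtype.ext h)
  refine hF.elim fun {K} _ _ {n} _ ρ hρ => ?_
  have hsq : ∀ t : ℕ, t.Prime → ¬ t ^ 2 ∣ e := by
    intro t ht h2
    haveI := Fact.mk ht
    obtain ⟨B, hB⟩ := Sylow.exists_subgroup_card_pow_prime (G := E) t (n := 2) (hEcard ▸ h2)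
    haveI : Nontrivial B := Finite.one_lt_card_iff_nontrivial.1 (hB ▸ Nat.one_lt_pow (by norm_num) ht.one_lt)
    have hBc := IsPGroup.isMulCommutative_of_card_eq_prime_sq (p := t) hB
    have hpow : ∀ b : B, (b : E) ^ t = 1 := fun b => by
      by_cases hb : (b : E) = 1
      · rw [hb, one_pow]
      have h1 : orderOf (b : E) ∣ t ^ 2 := hB ▸ Subgroup.orderOf_dvd_natCard B b.2
      rw [← (Nat.prime_dvd_prime_iff_eq (hEord _ hb) ht).1 ((hEord _ hb).dvd_of_dvd_pow h1),
        pow_orderOf_eq_one]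
    obtain ⟨y, hy⟩ := exists_ne (1 : B)
    have hy1 : (y : E) ≠ 1 := fun h => hy (Subtype.ext h)
    have hle : B ≤ Subgroup.zpowers (y : E) := fun x hx =>
      hρ.commute_mem_zpowers (hpow ⟨x, hx⟩) (hpow y) hy1
        (congrArg Subtype.val (hBc.is_comm.comm ⟨x, hx⟩ y))
    have := Subgroup.card_le_of_le hle
    rw [hB, Nat.card_zpowers, orderOf_eq_prime (hpow y) hy1] at this
    have := ht.two_le
    nlinarith
  obtain ⟨t, ht, hte⟩ := Nat.exists_prime_and_dvd he1
  have hmemP : ∀ u : ℕ, u.Prime → u ∣ e → u ∈ (Nat.card G).primeFactors.erase s := fun u hu hue =>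
    Finset.mem_erase.2 ⟨fun h => hes (h ▸ hue),
      Nat.mem_primeFactors.2 ⟨hu, hue.trans heG, Nat.card_pos.ne'⟩⟩
  have htwo : ∀ t u : ℕ, t.Prime → u.Prime → t < u → t ∣ e → u ∣ e → False := by
    intro t u ht hu htu hte hue
    haveI := Fact.mk ht
    haveI := Fact.mk hu
    have hS2 : ((Nat.card G).primeFactors.erase s).card = 2 := by
      rw [Finset.card_erase_of_mem (Nat.mem_primeFactors.2 ⟨hs.out, hd, Nat.card_pos.ne'⟩),
        (orders hG).2.1]
    have hsame : ({t, u} : Finset ℕ) = (Nat.card G).primeFactors.erase s := by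
      refine Finset.eq_of_subset_of_card_le (fun w hw => ?_) (by rw [hS2, Finset.card_pair htu.ne])
      rcases Finset.mem_insert.1 hw with rfl | hw
      · exact hmemP _ ht hte
      · rw [Finset.mem_singleton.1 hw]; exact hmemP _ hu hue
    obtain ⟨m, hm⟩ := Nat.Coprime.mul_dvd_of_dvd_of_dvd
      ((Nat.coprime_primes ht hu).2 htu.ne) hte hue
    have hm1 : m = 1 := by
      by_contra hne
      obtain ⟨w, hw, hwm⟩ := Nat.exists_prime_and_dvd hne
      have hwe : w ∣ e := hm ▸ hwm.mul_left _
      have := hsame.symm ▸ hmemP w hw hwe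
      simp only [Finset.mem_insert, Finset.mem_singleton] at this
      rcases this with rfl | rfl
      · refine hsq w hw (hm ▸ ?_)
        rw [sq, mul_assoc]
        exact mul_dvd_mul_left w (hwm.mul_left u)
      · refine hsq w hw (hm ▸ ?_)
        rw [sq, mul_comm t w, mul_assoc]
        exact mul_dvd_mul_left w (hwm.mul_left t)
    obtain ⟨U, hU⟩ := Sylow.exists_subgroup_card_pow_prime (G := E) u (n := 1)
      (by rw [pow_one, hEcard]; exact hue)
    rw [pow_one] at hU
    have hidx : U.index = t := by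
      have h := U.card_mul_index
      rw [hU, hEcard, hm, hm1, mul_one, mul_comm t u] at h
      exact Nat.eq_of_mul_eq_mul_left hu.pos h
    haveI : U.Normal := Subgroup.normal_of_index_eq_minFac_card (by
      rw [hidx, hEcard, hm, hm1, mul_one]
      have h1 : (t * u).minFac ≤ t := Nat.minFac_le_of_dvd ht.two_le (dvd_mul_right t u)
      have h2 : (t * u).minFac.Prime := Nat.minFac_prime (by nlinarith [ht.two_le, hu.two_le])
      rcases (Nat.Prime.dvd_mul h2).1 (Nat.minFac_dvd (t * u)) with h | h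
      · exact ((Nat.prime_dvd_prime_iff_eq h2 ht).1 h).symm
      · have := (Nat.prime_dvd_prime_iff_eq h2 hu).1 h
        omega)
    obtain ⟨v, hv⟩ := exists_prime_orderOf_dvd_card' (G := E) t (hEcard ▸ hte)
    obtain ⟨w, hw⟩ := exists_prime_orderOf_dvd_card' (G := U) u (dvd_of_eq hU.symm)
    rw [← Subgroup.orderOf_coe] at hw
    have hUz : U = Subgroup.zpowers (w : E) := (Subgroup.eq_of_le_of_card_ge
      (Subgroup.zpowers_le.2 w.2) (by rw [Nat.card_zpowers, hw, hU])).symm
    have hv1 : v ≠ 1 := fun h => by rw [h, orderOf_one] at hv; exact ht.ne_one hv.symm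
    refine pq_false (t := t) hρ hw (by rw [← hv]; exact pow_orderOf_eq_one v)
      (hUz ▸ Subgroup.Normal.conj_mem inferInstance _ w.2 v) (fun j hj hj0 hc => ?_) hv1
    have hvj : orderOf (v ^ j) = t := by
      refine orderOf_eq_prime (by rw [← pow_mul, mul_comm, pow_mul, ← hv, pow_orderOf_eq_one,
        one_pow]) fun h => ?_
      have := Nat.le_of_dvd (Nat.pos_of_ne_zero hj0) (hv ▸ orderOf_dvd_of_pow_eq_one h)
      exact absurd (Finset.mem_range.1 hj) (not_lt.2 this)
    have hm := (show Commute (v ^ j) (w : E) from hc).orderOf_mul_eq_mul_orderOf_of_coprime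
      (by rw [hvj, hw]; exact (Nat.coprime_primes ht hu).2 htu.ne)
    have hne : v ^ j * (w : E) ≠ 1 := fun h => by
      rw [h, orderOf_one, hvj, hw] at hm
      exact ht.ne_one (Nat.eq_one_of_mul_eq_one_right hm.symm)
    have := hEord _ hne
    rw [hm, hvj, hw] at this
    exact Nat.not_prime_mul ht.ne_one hu.ne_one this
  have het : e = t := by
    obtain ⟨m, hm⟩ := hte
    by_contra hne
    obtain ⟨u, hu, hum⟩ := Nat.exists_prime_and_dvd (show m ≠ 1 from fun h => hne (by rw [hm, h, mul_one]))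
    have hue : u ∣ e := hm ▸ hum.mul_left t
    rcases lt_trichotomy t u with h | rfl | h
    · exact htwo t u ht hu h (hm ▸ dvd_mul_right t m) hue
    · exact hsq t ht (hm ▸ sq t ▸ mul_dvd_mul_left t hum)
    · exact htwo u t hu ht h hue (hm ▸ dvd_mul_right t m)
  refine ⟨het ▸ ht, fun h => hes (h ▸ dvd_rfl), heG, ?_⟩
  haveI := Fact.mk ht
  let φ : E →* MulAut ↥(P : Subgroup G) :=
    (P : Subgroup G).normalizerMonoidHom.comp (Subgroup.inclusion hEN)
  letI : MulAction E ↥(P : Subgroup G) := MulAction.compHom _ φ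
  have hmod := (IsPGroup.of_card (p := t) (n := 1) (by rw [hEcard, het, pow_one]) :
    IsPGroup t E).card_modEq_card_fixedPoints (↥(P : Subgroup G))
  obtain ⟨a, ha⟩ := exists_prime_orderOf_dvd_card' (G := E) t (hEcard ▸ het ▸ dvd_rfl)
  have ha1 : (a : G) ≠ 1 := fun h => by
    rw [show a = 1 from Subtype.ext h, orderOf_one] at ha; exact ht.ne_one ha.symm
  have hfp : Nat.card (MulAction.fixedPoints E ↥(P : Subgroup G)) = 1 := by
    refine Nat.card_eq_one_iff_unique.2 ⟨⟨fun x y => ?_⟩, ⟨⟨1, fun b => map_one (φ b)⟩⟩⟩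
    have key : ∀ z : MulAction.fixedPoints E ↥(P : Subgroup G), z.1 = 1 := fun z => by
      have h1 : (a : G) * (z.1 : G) * (a : G)⁻¹ = (z.1 : G) := congrArg Subtype.val (z.2 a)
      have h2 : (z.1 : G) ∈ (P : Subgroup G) ⊓ Subgroup.centralizer {(a : G)} :=
        ⟨z.1.2, Subgroup.mem_centralizer_singleton_iff.2 (mul_inv_eq_iff_eq_mul.1 h1).symm⟩
      rw [hfix a a.2 ha1, Subgroup.mem_bot] at h2
      exact Subtype.ext h2
    exact Subtype.ext ((key x).trans (key y).symm)
  rw [hfp] at hmod
  rw [het]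
  exact (Nat.modEq_iff_dvd' Nat.card_pos).1 hmod.symm

end Local

/-- The order of a Sylow `s`-subgroup. -/
noncomputable def part (G : Type u) (s : ℕ) : ℕ := s ^ (Nat.card G).factorization s

/-- The number of elements of order `s`. -/
noncomputable def cnt (G : Type u) [Group G] (s : ℕ) : ℕ := Nat.card {x : G // orderOf x = s}

/-- The counting data attached to a prime. -/
theorem prime_data (hG : Hyp G) {s : ℕ} (hs : s ∈ (Nat.card G).primeFactors) :
    ∃ n e : ℕ, n * (part G s * e) = Nat.card G ∧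
      ((cnt G s = n * (part G s - 1) ∧ e ∈ (Nat.card G).primeFactors ∧ e ≠ s ∧ e ∣ part G s - 1) ∨
        (s ≠ 2 ∧ 9 * cnt G s ≤ Nat.card G)) := by
  haveI := Fact.mk (Nat.prime_of_mem_primeFactors hs)
  have hd := Nat.dvd_of_mem_primeFactors hs
  obtain ⟨P⟩ := (inferInstance : Nonempty (Sylow s G))
  have hA : Nat.card (P : Subgroup G) = part G s := P.card_eq_multiplicity
  refine ⟨Nat.card (Sylow s G),
    (P : Subgroup G).relIndex (Subgroup.normalizer ((P : Subgroup G) : Set G)),
    hA ▸ card_sylow_mul P, ?_⟩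
  have hT : cnt G s = _ := card_central hG hd P
  by_cases hab : (P : Subgroup G) ≤ Subgroup.centralizer ((P : Subgroup G) : Set G)
  · left
    obtain ⟨he, hne, heG, hediv⟩ := abelian_index hG hd P hab rfl
    refine ⟨?_, Nat.mem_primeFactors.2 ⟨he, heG, Nat.card_pos.ne'⟩, hne, hA ▸ hediv⟩
    rw [hT, inf_eq_left.2 hab, hA]
  · right
    have hs2 : s ≠ 2 := by
      intro h2
      refine hab fun a ha => Subgroup.mem_centralizer_iff.2 fun b hb => ?_
      have hsq : ∀ y ∈ (P : Subgroup G), y * y = 1 := fun y hy => by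
        by_cases hy1 : y = 1
        · rw [hy1, mul_one]
        · rw [← sq, ← h2, ← order_eq_of_mem hG P hy hy1, pow_orderOf_eq_one]
      have h := hsq _ ((P : Subgroup G).mul_mem ha hb)
      have ha' : a⁻¹ = a := inv_eq_of_mul_eq_one_right (hsq a ha)
      have hb' : b⁻¹ = b := inv_eq_of_mul_eq_one_right (hsq b hb)
      calc b * a = b⁻¹ * a⁻¹ := by rw [ha', hb']
        _ = (a * b)⁻¹ := by rw [mul_inv_rev]
        _ = a * b := inv_eq_of_mul_eq_one_right h
    refine ⟨hs2, ?_⟩
    have hs3 : 3 ≤ s := by have := (Fact.out : s.Prime).two_le; omega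
    set W := (P : Subgroup G) ⊓ Subgroup.centralizer ((P : Subgroup G) : Set G) with hW
    have hcW : Nat.card W = Nat.card (Subgroup.center (P : Subgroup G)) := by
      refine Nat.card_congr
        { toFun := fun x => ⟨⟨x.1, x.2.1⟩, Subgroup.mem_center_iff.2 fun y => Subtype.ext
            (Subgroup.mem_centralizer_iff.1 x.2.2 y y.2)⟩
          invFun := fun x => ⟨x.1.1, x.1.2, Subgroup.mem_centralizer_iff.2 fun y hy =>
            congrArg Subtype.val (Subgroup.mem_center_iff.1 x.2 ⟨y, hy⟩)⟩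
          left_inv := fun x => rfl
          right_inv := fun x => rfl }
    have h9 : 9 * Nat.card W ≤ Nat.card (P : Subgroup G) := by
      rw [hcW, ← (Subgroup.center (P : Subgroup G)).card_mul_index, mul_comm 9]
      refine Nat.mul_le_mul_left _ ?_
      obtain ⟨k, hk⟩ := (Subgroup.center (P : Subgroup G)).index_eq_card ▸
        IsPGroup.iff_card.1 (P.2.to_quotient (Subgroup.center (P : Subgroup G)))
      rw [hk]
      rcases Nat.lt_or_ge k 2 with h | h
      · exfalso
        haveI : IsCyclic ((P : Subgroup G) ⧸ Subgroup.center (P : Subgroup G)) := by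
          rw [Subgroup.index_eq_card] at hk
          interval_cases k
          · haveI := (Nat.card_eq_one_iff_unique.1 (hk.trans (pow_zero s))).1
            exact isCyclic_of_subsingleton
          · exact isCyclic_of_prime_card (p := s) (hk.trans (pow_one s))
        refine hab fun a ha => Subgroup.mem_centralizer_iff.2 fun b hb => ?_
        exact congrArg Subtype.val (commutative_of_cyclic_center_quotient
          (QuotientGroup.mk' (Subgroup.center (P : Subgroup G))) (QuotientGroup.ker_mk' _).le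
          ⟨b, hb⟩ ⟨a, ha⟩)
      · calc 9 = 3 ^ 2 := rfl
          _ ≤ s ^ 2 := Nat.pow_le_pow_left hs3 2
          _ ≤ s ^ k := Nat.pow_le_pow_right (by omega) h
    rw [hT]
    calc 9 * (Nat.card (Sylow s G) * (Nat.card W - 1)) ≤ Nat.card (Sylow s G) * (9 * Nat.card W) := by
          rw [mul_left_comm]; exact Nat.mul_le_mul_left _ (Nat.mul_le_mul_left _ (Nat.sub_le _ _))
      _ ≤ Nat.card (Sylow s G) * Nat.card (P : Subgroup G) := Nat.mul_le_mul_left _ h9
      _ ≤ Nat.card G := by
          conv_rhs => rw [← card_sylow_mul P]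
          exact Nat.mul_le_mul_left _ (Nat.le_mul_of_pos_right _ (Nat.pos_of_ne_zero fun h0 =>
            (Nat.card_pos (α := G)).ne' (by rw [← card_sylow_mul P, h0, mul_zero, mul_zero])))

theorem card_sum (hG : Hyp G) :
    Nat.card G = 1 + ∑ s ∈ (Nat.card G).primeFactors, cnt G s := by
  classical
  haveI := Fintype.ofFinite G
  have h1 : (1 : ℕ) ∉ (Nat.card G).primeFactors := fun h =>
    Nat.not_prime_one (Nat.prime_of_mem_primeFactors h)
  have hm : ∀ g ∈ (Finset.univ : Finset G), orderOf g ∈ insert 1 (Nat.card G).primeFactors := fun g _ => by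
    by_cases hg : g = 1
    · rw [hg, orderOf_one]; exact Finset.mem_insert_self _ _
    · exact Finset.mem_insert_of_mem (order_mem hG hg)
  conv_lhs => rw [Nat.card_eq_fintype_card, ← Finset.card_univ,
    Finset.card_eq_sum_card_fiberwise hm, Finset.sum_insert h1]
  congr 1
  · rw [show (Finset.univ.filter fun g : G => orderOf g = 1) = {1} from ?_, Finset.card_singleton]
    ext g; simp
  · refine Finset.sum_congr rfl fun s _ => ?_
    rw [cnt, Nat.card_eq_fintype_card, Fintype.card_subtype]

theorem card_prod (G : Type u) [Group G] [Finite G] :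
    Nat.card G = ∏ s ∈ (Nat.card G).primeFactors, part G s := by
  conv_lhs => rw [← Nat.prod_factorization_pow_eq_self (Nat.card_pos (α := G)).ne']
  rw [Nat.prod_factorization_eq_prod_primeFactors]
  rfl

theorem part_ge {s : ℕ} (hs : s ∈ (Nat.card G).primeFactors) : s ≤ part G s := by
  refine Nat.le_self_pow ?_ s
  exact ((Nat.prime_of_mem_primeFactors hs).factorization_pos_of_dvd Nat.card_pos.ne'
    (Nat.dvd_of_mem_primeFactors hs)).ne'

theorem abelian_rel {s n e : ℕ} (hs : s ∈ (Nat.card G).primeFactors)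
    (hn : n * (part G s * e) = Nat.card G) (hT : cnt G s = n * (part G s - 1)) :
    cnt G s * e + n * e = Nat.card G := by
  have h1 : 1 ≤ part G s := le_trans (Nat.prime_of_mem_primeFactors hs).one_le (part_ge hs)
  rw [hT, ← hn, ← Nat.add_mul, ← Nat.mul_succ, Nat.succ_eq_add_one, Nat.sub_add_cancel h1, mul_assoc]

/-- Only two orders survive. -/
theorem order_cases (hG : Hyp G) :
    (Nat.card G = 60 ∨ Nat.card G = 504) ∧ ∀ s ∈ (Nat.card G).primeFactors, ∃ n e : ℕ,
      n * (part G s * e) = Nat.card G ∧ cnt G s = n * (part G s - 1) ∧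
        e ∈ (Nat.card G).primeFactors ∧ e ≠ s ∧ e ∣ part G s - 1 := by
  classical
  obtain ⟨a, b, c, hab, hac, hbc, habc⟩ := Finset.card_eq_three.1 (orders hG).2.1
  have hsum := card_sum hG
  have hmem : ∀ x, x ∈ (Nat.card G).primeFactors ↔ x = a ∨ x = b ∨ x = c := fun x => by
    rw [habc]; simp
  by_cases h2 : (2 : ℕ) ∈ (Nat.card G).primeFactors
  swap
  · exfalso
    have hodd : ∀ s ∈ (Nat.card G).primeFactors, 3 ≤ s := fun s hs => by
      have := (Nat.prime_of_mem_primeFactors hs).two_le
      rcases Nat.lt_or_ge s 3 with h | h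
      · exact absurd (show s = 2 by omega) (fun e => h2 (e ▸ hs))
      · exact h
    have hlb : 27 ≤ Nat.card G := by
      rw [card_prod G, habc, Finset.prod_insert (by simp [hab, hac]), Finset.prod_pair hbc]
      calc 27 = 3 * (3 * 3) := rfl
        _ ≤ _ := Nat.mul_le_mul ((hodd a ((hmem a).2 (Or.inl rfl))).trans (part_ge ((hmem a).2 (Or.inl rfl))))
          (Nat.mul_le_mul ((hodd b ((hmem b).2 (by tauto))).trans (part_ge ((hmem b).2 (by tauto))))
            ((hodd c ((hmem c).2 (by tauto))).trans (part_ge ((hmem c).2 (by tauto)))))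
    have hb : ∀ s ∈ (Nat.card G).primeFactors, 3 * cnt G s + 2 ≤ Nat.card G := by
      intro s hs
      obtain ⟨n, e, hn, ⟨hT, he, -, -⟩ | ⟨-, h9⟩⟩ := prime_data hG hs
      · have h := abelian_rel hs hn hT
        have hn1 : 1 ≤ n := Nat.pos_of_ne_zero fun h =>
          (Nat.card_pos (α := G)).ne' (hn.symm.trans (by rw [h, zero_mul]))
        have he3 := hodd e he
        have h3 : 3 ≤ n * e := le_trans he3 (Nat.le_mul_of_pos_left e hn1)
        have : cnt G s * 3 ≤ cnt G s * e := Nat.mul_le_mul_left _ he3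
        omega
      · omega
    rw [habc, Finset.sum_insert (by simp [hab, hac]), Finset.sum_pair hbc] at hsum
    have := hb a ((hmem a).2 (by tauto))
    have := hb b ((hmem b).2 (by tauto))
    have := hb c ((hmem c).2 (by tauto))
    omega
  obtain ⟨q, r, hq2, hr2, hqr, hpf⟩ : ∃ q r : ℕ, q ≠ 2 ∧ r ≠ 2 ∧ q ≠ r ∧
      (Nat.card G).primeFactors = {2, q, r} := by
    rcases (hmem 2).1 h2 with h | h | h <;> subst h
    · exact ⟨b, c, hab.symm, hac.symm, hbc, habc⟩
    · exact ⟨a, c, hab, hbc.symm, hac, by rw [habc, Finset.insert_comm]⟩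
    · exact ⟨a, b, hac, hbc, hab, by rw [habc, Finset.pair_comm b 2, Finset.insert_comm]⟩
  have hqm : q ∈ (Nat.card G).primeFactors := by rw [hpf]; simp
  have hrm : r ∈ (Nat.card G).primeFactors := by rw [hpf]; simp
  have hqp := Nat.prime_of_mem_primeFactors hqm
  have hrp := Nat.prime_of_mem_primeFactors hrm
  have hn2 : (2 : ℕ) ∉ ({q, r} : Finset ℕ) := by simp [hq2.symm, hr2.symm]
  have hprod := card_prod G
  rw [hpf, Finset.prod_insert hn2, Finset.prod_pair hqr] at hprod
  rw [hpf, Finset.sum_insert hn2, Finset.sum_pair hqr] at hsum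
  have hA2 := part_ge h2
  have hQ := part_ge hqm
  have hR := part_ge hrm
  have h30 : 19 ≤ Nat.card G := by
    rw [hprod]
    have hq3 : 3 ≤ q := by have := hqp.two_le; omega
    have hr3 : 3 ≤ r := by have := hrp.two_le; omega
    have : 2 * (5 * 3) ≤ part G 2 * (part G q * part G r) ∨
        2 * (3 * 5) ≤ part G 2 * (part G q * part G r) := by
      by_cases h5 : 5 ≤ q
      · exact Or.inl (Nat.mul_le_mul hA2 (Nat.mul_le_mul (h5.trans hQ) (hr3.trans hR)))
      · have : q ≠ 4 := fun e => absurd (e ▸ hqp) (by norm_num)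
        have : r ≠ 4 := fun e => absurd (e ▸ hrp) (by norm_num)
        exact Or.inr (Nat.mul_le_mul hA2 (Nat.mul_le_mul (hq3.trans hQ) ((show 5 ≤ r by omega).trans hR)))
    omega
  obtain ⟨na, ea, hna, ⟨hTa, hea, hea2, headiv⟩ | ⟨h22, -⟩⟩ := prime_data hG h2
  swap
  · exact absurd rfl h22
  have hra := abelian_rel h2 hna hTa
  have hin : ∀ e : ℕ, e ∈ (Nat.card G).primeFactors → e = 2 ∨ e = q ∨ e = r := fun e he => by
    rw [hpf] at he; simpa using he
  have ha3 : 3 * cnt G 2 ≤ Nat.card G := by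
    have : 3 ≤ ea := by
      have := (Nat.prime_of_mem_primeFactors hea).two_le; omega
    have := Nat.mul_le_mul_left (cnt G 2) this
    omega
  have hhalf : ∀ s ∈ (Nat.card G).primeFactors, 2 * cnt G s ≤ Nat.card G := by
    intro s hs
    obtain ⟨n, e, hn, ⟨hT, he, -, -⟩ | ⟨-, h9⟩⟩ := prime_data hG hs
    · have h := abelian_rel hs hn hT
      have := Nat.mul_le_mul_left (cnt G s) (Nat.prime_of_mem_primeFactors he).two_le
      omega
    · omega
  obtain ⟨nb, eb, hnb, ⟨hTb, heb, heb2, hebdiv⟩ | ⟨-, h9q⟩⟩ := prime_data hG hqm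
  swap
  · exfalso; have := hhalf r hrm; omega
  obtain ⟨nc, ec, hnc, ⟨hTc, hec, hec2, hecdiv⟩ | ⟨-, h9r⟩⟩ := prime_data hG hrm
  swap
  · exfalso; have := hhalf q hqm; omega
  have hall : ∀ s ∈ (Nat.card G).primeFactors, ∃ n e : ℕ,
      n * (part G s * e) = Nat.card G ∧ cnt G s = n * (part G s - 1) ∧
        e ∈ (Nat.card G).primeFactors ∧ e ≠ s ∧ e ∣ part G s - 1 := fun s hs => by
    rcases hin s hs with rfl | rfl | rfl
    · exact ⟨na, ea, hna, hTa, hea, hea2, headiv⟩
    · exact ⟨nb, eb, hnb, hTb, heb, heb2, hebdiv⟩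
    · exact ⟨nc, ec, hnc, hTc, hec, hec2, hecdiv⟩
  refine ⟨?_, hall⟩
  have hpos : ∀ s ∈ (Nat.card G).primeFactors, 0 < part G s := fun s hs =>
    lt_of_lt_of_le (Nat.prime_of_mem_primeFactors hs).pos (part_ge hs)
  have hfp : ∀ s ∈ (Nat.card G).primeFactors, 1 ≤ (Nat.card G).factorization s := fun s hs =>
    (Nat.prime_of_mem_primeFactors hs).factorization_pos_of_dvd Nat.card_pos.ne'
      (Nat.dvd_of_mem_primeFactors hs)
  have r1 : na * ea = part G q * part G r :=
    Nat.eq_of_mul_eq_mul_left (hpos 2 h2) (by rw [← hprod, ← hna]; ring)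
  have r2 : nb * eb = part G 2 * part G r :=
    Nat.eq_of_mul_eq_mul_left (hpos q hqm) (by
      rw [show part G q * (part G 2 * part G r) = Nat.card G by rw [hprod]; ring, ← hnb]; ring)
  have r3 : nc * ec = part G 2 * part G q :=
    Nat.eq_of_mul_eq_mul_left (hpos r hrm) (by
      rw [show part G r * (part G 2 * part G q) = Nat.card G by rw [hprod]; ring, ← hnc]; ring)
  have c1 : ea = q ∨ ea = r := by
    rcases hin ea hea with h | h | h
    · exact absurd h hea2
    · exact Or.inl h
    · exact Or.inr h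
  have c2 : eb = 2 ∨ eb = r := by
    rcases hin eb heb with h | h | h
    · exact Or.inl h
    · exact absurd h heb2
    · exact Or.inr h
  have c3 : ec = 2 ∨ ec = q := by
    rcases hin ec hec with h | h | h
    · exact Or.inl h
    · exact Or.inr h
    · exact absurd h hec2
  have heq : na * (part G 2 - 1) + nb * (part G q - 1) + nc * (part G r - 1) + 1 =
      part G 2 * part G q * part G r := by
    rw [← hTa, ← hTb, ← hTc, mul_assoc, ← hprod]; omega
  rcases arith hqp hrp hq2 hr2 hqr (A := part G 2) (Q := part G q) (R := part G r) rfl rfl rfl (hfp 2 h2) (hfp q hqm) (hfp r hrm)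
    c1 c2 c3 headiv hebdiv hecdiv r1 r2 r3 heq with ⟨e1, e2⟩ | ⟨e1, e2⟩
  · exact Or.inl (by rw [hprod, e1, e2]; rfl)
  · exact Or.inr (by rw [hprod, e1, e2]; rfl)

theorem part_value {k m s : ℕ} (hs : s.Prime) (hc : Nat.card G = s ^ k * m) (hm : ¬ s ∣ m) :
    part G s = s ^ k := by
  have hm0 : m ≠ 0 := fun h => hm (h ▸ dvd_zero s)
  rw [part, hc, Nat.factorization_mul (pow_ne_zero _ hs.ne_zero) hm0, Finsupp.add_apply,
    Nat.factorization_pow_self hs, Nat.factorization_eq_zero_of_not_dvd hm, add_zero]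

/-- A group of order 504 has no such structure. -/
theorem not_504 (hG : Hyp G) (hc : Nat.card G = 504) : False := by
  classical
  have hall := (order_cases hG).2
  haveI : Fact (Nat.Prime 2) := ⟨Nat.prime_two⟩
  haveI : Fact (Nat.Prime 3) := ⟨Nat.prime_three⟩
  have hmem : ∀ s, s.Prime → s ∣ 504 → s ∈ (Nat.card G).primeFactors := fun s hs hd =>
    Nat.mem_primeFactors.2 ⟨hs, hc ▸ hd, Nat.card_pos.ne'⟩
  have hpfl : ∀ e ∈ (Nat.card G).primeFactors, e = 2 ∨ e = 3 ∨ e = 7 := fun e he => by
    have hp := Nat.prime_of_mem_primeFactors he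
    have hd : e ∣ 2 ^ 3 * (3 ^ 2 * 7) := by
      rw [show 2 ^ 3 * (3 ^ 2 * 7) = Nat.card G by rw [hc]; rfl]
      exact Nat.dvd_of_mem_primeFactors he
    rcases (Nat.Prime.dvd_mul hp).1 hd with h | h
    · exact Or.inl ((Nat.prime_dvd_prime_iff_eq hp Nat.prime_two).1 (hp.dvd_of_dvd_pow h))
    · rcases (Nat.Prime.dvd_mul hp).1 h with h | h
      · exact Or.inr (Or.inl ((Nat.prime_dvd_prime_iff_eq hp Nat.prime_three).1 (hp.dvd_of_dvd_pow h)))
      · exact Or.inr (Or.inr ((Nat.prime_dvd_prime_iff_eq hp (by norm_num)).1 h))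
  have hA : part G 2 = 8 := part_value (k := 3) (m := 63) Nat.prime_two (by rw [hc]; rfl) (by norm_num)
  have hR : part G 3 = 9 := part_value (k := 2) (m := 56) Nat.prime_three (by rw [hc]; rfl) (by norm_num)
  obtain ⟨n, e, hn, hT, he, hne, hdiv⟩ := hall 3 (hmem 3 Nat.prime_three (by norm_num))
  rw [hR] at hn hT hdiv
  have he2 : e = 2 := by
    rcases hpfl e he with h | h | h
    · exact h
    · exact absurd h hne
    · subst h; norm_num at hdiv
  subst he2
  have h224 : cnt G 3 = 224 := by rw [hT]; rw [hc] at hn; omega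
  obtain ⟨n', e', hn', hT', he', hne', hdiv'⟩ := hall 2 (hmem 2 Nat.prime_two (by norm_num))
  rw [hA] at hn' hT' hdiv'
  have he7 : e' = 7 := by
    rcases hpfl e' he' with h | h | h
    · exact absurd h hne'
    · subst h; norm_num at hdiv'
    · exact h
  subst he7
  obtain ⟨P₀⟩ := (inferInstance : Nonempty (Sylow 2 G))
  have hP8 : ∀ P : Sylow 2 G, Nat.card (P : Subgroup G) = 8 := fun P => P.card_eq_multiplicity.trans hA
  have habel : ∀ P : Sylow 2 G,
      (P : Subgroup G) ≤ Subgroup.centralizer ((P : Subgroup G) : Set G) := by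
    intro P a ha
    refine Subgroup.mem_centralizer_iff.2 fun b hb => ?_
    have hsq : ∀ y ∈ (P : Subgroup G), y⁻¹ = y := fun y hy => by
      by_cases hy1 : y = 1
      · rw [hy1, inv_one]
      · refine inv_eq_of_mul_eq_one_right ?_
        rw [← sq, ← order_eq_of_mem hG P hy hy1, pow_orderOf_eq_one]
    calc b * a = (b * a)⁻¹ := (hsq _ ((P : Subgroup G).mul_mem hb ha)).symm
      _ = a * b := by rw [mul_inv_rev, hsq a ha, hsq b hb]
  have hdvd2 : 2 ∣ Nat.card G := hc ▸ (by norm_num : 2 ∣ 504)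
  have hn9 : Nat.card (Sylow 2 G) = 9 := by
    have h := card_central hG hdvd2 P₀
    rw [inf_eq_left.2 (habel P₀), hP8] at h
    change cnt G 2 = _ at h
    rw [hc] at hn'
    omega
  let N : Sylow 2 G → Subgroup G := fun P => Subgroup.normalizer ((P : Subgroup G) : Set G)
  have hfix : ∀ (g : G) (P : Sylow 2 G), g • P = P ↔ g ∈ N P := fun g P =>
    Sylow.smul_eq_iff_mem_normalizer
  have hN56 : ∀ P, Nat.card (N P) = 56 := by
    intro P
    have h := (N P).card_mul_index
    rw [show (N P).index = Nat.card (Sylow 2 G) from P.card_eq_index_normalizer.symm, hn9, hc] at h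
    omega
  -- an element fixing three points is trivial
  have hthree : ∀ g : G, ∀ P Q R : Sylow 2 G, P ≠ Q → P ≠ R → Q ≠ R →
      g • P = P → g • Q = Q → g • R = R → g = 1 := by
    intro g P Q R hPQ hPR hQR hgP hgQ hgR
    by_contra hg
    have hgN : g ∈ N P := (hfix g P).1 hgP
    rcases hpfl _ (order_mem hG hg) with h | h | h
    · have key : ∀ S : Sylow 2 G, g • S = S →
          (S : Subgroup G) = Subgroup.centralizer ({g} : Set G) := by
        intro S hS
        have hgS : g ∈ (S : Subgroup G) := by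
          have hsup := (IsPGroup.of_card (p := 2) (n := 1) (by rw [Nat.card_zpowers, h, pow_one]) :
            IsPGroup 2 (Subgroup.zpowers g)).to_sup_of_normal_right' S.2
              (Subgroup.zpowers_le.2 ((hfix g S).1 hS))
          exact (S.3 hsup le_sup_right) ▸
            (le_sup_left : Subgroup.zpowers g ≤ _) (Subgroup.mem_zpowers g)
        exact (cent_eq_of_central hG S h (habel S hgS)).symm
      exact hPQ (Sylow.ext ((key P hgP).trans (key Q hgQ).symm))
    · have := Subgroup.orderOf_dvd_natCard (N P) hgN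
      rw [h, hN56] at this
      norm_num at this
    · haveI : Fact (Nat.Prime 7) := ⟨by norm_num⟩
      have h7 : IsPGroup 7 (Subgroup.zpowers g) :=
        IsPGroup.of_card (n := 1) (by rw [Nat.card_zpowers, h, pow_one])
      have hmod := h7.card_modEq_card_fixedPoints (Sylow 2 G)
      rw [hn9] at hmod
      have hle := Nat.card_le_card_of_injective
        (Subtype.val : MulAction.fixedPoints (Subgroup.zpowers g) (Sylow 2 G) → Sylow 2 G)
        Subtype.val_injective
      rw [hn9] at hle
      have hmemf : ∀ S : Sylow 2 G, g • S = S →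
          S ∈ MulAction.fixedPoints (Subgroup.zpowers g) (Sylow 2 G) := by
        rintro S hS ⟨y, hy⟩
        exact MulAction.mem_stabilizer_iff.1
          ((Subgroup.zpowers_le.2 (MulAction.mem_stabilizer_iff.2 hS) :
            Subgroup.zpowers g ≤ MulAction.stabilizer G S) hy)
      let f : Fin 3 → MulAction.fixedPoints (Subgroup.zpowers g) (Sylow 2 G) :=
        ![⟨P, hmemf P hgP⟩, ⟨Q, hmemf Q hgQ⟩, ⟨R, hmemf R hgR⟩]
      have h3 := Nat.card_le_card_of_injective f (by
        intro i j
        fin_cases i <;> fin_cases j <;> simp [f, hPQ, hPR, hQR, hPQ.symm, hPR.symm, hQR.symm])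
      rw [Nat.card_fin] at h3
      have hall9 : Nat.card (MulAction.fixedPoints (Subgroup.zpowers g) (Sylow 2 G)) = 9 := by
        obtain ⟨c, hc'⟩ : ∃ c, Nat.card (MulAction.fixedPoints (Subgroup.zpowers g) (Sylow 2 G)) = c :=
          ⟨_, rfl⟩
        rw [hc'] at hmod h3 hle
        rw [hc']
        have hmod' : 9 % 7 = c % 7 := hmod
        omega
      have huniv : ∀ S : Sylow 2 G, g • S = S := fun S => by
        have hbij : Function.Bijective
            (Subtype.val : MulAction.fixedPoints (Subgroup.zpowers g) (Sylow 2 G) → Sylow 2 G) :=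
          ((Nat.bijective_iff_injective_and_card _).2 ⟨Subtype.val_injective, hall9.trans hn9.symm⟩)
        obtain ⟨⟨T, hT⟩, rfl⟩ := hbij.2 S
        exact hT ⟨g, Subgroup.mem_zpowers g⟩
      have hK : (⨅ S : Sylow 2 G, N S) = ⊤ := char_top hG (fun α x hx => by
        rw [Subgroup.mem_iInf] at hx ⊢
        intro S
        obtain ⟨T, hT⟩ : ∃ T : Sylow 2 G, (T : Subgroup G).map α.toMonoidHom = (S : Subgroup G) :=
          ⟨Sylow.ofCard ((S : Subgroup G).map α.symm.toMonoidHom) (by
              rw [Subgroup.card_map_of_injective α.symm.injective]; exact S.card_eq_multiplicity), by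
            rw [Sylow.coe_ofCard, Subgroup.map_map]
            convert Subgroup.map_id (S : Subgroup G)
            ext y; simp⟩
        show α x ∈ Subgroup.normalizer ((S : Subgroup G) : Set G)
        rw [← hT, ← Subgroup.map_normalizer_eq_of_bijective (T : Subgroup G) (f := α.toMonoidHom) α.bijective]
        exact ⟨x, hx T, rfl⟩)
        (fun hb => hg (by
          have : g ∈ (⨅ S : Sylow 2 G, N S) := Subgroup.mem_iInf.2 fun S => (hfix g S).1 (huniv S)
          rwa [hb, Subgroup.mem_bot] at this))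
      have hle56 := Subgroup.card_le_of_le (iInf_le N P₀)
      rw [hK, Subgroup.card_top, hc, hN56] at hle56
      omega
  -- count the pairs (element of order three, point)
  have hmove : ∀ (x : G) (P : Sylow 2 G), orderOf x = 3 → x • P ≠ P := fun x P hx h => by
    have := Subgroup.orderOf_dvd_natCard (N P) ((hfix x P).1 h)
    rw [hx, hN56] at this
    norm_num at this
  let F : {x : G // orderOf x = 3} × Sylow 2 G → Sylow 2 G × Sylow 2 G × Sylow 2 G :=
    fun a => (a.2, a.1.1 • a.2, a.1.1 • a.1.1 • a.2)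
  have hinj : Function.Injective F := by
    rintro ⟨⟨x, hx⟩, P⟩ ⟨⟨y, hy⟩, Q⟩ e
    simp only [F, Prod.mk.injEq] at e
    obtain ⟨rfl, e2, e3⟩ := e
    have hx3 : x * x * x = 1 := by rw [← pow_three', ← hx, pow_orderOf_eq_one]
    have hy3 : y * y * y = 1 := by rw [← pow_three', ← hy, pow_orderOf_eq_one]
    have cyc : ∀ (z : G), z * z * z = 1 → z • z • z • P = P := fun z hz => by
      rw [smul_smul, smul_smul, hz, one_smul]
    have h : y⁻¹ * x = 1 := by
      refine hthree _ P (x • P) (x • x • P) (hmove x P hx).symm ?_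
        (hmove x (x • P) hx).symm ?_ ?_ ?_
      · intro h
        exact hmove x P hx ((congrArg (x • ·) h).trans (cyc x hx3))
      · rw [mul_smul, e2, inv_smul_smul]
      · rw [mul_smul, e3, inv_smul_eq_iff]
        rw [e2]
      · rw [mul_smul, cyc x hx3, inv_smul_eq_iff, e3, cyc y hy3]
    obtain rfl : y = x := inv_mul_eq_one.1 h
    rfl
  have := Nat.card_le_card_of_injective F hinj
  rw [Nat.card_prod, Nat.card_prod, Nat.card_prod, hn9] at this
  change cnt G 3 * 9 ≤ _ at this
  omega

/-- A nonsolvable group with four automorphism orbits is `A₅`. -/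
theorem main (hns : ¬ Group.IsSolvable G)
    (h4 : Nat.card (MulAction.orbitRel.Quotient (MulAut G) G) = 4) :
    Nonempty (G ≃* alternatingGroup (Fin 5)) := by
  have hG : Hyp G := ⟨hns, h4⟩
  obtain ⟨h60 | h504, hall⟩ := order_cases hG
  swap
  · exact (not_504 hG h504).elim
  haveI : Fact (Nat.Prime 2) := ⟨Nat.prime_two⟩
  have hd : 2 ∣ Nat.card G := h60 ▸ (by norm_num : 2 ∣ 60)
  have hA : part G 2 = 4 := part_value (k := 2) (m := 15) Nat.prime_two (by rw [h60]; rfl) (by norm_num)
  obtain ⟨x, hx⟩ := exists_prime_orderOf_dvd_card' (G := G) 2 hd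
  have hC4 : Nat.card (Subgroup.centralizer ({x} : Set G)) = 4 := (cent_card hG hd hx).trans hA
  refine Cfsg.Agent.Lie.InvFour.alt_five_of_centralizer_four x hx hC4 (fun c hc => ?_) ?_ ?_
  · obtain ⟨P, hP⟩ := exists_sylow_cent hG hd hx
    by_cases h1 : c = 1
    · rw [h1, one_pow]
    · rw [← order_eq_of_mem hG P (hP ▸ hc) h1, pow_orderOf_eq_one]
  · rintro ⟨P, N, hN, hcomp⟩
    exact no_complement hG hd P hcomp
  · intro E hE hEA
    refine ⟨fun h2 => ?_, fun h4' => ?_⟩
    · obtain ⟨y, hy⟩ := exists_prime_orderOf_dvd_card' (G := E) 2 (h2 ▸ dvd_rfl)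
      have hy1 : y ≠ 1 := fun h => by rw [h, orderOf_one] at hy; exact absurd hy (by norm_num)
      refine hy1 (Subtype.ext (card_center_one hG fun z => ?_))
      have hz : z * (y : G) * z⁻¹ ∈ E := hE.conj_mem _ y.2 z
      have htwo : ∀ w : E, w = 1 ∨ w = y := by
        intro w
        by_contra hw
        push Not at hw
        have := Nat.card_le_card_of_injective ![(1 : E), y, w] (by
          intro i j
          fin_cases i <;> fin_cases j <;> simp [hy1, hy1.symm, hw.1, hw.1.symm, hw.2, hw.2.symm])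
        rw [Nat.card_fin, h2] at this
        omega
      rcases htwo ⟨_, hz⟩ with h | h
      · exact absurd (conj_eq_one_iff.1 (congrArg Subtype.val h)) fun e => hy1 (Subtype.ext e)
      · exact mul_inv_eq_iff_eq_mul.1 (congrArg Subtype.val h)
    · have hsolv : Group.IsSolvable E := Group.isSolvable_of_comm fun a b => hEA.1.is_comm.comm a b
      haveI : Group.IsSolvable (G ⧸ E) := by
        have hcm := E.card_mul_index
        rw [E.index_eq_card, h60, h4'] at hcm
        refine Cfsg.Agent.Char.isSolvable_of_two_primes (p := 3) (q := 5) Nat.prime_three (by norm_num) _ rfl ?_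
        intro t ht htd
        rw [show Nat.card (G ⧸ E) = 3 * 5 by omega] at htd
        rcases (Nat.Prime.dvd_mul ht).1 htd with h | h
        · exact Or.inl ((Nat.prime_dvd_prime_iff_eq ht Nat.prime_three).1 h)
        · exact Or.inr ((Nat.prime_dvd_prime_iff_eq ht (by norm_num)).1 h)
      exact hns ((Group.isSolvable_iff_subgroup_quotient E).2 ⟨hsolv, inferInstance⟩)

end Cfsg.Agent.Lead.FourOrb
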