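import Cfsg.Agent.Lib.Lead.FpfFourLocal
import Cfsg.Agent.Lib.Solv.Cores
import Cfsg.Agent.Lib.Solv.Subnormal

/-!
Fixed-point-free automorphisms of order four: the derived subgroup of a solvable group is nilpotent.
-/

set_option autoImplicit false
set_option linter.style.haveILetI false

open scoped commutatorElement

namespace Cfsg.Agent.Lead.FpfFour

universe u

section restrict

variable {G : Type u} [Group G] [Finite G]

/-- The restriction of an automorphism to an invariant subgroup. -/
noncomputable def restrict (σ : MulAut G) (H : Subgroup G) (h : ∀ a ∈ H, σ a ∈ H) : MulAut H :=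
  MulEquiv.ofBijective ((σ.toMonoidHom.comp H.subtype).codRestrict H fun a => h a a.2)
    (Finite.injective_iff_bijective.1 fun _ _ e =>
      Subtype.ext (σ.injective (congrArg Subtype.val e)))

theorem restrict_val (σ : MulAut G) (H : Subgroup G) (h : ∀ a ∈ H, σ a ∈ H) (a : H) :
    (restrict σ H h a : G) = σ a := rfl

theorem restrict_fpf {σ : MulAut G} (hσ : Fpf σ) (H : Subgroup G) (h : ∀ a ∈ H, σ a ∈ H) :
    Fpf (restrict σ H h) := fun g hg => Subtype.ext (hσ g (congrArg Subtype.val hg))

theorem restrict_four {σ : MulAut G} (h4 : σ ^ 4 = 1) (H : Subgroup G) (h : ∀ a ∈ H, σ a ∈ H) :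
    restrict σ H h ^ 4 = 1 := by
  ext a
  simp only [pow_succ, pow_zero, one_mul, MulAut.mul_apply, MulAut.one_apply, restrict_val]
  exact iterate_four h4 a

theorem map_eq_of_invariant (σ : MulAut G) (H : Subgroup G) (h : ∀ a ∈ H, σ a ∈ H) :
    H.map σ.toMonoidHom = H :=
  Subgroup.eq_of_le_of_card_ge (Subgroup.map_le_iff_le_comap.2 h)
    (Subgroup.card_map_of_injective σ.injective).ge

theorem invariant_of_characteristic (σ : MulAut G) (H : Subgroup G) [hH : H.Characteristic] :
    ∀ a ∈ H, σ a ∈ H := fun a ha => by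
  have := hH.fixed σ
  exact (SetLike.ext_iff.1 this a).2 ha

/-- The automorphism induced on a quotient. -/
noncomputable def quot (σ : MulAut G) (N : Subgroup G) [N.Normal] (h : ∀ a ∈ N, σ a ∈ N) :
    MulAut (G ⧸ N) :=
  QuotientGroup.congr N N σ (map_eq_of_invariant σ N h)

theorem quot_mk (σ : MulAut G) (N : Subgroup G) [N.Normal] (h : ∀ a ∈ N, σ a ∈ N) (g : G) :
    quot σ N h (g : G ⧸ N) = ((σ g : G) : G ⧸ N) := rfl

theorem quot_fpf {σ : MulAut G} (hσ : Fpf σ) (N : Subgroup G) [N.Normal] (h : ∀ a ∈ N, σ a ∈ N) :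
    Fpf (quot σ N h) := by
  intro x hx
  induction x using QuotientGroup.induction_on with
  | H g =>
    rw [quot_mk] at hx
    have hn : g⁻¹ * σ g ∈ N := QuotientGroup.eq.1 hx.symm
    obtain ⟨m, hm⟩ := (restrict_fpf hσ N h).bijective.2 ⟨_, hn⟩
    have hm : (m : G)⁻¹ * σ m = g⁻¹ * σ g := congrArg Subtype.val hm
    have e : σ (g * (m : G)⁻¹) = g * (m : G)⁻¹ := by
      rw [map_mul, map_inv]
      calc σ g * (σ (m : G))⁻¹ = g * (g⁻¹ * σ g) * (σ (m : G))⁻¹ := by group
        _ = g * ((m : G)⁻¹ * σ m) * (σ (m : G))⁻¹ := by rw [hm]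
        _ = g * (m : G)⁻¹ := by group
    rw [mul_inv_eq_one.1 (hσ _ e)]
    exact (QuotientGroup.eq_one_iff _).2 m.2

theorem quot_four {σ : MulAut G} (h4 : σ ^ 4 = 1) (N : Subgroup G) [N.Normal]
    (h : ∀ a ∈ N, σ a ∈ N) : quot σ N h ^ 4 = 1 := by
  ext x
  induction x using QuotientGroup.induction_on with
  | H g =>
    simp only [pow_succ, pow_zero, one_mul, MulAut.mul_apply, MulAut.one_apply, quot_mk,
      iterate_four h4]

end restrict

/-- A solvable finite group with a fixed-point-free automorphism of order dividing four has nilpotent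
derived subgroup. -/
theorem derived_nilpotent : ∀ (n : ℕ) {G : Type u} [Group G] [Finite G], Nat.card G = n →
    Group.IsSolvable G → ∀ σ : MulAut G, σ ^ 4 = 1 → Fpf σ → Group.IsNilpotent (commutator G) := by
  intro n
  induction n using Nat.strong_induction_on with
  | _ n ih =>
  intro G _ _ hn hG σ h4 hσ
  subst hn
  rcases subsingleton_or_nontrivial G with hs | hs
  · infer_instance
  obtain ⟨V, ⟨hVn, hVσ, hVne⟩, hVmin⟩ := Set.Finite.exists_minimal (s := {V : Subgroup G |
    V.Normal ∧ (∀ a ∈ V, σ a ∈ V) ∧ V ≠ ⊥}) (Set.toFinite _)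
    ⟨⊤, inferInstance, fun _ _ => Subgroup.mem_top _, top_ne_bot⟩
  haveI := hVn
  have hmin : ∀ W : Subgroup G, W ≤ V → W.Normal → (∀ a ∈ W, σ a ∈ W) → W ≠ ⊥ → W = V :=
    fun W hW hWn hWσ hne => le_antisymm hW (hVmin ⟨hWn, hWσ, hne⟩ hW)
  -- `V` is abelian
  have hVab : ∀ a ∈ V, ∀ b ∈ V, a * b = b * a := by
    haveI : Nontrivial V := (Subgroup.nontrivial_iff_ne_bot V).2 hVne
    have hinv : ∀ c ∈ ⁅V, V⁆, σ c ∈ ⁅V, V⁆ := fun c hc => by
      have hle : ⁅V, V⁆ ≤ ⁅V, V⁆.comap σ.toMonoidHom := Subgroup.commutator_le.2 fun a ha b hb => by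
        show σ ⁅a, b⁆ ∈ ⁅V, V⁆
        rw [map_commutatorElement]
        exact Subgroup.commutator_mem_commutator (hVσ a ha) (hVσ b hb)
      exact hle hc
    by_contra hnc
    refine (Group.IsSolvable.commutator_lt_top_of_nontrivial V).ne ?_
    refine Subgroup.map_injective V.subtype_injective ?_
    rw [← MonoidHom.range_eq_map, Subgroup.range_subtype, commutator_def, Subgroup.map_commutator,
      ← MonoidHom.range_eq_map, Subgroup.range_subtype]
    refine hmin _ (Subgroup.commutator_le_self V) inferInstance hinv fun hb => hnc fun a ha b hb' => ?_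
    have := Subgroup.commutator_mem_commutator ha hb'
    rw [hb, Subgroup.mem_bot] at this
    exact commutatorElement_eq_one_iff_mul_comm.1 this
  -- `V` has prime exponent
  obtain ⟨p, hp, hpV⟩ := Nat.exists_prime_and_dvd
    (show Nat.card V ≠ 1 from fun e => hVne (Subgroup.card_eq_one.1 e))
  haveI : Fact p.Prime := ⟨hp⟩
  have hexp : ∀ a ∈ V, a ^ p = 1 := by
    let W : Subgroup G :=
      { carrier := {a | a ∈ V ∧ a ^ p = 1}
        one_mem' := ⟨V.one_mem, one_pow p⟩
        mul_mem' := fun {a b} ha hb => ⟨V.mul_mem ha.1 hb.1, by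
          rw [Commute.mul_pow (hVab a ha.1 b hb.1), ha.2, hb.2, one_mul]⟩
        inv_mem' := fun {a} ha => ⟨V.inv_mem ha.1, by rw [inv_pow, ha.2, inv_one]⟩ }
    have hW : W = V := by
      refine hmin W (fun a ha => ha.1) ⟨fun a ha g => ⟨hVn.conj_mem a ha.1 g, ?_⟩⟩
        (fun a ha => ⟨hVσ a ha.1, by rw [← map_pow, ha.2, map_one]⟩) fun hb => ?_
      · rw [← MulAut.conj_apply, ← map_pow, ha.2, map_one]
      · obtain ⟨v, hv⟩ := exists_prime_orderOf_dvd_card' p hpV
        have hvW : (v : G) ∈ W := ⟨v.2, by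
          rw [← Subgroup.coe_pow, ← hv, pow_orderOf_eq_one, Subgroup.coe_one]⟩
        rw [hb, Subgroup.mem_bot] at hvW
        exact hp.one_lt.ne' (hv.symm.trans (orderOf_eq_one_iff.2 (Subtype.ext hvW)))
    intro a ha
    rw [← hW] at ha
    exact ha.2
  set C := Subgroup.centralizer (V : Set G) with hCdef
  haveI hCn : C.Normal := by rw [hCdef]; infer_instance
  have hCmem : ∀ g : G, g ∈ C ↔ ∀ v ∈ V, v * g = g * v := fun g => Subgroup.mem_centralizer_iff
  have hVsurj : ∀ v ∈ V, ∃ w ∈ V, σ w = v := fun v hv => by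
    have := (map_eq_of_invariant σ V hVσ).ge hv
    exact Subgroup.mem_map.1 this
  have hCσ : ∀ a ∈ C, σ a ∈ C := fun a ha => (hCmem _).2 fun v hv => by
    obtain ⟨w, hw, rfl⟩ := hVsurj v hv
    rw [← map_mul, ← map_mul, (hCmem a).1 ha w hw]
  set X := G ⧸ C
  set σ' : MulAut X := quot σ C hCσ with hσ'def
  have hσ' : Fpf σ' := quot_fpf hσ C hCσ
  have h4' : σ' ^ 4 = 1 := quot_four h4 C hCσ
  -- the action of `X` on `V`
  let act : X →* MulAut V := QuotientGroup.lift C MulAut.conjNormal fun c hc => by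
    rw [MonoidHom.mem_ker]
    ext v
    rw [MulAut.conjNormal_apply, ← (hCmem c).1 hc v v.2, mul_inv_cancel_right, MulAut.one_apply]
  have hact : ∀ (g : G) (v : V), (act (g : X) v : G) = g * v * g⁻¹ :=
    fun g v => MulAut.conjNormal_apply g v
  have hfaith : ∀ x : X, act x = 1 → x = 1 := by
    intro x hx
    induction x using QuotientGroup.induction_on with
    | H g =>
      refine (QuotientGroup.eq_one_iff g).2 ((hCmem g).2 fun v hv => ?_)
      have := hact g ⟨v, hv⟩
      rw [hx, MulAut.one_apply] at this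
      calc v * g = g * v * g⁻¹ * g := by rw [← this]
        _ = g * v := by group
  -- normal invariant `p`-subgroups of `X` are trivial
  have hcore : Cfsg.pCore p X = ⊥ := by
    haveI : (Cfsg.pCore p X).Normal := Solv.pCore_normal p
    set P := Cfsg.pCore p X with hP
    set P' := P.comap (QuotientGroup.mk' C) with hP'
    haveI : P'.Normal := inferInstance
    have hP'σ : ∀ a ∈ P', σ a ∈ P' := fun a ha => by
      have hmap : P.map σ'.toMonoidHom ≤ P := by
        haveI : (P.map σ'.toMonoidHom).Normal := (Solv.pCore_normal p).map _ σ'.surjective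
        exact Solv.normal_le_pCore ((Solv.pCore_isPGroup p).map _)
      exact hmap (Subgroup.mem_map.2 ⟨_, ha, quot_mk σ C hCσ a⟩)
    let W : Subgroup G := V ⊓ Subgroup.centralizer (P' : Set G)
    have hWmem : ∀ a : G, a ∈ W ↔ a ∈ V ∧ ∀ g ∈ P', g * a = a * g :=
      fun a => and_congr_right' Subgroup.mem_centralizer_iff
    have hWσ : ∀ a ∈ W, σ a ∈ W := fun a ha => by
      rw [hWmem] at ha ⊢
      refine ⟨hVσ a ha.1, fun g hg => ?_⟩
      obtain ⟨b, hb, rfl⟩ := Subgroup.mem_map.1 ((map_eq_of_invariant σ P' hP'σ).ge hg)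
      show σ b * σ a = σ a * σ b
      rw [← map_mul, ← map_mul, ha.2 b hb]
    have hWne : W ≠ ⊥ := by
      letI : MulAction P V := MulAction.compHom V (act.comp P.subtype)
      obtain ⟨b, hb, hb1⟩ := (Solv.pCore_isPGroup (G := X) p).exists_fixed_point_of_prime_dvd_card_of_fixed_point
        V hpV (a := 1) (fun x => map_one (act (x : X)))
      intro hW
      have hbW : (b : G) ∈ W := (hWmem _).2 ⟨b.2, fun g hg => by
        have := congrArg Subtype.val (hb ⟨(g : X), hg⟩)
        change (act (g : X) b : G) = b at this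
        rw [hact] at this
        calc g * (b : G) = g * b * g⁻¹ * g := by group
          _ = b * g := by rw [this]⟩
      rw [hW, Subgroup.mem_bot] at hbW
      exact hb1 (Subtype.ext hbW.symm)
    have hWV := hmin W inf_le_left inferInstance hWσ hWne
    rw [eq_bot_iff]
    intro x hx
    induction x using QuotientGroup.induction_on with
    | H g =>
      refine Subgroup.mem_bot.2 ((QuotientGroup.eq_one_iff g).2 ((hCmem g).2 fun v hv => ?_))
      rw [← hWV, hWmem] at hv
      exact (hv.2 g hx).symm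
  -- the Fitting subgroup
  have hXs : Group.IsSolvable X :=
    haveI := hG; Group.isSolvable_of_surjective (QuotientGroup.mk'_surjective C)
  set F := Cfsg.fittingSubgroup X with hFdef
  haveI hFnil : Group.IsNilpotent F := Solv.fittingSubgroup_nilpotent
  have hFco : (Nat.card F).Coprime p := by
    refine (Nat.coprime_comm.1 ((Nat.Prime.coprime_iff_not_dvd hp).2 fun hd => ?_))
    let P : Sylow p F := default
    haveI hPn : (P : Subgroup F).Normal :=
      ((Group.isNilpotent_of_finite_tfae.out 0 3 : Group.IsNilpotent F ↔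
        ∀ (q : ℕ) (_ : Fact q.Prime) (P : Sylow q F), (P : Subgroup F).Normal)).1 hFnil p ‹_› P
    haveI : (P : Subgroup F).Characteristic := Sylow.characteristic_of_normal P hPn
    haveI : F.Normal := Solv.fittingSubgroup_normal
    have hle : (P : Subgroup F).map F.subtype ≤ ⊥ :=
      hcore ▸ Solv.normal_le_pCore (P.isPGroup'.map F.subtype)
    rw [le_bot_iff, Subgroup.map_eq_bot_iff_of_injective _ F.subtype_injective] at hle
    exact P.ne_bot_of_dvd_card hd hle
  have hFσ : ∀ a ∈ F, σ' a ∈ F := invariant_of_characteristic σ' F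
  -- the linear action
  let τ : MulAut V := restrict σ V hVσ
  let S : AddMonoid.End (Additive V) := MonoidHom.toAdditive τ.toMonoidHom
  let ρ : F →* AddMonoid.End (Additive V) :=
    { toFun := fun x => MonoidHom.toAdditive (act (x : X)).toMonoidHom
      map_one' := by ext v; simp only [Subgroup.coe_one, map_one]; rfl
      map_mul' := fun x y => by ext v; simp only [Subgroup.coe_mul, map_mul]; rfl }
  haveI : IsMulCommutative V := ⟨⟨fun a b => Subtype.ext (hVab a a.2 b b.2)⟩⟩
  letI : CommGroup V := { (inferInstance : Group V) with mul_comm := fun a b => Subtype.ext (hVab a a.2 b b.2) }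
  have hVfix : ∀ a ∈ F, σ' (σ' a) = a := by
    intro a ha
    have := square_trivial (V := Additive V) (p := p)
      (fun v => Additive.toMul.injective (Subtype.ext (by simpa using hexp _ (Additive.toMul v).2)))
      hFco ρ (restrict σ' F hFσ) S (fun v => ?_) (fun x v => ?_) (fun x y h => ?_)
      (restrict_fpf hσ' F hFσ) (restrict_four h4' F hFσ) ⊤
      (Group.nilpotent_of_mulEquiv Subgroup.topEquiv.symm) (fun _ _ => Subgroup.mem_top _)
      ⟨a, ha⟩ (Subgroup.mem_top _)
    · exact congrArg Subtype.val this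
    · refine Additive.toMul.injective (Subtype.ext (hσ _ ?_))
      have hv := iterate_four h4 ((Additive.toMul v : V) : G)
      set w := Additive.toMul v
      show σ ((w : G) * σ w * σ (σ w) * σ (σ (σ w))) = (w : G) * σ w * σ (σ w) * σ (σ (σ w))
      rw [map_mul, map_mul, map_mul, hv]
      have c : ∀ a ∈ V, σ a ∈ V := hVσ
      rw [hVab _ (V.mul_mem (V.mul_mem (c _ w.2) (c _ (c _ w.2))) (c _ (c _ (c _ w.2)))) _ w.2,
        ← mul_assoc, ← mul_assoc]
    · obtain ⟨g, hg⟩ := QuotientGroup.mk'_surjective C (x : X)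
      refine Additive.toMul.injective (Subtype.ext ?_)
      show σ (act (x : X) (Additive.toMul v) : G) = (act (σ' (x : X)) (τ (Additive.toMul v)) : G)
      rw [← hg, QuotientGroup.mk'_apply, quot_mk, hact, hact, map_mul, map_mul, map_inv]
      rfl
    · refine Subtype.ext (mul_inv_eq_one.1 (hfaith _ ?_))
      have e : act (x : X) = act (y : X) := by
        refine MulEquiv.ext fun v => ?_
        exact congrArg (fun f : AddMonoid.End (Additive V) => Additive.toMul (f (Additive.ofMul v))) h
      rw [map_mul, map_inv, e, mul_inv_cancel]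
  -- the square is trivial
  have hsq : ∀ x : X, σ' (σ' x) = x := by
    intro x
    set d := x⁻¹ * σ' (σ' x) with hd
    have hdC : d ∈ Subgroup.centralizer (F : Set X) := by
      rw [Subgroup.mem_centralizer_iff]
      intro f hf
      haveI : F.Normal := Solv.fittingSubgroup_normal
      have h1 : x * f * x⁻¹ ∈ F := ‹F.Normal›.conj_mem f hf x
      have h2 : σ' (σ' x) * f * (σ' (σ' x))⁻¹ = x * f * x⁻¹ := by
        have := hVfix _ h1
        rwa [map_mul, map_mul, map_mul, map_mul, map_inv, map_inv, hVfix f hf] at this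
      rw [hd]
      calc f * (x⁻¹ * σ' (σ' x)) = x⁻¹ * (x * f * x⁻¹) * σ' (σ' x) := by group
        _ = x⁻¹ * (σ' (σ' x) * f * (σ' (σ' x))⁻¹) * σ' (σ' x) := by rw [h2]
        _ = x⁻¹ * σ' (σ' x) * f := by group
    have hdF := Solv.centralizer_fitting_le hXs hdC
    have hdd : σ' (σ' d) = d⁻¹ := by
      rw [hd, map_mul, map_mul, map_inv, map_inv, iterate_four h4', mul_inv_rev, inv_inv]
    have hd2 : d ^ 2 = 1 := by
      rw [hVfix d hdF] at hdd
      rw [pow_two]; nth_rw 1 [hdd]; exact inv_mul_cancel d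
    have := pow_gcd_eq_one.2 ⟨hd2, pow_card_eq_one' (x := d)⟩
    rw [Nat.coprime_two_left.2 (hσ'.odd h4'), pow_one] at this
    exact (inv_mul_eq_one.1 this).symm
  have hXab : ∀ x y : X, x * y = y * x := fun x y => by
    have hx := hσ'.inverted_of_fixed_square (hsq x)
    have hy := hσ'.inverted_of_fixed_square (hsq y)
    have hxy := hσ'.inverted_of_fixed_square (hsq (x * y))
    rw [map_mul, hx, hy] at hxy
    exact inv_injective (hxy.symm.trans (mul_inv_rev y x).symm)
  have hDC : commutator G ≤ C := by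
    rw [commutator_def, Subgroup.commutator_le]
    intro a _ b _
    rw [← QuotientGroup.eq_one_iff, commutatorElement_def]
    show (a : X) * b * (a : X)⁻¹ * (b : X)⁻¹ = 1
    rw [hXab a b]
    group
  -- induction
  have hQ := ih (Nat.card (G ⧸ V)) (Solv.card_quotient_lt V hVne) rfl
    (haveI := hG; Group.isSolvable_of_surjective (QuotientGroup.mk'_surjective V))
    (quot σ V hVσ) (quot_four h4 V hVσ) (quot_fpf hσ V hVσ)
  have hmap : ∀ c ∈ commutator G, (c : G ⧸ V) ∈ commutator (G ⧸ V) := fun c hc => by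
    have hle : (commutator G).map (QuotientGroup.mk' V) ≤ commutator (G ⧸ V) := by
      rw [commutator_def, commutator_def, Subgroup.map_commutator]
      exact Subgroup.commutator_mono le_top le_top
    exact hle (Subgroup.mem_map_of_mem _ hc)
  haveI := hQ
  refine Subgroup.isNilpotent_of_ker_le_center
    (((QuotientGroup.mk' V).comp (commutator G).subtype).codRestrict (commutator (G ⧸ V))
      fun c => hmap c c.2) ?_
  intro c hc
  have hcV : (c : G) ∈ V := (QuotientGroup.eq_one_iff _).1 (congrArg Subtype.val hc)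
  rw [Subgroup.mem_center_iff]
  intro d
  exact Subtype.ext (((hCmem _).1 (hDC d.2) _ hcV).symm)

end Cfsg.Agent.Lead.FpfFour
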