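import Mathlib.GroupTheory.PGroup
import Mathlib.GroupTheory.Commutator.Basic
import Mathlib.GroupTheory.Nilpotent
import Mathlib.Tactic.NoncommRing
import Mathlib.Algebra.Group.End

/-!
Fixed-point-free automorphisms of order four: the local lemmas.
-/

set_option autoImplicit false
set_option linter.style.haveILetI false

open scoped commutatorElement

namespace Cfsg.Agent.Lead.FpfFour

universe u v

/-- An automorphism fixing only the identity. -/
def Fpf {G : Type*} [Group G] (σ : MulAut G) : Prop := ∀ g : G, σ g = g → g = 1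

theorem Fpf.bijective {G : Type*} [Group G] [Finite G] {σ : MulAut G} (h : Fpf σ) :
    Function.Bijective fun x : G => x⁻¹ * σ x := by
  rw [← Finite.injective_iff_bijective]
  intro a b hab
  have hab : a⁻¹ * σ a = b⁻¹ * σ b := hab
  have : σ (b * a⁻¹) = b * a⁻¹ := by
    rw [map_mul, map_inv]
    calc σ b * (σ a)⁻¹ = b * (b⁻¹ * σ b) * (σ a)⁻¹ := by group
      _ = b * (a⁻¹ * σ a) * (σ a)⁻¹ := by rw [hab]
      _ = b * a⁻¹ := by group
  exact (mul_inv_eq_one.1 (h _ this)).symm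

theorem iterate_four {G : Type*} [Group G] {σ : MulAut G} (h : σ ^ 4 = 1) (x : G) :
    σ (σ (σ (σ x))) = x := by
  have := congrArg (fun e : MulAut G => e x) h
  simpa [pow_succ] using this

/-- A fixed-point-free automorphism of order dividing four forces odd order. -/
theorem Fpf.odd {G : Type*} [Group G] [Finite G] {σ : MulAut G} (h : Fpf σ) (h4 : σ ^ 4 = 1) :
    Odd (Nat.card G) := by
  haveI : Fact (Nat.Prime 2) := ⟨Nat.prime_two⟩
  have hp : IsPGroup 2 (Subgroup.zpowers σ) := by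
    obtain ⟨k, -, hk⟩ := (Nat.dvd_prime_pow Nat.prime_two).1
      (orderOf_dvd_of_pow_eq_one (show σ ^ 2 ^ 2 = 1 by norm_num; exact h4))
    exact IsPGroup.of_card (n := k) (by rw [Nat.card_zpowers, hk])
  have hf : MulAction.fixedPoints (Subgroup.zpowers σ) G = {1} := by
    ext g
    constructor
    · exact fun hg => h g (hg ⟨σ, Subgroup.mem_zpowers σ⟩)
    · rintro rfl ⟨a, ha⟩
      exact map_one a
  have := hp.card_modEq_card_fixedPoints G
  rw [hf, Nat.card_coe_set_eq, Set.ncard_singleton] at this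
  exact Nat.odd_iff.2 this

/-- Elements fixed by the square are inverted. -/
theorem Fpf.inverted_of_fixed_square {G : Type*} [Group G] [Finite G] {σ : MulAut G} (h : Fpf σ)
    {c : G} (hc : σ (σ c) = c) : σ c = c⁻¹ := by
  let C : Subgroup G :=
    { carrier := {x | σ (σ x) = x}
      one_mem' := by simp
      mul_mem' := fun {a b} (ha : σ (σ a) = a) (hb : σ (σ b) = b) => by
        show σ (σ (a * b)) = a * b
        rw [map_mul, map_mul, ha, hb]
      inv_mem' := fun {a} (ha : σ (σ a) = a) => by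
        show σ (σ a⁻¹) = a⁻¹
        rw [map_inv, map_inv, ha] }
  have hinj : Function.Injective fun y : C => (⟨(y : G)⁻¹ * σ (y : G), C.mul_mem (C.inv_mem y.2)
      (show σ (σ (σ y)) = σ y by rw [show σ (σ (y : G)) = y from y.2])⟩ : C) := fun a b hab =>
    Subtype.ext (h.bijective.1 (congrArg Subtype.val hab))
  obtain ⟨y, hy⟩ := Finite.injective_iff_surjective.1 hinj ⟨c, hc⟩
  have hy : (y : G)⁻¹ * σ y = c := congrArg Subtype.val hy
  rw [← hy, map_mul, map_inv, show σ (σ (y : G)) = y from y.2, mul_inv_rev, inv_inv]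

/-- The ring computation: units `u` with `(u - 1) ^ 3 = 0` of order prime to `p` in characteristic `p`. -/
theorem eq_one_of_cube {E : Type*} [Ring E] {p n : ℕ} (hpn : p.Coprime n) (hp : (p : E) = 0)
    {u : E} (hu : u ^ n = 1) (h3 : (u - 1) ^ 3 = 0) : u = 1 := by
  set w := u - 1 with hw
  have hu' : u = 1 + w := by rw [hw]; abel
  have key : ∀ m : ℕ, ∃ c : ℕ, u ^ m = 1 + (m : E) * w + (c : E) * w ^ 2 := by
    intro m
    induction m with
    | zero => exact ⟨0, by simp⟩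
    | succ m ih =>
      obtain ⟨c, hc⟩ := ih
      refine ⟨c + m, ?_⟩
      rw [pow_succ, hc, hu']
      have e1 : (c : E) * w ^ 2 * w = 0 := by
        rw [mul_assoc, ← pow_succ, h3, mul_zero]
      have e2 : (m : E) * w * w = (m : E) * w ^ 2 := by rw [mul_assoc, pow_two]
      simp only [mul_add, add_mul, mul_one, one_mul, e1, e2, Nat.cast_add, Nat.cast_one]
      abel
  obtain ⟨c, hc⟩ := key n
  rw [hu, add_assoc, eq_comm, add_eq_left] at hc
  have hn : ∀ x : E, (n : E) * x = 0 → x = 0 := by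
    intro x hx
    have hb := Nat.gcd_eq_gcd_ab p n
    rw [show Nat.gcd p n = 1 from hpn] at hb
    have := congrArg (fun z : ℤ => (z : E) * x) hb
    simp only [Nat.cast_one, Int.cast_one, one_mul, Int.cast_add, Int.cast_mul, Int.cast_natCast, add_mul] at this
    rw [hp, zero_mul, zero_mul, zero_add, (Nat.cast_commute n (_ : E)).eq, mul_assoc, hx, mul_zero] at this
    exact this
  have hw2 : w ^ 2 = 0 := by
    refine hn _ ?_
    have e := congrArg (fun z => z * w) hc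
    simp only [add_mul, zero_mul] at e
    rw [mul_assoc, ← pow_two, mul_assoc, ← pow_succ, h3, mul_zero, add_zero] at e
    exact e
  rw [hw2, mul_zero, add_zero] at hc
  rw [hu', hn w hc, add_zero]

variable {X : Type u} [Group X] [Finite X] {V : Type v} [AddCommGroup V] [Finite V]

/-- Lemma A: inverted abelian subgroups act trivially. -/
theorem trivial_of_abelian {p : ℕ} (hp : ∀ v : V, p • v = 0) (hco : (Nat.card X).Coprime p)
    (ρ : X →* AddMonoid.End V) (σ : MulAut X) (S : AddMonoid.End V)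
    (hS : ∀ v : V, v + S v + S (S v) + S (S (S v)) = 0)
    (hcompat : ∀ (x : X) (v : V), S (ρ x v) = ρ (σ x) (S v))
    (hσ : Fpf σ) (h4 : σ ^ 4 = 1)
    (K : Subgroup X) (hK : ∀ a ∈ K, ∀ b ∈ K, a * b = b * a) (hKσ : ∀ a ∈ K, σ a ∈ K)
    (hinv : ∀ a ∈ K, σ (σ a) = a⁻¹) : ∀ a ∈ K, ρ a = 1 := by
  have hcomm : ∀ a ∈ K, ∀ b ∈ K, Commute (ρ a) (ρ b) := fun a ha b hb => by
    show ρ a * ρ b = ρ b * ρ a
    rw [← map_mul, ← map_mul, hK a ha b hb]
  have hmove : ∀ x : X, S * ρ x = ρ (σ x) * S := fun x => by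
    ext v; exact hcompat x v
  have h0 : ∀ y ∈ K, ρ y * 1 + ρ (σ y) * S + ρ (σ (σ y)) * (S * S) +
      ρ (σ (σ (σ y))) * (S * (S * S)) = 0 := by
    intro y _
    ext v
    have := hS (ρ y v)
    simp only [hcompat] at this
    show ρ y v + ρ (σ y) (S v) + ρ (σ (σ y)) (S (S v)) + ρ (σ (σ (σ y))) (S (S (S v))) = 0
    exact this
  have elim : ∀ D0 D1 D2 D3 : AddMonoid.End V,
      (∀ y ∈ K, ρ y * D0 + ρ (σ y) * D1 + ρ (σ (σ y)) * D2 + ρ (σ (σ (σ y))) * D3 = 0) →
      ∀ z ∈ K, ∀ w ∈ K, ∀ y ∈ K, ρ y * ((ρ z - ρ w) * D0) + ρ (σ y) * ((ρ (σ z) - ρ w) * D1) +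
        ρ (σ (σ y)) * ((ρ (σ (σ z)) - ρ w) * D2) +
        ρ (σ (σ (σ y))) * ((ρ (σ (σ (σ z))) - ρ w) * D3) = 0 := by
    intro D0 D1 D2 D3 h z hz w hw y hy
    have e1 := h (y * z) (K.mul_mem hy hz)
    have e2 := congrArg (fun t => ρ w * t) (h y hy)
    simp only [mul_add, mul_zero, ← mul_assoc] at e2
    rw [(hcomm w hw _ hy).eq, (hcomm w hw _ (hKσ y hy)).eq,
      (hcomm w hw _ (hKσ _ (hKσ y hy))).eq,
      (hcomm w hw _ (hKσ _ (hKσ _ (hKσ y hy)))).eq] at e2
    simp only [map_mul, mul_assoc] at e1 e2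
    simp only [sub_mul, mul_sub]
    refine Eq.trans ?_ (sub_eq_zero.2 (e1.trans e2.symm))
    abel
  have hprod : ∀ z₁ ∈ K, ∀ z₂ ∈ K, ∀ z₃ ∈ K, (ρ z₃ - ρ (σ (σ (σ z₃)))) *
      ((ρ z₂ - ρ (σ (σ z₂))) * (ρ z₁ - ρ (σ z₁))) = 0 := by
    intro z₁ h₁ z₂ h₂ z₃ h₃
    have e := elim _ _ _ _ (elim _ _ _ _ (elim _ _ _ _ h0 z₁ h₁ (σ z₁) (hKσ _ h₁))
      z₂ h₂ (σ (σ z₂)) (hKσ _ (hKσ _ h₂))) z₃ h₃ (σ (σ (σ z₃))) (hKσ _ (hKσ _ (hKσ _ h₃)))
      1 K.one_mem
    simpa using e
  have hu : ∀ z : X, IsUnit (ρ z) := fun z => (Group.isUnit z).map ρ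
  intro a ha
  have hsurj : ∀ f : X →* X, (∀ z ∈ K, f z ∈ K) → (∀ z ∈ K, f z = z → z = 1) →
      ∃ z ∈ K, z⁻¹ * f z = a := by
    intro f hf hfix
    have hinj : Function.Injective fun z : K =>
        (⟨(z : X)⁻¹ * f z, K.mul_mem (K.inv_mem z.2) (hf z z.2)⟩ : K) := by
      intro z w h
      have h : (z : X)⁻¹ * f z = (w : X)⁻¹ * f w := congrArg Subtype.val h
      have hm : (w : X) * (z : X)⁻¹ ∈ K := K.mul_mem w.2 (K.inv_mem z.2)
      have : f ((w : X) * (z : X)⁻¹) = (w : X) * (z : X)⁻¹ := by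
        rw [map_mul, map_inv]
        calc f (w : X) * (f (z : X))⁻¹ = (w : X) * ((w : X)⁻¹ * f w) * (f (z : X))⁻¹ := by group
          _ = (w : X) * ((z : X)⁻¹ * f z) * (f (z : X))⁻¹ := by rw [h]
          _ = (w : X) * (z : X)⁻¹ := by group
      exact Subtype.ext (mul_inv_eq_one.1 (hfix _ hm this)).symm
    obtain ⟨z, hz⟩ := Finite.injective_iff_surjective.1 hinj ⟨a, ha⟩
    exact ⟨z, z.2, congrArg Subtype.val hz⟩
  obtain ⟨z₁, h₁, e₁⟩ := hsurj σ.toMonoidHom hKσ fun z _ h => hσ z h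
  obtain ⟨z₂, h₂, e₂⟩ := hsurj (σ.toMonoidHom.comp σ.toMonoidHom)
    (fun z hz => hKσ _ (hKσ z hz)) fun z hz h => by
      have h2 : z ^ 2 = 1 := by
        have : σ (σ z) = z := h
        rw [hinv z hz] at this
        rw [pow_two]; nth_rw 1 [← this]; exact inv_mul_cancel z
      have := pow_gcd_eq_one.2 ⟨h2, pow_card_eq_one' (x := z)⟩
      rwa [Nat.coprime_two_left.2 (hσ.odd h4), pow_one] at this
  obtain ⟨z₃, h₃, e₃⟩ := hsurj (σ.toMonoidHom.comp (σ.toMonoidHom.comp σ.toMonoidHom))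
    (fun z hz => hKσ _ (hKσ _ (hKσ z hz))) fun z _ h => by
      have h : σ (σ (σ z)) = z := h
      have := congrArg σ h
      rw [iterate_four h4] at this
      exact hσ z this.symm
  have hfac : ∀ z w : X, ρ z - ρ w = ρ z * (1 - ρ (z⁻¹ * w)) := fun z w => by
    rw [mul_sub, mul_one, ← map_mul, mul_inv_cancel_left]
  have e := hprod z₁ h₁ z₂ h₂ z₃ h₃
  rw [hfac z₃, hfac z₂, hfac z₁, show z₁⁻¹ * σ z₁ = a from e₁,
    show z₂⁻¹ * σ (σ z₂) = a from e₂, show z₃⁻¹ * σ (σ (σ z₃)) = a from e₃] at e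
  have c : ∀ z ∈ K, Commute (ρ z) (1 - ρ a) := fun z hz =>
    (Commute.one_right _).sub_right (hcomm z hz a ha)
  have e' : ρ z₃ * (ρ z₂ * ρ z₁) * (1 - ρ a) ^ 3 = 0 := by
    rw [← e]
    simp only [pow_succ, pow_zero, one_mul, mul_assoc, (c z₁ h₁).left_comm, (c z₂ h₂).left_comm]
  rw [((hu z₃).mul ((hu z₂).mul (hu z₁))).mul_right_eq_zero] at e'
  refine eq_one_of_cube (n := Nat.card X) hco.symm ?_ (by rw [← map_pow, pow_card_eq_one', map_one]) ?_
  · ext v
    simpa using hp v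
  · rw [← neg_sub 1 (ρ a), neg_pow, e', mul_zero]

/-- Lemma B: on a nilpotent group the square is trivial modulo the kernel. -/
theorem square_trivial {p : ℕ} (hp : ∀ v : V, p • v = 0) (hco : (Nat.card X).Coprime p)
    (ρ : X →* AddMonoid.End V) (σ : MulAut X) (S : AddMonoid.End V)
    (hS : ∀ v : V, v + S v + S (S v) + S (S (S v)) = 0)
    (hcompat : ∀ (x : X) (v : V), S (ρ x v) = ρ (σ x) (S v))
    (hρ : Function.Injective ρ) (hσ : Fpf σ) (h4 : σ ^ 4 = 1)
    (L : Subgroup X) (hL : Group.IsNilpotent L) (hLσ : ∀ a ∈ L, σ a ∈ L) :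
    ∀ a ∈ L, σ (σ a) = a := by
  by_contra hbad
  obtain ⟨R, ⟨hRL, hRσ, hRbad⟩, hRmin⟩ := Set.Finite.exists_minimal (s := {R : Subgroup X |
    R ≤ L ∧ (∀ a ∈ R, σ a ∈ R) ∧ ¬ ∀ a ∈ R, σ (σ a) = a}) (Set.toFinite _) ⟨L, le_rfl, hLσ, hbad⟩
  have hmin : ∀ M : Subgroup X, M ≤ R → (∀ a ∈ M, σ a ∈ M) → M ≠ R → ∀ a ∈ M, σ (σ a) = a := by
    intro M hM hMσ hne
    by_contra hb
    exact hne (le_antisymm hM (hRmin ⟨hM.trans hRL, hMσ, hb⟩ hM))
  push Not at hRbad
  obtain ⟨y, hy, hyne⟩ := hRbad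
  set x := y⁻¹ * σ (σ y) with hxdef
  have hxR : x ∈ R := R.mul_mem (R.inv_mem hy) (hRσ _ (hRσ y hy))
  have hx : σ (σ x) = x⁻¹ := by
    rw [hxdef, map_mul, map_mul, map_inv, map_inv, iterate_four h4, mul_inv_rev, inv_inv]
  have hx1 : x ≠ 1 := fun e => hyne (inv_mul_eq_one.1 e).symm
  have hu : σ (σ (σ x)) = (σ x)⁻¹ := by rw [hx, map_inv]
  -- the derived subgroup of `R` is fixed by the square
  haveI : Group.IsNilpotent R := by
    haveI := hL
    exact Group.nilpotent_of_mulEquiv (Subgroup.subgroupOfEquivOfLe hRL)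
  haveI : Nontrivial R := ⟨⟨⟨x, hxR⟩, 1, fun e => hx1 (congrArg Subtype.val e)⟩⟩
  have hderlt : ⁅R, R⁆ ≠ R := by
    intro e
    have h := Group.IsSolvable.commutator_lt_top_of_nontrivial R
    refine h.ne (Subgroup.map_injective R.subtype_injective ?_)
    rw [← MonoidHom.range_eq_map, Subgroup.range_subtype, commutator_def, Subgroup.map_commutator,
      ← MonoidHom.range_eq_map, Subgroup.range_subtype, e]
  have hder : ∀ c ∈ ⁅R, R⁆, σ (σ c) = c := by
    refine hmin _ (Subgroup.commutator_le_self R) (fun c hc => ?_) hderlt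
    have hle : ⁅R, R⁆ ≤ ⁅R, R⁆.comap σ.toMonoidHom := Subgroup.commutator_le.2 fun a ha b hb => by
      show σ ⁅a, b⁆ ∈ ⁅R, R⁆
      rw [map_commutatorElement]
      exact Subgroup.commutator_mem_commutator (hRσ a ha) (hRσ b hb)
    exact hle hc
  -- `x` commutes with its image
  have hxu : x * σ x = σ x * x := by
    set c := ⁅x, σ x⁆ with hc
    have hcm : c ∈ ⁅R, R⁆ := Subgroup.commutator_mem_commutator hxR (hRσ x hxR)
    have h1 : σ c = c⁻¹ := hσ.inverted_of_fixed_square (hder c hcm)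
    have h2 : σ c = x⁻¹ * c * x := by
      rw [hc, map_commutatorElement, hx, commutatorElement_def, commutatorElement_def]
      group
    have h3 : x⁻¹ * c * x = c⁻¹ := h2.symm.trans h1
    have h4' : x⁻¹ * c⁻¹ * x = c := by
      have := congrArg (·⁻¹) h3
      simpa [mul_assoc] using this
    have hsq : Commute (x ^ 2) c := by
      show x ^ 2 * c = c * x ^ 2
      calc x ^ 2 * c = x ^ 2 * (x⁻¹ * (x⁻¹ * c * x) * x) := by rw [h3, h4']
        _ = c * x ^ 2 := by simp [pow_two, mul_assoc]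
    obtain ⟨m, hm⟩ : Odd (orderOf x) := Odd.of_dvd_nat (hσ.odd h4) (orderOf_dvd_natCard x)
    have hcom : Commute x c := by
      have := hsq.pow_left (m + 1)
      rwa [← pow_mul, show 2 * (m + 1) = orderOf x + 1 by omega, pow_succ, pow_orderOf_eq_one,
        one_mul] at this
    have hc1 : c = 1 := by
      have e : c⁻¹ = c := by rw [← h3, mul_assoc, ← hcom.eq, inv_mul_cancel_left]
      have h2' : c ^ 2 = 1 := by rw [pow_two]; nth_rw 1 [← e]; exact inv_mul_cancel c
      have := pow_gcd_eq_one.2 ⟨h2', pow_card_eq_one' (x := c)⟩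
      rwa [Nat.coprime_two_left.2 (hσ.odd h4), pow_one] at this
    exact commutatorElement_eq_one_iff_mul_comm.1 hc1
  -- the abelian subgroup generated by `x` and its image
  set K := Subgroup.closure ({x, σ x} : Set X) with hK
  have hKcomm : IsMulCommutative K := Subgroup.isMulCommutative_closure (by
    rintro a (rfl | rfl) b (rfl | rfl)
    · rfl
    · exact hxu
    · exact hxu.symm
    · rfl)
  have hKσ : ∀ a ∈ K, σ a ∈ K := fun a ha => by
    have hle : K ≤ K.comap σ.toMonoidHom := by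
      rw [hK, Subgroup.closure_le]
      rintro b (rfl | rfl)
      · exact Subgroup.subset_closure (Or.inr rfl)
      · show σ (σ x) ∈ Subgroup.closure _
        rw [hx]
        exact Subgroup.inv_mem _ (Subgroup.subset_closure (Or.inl rfl))
    exact hle ha
  have hKinv : ∀ a ∈ K, σ (σ a) = a⁻¹ := by
    intro a ha
    induction ha using Subgroup.closure_induction with
    | mem b hb =>
      rcases hb with rfl | rfl
      · exact hx
      · exact hu
    | one => simp
    | mul b d hb hd eb ed =>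
      rw [map_mul, map_mul, eb, ed, mul_inv_rev]
      exact congrArg Subtype.val (mul_comm' (⟨b⁻¹, K.inv_mem hb⟩ : K) ⟨d⁻¹, K.inv_mem hd⟩)
    | inv b hb eb => rw [map_inv, map_inv, eb]
  have := trivial_of_abelian hp hco ρ σ S hS hcompat hσ h4 K
    (fun a ha b hb => congrArg Subtype.val (mul_comm' (⟨a, ha⟩ : K) ⟨b, hb⟩)) hKσ hKinv x
    (Subgroup.subset_closure (Or.inl rfl))
  exact hx1 (hρ (this.trans (map_one ρ).symm))

end Cfsg.Agent.Lead.FpfFour
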