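import Cfsg.Agent.Lib.Lead.SemiSpec

/-!
A group of order 40 acting without fixed points on the four dimensional space over the field with
three elements.
-/

set_option autoImplicit false

namespace Cfsg.Agent.FpfNine

/-- A four by four array of naturals. -/
abbrev Arr : Type := (ℕ × ℕ × ℕ × ℕ) × (ℕ × ℕ × ℕ × ℕ) × (ℕ × ℕ × ℕ × ℕ) × (ℕ × ℕ × ℕ × ℕ)

/-- Digits in base three. -/
def ofCode (n : ℕ) : Arr :=
  ((n / 3 ^ 0 % 3, n / 3 ^ 1 % 3, n / 3 ^ 2 % 3, n / 3 ^ 3 % 3), (n / 3 ^ 4 % 3, n / 3 ^ 5 % 3, n / 3 ^ 6 % 3, n / 3 ^ 7 % 3), (n / 3 ^ 8 % 3, n / 3 ^ 9 % 3, n / 3 ^ 10 % 3, n / 3 ^ 11 % 3), (n / 3 ^ 12 % 3, n / 3 ^ 13 % 3, n / 3 ^ 14 % 3, n / 3 ^ 15 % 3))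

/-- The matrix of an array. -/
def toMat : Arr → Matrix (Fin 4) (Fin 4) (ZMod 3)
  | ((a00, a01, a02, a03), (a10, a11, a12, a13), (a20, a21, a22, a23), (a30, a31, a32, a33)) => Matrix.of ![![(a00 : ZMod 3), (a01 : ZMod 3), (a02 : ZMod 3), (a03 : ZMod 3)], ![(a10 : ZMod 3), (a11 : ZMod 3), (a12 : ZMod 3), (a13 : ZMod 3)], ![(a20 : ZMod 3), (a21 : ZMod 3), (a22 : ZMod 3), (a23 : ZMod 3)], ![(a30 : ZMod 3), (a31 : ZMod 3), (a32 : ZMod 3), (a33 : ZMod 3)]]

/-- Product of two arrays modulo three. -/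
def mulA : Arr → Arr → Arr
  | ((a00, a01, a02, a03), (a10, a11, a12, a13), (a20, a21, a22, a23), (a30, a31, a32, a33)), ((b00, b01, b02, b03), (b10, b11, b12, b13), (b20, b21, b22, b23), (b30, b31, b32, b33)) =>
    (((a00 * b00 + a01 * b10 + a02 * b20 + a03 * b30) % 3, (a00 * b01 + a01 * b11 + a02 * b21 + a03 * b31) % 3, (a00 * b02 + a01 * b12 + a02 * b22 + a03 * b32) % 3, (a00 * b03 + a01 * b13 + a02 * b23 + a03 * b33) % 3), ((a10 * b00 + a11 * b10 + a12 * b20 + a13 * b30) % 3, (a10 * b01 + a11 * b11 + a12 * b21 + a13 * b31) % 3, (a10 * b02 + a11 * b12 + a12 * b22 + a13 * b32) % 3, (a10 * b03 + a11 * b13 + a12 * b23 + a13 * b33) % 3), ((a20 * b00 + a21 * b10 + a22 * b20 + a23 * b30) % 3, (a20 * b01 + a21 * b11 + a22 * b21 + a23 * b31) % 3, (a20 * b02 + a21 * b12 + a22 * b22 + a23 * b32) % 3, (a20 * b03 + a21 * b13 + a22 * b23 + a23 * b33) % 3), ((a30 * b00 + a31 * b10 + a32 * b20 + a33 * b30) % 3, (a30 * b01 + a31 * b11 + a32 *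 b21 + a33 * b31) % 3, (a30 * b02 + a31 * b12 + a32 * b22 + a33 * b32) % 3, (a30 * b03 + a31 * b13 + a32 * b23 + a33 * b33) % 3))

/-- One plus the array, modulo three. -/
def succA : Arr → Arr
  | ((a00, a01, a02, a03), (a10, a11, a12, a13), (a20, a21, a22, a23), (a30, a31, a32, a33)) => (((1 + a00) % 3, a01 % 3, a02 % 3, a03 % 3), (a10 % 3, (1 + a11) % 3, a12 % 3, a13 % 3), (a20 % 3, a21 % 3, (1 + a22) % 3, a23 % 3), (a30 % 3, a31 % 3, a32 % 3, (1 + a33) % 3))

theorem toMat_mulA (x y : Arr) : toMat (mulA x y) = toMat x * toMat y := by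
  obtain ⟨⟨a00, a01, a02, a03⟩, ⟨a10, a11, a12, a13⟩, ⟨a20, a21, a22, a23⟩, ⟨a30, a31, a32, a33⟩⟩ := x
  obtain ⟨⟨b00, b01, b02, b03⟩, ⟨b10, b11, b12, b13⟩, ⟨b20, b21, b22, b23⟩, ⟨b30, b31, b32, b33⟩⟩ := y
  ext i j
  fin_cases i <;> fin_cases j <;>
    simp [toMat, mulA, Matrix.mul_apply, Fin.sum_univ_four, Nat.cast_add, Nat.cast_mul]

theorem toMat_succA (x : Arr) : toMat (succA x) = 1 + toMat x := by
  obtain ⟨⟨a00, a01, a02, a03⟩, ⟨a10, a11, a12, a13⟩, ⟨a20, a21, a22, a23⟩, ⟨a30, a31, a32, a33⟩⟩ := x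
  ext i j
  fin_cases i <;> fin_cases j <;> simp [toMat, succA, Matrix.add_apply, Nat.cast_add]

/-- Code, code of the inverse, code of the inverse of `x - 1`. -/
def rows : List (ℕ × ℕ × ℕ) := [
  (14408200, 14408200, 0),
  (32200436, 6225776, 5516455),
  (37280358, 552379, 31434538),
  (41801582, 18501557, 13694503),
  (21996843, 19080578, 40989909),
  (3776442, 39441150, 11249092),
  (42654103, 21358049, 13838435),
  (18501557, 41801582, 36460816),
  (15737906, 12717401, 3373542),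
  (35290357, 11087113, 27068106),
  (15048371, 29858356, 29279421),
  (24389789, 33722080, 38620839),
  (23725231, 40835993, 37955555),
  (1104029, 26731026, 24487391),
  (6225776, 32200436, 39842746),
  (22939914, 41096535, 37348114),
  (8779714, 29697778, 27231566),
  (31074949, 42396087, 764092),
  (19813536, 2688663, 15056077),
  (5633594, 27507497, 40283771),
  (28816400, 28816400, 14408200),
  (16367032, 10317028, 2134525),
  (31660243, 21167605, 22592809),
  (10317028, 16367032, 33085447),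
  (21167605, 31660243, 25974739),
  (26731026, 1104029, 20333583),
  (42396087, 31074949, 30265822),
  (2688663, 19813536, 15442243),
  (27507497, 5633594, 8224737),
  (29697778, 8779714, 20745177),
  (21358049, 42654103, 35765517),
  (29858356, 15048371, 1219106),
  (33722080, 24389789, 5082830),
  (40835993, 23725231, 12197469),
  (41096535, 22939914, 12280138),
  (552379, 37280358, 3820480),
  (12717401, 15737906, 30779462),
  (19080578, 21996843, 8581400),
  (39441150, 3776442, 36786988),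
  (11087113, 35290357, 23074010)]

/-- The codes of the group elements. -/
def els : List ℕ := rows.map (·.1)

/-- The unit matrix. -/
def oneA : Arr := ofCode 14408200

/-- Powers of an array. -/
def powA (x : Arr) : ℕ → Arr
  | 0 => oneA
  | m + 1 => mulA (powA x m) x

theorem toMat_oneA : toMat oneA = 1 := by decide +kernel

theorem toMat_powA (x : Arr) (m : ℕ) : toMat (powA x m) = toMat x ^ m := by
  induction m with
  | zero => rw [pow_zero]; exact toMat_oneA
  | succ m ih => rw [powA, toMat_mulA, ih, pow_succ]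

theorem mul_closed : ∀ x ∈ els, ∀ y ∈ els, mulA (ofCode x) (ofCode y) ∈ els.map ofCode := by
  decide +kernel

set_option synthInstance.maxSize 5000 in
set_option synthInstance.maxHeartbeats 400000 in
theorem rows_spec : ∀ r ∈ rows,
    mulA (ofCode r.1) (ofCode r.2.1) = oneA ∧ r.2.1 ∈ els ∧
    (ofCode r.1 ≠ oneA → mulA (ofCode r.2.2) (ofCode r.1) = succA (ofCode r.2.2)) ∧
    (powA (ofCode r.1) 8 = oneA ∨ powA (ofCode r.1) 10 = oneA) := by
  decide +kernel

/-- The group. -/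
def grp : Subgroup (GL (Fin 4) (ZMod 3)) where
  carrier := {g | ∃ a ∈ els, (g : Matrix (Fin 4) (Fin 4) (ZMod 3)) = toMat (ofCode a)}
  mul_mem' {g h} := by
    rintro ⟨a, ha, hg⟩ ⟨b, hb, hh⟩
    obtain ⟨c, hc, e⟩ := List.mem_map.1 (mul_closed a ha b hb)
    exact ⟨c, hc, by rw [Units.val_mul, hg, hh, ← toMat_mulA, e]⟩
  one_mem' := ⟨14408200, by decide +kernel, by rw [Units.val_one]; exact toMat_oneA.symm⟩
  inv_mem' {g} := by
    rintro ⟨a, ha, hg⟩
    obtain ⟨r, hr, rfl⟩ := List.mem_map.1 ha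
    obtain ⟨h1, h2, -, -⟩ := rows_spec r hr
    refine ⟨r.2.1, h2, ?_⟩
    exact Units.inv_eq_of_mul_eq_one_right (by rw [hg, ← toMat_mulA, h1, toMat_oneA])

/-- The space. -/
abbrev Vec : Type := Fin 4 → ZMod 3

instance : DistribMulAction ↥grp Vec where
  smul g v := Matrix.mulVec ((g : GL (Fin 4) (ZMod 3)) : Matrix (Fin 4) (Fin 4) (ZMod 3)) v
  one_smul v := Matrix.one_mulVec v
  mul_smul g h v := (Matrix.mulVec_mulVec v _ _).symm
  smul_zero g := Matrix.mulVec_zero _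
  smul_add g a b := Matrix.mulVec_add _ a b

theorem fpf (g : ↥grp) (hg : g ≠ 1) (v : Vec) (hv : g • v = v) : v = 0 := by
  obtain ⟨a, ha, e⟩ := g.2
  obtain ⟨r, hr, rfl⟩ := List.mem_map.1 ha
  have hne : ofCode r.1 ≠ oneA := fun h => hg (Subtype.ext (Units.ext (by rw [e, h, toMat_oneA]; rfl)))
  have h3 := congrArg toMat ((rows_spec r hr).2.2.1 hne)
  rw [toMat_mulA, toMat_succA] at h3
  have hv' : Matrix.mulVec (toMat (ofCode r.1)) v = v := e ▸ hv
  have h4 := congrArg (fun M => Matrix.mulVec M v) h3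
  simp only [← Matrix.mulVec_mulVec, Matrix.add_mulVec, Matrix.one_mulVec, hv'] at h4
  exact right_eq_add.1 h4

theorem pow_eight_or_ten (g : ↥grp) : g ^ 8 = 1 ∨ g ^ 10 = 1 := by
  obtain ⟨a, ha, e⟩ := g.2
  obtain ⟨r, hr, rfl⟩ := List.mem_map.1 ha
  refine (rows_spec r hr).2.2.2.imp (fun h => ?_) (fun h => ?_) <;>
  · refine Subtype.ext (Units.ext ?_)
    rw [Subgroup.coe_pow, Units.val_pow_eq_pow_val, e, ← toMat_powA, h, toMat_oneA]
    rfl

theorem exists_order (a m : ℕ) (hm : 0 < m) (ha : a ∈ els) (h1 : powA (ofCode a) m = oneA)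
    (h2 : ∀ j < m, 0 < j → toMat (powA (ofCode a) j) ≠ 1) : ∃ g : ↥grp, orderOf g = m := by
  obtain ⟨r, hr, rfl⟩ := List.mem_map.1 ha
  obtain ⟨e1, -, -, -⟩ := rows_spec r hr
  have hi : toMat (ofCode r.1) * toMat (ofCode r.2.1) = 1 := by rw [← toMat_mulA, e1, toMat_oneA]
  let u : GL (Fin 4) (ZMod 3) := ⟨_, _, hi, mul_eq_one_comm.1 hi⟩
  refine ⟨⟨u, r.1, ha, rfl⟩, (orderOf_eq_iff hm).2 ⟨Subtype.ext (Units.ext ?_), fun j hj hj0 h => h2 j hj hj0 ?_⟩⟩
  · rw [Subgroup.coe_pow, Units.val_pow_eq_pow_val]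
    show toMat (ofCode r.1) ^ m = 1
    rw [← toMat_powA, h1, toMat_oneA]
  · have := congrArg (fun g : ↥grp => ((g : GL (Fin 4) (ZMod 3)) : Matrix (Fin 4) (Fin 4) (ZMod 3))) h
    simp only [Subgroup.coe_pow, Units.val_pow_eq_pow_val] at this
    rw [toMat_powA]
    exact this

theorem exists_eight : ∃ g : ↥grp, orderOf g = 8 :=
  exists_order 37280358 8 (by norm_num) (by decide +kernel) (by decide +kernel) (by decide +kernel)

theorem exists_ten : ∃ g : ↥grp, orderOf g = 10 :=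
  exists_order 16367032 10 (by norm_num) (by decide +kernel) (by decide +kernel) (by decide +kernel)

theorem three_nsmul (v : Vec) : 3 • v = 0 := by
  funext i
  show (3 : ℕ) • v i = 0
  rw [nsmul_eq_mul, ZMod.natCast_self, zero_mul]

end Cfsg.Agent.FpfNine
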