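import Cfsg.Prelude.Def_Solvable
import Cfsg.Agent.Lib.Perm.Fpf.Entry
import Cfsg.Agent.Lib.Perm.Fpf.SL25Classes
import Cfsg.Agent.Lib.Solv.Frobenius
import Cfsg.Agent.Lib.Solv.FrobeniusFPF
import Cfsg.Agent.Lib.Solv.ThompsonFPF
import Mathlib.GroupTheory.Sylow
import Mathlib.GroupTheory.Solvable

/-!
Solvability of Frobenius complements read from the number of elements of order three, and
groups with the order type of a Frobenius group.
-/

set_option autoImplicit false
set_option linter.style.haveILetI false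

open scoped Pointwise

namespace Cfsg.Agent.Lead

universe u v

/-- Ten Sylow 3-subgroups of order three do not occur in a solvable group. -/
theorem solvable_sylow_three_ne_ten (n : ℕ) : ∀ (G : Type u) [Group G] [Finite G],
    Nat.card G = n → Group.IsSolvable G → 3 ∣ Nat.card G → ¬ 9 ∣ Nat.card G →
    Nat.card (Sylow 3 G) ≠ 10 := by
  induction n using Nat.strong_induction_on with
  | _ n ih =>
    intro G _ _ hn hsol h3 h9 h10
    haveI : Fact (Nat.Prime 3) := ⟨Nat.prime_three⟩
    haveI := hsol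
    let P : Sylow 3 G := default
    obtain ⟨N, hNn, hNne, r, hr, hNp⟩ :
        ∃ N : Subgroup G, N.Normal ∧ N ≠ ⊥ ∧ ∃ r : ℕ, r.Prime ∧ IsPGroup r N := by
      haveI : Nontrivial G := by
        rw [← Finite.one_lt_card_iff_nontrivial]
        exact lt_of_lt_of_le (by norm_num) (Nat.le_of_dvd Nat.card_pos h3)
      obtain ⟨N, hn1, hn2, hmin⟩ := Solv.exists_minimal_normal (G := G)
      obtain ⟨-, r, hr, -, hp⟩ :=
        Solv.minimal_normal_elementaryAbelian N inferInstance hn2 hmin
      exact ⟨N, hn1, hn2, r, hr, hp⟩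
    haveI := hNn
    haveI := Fact.mk hr
    obtain ⟨a, ha⟩ := IsPGroup.iff_card.1 hNp
    by_cases hr3 : r = 3
    · -- then `N` is the unique Sylow 3-subgroup
      subst hr3
      have hle : ∀ Q : Sylow 3 G, N ≤ (Q : Subgroup G) := fun Q => hNp.le_sylow_of_normal Q
      have hcard : ∀ Q : Sylow 3 G, Nat.card Q = 3 := fun Q => by
        rw [Q.card_eq_multiplicity]
        have h1 : (Nat.card G).factorization 3 = 1 := by
          have hpos := Nat.Prime.factorization_pos_of_dvd Nat.prime_three Nat.card_pos.ne' h3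
          by_contra hne
          exact h9 ((pow_dvd_pow 3 (show 2 ≤ _ by omega)).trans (Nat.ordProj_dvd (Nat.card G) 3))
        rw [h1, pow_one]
      have hN3 : Nat.card N = 3 := by
        have h1 := hcard P
        have h2 : Nat.card N ∣ 3 := h1 ▸ Subgroup.card_dvd_of_le (hle P)
        rcases (Nat.dvd_prime Nat.prime_three).1 h2 with h | h
        · exact absurd (Subgroup.card_eq_one.1 h) hNne
        · exact h
      have heq : ∀ Q : Sylow 3 G, (Q : Subgroup G) = N := fun Q =>
        (Subgroup.eq_of_le_of_card_ge (hle Q) (by rw [hN3]; exact (hcard Q).le)).symm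
      haveI : Subsingleton (Sylow 3 G) := ⟨fun Q R => Sylow.ext ((heq Q).trans (heq R).symm)⟩
      rw [Nat.card_of_subsingleton P] at h10
      omega
    · have hπ := QuotientGroup.mk'_surjective N
      let Pb : Sylow 3 (G ⧸ N) := P.mapSurjective hπ
      have hdvd : Nat.card (Sylow 3 (G ⧸ N)) ∣ 10 := by
        rw [← h10, P.card_eq_index_normalizer, Pb.card_eq_index_normalizer]
        refine dvd_trans ?_ (Subgroup.index_map_dvd (f := QuotientGroup.mk' N)
          (Subgroup.normalizer ((P : Subgroup G) : Set G)) hπ)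
        exact Subgroup.index_dvd_of_le (Subgroup.le_normalizer_map _)
      have hmod : Nat.card (Sylow 3 (G ⧸ N)) ≡ 1 [MOD 3] := card_sylow_modEq_one 3 _
      have hNpos : 0 < Nat.card N := Nat.card_pos
      have hGN := N.card_eq_card_quotient_mul_card_subgroup
      rcases (show Nat.card (Sylow 3 (G ⧸ N)) = 1 ∨ Nat.card (Sylow 3 (G ⧸ N)) = 10 by
        have := Nat.le_of_dvd (by norm_num) hdvd
        unfold Nat.ModEq at hmod
        interval_cases hh : Nat.card (Sylow 3 (G ⧸ N)) <;> omega) with h1 | h1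
      · -- all Sylow 3-subgroups lie in the preimage of the normal one
        haveI : Subsingleton (Sylow 3 (G ⧸ N)) := (Nat.card_eq_one_iff_unique.1 h1).1
        haveI : (Pb : Subgroup (G ⧸ N)).Normal := Sylow.normal_of_subsingleton Pb
        let M := (Pb : Subgroup (G ⧸ N)).comap (QuotientGroup.mk' N)
        haveI : M.Normal := inferInstance
        have hPM : (P : Subgroup G) ≤ M := fun x hx => Subgroup.mem_map_of_mem _ hx
        have hMP : M = (P : Subgroup G) ⊔ N := by
          show ((P : Subgroup G).map (QuotientGroup.mk' N)).comap (QuotientGroup.mk' N) = _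
          rw [Subgroup.comap_map_eq, QuotientGroup.ker_mk']
        have hn10 : Nat.card (Sylow 3 G) ∣ Nat.card N * Nat.card P := by
          have hF : Subgroup.normalizer ((P : Subgroup G) : Set G) ⊔ M = ⊤ :=
            Sylow.normalizer_sup_eq_top' P hPM
          rw [P.card_eq_index_normalizer]
          have : (Subgroup.normalizer ((P : Subgroup G) : Set G)).index ∣ Nat.card M := by
            have e := Solv.card_sup_mul_card_inf M (Subgroup.normalizer ((P : Subgroup G) : Set G))
            rw [sup_comm, hF, Subgroup.card_top,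
              ← Subgroup.index_mul_card (Subgroup.normalizer ((P : Subgroup G) : Set G))] at e
            refine ⟨Nat.card ↥(M ⊓ Subgroup.normalizer ((P : Subgroup G) : Set G)), ?_⟩
            refine Nat.eq_of_mul_eq_mul_right (Nat.card_pos
              (α := ↥(Subgroup.normalizer ((P : Subgroup G) : Set G)))) ?_
            rw [← e]; ring
          refine this.trans ?_
          rw [hMP, sup_comm, ← Solv.card_sup_mul_card_inf N (P : Subgroup G)]
          exact dvd_mul_right _ _
        obtain ⟨b, hb⟩ := IsPGroup.iff_card.1 P.isPGroup'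
        rw [h10, ha, hb] at hn10
        have h2 : 2 ∣ r ^ a * 3 ^ b := dvd_trans (by norm_num) hn10
        have h5 : 5 ∣ r ^ a * 3 ^ b := dvd_trans (by norm_num) hn10
        have e2 : r = 2 := by
          rcases (Nat.Prime.dvd_mul Nat.prime_two).1 h2 with h | h
          · exact ((Nat.prime_dvd_prime_iff_eq Nat.prime_two hr).1
              (Nat.prime_two.dvd_of_dvd_pow h)).symm
          · exact absurd (Nat.prime_two.dvd_of_dvd_pow h) (by norm_num)
        have e5 : r = 5 := by
          have p5 : Nat.Prime 5 := by norm_num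
          rcases p5.dvd_mul.1 h5 with h | h
          · exact ((Nat.prime_dvd_prime_iff_eq p5 hr).1 (p5.dvd_of_dvd_pow h)).symm
          · exact absurd (p5.dvd_of_dvd_pow h) (by norm_num)
        omega
      · have hlt : Nat.card (G ⧸ N) < n := by
          rw [← hn, hGN]
          refine lt_mul_of_one_lt_right Nat.card_pos ?_
          have : Nat.card N ≠ 1 := fun h => hNne (Subgroup.card_eq_one.1 h)
          omega
        refine ih _ hlt (G ⧸ N) rfl inferInstance ?_ ?_ h1
        · have : 3 ∣ Nat.card (G ⧸ N) * r ^ a := by rw [← ha, ← hGN]; exact h3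
          exact (Nat.Coprime.pow_right a ((Nat.coprime_primes Nat.prime_three hr).2
            (Ne.symm hr3))).dvd_of_dvd_mul_right this
        · exact fun h => h9 (h.trans (Subgroup.card_quotient_dvd_card N))

/-- The number of elements of order three in a group with Sylow 3-subgroups of order three. -/
theorem card_three_eq_sylow {G : Type u} [Group G] [Finite G] (h3 : 3 ∣ Nat.card G)
    (h9 : ¬ 9 ∣ Nat.card G) :
    Nat.card {x : G // x ^ 3 = 1 ∧ x ≠ 1} = Nat.card (Sylow 3 G) * 2 := by
  haveI : Fact (Nat.Prime 3) := ⟨Nat.prime_three⟩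
  have h1 : (Nat.card G).factorization 3 = 1 := by
    have hpos := Nat.Prime.factorization_pos_of_dvd Nat.prime_three Nat.card_pos.ne' h3
    by_contra hne
    exact h9 ((pow_dvd_pow 3 (show 2 ≤ _ by omega)).trans (Nat.ordProj_dvd (Nat.card G) 3))
  have hcard : ∀ Q : Sylow 3 G, Nat.card Q = 3 := fun Q => by
    rw [Q.card_eq_multiplicity, h1, pow_one]
  have hb : Function.Bijective (fun z : Σ Q : Sylow 3 G, {y : (Q : Subgroup G) // y ≠ 1} =>
      (⟨(z.2.1 : G), by
        have := pow_card_eq_one' (x := z.2.1)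
        rw [hcard] at this
        exact congrArg Subtype.val this, fun h => z.2.2 (Subtype.ext h)⟩ :
        {x : G // x ^ 3 = 1 ∧ x ≠ 1})) := by
    have hz : ∀ (Q : Sylow 3 G) (x : G), x ∈ (Q : Subgroup G) → x ≠ 1 →
        (Q : Subgroup G) = Subgroup.zpowers x := fun Q x hx hx1 => by
      refine (Subgroup.eq_of_le_of_card_ge (Subgroup.zpowers_le.2 hx) ?_).symm
      rw [Nat.card_zpowers, hcard]
      have hd : orderOf x ∣ 3 := by
        have := orderOf_dvd_natCard (⟨x, hx⟩ : (Q : Subgroup G))
        rw [Subgroup.orderOf_mk, hcard] at this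
        exact this
      rcases (Nat.dvd_prime Nat.prime_three).1 hd with h | h
      · exact absurd (orderOf_eq_one_iff.1 h) hx1
      · exact h.ge
    constructor
    · rintro ⟨Q, ⟨y, hy⟩, hy1⟩ ⟨R, ⟨w, hw⟩, hw1⟩ h
      have hyw : y = w := congrArg Subtype.val h
      subst hyw
      have hne : y ≠ 1 := fun e => hy1 (Subtype.ext e)
      have hQR : Q = R := Sylow.ext ((hz Q y hy hne).trans (hz R y hw hne).symm)
      subst hQR
      rfl
    · rintro ⟨x, hx, hx1⟩
      have ho : orderOf x = 3 := orderOf_eq_prime hx hx1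
      let Q : Sylow 3 G := Sylow.ofCard (Subgroup.zpowers x)
        (by rw [Nat.card_zpowers, ho, h1, pow_one])
      exact ⟨⟨Q, ⟨x, Subgroup.mem_zpowers x⟩, fun e => hx1 (congrArg Subtype.val e)⟩, rfl⟩
  haveI := Fintype.ofFinite (Sylow 3 G)
  classical
  rw [← Nat.card_congr (Equiv.ofBijective _ hb), Nat.card_sigma]
  have h2 : ∀ Q : Sylow 3 G, Nat.card {y : (Q : Subgroup G) // y ≠ 1} = 2 := fun Q => by
    classical
    have e := Nat.card_congr (Equiv.sumCompl (fun y : (Q : Subgroup G) => y = 1))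
    rw [Nat.card_sum, hcard Q] at e
    have e1 : Nat.card {y : (Q : Subgroup G) // y = 1} = 1 := Nat.card_unique
    simp only [ne_eq]
    omega
  rw [Finset.sum_const_nat (m := 2) fun Q _ => h2 Q, Finset.card_univ, Nat.card_eq_fintype_card]

theorem not_solvable_of_twenty {G : Type u} [Group G] [Finite G] (h3 : 3 ∣ Nat.card G)
    (h9 : ¬ 9 ∣ Nat.card G) (h : Nat.card {x : G // x ^ 3 = 1 ∧ x ≠ 1} = 20) :
    ¬ Group.IsSolvable G := fun hs =>
  solvable_sylow_three_ne_ten _ G rfl hs h3 h9 (by rw [card_three_eq_sylow h3 h9] at h; omega)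

open Cfsg.Agent.Perm.Fpf in
theorem twenty_of_fpf_not_solvable {X : Type u} [Group X] [Finite X] (h : HasFpf X)
    (hns : ¬ Group.IsSolvable X) :
    3 ∣ Nat.card X ∧ ¬ 9 ∣ Nat.card X ∧ Nat.card {x : X // x ^ 3 = 1 ∧ x ≠ 1} = 20 := by
  obtain ⟨G₀, hn, hidx, S, M, hSM, hdis, hcomm, ⟨e⟩, -, hco⟩ := h.nonsolvable_structure hns
  have hS : Nat.card S = 120 := (Nat.card_congr e.toEquiv).trans SL25.card_SL
  have hle : ∀ x ∈ S ⊔ M, ∃ s ∈ S, ∃ m ∈ M, s * m = x := fun x hx => by
    have hnorm : S ≤ Subgroup.normalizer (M : Set X) := fun s hs =>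
      Subgroup.centralizer_le_normalizer _ (Subgroup.mem_centralizer_iff.2 fun m hm =>
        (hcomm s hs m hm).symm)
    rw [← SetLike.mem_coe, Subgroup.coe_mul_of_left_le_normalizer_right S M hnorm] at hx
    exact hx
  have hG₀ : Nat.card G₀ = 120 * Nat.card M := by
    rw [← hSM, ← hS, ← Nat.card_prod]
    refine (Nat.card_congr (Equiv.ofBijective
      (fun p : ↥S × ↥M => (⟨(p.1 : X) * p.2, Subgroup.mul_mem_sup p.1.2 p.2.2⟩ : ↥(S ⊔ M)))
      ⟨fun a b hab => Subgroup.mul_injective_of_disjoint (disjoint_iff.2 hdis)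
        (congrArg Subtype.val hab), fun ⟨x, hx⟩ => ?_⟩)).symm
    obtain ⟨s, hs, m, hm, rfl⟩ := hle x hx
    exact ⟨(⟨s, hs⟩, ⟨m, hm⟩), rfl⟩
  have hX : Nat.card X = G₀.index * (120 * Nat.card M) := by
    rw [← hG₀, mul_comm, Subgroup.card_mul_index]
  have hM3 : (Nat.card M).Coprime 3 := hco.coprime_dvd_right (by norm_num)
  refine ⟨?_, ?_, ?_⟩
  · rw [hX]; exact dvd_mul_of_dvd_right (dvd_mul_of_dvd_left (by norm_num) _) _
  · rw [hX]
    intro h9
    have h40 : 3 ∣ G₀.index * 40 * Nat.card M := by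
      obtain ⟨c, hc⟩ := h9
      exact ⟨c, by nlinarith⟩
    rcases (Nat.Prime.dvd_mul Nat.prime_three).1 h40 with h | h
    · rcases hidx with e | e <;> rw [e] at h <;> norm_num at h
    · exact Nat.not_coprime_of_dvd_of_dvd (by norm_num) h (dvd_refl 3) hM3
  · rw [← SL25.card_three e]
    refine (Nat.card_eq_of_bijective (fun y : {y : S // y ^ 3 = 1 ∧ y ≠ 1} =>
      (⟨(y.1 : X), congrArg Subtype.val y.2.1, fun h => y.2.2 (Subtype.ext h)⟩ :
        {x : X // x ^ 3 = 1 ∧ x ≠ 1})) ⟨fun a b hab => ?_, ?_⟩).symm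
    · exact Subtype.ext (Subtype.ext (congrArg (fun z : {x : X // x ^ 3 = 1 ∧ x ≠ 1} => z.1) hab))
    rintro ⟨x, hx, hx1⟩
    have hxG : x ∈ S ⊔ M := by
      rw [hSM]
      rcases hidx with e | e
      · rw [Subgroup.index_eq_one] at e; rw [e]; trivial
      · have h2 : x ^ 2 ∈ G₀ := by
          have := Subgroup.pow_index_mem G₀ x
          rwa [e] at this
        have := G₀.inv_mem h2
        rwa [show (x ^ 2)⁻¹ = x from by
          rw [inv_eq_iff_mul_eq_one, ← pow_succ]; exact hx] at this
    obtain ⟨s, hs, m, hm, rfl⟩ := hle x hxG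
    have hc : Commute s m := hcomm s hs m hm
    rw [hc.mul_pow] at hx
    have hm3 : m ^ 3 = 1 := by
      have : m ^ 3 ∈ S ⊓ M :=
        ⟨by rw [eq_inv_of_mul_eq_one_right hx]; exact S.inv_mem (S.pow_mem hs 3), M.pow_mem hm 3⟩
      rwa [hdis, Subgroup.mem_bot] at this
    have hm1 : m = 1 := by
      have := pow_card_eq_one' (x := (⟨m, hm⟩ : M))
      have hm' : m ^ Nat.card M = 1 := congrArg Subtype.val this
      have hg := pow_gcd_eq_one.2 ⟨hm', hm3⟩
      rwa [hM3, pow_one] at hg
    subst hm1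
    rw [mul_one] at hx1
    rw [one_pow, mul_one] at hx
    exact ⟨⟨⟨s, hs⟩, Subtype.ext hx, fun e => hx1 (congrArg Subtype.val e)⟩,
      Subtype.ext (mul_one s).symm⟩

end Cfsg.Agent.Lead
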