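import Cfsg.Agent.Lib.Lead.FrobType
import Cfsg.Agent.Lib.Solv.FrobeniusConj
import Mathlib.GroupTheory.SchurZassenhaus

/-!
A group with the element orders of a Frobenius group is a Frobenius group.
-/

set_option autoImplicit false
set_option linter.style.haveILetI false

open scoped Pointwise

namespace Cfsg.Agent.Lead

universe u v

variable {G : Type u} [Group G] [Finite G]

/-- In a Frobenius group every element lies in the kernel or in a conjugate of the complement. -/
theorem frob_mem_or_conj {H N : Subgroup G} (hN : (N : Set G) = Cfsg.frobeniusKernel H)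
    (x : G) : x ∈ N ∨ ∃ g : G, g⁻¹ * x * g ∈ H := by
  by_cases hx : x ∈ N
  · exact Or.inl hx
  · have : x ∉ Cfsg.frobeniusKernel H := fun h => hx (by rwa [← SetLike.mem_coe, hN])
    simp only [Cfsg.frobeniusKernel, Set.mem_setOf_eq, not_or, not_forall, not_not] at this
    obtain ⟨-, g, hg⟩ := this
    exact Or.inr ⟨g, Solv.mem_conj_smul.1 hg⟩

/-- Elements of order three of a Frobenius group with kernel of order prime to three. -/
theorem frob_card_three {H N : Subgroup G} (hH : Cfsg.IsFrobeniusComplement H) [N.Normal]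
    (hN : (N : Set G) = Cfsg.frobeniusKernel H) (hc : Subgroup.IsComplement' N H)
    (h3 : ¬ 3 ∣ Nat.card N) :
    Nat.card {x : G // x ^ 3 = 1 ∧ x ≠ 1} =
      Nat.card N * Nat.card {x : H // x ^ 3 = 1 ∧ x ≠ 1} := by
  rw [← Nat.card_prod]
  refine (Nat.card_eq_of_bijective (fun p : N × {x : H // x ^ 3 = 1 ∧ x ≠ 1} =>
    (⟨(p.1 : G) * (p.2.1 : G) * (p.1 : G)⁻¹, by
      rw [conj_pow, show ((p.2.1 : G)) ^ 3 = 1 from congrArg Subtype.val p.2.2.1, mul_one,
        mul_inv_cancel], fun h => p.2.2.2 (Subtype.ext (conj_eq_one_iff.1 h))⟩ :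
      {x : G // x ^ 3 = 1 ∧ x ≠ 1})) ⟨?_, ?_⟩).symm
  · rintro ⟨n, ⟨h, hh3, hh1⟩⟩ ⟨n', ⟨h', hh3', hh1'⟩⟩ e
    have e' : (n : G) * (h : G) * (n : G)⁻¹ = (n' : G) * (h' : G) * (n' : G)⁻¹ :=
      congrArg Subtype.val e
    have hne : (n : G) * (h : G) * (n : G)⁻¹ ≠ 1 := fun e1 =>
      hh1 (Subtype.ext (conj_eq_one_iff.1 e1))
    have hm := Solv.frob_conj_mem hH hne (a := (n : G)) (b := (n' : G))
      (Solv.mem_conj_smul.2 (by simpa [mul_assoc] using h.2))
      (Solv.mem_conj_smul.2 (by rw [e']; simpa [mul_assoc] using h'.2))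
    have hb : (n : G)⁻¹ * n' = 1 := by
      rw [← Subgroup.mem_bot, ← hc.disjoint.eq_bot]
      exact ⟨N.mul_mem (N.inv_mem n.2) n'.2, hm⟩
    have hnn : n = n' := Subtype.ext (inv_mul_eq_one.1 hb)
    subst hnn
    have hhh : h = h' := Subtype.ext (mul_left_cancel (mul_right_cancel e'))
    subst hhh
    rfl
  · rintro ⟨x, hx3, hx1⟩
    rcases frob_mem_or_conj hN x with hx | ⟨g, hg⟩
    · refine absurd ?_ h3
      have := orderOf_dvd_natCard (⟨x, hx⟩ : N)
      rwa [Subgroup.orderOf_mk, orderOf_eq_prime hx3 hx1] at this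
    · obtain ⟨n, hn, h, hh, hgd⟩ : ∃ n ∈ N, ∃ h ∈ H, n * h = g := by
        obtain ⟨⟨n, h⟩, e⟩ := (hc.2 g)
        exact ⟨n, n.2, h, h.2, e⟩
      have hy : n⁻¹ * x * n ∈ H := by
        have := H.mul_mem (H.mul_mem hh hg) (H.inv_mem hh)
        rw [← hgd] at this
        simpa [mul_assoc] using this
      refine ⟨(⟨n, hn⟩, ⟨⟨n⁻¹ * x * n, hy⟩, Subtype.ext ?_, fun e => hx1 ?_⟩),
        Subtype.ext (by simp [mul_assoc])⟩
      · show (n⁻¹ * x * n) ^ 3 = 1
        have : n⁻¹ * x * n = n⁻¹ * x * n⁻¹⁻¹ := by rw [inv_inv]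
        rw [this, conj_pow, hx3, mul_one, mul_inv_cancel]
      · have e2 : n⁻¹ * x * n⁻¹⁻¹ = 1 := by rw [inv_inv]; exact congrArg Subtype.val e
        exact conj_eq_one_iff.1 e2

/-- A normal Sylow family: if there are exactly `|G|_p` solutions of `x ^ |G|_p = 1` then the Sylow
`p`-subgroup is their set. -/
theorem sylow_eq_of_count (p : ℕ) [Fact p.Prime] (P : Sylow p G)
    (h : Nat.card {x : G // x ^ Nat.card P = 1} ≤ Nat.card P) :
    (P : Set G) = {x : G | x ^ Nat.card P = 1} :=
  Set.eq_of_subset_of_ncard_le (fun x hx => congrArg Subtype.val (pow_card_eq_one' (x := (⟨x, hx⟩ : P))))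
    (by rw [← Nat.card_coe_set_eq, ← Nat.card_coe_set_eq]; exact h) (Set.toFinite _)

end Cfsg.Agent.Lead

namespace Cfsg.Agent.Lead

variable {F G : Type*} [Group F] [Finite F] [Group G] [Finite G]

/-- Subgroups generated by normal subgroups of prime power order have the product order. -/
theorem finset_sup_sylow_card_dvd (s : Finset ℕ) (A : ℕ → Subgroup G) (hA : ∀ p ∈ s, (A p).Normal) :
    (s.sup A).Normal ∧ Nat.card (s.sup A : Subgroup G) ∣ ∏ p ∈ s, Nat.card (A p) := by
  classical
  induction s using Finset.induction_on with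
  | empty => exact ⟨by rw [Finset.sup_empty]; infer_instance, by simp⟩
  | insert q t hq ih =>
    obtain ⟨h1, h2⟩ := ih fun p hp => hA p (Finset.mem_insert_of_mem hp)
    haveI := hA q (Finset.mem_insert_self _ _)
    haveI := h1
    refine ⟨by rw [Finset.sup_insert]; exact inferInstance, ?_⟩
    rw [Finset.sup_insert, Finset.prod_insert hq]
    exact (dvd_mul_right _ (Nat.card ↥(A q ⊓ t.sup A))).trans
      ((Solv.card_sup_mul_card_inf (A q) (t.sup A)).symm ▸ mul_dvd_mul_left _ h2)

/-- A Frobenius kernel is solvable. -/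
theorem frob_kernel_solvable {X : Type*} [Group X] [Finite X] {D M : Subgroup X} [M.Normal]
    (hD : Cfsg.IsFrobeniusComplement D) (hMD : Subgroup.IsComplement' M D) :
    Group.IsSolvable M := by
  obtain ⟨r, hr, hrd⟩ := Nat.exists_prime_and_dvd (n := Nat.card D)
    (fun h => hD.1 (Subgroup.card_eq_one.1 h))
  haveI := Fact.mk hr
  obtain ⟨⟨x, hxC⟩, hx⟩ := exists_prime_orderOf_dvd_card' (G := D) r hrd
  rw [Subgroup.orderOf_mk] at hx
  have hx1 : x ≠ 1 := fun e => by rw [e, orderOf_one] at hx; exact hr.ne_one hx.symm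
  haveI := Solv.fpf_nilpotent M x hr (by rw [← hx, pow_orderOf_eq_one])
    (by rw [Subgroup.normalizer_eq_top]; trivial)
    (Solv.frob_fpf hD hMD.disjoint.eq_bot hxC hx1)
  infer_instance

/-- The main theorem. -/
theorem frobenius_of_order_type (e : F ≃ G) (he : ∀ x, orderOf (e x) = orderOf x)
    (C : Subgroup F) (hC : Cfsg.IsFrobeniusComplement C) :
    (∃ H : Subgroup G, Cfsg.IsFrobeniusComplement H) ∧
      (Group.IsSolvable G ↔ Group.IsSolvable F) := by
  classical
  obtain ⟨K, hK, hKn, hKc⟩ := Solv.frobenius_theorem hC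
  haveI := hKn
  set k := Nat.card K with hk
  have hidx : C.index = k := (hKc.index_eq_card (H := K))
  have hco : (Nat.card C).Coprime k := hidx ▸ Solv.frob_coprime hC
  have hFcard : Nat.card F = k * Nat.card C := (hKc.card_mul).symm
  have hGF : Nat.card G = Nat.card F := (Nat.card_congr e).symm
  have hmemK : ∀ x : F, x ∈ K ↔ x ^ k = 1 := fun x => by
    refine ⟨fun hx => congrArg Subtype.val (pow_card_eq_one' (x := (⟨x, hx⟩ : K))), fun hx => ?_⟩
    rcases frob_mem_or_conj hK x with h | ⟨g, hg⟩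
    · exact h
    · have h1 : (g⁻¹ * x * g) ^ k = 1 := by
        rw [show g⁻¹ * x * g = g⁻¹ * x * g⁻¹⁻¹ by rw [inv_inv], conj_pow, hx, mul_one,
          mul_inv_cancel]
      have h2 : (g⁻¹ * x * g) ^ Nat.card C = 1 :=
        congrArg Subtype.val (pow_card_eq_one' (x := (⟨_, hg⟩ : C)))
      have h3 := pow_gcd_eq_one.2 ⟨h2, h1⟩
      rw [hco, pow_one] at h3
      have : x = 1 := by
        have e3 : g⁻¹ * x * g⁻¹⁻¹ = 1 := by rw [inv_inv]; exact h3
        exact conj_eq_one_iff.1 e3
      rw [this]; exact K.one_mem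
  have hdich : ∀ y : G, orderOf y ∣ k ∨ (orderOf y).Coprime k := fun y => by
    obtain ⟨x, rfl⟩ := e.surjective y
    rw [he]
    rcases frob_mem_or_conj hK x with h | ⟨g, hg⟩
    · exact Or.inl (orderOf_dvd_of_pow_eq_one ((hmemK x).1 h))
    · refine Or.inr (Nat.Coprime.coprime_dvd_left ?_ hco)
      refine orderOf_dvd_of_pow_eq_one ((conj_eq_one_iff (a := g⁻¹)).1 ?_)
      rw [← conj_pow, inv_inv]
      exact congrArg Subtype.val (pow_card_eq_one' (x := (⟨_, hg⟩ : C)))
  have hsol : ∀ m, Nat.card {y : G // y ^ m = 1} = Nat.card {x : F // x ^ m = 1} := fun m =>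
    (Nat.card_congr (e.subtypeEquiv fun x => by
      simp only [← orderOf_dvd_iff_pow_eq_one, he])).symm
  -- the kernel of `G`
  have hk0 : k ≠ 0 := Nat.card_pos.ne'
  let A : ℕ → Subgroup G := fun p =>
    if hp : p.Prime then (haveI := Fact.mk hp; ((default : Sylow p G) : Subgroup G)) else ⊥
  have hAcard : ∀ p ∈ k.primeFactors, Nat.card (A p) = p ^ k.factorization p ∧ (A p).Normal := by
    intro p hp
    obtain ⟨hpp, hpd, -⟩ := Nat.mem_primeFactors.1 hp
    haveI := Fact.mk hpp
    have hA : A p = ((default : Sylow p G) : Subgroup G) := by simp [A, hpp]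
    have hc : Nat.card (default : Sylow p G) = p ^ k.factorization p := by
      rw [Sylow.card_eq_multiplicity, hGF, hFcard,
        Nat.factorization_mul hk0 Nat.card_pos.ne', Finsupp.add_apply,
        Nat.factorization_eq_zero_of_not_dvd (fun h =>
          Nat.not_coprime_of_dvd_of_dvd hpp.one_lt h hpd hco), add_zero]
    refine ⟨by rw [hA]; exact hc, ?_⟩
    let PK : Sylow p K := default
    have hPK : Nat.card PK = p ^ k.factorization p := PK.card_eq_multiplicity
    haveI hPn : (PK : Subgroup K).Normal := by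
      obtain ⟨r, hr, hrd⟩ := Nat.exists_prime_and_dvd (n := Nat.card C)
        (fun h => hC.1 (Subgroup.card_eq_one.1 h))
      haveI := Fact.mk hr
      obtain ⟨⟨x, hxC⟩, hx⟩ := exists_prime_orderOf_dvd_card' (G := C) r hrd
      rw [Subgroup.orderOf_mk] at hx
      have hx1 : x ≠ 1 := fun e => by rw [e, orderOf_one] at hx; exact hr.ne_one hx.symm
      haveI := Solv.fpf_nilpotent K x hr (by rw [← hx, pow_orderOf_eq_one])
        (by rw [Subgroup.normalizer_eq_top]; trivial)
        (Solv.frob_fpf hC hKc.disjoint.eq_bot hxC hx1)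
      infer_instance
    -- all `p`-power solutions in `F` lie in the Sylow subgroup of `K`
    have hcount : Nat.card {x : G // x ^ Nat.card (default : Sylow p G) = 1} ≤
        Nat.card (default : Sylow p G) := by
      rw [hsol, hc, ← hPK]
      refine Nat.card_le_card_of_injective (fun x : {x : F // x ^ Nat.card PK = 1} =>
        (⟨⟨x.1, (hmemK x.1).2 ?_⟩, ?_⟩ : PK)) fun a b h => ?_
      · have hd : Nat.card PK ∣ k := Subgroup.card_subgroup_dvd_card _
        exact orderOf_dvd_iff_pow_eq_one.1 ((orderOf_dvd_of_pow_eq_one x.2).trans hd)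
      · obtain ⟨j, hj⟩ := IsPGroup.iff_card.1 PK.isPGroup'
        have hp' : IsPGroup p (Subgroup.zpowers
            (⟨x.1, (hmemK x.1).2 (orderOf_dvd_iff_pow_eq_one.1
              ((orderOf_dvd_of_pow_eq_one x.2).trans (Subgroup.card_subgroup_dvd_card _)))⟩ : K)) := by
          obtain ⟨i, -, hi⟩ := (Nat.dvd_prime_pow hpp).1
            (show orderOf x.1 ∣ p ^ j by rw [← hj]; exact orderOf_dvd_of_pow_eq_one x.2)
          exact IsPGroup.of_card (n := i) (by rw [Nat.card_zpowers, Subgroup.orderOf_mk, hi])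
        have hle := PK.is_maximal' (hp'.to_sup_of_normal_right PK.isPGroup') le_sup_right
        exact (SetLike.ext_iff.1 hle _).1 (Subgroup.mem_sup_left (Subgroup.mem_zpowers _))
      · exact Subtype.ext (congrArg (fun z : PK => ((z : K) : F)) h)
    have hset := sylow_eq_of_count p (default : Sylow p G) hcount
    rw [hA]
    exact ⟨fun y hy g => by
      have hy' : y ^ Nat.card (default : Sylow p G) = 1 := (Set.ext_iff.1 hset y).1 hy
      refine (Set.ext_iff.1 hset _).2 ?_
      show (g * y * g⁻¹) ^ _ = 1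
      rw [conj_pow, hy', mul_one, mul_inv_cancel]⟩
  set N := k.primeFactors.sup A with hN
  obtain ⟨hNn, hNd⟩ := finset_sup_sylow_card_dvd k.primeFactors A fun p hp => (hAcard p hp).2
  haveI := hNn
  have hprod : ∏ p ∈ k.primeFactors, Nat.card (A p) = k := by
    rw [Finset.prod_congr rfl fun p hp => (hAcard p hp).1]
    exact Nat.factorization_prod_pow_eq_self hk0
  have hNk : Nat.card N = k := by
    refine Nat.dvd_antisymm (hprod ▸ hNd) ?_
    rw [Nat.dvd_iff_prime_pow_dvd_dvd]
    intro p i hp hpi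
    rcases Nat.eq_zero_or_pos i with rfl | hi
    · simp
    have hpk : p ∈ k.primeFactors :=
      Nat.mem_primeFactors.2 ⟨hp, (dvd_pow_self p hi.ne').trans hpi, hk0⟩
    have : A p ≤ N := Finset.le_sup hpk
    refine dvd_trans ?_ (Subgroup.card_dvd_of_le this)
    rw [(hAcard p hpk).1]
    exact Nat.pow_dvd_pow p ((hp.pow_dvd_iff_le_factorization hk0).1 hpi)
  have hmemN : ∀ y : G, y ∈ N ↔ y ^ k = 1 := by
    have hsub : (N : Set G) ⊆ {y | y ^ k = 1} := fun y hy => by
      have := congrArg Subtype.val (pow_card_eq_one' (x := (⟨y, hy⟩ : N)))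
      rwa [hNk] at this
    have hle : Nat.card {y : G // y ^ k = 1} ≤ Nat.card N := by
      rw [hsol, hNk, hk]
      exact Nat.card_le_card_of_injective (fun x => (⟨x.1, (hmemK x.1).2 x.2⟩ : K))
        fun a b h => Subtype.ext (congrArg (fun z : K => (z : F)) h)
    have := Set.eq_of_subset_of_ncard_le hsub
      (by rw [← Nat.card_coe_set_eq, ← Nat.card_coe_set_eq]; exact hle) (Set.toFinite _)
    exact fun y => Set.ext_iff.1 this y
  have hNidx : N.index = Nat.card C := by
    have := N.card_mul_index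
    rw [hNk, hGF, hFcard] at this
    exact Nat.eq_of_mul_eq_mul_left (Nat.pos_of_ne_zero hk0) this
  obtain ⟨H, hH⟩ := Subgroup.exists_right_complement'_of_coprime (N := N)
    (by rw [hNk, hNidx]; exact hco.symm)
  have hHcard : Nat.card H = Nat.card C := (hH.symm.index_eq_card).symm.trans hNidx
  have hHfrob : Cfsg.IsFrobeniusComplement H := by
    refine ⟨fun h => hC.1 (Subgroup.card_eq_one.1 (by rw [← hHcard, h, Subgroup.card_bot])), fun h => ?_, fun g hg => ?_⟩
    · have : k = 1 := by
        have e1 := hH.card_mul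
        rw [h, Subgroup.card_top, hNk] at e1
        exact Nat.eq_of_mul_eq_mul_right Nat.card_pos (e1.trans (one_mul _).symm)
      exact hC.2.1 (Subgroup.index_eq_one.1 (hidx.trans this))
    · rw [eq_bot_iff]
      rintro x ⟨hxH, hxg⟩
      rw [Subgroup.mem_bot]
      by_contra hx1
      obtain ⟨⟨n, h⟩, hgd⟩ := hH.2 g
      have hgd : (n : G) * h = g := hgd
      have hn1 : (n : G) ≠ 1 := fun e1 => hg (by rw [← hgd, e1, one_mul]; exact h.2)
      have hy : (n : G)⁻¹ * x * n ∈ H := by
        have := H.mul_mem (H.mul_mem h.2 (Solv.mem_conj_smul.1 hxg)) (H.inv_mem h.2)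
        rw [← hgd] at this
        simpa [mul_assoc] using this
      have heq : (n : G)⁻¹ * x * n = x := by
        have h1 : x⁻¹ * ((n : G)⁻¹ * x * n) ∈ N ⊓ H := by
          refine ⟨?_, H.mul_mem (H.inv_mem hxH) hy⟩
          have := N.mul_mem (hNn.conj_mem _ (N.inv_mem n.2) x⁻¹) n.2
          simpa [mul_assoc] using this
        rw [hH.disjoint.eq_bot, Subgroup.mem_bot] at h1
        exact (inv_mul_eq_one.1 h1).symm
      have hcomm : Commute (n : G) x := by
        show (n : G) * x = x * n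
        have := congrArg ((n : G) * ·) heq
        simp [mul_assoc] at this
        exact this.symm
      have hcoH : (orderOf (n : G)).Coprime (orderOf x) := by
        refine Nat.Coprime.coprime_dvd_left (orderOf_dvd_of_pow_eq_one ((hmemN _).1 n.2)) ?_
        refine hco.symm.coprime_dvd_right ?_
        rw [← hHcard]
        have := orderOf_dvd_natCard (⟨x, hxH⟩ : H)
        rwa [Subgroup.orderOf_mk] at this
      have ho := hcomm.orderOf_mul_eq_mul_orderOf_of_coprime hcoH
      rcases hdich ((n : G) * x) with hd | hd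
      · rw [ho] at hd
        have h1 : orderOf x ∣ k := (dvd_mul_left _ _).trans hd
        have : x ∈ N ⊓ H := ⟨(hmemN x).2 (orderOf_dvd_iff_pow_eq_one.1 h1), hxH⟩
        rw [hH.disjoint.eq_bot] at this
        exact hx1 this
      · rw [ho] at hd
        have h1 := Nat.Coprime.coprime_dvd_left (dvd_mul_right _ _) hd
        exact hn1 (orderOf_eq_one_iff.1 (Nat.eq_one_of_dvd_coprimes h1 dvd_rfl
          (orderOf_dvd_of_pow_eq_one ((hmemN _).1 n.2))))
  refine ⟨⟨H, hHfrob⟩, ?_⟩
  -- solvability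
  have hNker : (N : Set G) = Cfsg.frobeniusKernel H := by
    obtain ⟨N', hN', hN'n, hN'c⟩ := Solv.frobenius_theorem hHfrob
    have hle : N ≤ N' := fun y hy => by
      rcases frob_mem_or_conj hN' y with h | ⟨g, hg⟩
      · exact h
      · have h1 : g⁻¹ * y * g ∈ N ⊓ H := ⟨by simpa using hNn.conj_mem y hy g⁻¹, hg⟩
        rw [hH.disjoint.eq_bot, Subgroup.mem_bot] at h1
        have : y = 1 := by
          have e3 : g⁻¹ * y * g⁻¹⁻¹ = 1 := by rw [inv_inv]; exact h1
          exact conj_eq_one_iff.1 e3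
        rw [this]; exact N'.one_mem
    have : N = N' := Subgroup.eq_of_le_of_card_ge hle
      (by rw [← hN'c.index_eq_card, hH.index_eq_card])
    rw [this, hN']
  have hiffF : Group.IsSolvable F ↔ Group.IsSolvable C := by
    refine ⟨fun h => inferInstance, fun h => ?_⟩
    haveI := h
    haveI := frob_kernel_solvable hC hKc
    haveI : Group.IsSolvable (F ⧸ K) :=
      Group.isSolvable_of_surjective (f := (Subgroup.IsComplement'.QuotientMulEquiv hKc.symm).symm.toMonoidHom)
        (MulEquiv.surjective _)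
    exact solvable_of_ker_le_range K.subtype (QuotientGroup.mk' K)
      (by rw [QuotientGroup.ker_mk', Subgroup.range_subtype])
  have hiffG : Group.IsSolvable G ↔ Group.IsSolvable H := by
    refine ⟨fun h => inferInstance, fun h => ?_⟩
    haveI := h
    haveI := frob_kernel_solvable hHfrob hH
    haveI : Group.IsSolvable (G ⧸ N) :=
      Group.isSolvable_of_surjective (f := (Subgroup.IsComplement'.QuotientMulEquiv hH.symm).symm.toMonoidHom)
        (MulEquiv.surjective _)
    exact solvable_of_ker_le_range N.subtype (QuotientGroup.mk' N)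
      (by rw [QuotientGroup.ker_mk', Subgroup.range_subtype])
  rw [hiffF, hiffG]
  have hcount3 : 3 ∣ Nat.card C →
      Nat.card {x : H // x ^ 3 = 1 ∧ x ≠ 1} = Nat.card {x : C // x ^ 3 = 1 ∧ x ≠ 1} := by
    intro h3
    have h3k : ¬ 3 ∣ k := fun h => Nat.not_coprime_of_dvd_of_dvd (by norm_num) h3 h hco
    have h1 := frob_card_three hC hK hKc h3k
    have h2 := frob_card_three hHfrob hNker hH (by rwa [hNk])
    have h12 : Nat.card {x : G // x ^ 3 = 1 ∧ x ≠ 1} = Nat.card {x : F // x ^ 3 = 1 ∧ x ≠ 1} :=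
      (Nat.card_congr (e.subtypeEquiv fun x => and_congr
        (by rw [← orderOf_dvd_iff_pow_eq_one, ← orderOf_dvd_iff_pow_eq_one, he])
        (not_congr (orderOf_eq_one_iff.symm.trans ((he x).symm ▸ orderOf_eq_one_iff))))).symm
    rw [h1, h2, hNk] at h12
    exact Nat.eq_of_mul_eq_mul_left (Nat.pos_of_ne_zero hk0) h12
  refine ⟨fun hH' => ?_, fun hC' => ?_⟩
  · by_contra hns
    obtain ⟨h3, h9, h20⟩ := twenty_of_fpf_not_solvable (Perm.Fpf.hasFpf_of_frobenius hC) hns
    exact not_solvable_of_twenty (hHcard ▸ h3) (hHcard ▸ h9) ((hcount3 h3).trans h20) hH'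
  · by_contra hns
    obtain ⟨h3, h9, h20⟩ := twenty_of_fpf_not_solvable (Perm.Fpf.hasFpf_of_frobenius hHfrob) hns
    exact not_solvable_of_twenty (hHcard ▸ h3) (hHcard ▸ h9)
      ((hcount3 (hHcard ▸ h3)).symm.trans h20) hC'

end Cfsg.Agent.Lead
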