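import Cfsg.Prelude.Def_ParabolicCharacters
import Cfsg.Agent.Lib.Char.Ortho
import Cfsg.Agent.Lib.Char.Induction
import Cfsg.Agent.Lib.Char.Linear
import Mathlib

/-!
Principal series of GL(2,q): induced characters from the Borel subgroup and their inner products.
-/

set_option autoImplicit false

namespace Cfsg.Agent.Lead.GL2

open Cfsg
open scoped ComplexConjugate Matrix

universe u

/-- Induction as a sum over a transversal. -/
theorem indFun_eq_sum_reps {G : Type u} [Group G] [Fintype G] {ι : Type*} [Fintype ι]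
    (H : Subgroup G) (θ : H → ℂ) (hθ : ∀ h k : H, θ (k⁻¹ * h * k) = θ h) (r : ι → G)
    (hr : Function.Bijective fun i => (r i : G ⧸ H)) (g : G) :
    indFun H θ g = ∑ i, extendByZero H θ ((r i)⁻¹ * g * r i) := by
  classical
  have hbij : Function.Bijective fun p : ι × H => r p.1 * (p.2 : G) := by
    constructor
    · rintro ⟨i, h⟩ ⟨j, k⟩ he
      simp only at he
      have hij : i = j := hr.1 (QuotientGroup.eq.2 (by
        have : (r i)⁻¹ * r j = (h : G) * (k : G)⁻¹ := by
          rw [eq_mul_inv_iff_mul_eq, mul_assoc, ← he, inv_mul_cancel_left]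
        rw [this]; exact H.mul_mem h.2 (H.inv_mem k.2)))
      subst hij
      exact Prod.ext rfl (Subtype.ext (mul_left_cancel he))
    · intro x
      obtain ⟨i, hi⟩ := hr.2 (x : G ⧸ H)
      exact ⟨(i, ⟨_, QuotientGroup.eq.1 hi⟩), mul_inv_cancel_left _ _⟩
  have key : ∀ (z : G) (h : H), extendByZero H θ ((h : G)⁻¹ * z * h) = extendByZero H θ z := by
    intro z h
    by_cases hz : z ∈ H
    · rw [Char.extendByZero_mem H θ hz, Char.extendByZero_mem H θ
        (H.mul_mem (H.mul_mem (H.inv_mem h.2) hz) h.2), ← hθ ⟨z, hz⟩ h]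
      rfl
    · rw [Char.extendByZero_not_mem H θ hz, Char.extendByZero_not_mem H θ]
      intro hm
      exact hz (by simpa [mul_assoc] using H.mul_mem (H.mul_mem h.2 hm) (H.inv_mem h.2))
  rw [indFun, ← (Equiv.ofBijective _ hbij).sum_comp, Fintype.sum_prod_type]
  simp only [Equiv.ofBijective_apply]
  have : ∀ i, ∑ h : H, extendByZero H θ ((r i * (h : G))⁻¹ * g * (r i * h)) =
      (Nat.card H : ℂ) * extendByZero H θ ((r i)⁻¹ * g * r i) := by
    intro i
    rw [Finset.sum_congr rfl fun h _ => show _ = extendByZero H θ ((r i)⁻¹ * g * r i) by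
      rw [show (r i * (h : G))⁻¹ * g * (r i * h) = (h : G)⁻¹ * ((r i)⁻¹ * g * r i) * h by group,
        key], Finset.sum_const, Finset.card_univ, nsmul_eq_mul, Nat.card_eq_fintype_card]
  simp_rw [this]
  rw [← Finset.mul_sum, ← mul_assoc, inv_mul_cancel₀ (Nat.cast_ne_zero.mpr Nat.card_pos.ne'),
    one_mul]

variable {F : Type u} [Field F]

/-- The entry matrix. -/
abbrev mat (g : GL (Fin 2) F) : Matrix (Fin 2) (Fin 2) F := (g : Matrix (Fin 2) (Fin 2) F)

theorem ext2 {g h : GL (Fin 2) F} (h00 : mat g 0 0 = mat h 0 0) (h01 : mat g 0 1 = mat h 0 1)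
    (h10 : mat g 1 0 = mat h 1 0) (h11 : mat g 1 1 = mat h 1 1) : g = h := by
  refine Units.ext (Matrix.ext fun i j => ?_)
  fin_cases i <;> fin_cases j <;> assumption

theorem det_ne (g : GL (Fin 2) F) : mat g 0 0 * mat g 1 1 - mat g 0 1 * mat g 1 0 ≠ 0 := by
  have h := (Matrix.GeneralLinearGroup.det g).ne_zero
  rwa [Matrix.GeneralLinearGroup.val_det_apply, Matrix.det_fin_two] at h

theorem mem_borel {g : GL (Fin 2) F} : g ∈ upperTriangularGL 2 F ↔ mat g 1 0 = 0 := by
  constructor
  · intro h; exact h (show id (0 : Fin 2) < id 1 by decide)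
  · intro h i j hij
    fin_cases i <;> fin_cases j <;> simp_all

theorem borel_diag_ne {g : GL (Fin 2) F} (h : g ∈ upperTriangularGL 2 F) :
    mat g 0 0 ≠ 0 ∧ mat g 1 1 ≠ 0 := by
  have := det_ne g
  rw [mem_borel.1 h, mul_zero, sub_zero] at this
  exact ⟨left_ne_zero_of_mul this, right_ne_zero_of_mul this⟩

/-- The upper triangular element with diagonal `a, d`. -/
def up (a d : Fˣ) (x : F) : GL (Fin 2) F :=
  Matrix.GeneralLinearGroup.mkOfDetNeZero !![(a : F), x; 0, (d : F)]
    (by simp [Matrix.det_fin_two])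

theorem mat_up (a d : Fˣ) (x : F) : mat (up a d x) = !![(a : F), x; 0, (d : F)] := rfl

theorem up_mem (a d : Fˣ) (x : F) : up a d x ∈ upperTriangularGL 2 F :=
  mem_borel.2 (by simp [mat_up])

/-- The Borel subgroup as triples. -/
noncomputable def borelEquiv : (Fˣ × Fˣ) × F ≃ upperTriangularGL 2 F where
  toFun p := ⟨up p.1.1 p.1.2 p.2, up_mem _ _ _⟩
  invFun b := ((Units.mk0 _ (borel_diag_ne b.2).1, Units.mk0 _ (borel_diag_ne b.2).2), mat b.1 0 1)
  left_inv := by
    rintro ⟨⟨a, d⟩, x⟩
    simp [mat_up, Units.ext_iff]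
  right_inv := by
    rintro ⟨b, hb⟩
    refine Subtype.ext (ext2 ?_ ?_ ?_ ?_) <;> simp [mat_up, mem_borel.1 hb]

section Fin

variable [Fintype F] [DecidableEq F]

/-- The linear character of the Borel subgroup. -/
noncomputable def lam (α β : MulChar F ℂ) : upperTriangularGL 2 F → ℂ :=
  fun b => α (((b : Matrix.GeneralLinearGroup (Fin 2) F) : Matrix (Fin 2) (Fin 2) F) 0 0) *
    β (((b : Matrix.GeneralLinearGroup (Fin 2) F) : Matrix (Fin 2) (Fin 2) F) 1 1)

theorem borel_mul (b c : upperTriangularGL 2 F) :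
    mat ((b * c : upperTriangularGL 2 F) : GL (Fin 2) F) 0 0 = mat b.1 0 0 * mat c.1 0 0 ∧
    mat ((b * c : upperTriangularGL 2 F) : GL (Fin 2) F) 1 1 = mat b.1 1 1 * mat c.1 1 1 := by
  constructor <;>
    simp [mat, Matrix.mul_apply, Fin.sum_univ_two, show mat b.1 1 0 = 0 from mem_borel.1 b.2,
      show mat c.1 1 0 = 0 from mem_borel.1 c.2] <;>
    first
      | rw [show ((c : GL (Fin 2) F) : Matrix (Fin 2) (Fin 2) F) 1 0 = 0 from mem_borel.1 c.2, mul_zero, add_zero]
      | rw [show ((b : GL (Fin 2) F) : Matrix (Fin 2) (Fin 2) F) 1 0 = 0 from mem_borel.1 b.2, zero_mul, zero_add]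

theorem lam_mul (α β : MulChar F ℂ) (b c : upperTriangularGL 2 F) :
    lam α β (b * c) = lam α β b * lam α β c := by
  have h := borel_mul b c
  simp only [lam]
  rw [show (((b * c : upperTriangularGL 2 F) : GL (Fin 2) F) : Matrix (Fin 2) (Fin 2) F) 0 0 = _ from h.1,
    show (((b * c : upperTriangularGL 2 F) : GL (Fin 2) F) : Matrix (Fin 2) (Fin 2) F) 1 1 = _ from h.2,
    map_mul, map_mul]
  ring

theorem lam_one (α β : MulChar F ℂ) : lam α β 1 = 1 := by simp [lam]

theorem lam_conj (α β : MulChar F ℂ) (h k : upperTriangularGL 2 F) :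
    lam α β (k⁻¹ * h * k) = lam α β h := by
  rw [lam_mul, lam_mul, mul_comm, ← mul_assoc, ← lam_mul, mul_inv_cancel, lam_one, one_mul]

theorem isCharacter_lam (α β : MulChar F ℂ) : IsCharacter (upperTriangularGL 2 F) (lam α β) := by
  let φ : upperTriangularGL 2 F →* ℂ :=
    { toFun := lam α β, map_one' := lam_one α β, map_mul' := lam_mul α β }
  have := Char.isCharacter_linear (G := upperTriangularGL 2 F) φ.toHomUnits
  exact this

/-- The principal series. -/
noncomputable def ps (α β : MulChar F ℂ) : GL (Fin 2) F → ℂ :=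
  indFun (upperTriangularGL 2 F) (lam α β)

theorem isCharacter_ps (α β : MulChar F ℂ) : IsCharacter (GL (Fin 2) F) (ps α β) :=
  Char.isCharacter_indFun _ (isCharacter_lam α β)

/-- Coset representatives. -/
def rep : Option F → GL (Fin 2) F
  | none => 1
  | some t => Matrix.GeneralLinearGroup.mkOfDetNeZero !![t, 1; 1, 0] (by simp [Matrix.det_fin_two])

theorem mat_rep_inv (t : F) : mat (rep (some t))⁻¹ = !![0, 1; 1, -t] := by
  have h : mat (rep (some t)) * !![0, 1; 1, -t] = 1 := by
    simp [rep, mat, Matrix.one_fin_two]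
  rw [mat, Matrix.coe_units_inv]
  exact Matrix.inv_eq_right_inv h

theorem rep_bijective :
    Function.Bijective fun o : Option F => (rep o : GL (Fin 2) F ⧸ upperTriangularGL 2 F) := by
  constructor
  · intro o o' h
    have h' := mem_borel.1 (QuotientGroup.eq.1 h)
    match o, o' with
    | none, none => rfl
    | none, some t => simp [rep, mat] at h'
    | some t, none =>
      simp only [mat, rep, mul_one] at h'
      have := congrFun (congrFun (mat_rep_inv t) 1) 0
      simp only [mat, rep] at this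
      rw [h'] at this
      simp at this
    | some t, some s =>
      have : mat ((rep (some t))⁻¹ * rep (some s)) 1 0 = s - t := by
        rw [mat, Units.val_mul, show ((rep (some t))⁻¹ : GL (Fin 2) F).val = _ from mat_rep_inv t]
        simp [rep, Matrix.mul_apply, Fin.sum_univ_two, sub_eq_add_neg]
      rw [this, sub_eq_zero] at h'
      rw [h']
  · intro q
    induction q using QuotientGroup.induction_on with
    | H g => ?_
    by_cases hc : mat g 1 0 = 0
    · exact ⟨none, QuotientGroup.eq.2 (by simpa [rep] using mem_borel.2 hc)⟩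
    · refine ⟨some (mat g 0 0 / mat g 1 0), QuotientGroup.eq.2 (mem_borel.2 ?_)⟩
      rw [mat, Units.val_mul, show ((rep (some _))⁻¹ : GL (Fin 2) F).val = _ from mat_rep_inv _]
      simp [Matrix.mul_apply, Fin.sum_univ_two, div_mul_cancel₀ _ hc]

theorem ext_lam (α β : MulChar F ℂ) (g : GL (Fin 2) F) :
    extendByZero (upperTriangularGL 2 F) (lam α β) g =
      if mat g 1 0 = 0 then α (mat g 0 0) * β (mat g 1 1) else 0 := by
  split_ifs with h
  · rw [Char.extendByZero_mem _ _ (mem_borel.2 h)]; rfl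
  · exact Char.extendByZero_not_mem _ _ fun hm => h (mem_borel.1 hm)

/-- The values of the principal series. -/
theorem ps_apply (α β : MulChar F ℂ) (g : GL (Fin 2) F) :
    ps α β g = (if mat g 1 0 = 0 then α (mat g 0 0) * β (mat g 1 1) else 0) +
      ∑ t : F, if mat g 0 1 + (mat g 0 0 - mat g 1 1) * t - mat g 1 0 * t ^ 2 = 0 then
        α (mat g 1 1 + mat g 1 0 * t) * β (mat g 0 0 - mat g 1 0 * t) else 0 := by
  rw [ps, indFun_eq_sum_reps _ _ (lam_conj α β) rep rep_bijective, Fintype.sum_option]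
  congr 1
  · simp [rep, ext_lam]
  · refine Finset.sum_congr rfl fun t _ => ?_
    have hm : mat ((rep (some t))⁻¹ * g * rep (some t)) =
        !![mat g 1 1 + mat g 1 0 * t, mat g 1 0;
           mat g 0 1 + (mat g 0 0 - mat g 1 1) * t - mat g 1 0 * t ^ 2,
           mat g 0 0 - mat g 1 0 * t] := by
      rw [mat, Units.val_mul, Units.val_mul,
        show ((rep (some t))⁻¹ : GL (Fin 2) F).val = _ from mat_rep_inv t]
      ext i j
      fin_cases i <;> fin_cases j <;>
        simp [rep, mat, Matrix.mul_apply, Matrix.vecMul, dotProduct, Fin.sum_univ_two] <;> ring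
    rw [ext_lam, hm]
    simp

theorem ps_borel (α β : MulChar F ℂ) (a d : Fˣ) (x : F) :
    ps α β (up a d x) = α a * β d +
      ∑ t : F, if x + ((a : F) - d) * t = 0 then α d * β a else 0 := by
  rw [ps_apply, mat_up]
  simp

theorem card_solutions_sum (a d : Fˣ) :
    ∑ x : F, ∑ t : F, (if x + ((a : F) - d) * t = 0 then (1 : ℂ) else 0) = Fintype.card F := by
  rw [Finset.sum_comm]
  have : ∀ t : F, ∑ x : F, (if x + ((a : F) - d) * t = 0 then (1 : ℂ) else 0) = 1 := by
    intro t
    rw [Finset.sum_eq_single (-(((a : F) - d) * t))]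
    · simp
    · intro x _ hx; rw [if_neg]; intro h; exact hx (eq_neg_of_add_eq_zero_left h)
    · simp
  simp [this]

theorem card_borel :
    Nat.card (upperTriangularGL 2 F) = (Fintype.card F - 1) ^ 2 * Fintype.card F := by
  rw [← Nat.card_congr borelEquiv, Nat.card_eq_fintype_card, Fintype.card_prod, Fintype.card_prod,
    Fintype.card_units, sq]

theorem sum_units_mulChar (χ : MulChar F ℂ) :
    ∑ a : Fˣ, χ a = if χ = 1 then ((Fintype.card F - 1 : ℕ) : ℂ) else 0 := by
  split_ifs with h
  · subst h; simp [MulChar.one_apply_coe, Fintype.card_units]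
  · have h0 := MulChar.sum_eq_zero_of_ne_one h
    rw [Fintype.sum_eq_add_sum_compl (0 : F), MulChar.map_zero, zero_add] at h0
    rw [← h0]
    refine Finset.sum_nbij (fun a : Fˣ => (a : F)) (by simp) ?_ ?_ (fun _ _ => rfl)
    · intro a _ b _ h; exact Units.ext h
    · intro b hb
      simp at hb
      exact ⟨Units.mk0 b hb, by simp, rfl⟩

theorem conj_mulChar (β : MulChar F ℂ) (a : Fˣ) : conj (β a) = β⁻¹ a := by
  rw [MulChar.inv_apply_eq_inv']
  have h : ‖β (a : F)‖ = 1 := by
    refine Complex.norm_eq_one_of_pow_eq_one (n := Fintype.card Fˣ) ?_ Fintype.card_ne_zero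
    rw [← map_pow, ← Units.val_pow_eq_pow_val, pow_card_eq_one, Units.val_one, map_one]
  rw [Complex.inv_eq_conj h]

theorem sum_units_mul_conj (α β : MulChar F ℂ) :
    ∑ a : Fˣ, α a * conj (β a) = if α = β then ((Fintype.card F - 1 : ℕ) : ℂ) else 0 := by
  simp_rw [conj_mulChar, ← MulChar.mul_apply, sum_units_mulChar, mul_inv_eq_one]

/-- Inner products of the principal series. -/
theorem ps_inner (α β α' β' : MulChar F ℂ) :
    classInner (ps α β) (ps α' β') =
      (if α = α' ∧ β = β' then 1 else 0) + (if α = β' ∧ β = α' then 1 else 0) := by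
  classical
  haveI : Fintype (upperTriangularGL 2 F) := Fintype.ofFinite _
  rw [ps, Char.frobenius _ _ (Char.isClassFunction_character (isCharacter_ps α' β'))]
  simp only [classInner]
  rw [← borelEquiv.sum_comp, Fintype.sum_prod_type, card_borel]
  have hval : ∀ p : Fˣ × Fˣ, ∀ x : F,
      lam α β (borelEquiv (p, x)) = α p.1 * β p.2 ∧
      ps α' β' ((borelEquiv (p, x) : upperTriangularGL 2 F) : GL (Fin 2) F) = α' p.1 * β' p.2 +
        (∑ t : F, if x + ((p.1 : F) - p.2) * t = 0 then (1 : ℂ) else 0) * (α' p.2 * β' p.1) := by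
    intro p x
    refine ⟨by simp [lam, borelEquiv, up], ?_⟩
    rw [show ((borelEquiv (p, x) : upperTriangularGL 2 F) : GL (Fin 2) F) = up p.1 p.2 x from rfl,
      ps_borel, Finset.sum_mul]
    simp [ite_mul]
  have hinner : ∀ p : Fˣ × Fˣ, ∑ x : F, lam α β (borelEquiv (p, x)) *
      conj (ps α' β' ((borelEquiv (p, x) : upperTriangularGL 2 F) : GL (Fin 2) F)) =
      (Fintype.card F : ℂ) * ((α p.1 * conj (α' p.1)) * (β p.2 * conj (β' p.2)) +
        (α p.1 * conj (β' p.1)) * (β p.2 * conj (α' p.2))) := by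
    intro p
    have hq := card_solutions_sum p.1 p.2
    have hq' := congrArg conj hq
    simp only [map_sum, map_natCast] at hq'
    rw [Finset.sum_congr rfl fun x _ => by rw [(hval p x).1, (hval p x).2, map_add, map_mul,
      map_mul, map_mul, map_sum, mul_add]]
    rw [Finset.sum_add_distrib, Finset.sum_const, Finset.card_univ, nsmul_eq_mul]
    simp only [← Finset.mul_sum, ← Finset.sum_mul, hq']
    ring
  rw [Finset.sum_congr rfl fun p _ => hinner p, ← Finset.mul_sum, Finset.sum_add_distrib,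
    Fintype.sum_prod_type, Fintype.sum_prod_type]
  simp only [← Finset.mul_sum, ← Finset.sum_mul, sum_units_mul_conj]
  have hq1 : ((Fintype.card F - 1 : ℕ) : ℂ) ≠ 0 := by
    have := Fintype.one_lt_card (α := F)
    exact_mod_cast (by omega : Fintype.card F - 1 ≠ 0)
  have hq : (Fintype.card F : ℂ) ≠ 0 := by simp
  push_cast
  by_cases h1 : α = α' <;> by_cases h2 : β = β' <;> by_cases h3 : α = β' <;> by_cases h4 : β = α' <;>
    try subst h1
  all_goals try subst h2
  all_goals try subst h3
  all_goals try subst h4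
  all_goals simp_all
  all_goals field_simp
  all_goals ring

theorem ps_isIrr {α β : MulChar F ℂ} (h : α ≠ β) : IsIrrCharacter (GL (Fin 2) F) (ps α β) :=
  Char.isIrr_of_norm_one (isCharacter_ps α β) (by rw [ps_inner]; simp [h])

theorem ps_symm (α β : MulChar F ℂ) : ps α β = ps β α := by
  rcases eq_or_ne α β with rfl | h
  · rfl
  · refine sub_eq_zero.1 (Char.classInner_self_eq_zero ?_)
    simp only [Char.classInner_sub_left, Char.classInner_sub_right, ps_inner]
    simp [h, h.symm]

theorem ps_eq_iff (α β α' β' : MulChar F ℂ) :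
    ps α β = ps α' β' ↔ (α = α' ∧ β = β') ∨ (α = β' ∧ β = α') := by
  constructor
  · intro h
    by_contra hno
    push Not at hno
    have := congrArg (fun f => classInner (ps α β) f) h
    beta_reduce at this
    rw [ps_inner, ps_inner, if_pos ⟨rfl, rfl⟩, if_neg (fun hh => hno.1 hh.1 hh.2 : ¬ (α = α' ∧ β = β')),
      if_neg (fun hh => hno.2 hh.1 hh.2 : ¬ (α = β' ∧ β = α'))] at this
    have h2 := congrArg Complex.re this
    split_ifs at h2 <;> norm_num at h2
  · rintro (⟨rfl, rfl⟩ | ⟨rfl, rfl⟩)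
    · rfl
    · exact ps_symm _ _

end Fin

end Cfsg.Agent.Lead.GL2
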