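import Mathlib
import Cfsg.Prelude.Def_Perm

/-!
Assorted statements about subgroup lattices, primitive groups, direct powers and Singer groups.
-/

set_option autoImplicit false

namespace Cfsg.Agent.Lead.GroupMisc

open Pointwise
open scoped commutatorElement

theorem fpf_element {G Ω : Type*} [Group G] [Finite G] [MulAction G Ω] [FaithfulSMul G Ω]
    [Fintype Ω] (htr : MulAction.IsPretransitive G Ω) (p k : ℕ) (hp : p.Prime) (hk : 1 ≤ k)
    (hΩ : Fintype.card Ω = p ^ k) : ∃ g : G, orderOf g = p ∧ ∀ ω : Ω, g • ω ≠ ω := by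
  classical
  haveI : Fact p.Prime := ⟨hp⟩
  obtain ⟨P⟩ : Nonempty (Sylow p G) := inferInstance
  haveI : Nonempty Ω := Fintype.card_pos_iff.mp (by rw [hΩ]; exact pow_pos hp.pos k)
  obtain ⟨ω₀⟩ := ‹Nonempty Ω›
  have horb : ∀ ω : Ω, MulAction.orbit (P : Subgroup G) ω = Set.univ := by
    intro ω
    set S := MulAction.stabilizer G ω
    have hidx : S.index = p ^ k := by
      rw [MulAction.index_stabilizer_of_transitive, Nat.card_eq_fintype_card, hΩ]
    have h1 := Subgroup.relIndex_mul_index (inf_le_left : (P : Subgroup G) ⊓ S ≤ P)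
    have h2 := Subgroup.relIndex_mul_index (inf_le_right : (P : Subgroup G) ⊓ S ≤ S)
    have hdvd : p ^ k ∣ ((P : Subgroup G) ⊓ S).relIndex P := by
      have hd : p ^ k ∣ ((P : Subgroup G) ⊓ S).relIndex P * (P : Subgroup G).index :=
        ⟨((P : Subgroup G) ⊓ S).relIndex S, by rw [h1, ← h2, hidx, mul_comm]⟩
      exact (Nat.Coprime.pow_left k (hp.coprime_iff_not_dvd.mpr P.not_dvd_index)).dvd_of_dvd_mul_right hd
    have hst : MulAction.stabilizer (P : Subgroup G) ω = ((P : Subgroup G) ⊓ S).subgroupOf P := by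
      ext x
      simp [S, Subgroup.mem_subgroupOf]
      rfl
    have hcard : (MulAction.orbit (P : Subgroup G) ω).ncard = ((P : Subgroup G) ⊓ S).relIndex P := by
      rw [← MulAction.index_stabilizer, hst]
      rfl
    have hle := Set.ncard_le_ncard (Set.subset_univ (MulAction.orbit (P : Subgroup G) ω))
    refine Set.eq_of_subset_of_ncard_le (Set.subset_univ _) ?_
    rw [Set.ncard_univ, Nat.card_eq_fintype_card, hΩ, hcard]
    refine Nat.le_of_dvd ?_ hdvd
    rw [← hcard]
    exact (Set.ncard_pos (Set.toFinite _)).mpr ⟨ω, MulAction.mem_orbit_self ω⟩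
  have hP1 : (P : Subgroup G) ≠ ⊥ := by
    intro h
    have hall : ∀ x : Ω, x = ω₀ := fun x => by
      have hx : x ∈ MulAction.orbit (P : Subgroup G) ω₀ := by rw [horb]; trivial
      obtain ⟨⟨y, hy⟩, rfl⟩ := hx
      show y • ω₀ = ω₀
      rw [show y = 1 by simpa [h] using hy, one_smul]
    have : Fintype.card Ω = 1 := Fintype.card_eq_one_iff.mpr ⟨ω₀, hall⟩
    rw [hΩ] at this
    exact (Nat.one_lt_pow (by omega) hp.one_lt).ne' this
  haveI : Nontrivial (P : Subgroup G) := (Subgroup.nontrivial_iff_ne_bot _).mpr hP1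
  haveI := P.isPGroup'.center_nontrivial
  obtain ⟨z, hz⟩ : ∃ z : Subgroup.center (P : Subgroup G), orderOf z = p := by
    refine exists_prime_orderOf_dvd_card' p ?_
    obtain ⟨n, hn, hc⟩ := (P.isPGroup'.to_subgroup (Subgroup.center (P : Subgroup G))).nontrivial_iff_card.mp
      inferInstance
    exact hc ▸ dvd_pow_self p hn.ne'
  refine ⟨((z : (P : Subgroup G)) : G), ?_, fun ω hω => ?_⟩
  · rw [Subgroup.orderOf_coe, Subgroup.orderOf_coe, hz]
  · have hone : ((z : (P : Subgroup G)) : G) = 1 := by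
      refine eq_of_smul_eq_smul (α := Ω) fun x => ?_
      have hx : x ∈ MulAction.orbit (P : Subgroup G) ω := by rw [horb]; trivial
      obtain ⟨y, rfl⟩ := hx
      show (z : (P : Subgroup G)).1 • (y.1 • ω) = (1 : G) • (y.1 • ω)
      rw [one_smul, smul_smul, show (z : (P : Subgroup G)).1 * y.1 = y.1 * (z : (P : Subgroup G)).1 from
        congrArg Subtype.val (Subgroup.mem_center_iff.mp z.2 y).symm, mul_smul, hω]
    have : z = 1 := Subtype.ext (Subtype.ext hone)
    rw [this, orderOf_one] at hz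
    exact hp.one_lt.ne hz

theorem exists_swap_set {Ω : Type*} [Fintype Ω] [DecidableEq Ω] (hΩ : 2 < Fintype.card Ω)
    (O : Set Ω) (hO : Nat.card O = Nat.card ↥Oᶜ) :
    ∃ K : Subgroup (Equiv.Perm Ω), MulAction.stabilizer (Equiv.Perm Ω) O < K ∧ K ≠ ⊤ := by
  classical
  have hsum : O.ncard + Oᶜ.ncard = Fintype.card Ω := by
    rw [Set.ncard_add_ncard_compl, Nat.card_eq_fintype_card]
  rw [Nat.card_coe_set_eq, Nat.card_coe_set_eq] at hO
  let K : Subgroup (Equiv.Perm Ω) :=
    { carrier := {g | g • O = O ∨ g • O = Oᶜ}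
      one_mem' := Or.inl (one_smul _ _)
      mul_mem' := fun {a b} ha hb => by
        have hc : ∀ (g : Equiv.Perm Ω) (s : Set Ω), g • sᶜ = (g • s)ᶜ := fun g s =>
          Set.smul_set_compl
        rcases ha with ha | ha <;> rcases hb with hb | hb <;>
          simp [mul_smul, ha, hb, hc]
      inv_mem' := fun {a} ha => by
        have hc : ∀ (g : Equiv.Perm Ω) (s : Set Ω), g • sᶜ = (g • s)ᶜ := fun g s =>
          Set.smul_set_compl
        rcases ha with ha | ha
        · exact Or.inl (by rw [inv_smul_eq_iff, ha])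
        · refine Or.inr ?_
          rw [inv_smul_eq_iff, hc, ha, compl_compl] }
  obtain ⟨e⟩ : Nonempty (↥O ≃ ↥Oᶜ) := by
    rw [← Fintype.card_eq]
    rwa [Set.ncard_eq_toFinset_card', Set.ncard_eq_toFinset_card', Set.toFinset_card,
      Set.toFinset_card] at hO
  let g : Equiv.Perm Ω :=
    ((Equiv.Set.sumCompl O).symm.trans ((Equiv.sumCongr e e.symm).trans (Equiv.sumComm _ _))).trans
      (Equiv.Set.sumCompl O)
  have hg : ∀ x, g x ∈ O ↔ x ∉ O := fun x => by
    by_cases hx : x ∈ O
    · simp [g, hx, Equiv.Set.sumCompl_symm_apply_of_mem hx]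
      exact (e ⟨x, hx⟩).2
    · simp [g, hx, Equiv.Set.sumCompl_symm_apply_of_notMem hx]
  have hgO : g • O = Oᶜ := by
    ext y
    obtain ⟨x, rfl⟩ := g.surjective y
    rw [show g x = g • x from rfl, Set.smul_mem_smul_set_iff]
    show x ∈ O ↔ g x ∉ O
    rw [hg]; tauto
  refine ⟨K, lt_of_le_of_ne (fun x hx => Or.inl hx) ?_, ?_⟩
  · intro h
    have : g ∈ MulAction.stabilizer (Equiv.Perm Ω) O := h ▸ Or.inr hgO
    rw [MulAction.mem_stabilizer_iff, hgO] at this
    obtain ⟨x, hx⟩ : O.Nonempty := (Set.ncard_pos (Set.toFinite _)).mp (by omega)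
    exact (this.symm ▸ hx : x ∈ Oᶜ) hx
  · intro h
    obtain ⟨x, hx, x', hx', hxx⟩ := (Set.one_lt_ncard (Set.toFinite _)).mp (show 1 < O.ncard by omega)
    obtain ⟨y, hy⟩ : Oᶜ.Nonempty := (Set.ncard_pos (Set.toFinite _)).mp (by omega)
    have hmem : Equiv.swap x y ∈ K := h ▸ Subgroup.mem_top _
    have hx'' : Equiv.swap x y • x' ∈ Equiv.swap x y • O := Set.smul_mem_smul_set hx'
    have hx''' : Equiv.swap x y • x ∈ Equiv.swap x y • O := Set.smul_mem_smul_set hx
    rw [show Equiv.swap x y • x' = x' from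
      Equiv.swap_apply_of_ne_of_ne (Ne.symm hxx) (fun e => hy (e ▸ hx'))] at hx''
    rw [show Equiv.swap x y • x = y from Equiv.swap_apply_left x y] at hx'''
    rcases hmem with hm | hm
    · rw [hm] at hx'''; exact hy hx'''
    · rw [hm] at hx''; exact hx'' hx'

theorem not_coatom_stabilizer {Ω : Type*} [Fintype Ω] [DecidableEq Ω] (hΩ : 2 < Fintype.card Ω)
    (O : Set Ω) (hO : Nat.card O = Nat.card ↥Oᶜ) :
    ¬ IsCoatom (MulAction.stabilizer (Equiv.Perm Ω) O) := fun h => by
  obtain ⟨K, hK, hK'⟩ := exists_swap_set hΩ O hO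
  exact hK' (h.2 K hK)

theorem second_maximal_example (m : ℕ) (hm : 2 ≤ m) :
    ∃ M H K : Subgroup (Equiv.Perm (Fin (2 * m))), IsCoatom M ∧ M.index = 2 * m ∧ H ≤ M ∧
      IsCoatom (H.subgroupOf M) ∧ IsCoatom K ∧ H ≤ K ∧ ¬ IsCoatom (H.subgroupOf K) := by
  classical
  let z : Fin (2 * m) := ⟨0, by omega⟩
  let A := {x : Fin (2 * m) // x ≠ z}
  have hA : Fintype.card A = 2 * m - 1 := by simp [A]
  obtain ⟨s, hs⟩ := Finset.exists_subset_card_eq (s := (Finset.univ : Finset A)) (n := m)
    (by rw [Finset.card_univ, hA]; omega)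
  let ι : Equiv.Perm A →* Equiv.Perm (Fin (2 * m)) := Equiv.Perm.ofSubtype
  have hι : Function.Injective ι := Equiv.Perm.ofSubtype_injective
  set O : Set (Fin (2 * m)) := Subtype.val '' (s : Set A)
  have hOc : O.ncard = m := by
    rw [Set.ncard_image_of_injective _ Subtype.val_injective, Set.ncard_coe_finset, hs.2]
  have hzO : z ∉ O := by rintro ⟨x, -, hx⟩; exact x.2 hx
  set M := ι.range
  set H := (MulAction.stabilizer (Equiv.Perm A) (s : Set A)).map ι
  have hM : M = MulAction.stabilizer (Equiv.Perm (Fin (2 * m))) ({z} : Set (Fin (2 * m))) := by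
    ext g
    rw [MulAction.stabilizer_singleton, MulAction.mem_stabilizer_iff]
    constructor
    · rintro ⟨h, rfl⟩
      exact Equiv.Perm.ofSubtype_apply_of_not_mem h (by simp)
    · intro hg
      refine ⟨g.subtypePerm (p := fun x => x ≠ z) fun x => ?_, Equiv.Perm.ofSubtype_subtypePerm _ fun x hx => ?_⟩
      · rw [not_iff_not]
        exact ⟨fun h => g.injective (h.trans hg.symm), fun h => h ▸ hg⟩
      · intro hxz
        exact hx (hxz ▸ hg)
  have hMc : IsCoatom M := by
    rw [hM]
    refine Equiv.Perm.isCoatom_stabilizer ⟨z, rfl⟩ ?_ ?_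
    · exact ⟨⟨1, by omega⟩, fun h => by simp [z, Fin.ext_iff] at h⟩
    · rw [Nat.card_fin, Set.ncard_singleton]; omega
  have hMi : M.index = 2 * m := by
    rw [hM, MulAction.stabilizer_singleton, MulAction.index_stabilizer_of_transitive, Nat.card_fin]
  have hHM : H ≤ M := Subgroup.map_le_range _ _
  have hHc : IsCoatom (H.subgroupOf M) := by
    have h1 : IsCoatom (MulAction.stabilizer (Equiv.Perm A) (s : Set A)) := by
      refine Equiv.Perm.isCoatom_stabilizer ?_ ?_ ?_
      · rw [Finset.coe_nonempty, ← Finset.card_pos, hs.2]; omega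
      · rw [Set.nonempty_compl, ← Finset.coe_univ, Ne, Finset.coe_inj]
        intro h; rw [h, Finset.card_univ, hA] at hs; omega
      · rw [Set.ncard_coe_finset, hs.2, Nat.card_eq_fintype_card, hA]; omega
    have he : H.subgroupOf M =
        (MonoidHom.ofInjective hι).mapSubgroup (MulAction.stabilizer (Equiv.Perm A) (s : Set A)) := by
      ext x
      constructor
      · rintro ⟨y, hy, he⟩
        exact ⟨y, hy, Subtype.ext he⟩
      · rintro ⟨y, hy, he⟩
        exact ⟨y, hy, congrArg Subtype.val he⟩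
    rw [he, OrderIso.isCoatom_iff]
    exact h1
  have hO' : Nat.card O = Nat.card ↥Oᶜ := by
    have := Set.ncard_add_ncard_compl O
    rw [Nat.card_coe_set_eq, Nat.card_coe_set_eq]
    rw [hOc, Nat.card_fin] at this
    omega
  obtain ⟨K₀, hlt, hne⟩ := exists_swap_set (by simp; omega) O hO'
  obtain ⟨K, hK, hKle⟩ := (eq_top_or_exists_le_coatom K₀).resolve_left hne
  have hHS : H ≤ MulAction.stabilizer (Equiv.Perm (Fin (2 * m))) O := by
    rintro _ ⟨y, hy, rfl⟩
    rw [MulAction.mem_stabilizer_iff]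
    have hfun : ∀ x : A, ι y (x : Fin (2 * m)) = ((y x : A) : Fin (2 * m)) := fun x => by
      show Equiv.Perm.ofSubtype y (x : Fin (2 * m)) = _
      rw [Equiv.Perm.ofSubtype_apply_coe]
    have hy' : y • (s : Set A) = (s : Set A) := hy
    show (fun x => ι y x) '' (Subtype.val '' (s : Set A)) = Subtype.val '' (s : Set A)
    conv_rhs => rw [← hy', ← Set.image_smul, Set.image_image]
    rw [Set.image_image]
    exact Set.image_congr fun x _ => hfun x
  refine ⟨M, H, K, hMc, hMi, hHM, hHc, hK, hHS.trans (hlt.le.trans hKle), fun hcon => ?_⟩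
  set S := MulAction.stabilizer (Equiv.Perm (Fin (2 * m))) O
  have hne' : H ≠ S := by
    intro he
    have hc : 1 < Oᶜ.ncard := by
      have := Set.ncard_add_ncard_compl O
      rw [hOc, Nat.card_fin] at this; omega
    obtain ⟨w, hw, hwz⟩ := Set.exists_ne_of_one_lt_ncard hc z
    have hmem : Equiv.swap z w ∈ H := by
      rw [he, MulAction.mem_stabilizer_iff]
      ext x
      rw [Set.mem_smul_set_iff_inv_smul_mem, Equiv.swap_inv]
      show Equiv.swap z w x ∈ O ↔ x ∈ O
      rcases eq_or_ne x z with rfl | hxz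
      · simp [hzO]; exact hw
      rcases eq_or_ne x w with rfl | hxw
      · simp [hzO]; exact hw
      rw [Equiv.swap_apply_of_ne_of_ne hxz hxw]
    have hfix := hHM hmem
    rw [hM, MulAction.stabilizer_singleton, MulAction.mem_stabilizer_iff] at hfix
    exact hwz (by simpa using hfix)
  have h2 : H.subgroupOf K < S.subgroupOf K := by
    rw [lt_iff_le_and_ne]
    refine ⟨Subgroup.comap_mono hHS, fun e => hne' ?_⟩
    have := Subgroup.subgroupOf_inj.mp e
    rwa [inf_eq_left.mpr (hHS.trans (hlt.le.trans hKle)), inf_eq_left.mpr (hlt.le.trans hKle)] at this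
  have h3 := hcon.2 _ h2
  rw [Subgroup.subgroupOf_eq_top] at h3
  exact absurd (hKle.trans h3) (not_le_of_gt hlt)

theorem normal_pi {S : Type*} [Group S] [IsSimpleGroup S] (hS : ¬ IsMulCommutative S) (n : ℕ)
    (N : Subgroup (Fin n → S)) [N.Normal] :
    ∃ T : Finset (Fin n), ∀ x : Fin n → S, x ∈ N ↔ ∀ i, i ∉ T → x i = 1 := by
  classical
  refine ⟨Finset.univ.filter fun i => ∃ y ∈ N, y i ≠ 1, fun x => ⟨fun hx i hi => ?_, fun hx => ?_⟩⟩
  · by_contra h
    exact hi (Finset.mem_filter.mpr ⟨Finset.mem_univ _, x, hx, h⟩)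
  have hsingle : ∀ i, (∃ y ∈ N, y i ≠ 1) → ∀ s : S, Pi.mulSingle i s ∈ N := by
    rintro i ⟨y, hy, hyi⟩ s
    set K : Subgroup S := N.comap (MonoidHom.mulSingle (fun _ : Fin n => S) i)
    haveI : K.Normal := Subgroup.Normal.comap ‹_› _
    have hcen : y i ∉ Subgroup.center S := by
      intro h
      rcases (inferInstance : (Subgroup.center S).Normal).eq_bot_or_eq_top with hb | ht
      · exact hyi (by simpa [hb] using h)
      · exact hS (Subgroup.center_eq_top_iff.mp ht)
    rw [Subgroup.mem_center_iff] at hcen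
    push Not at hcen
    obtain ⟨t, ht⟩ := hcen
    have hmem : ⁅y i, t⁆ ∈ K := by
      show Pi.mulSingle i ⁅y i, t⁆ ∈ N
      have : Pi.mulSingle i ⁅y i, t⁆ = y * ((Pi.mulSingle i t : Fin n → S) * y⁻¹ *
          (Pi.mulSingle i t : Fin n → S)⁻¹) := by
        ext j
        rcases eq_or_ne j i with rfl | hj
        · simp [commutatorElement_def, mul_assoc]
        · simp [hj]
      rw [this]
      exact mul_mem hy (Subgroup.Normal.conj_mem ‹_› _ (inv_mem hy) _)
    rcases (inferInstance : K.Normal).eq_bot_or_eq_top with hb | htop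
    · rw [hb, Subgroup.mem_bot, commutatorElement_eq_one_iff_mul_comm] at hmem
      exact absurd hmem.symm ht
    · exact (htop ▸ Subgroup.mem_top s : s ∈ K)
  rw [← Finset.noncommProd_mulSingle x]
  refine Subgroup.noncommProd_mem _ _ fun i _ => ?_
  by_cases hi : ∃ y ∈ N, y i ≠ 1
  · exact hsingle i hi _
  · rw [hx i (by simpa using hi), Pi.mulSingle_one]
    exact one_mem _

theorem lattice_complement {G : Type*} [Group G] [Finite G] (T X M : Subgroup G) (hTX : T ≤ X)
    (hint : ∀ Y : Subgroup G, T ≤ Y → Y ≤ X → ∃ C : Subgroup G, T ≤ C ∧ C ≤ X ∧ Y ⊔ C = X ∧ Y ⊓ C = T)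
    (huniq : ∀ M' : Subgroup G, IsCoatom M' → X ≤ M' → M' = M)
    (H : Subgroup G) (hH : ¬ H ≤ M) (hHT : H ⊓ T = ⊥) :
    ∃ C : Subgroup G, H ⊔ C = ⊤ ∧ H ⊓ C = ⊥ := by
  obtain ⟨C, hTC, hCX, hsup, hinf⟩ := hint ((H ⊓ X) ⊔ T) le_sup_right (sup_le inf_le_right hTX)
  refine ⟨C, ?_, ?_⟩
  · by_contra hne
    obtain ⟨M', hM', hle⟩ := (eq_top_or_exists_le_coatom (H ⊔ C)).resolve_left hne
    have hXle : X ≤ M' := by
      rw [← hsup]
      exact sup_le (sup_le (inf_le_left.trans (le_sup_left.trans hle)) (hTC.trans (le_sup_right.trans hle)))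
        (le_sup_right.trans hle)
    exact hH (huniq M' hM' hXle ▸ le_sup_left.trans hle)
  · rw [eq_bot_iff, ← hHT]
    refine le_inf inf_le_left ?_
    rw [← hinf]
    exact le_inf ((le_inf inf_le_left (inf_le_right.trans hCX)).trans le_sup_left) inf_le_right

theorem exists_conj_not_le {G : Type*} [Group G] {H M : Subgroup G} (h : ¬ H ≤ M.normalCore) :
    ∃ g : G, ¬ H.map (MulAut.conj g).toMonoidHom ≤ M := by
  by_contra hall
  push Not at hall
  exact h fun x hx g => hall g ⟨x, hx, rfl⟩

theorem complement_of_conj {G : Type*} [Group G] {H : Subgroup G} (g : G)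
    (h : ∃ C : Subgroup G, H.map (MulAut.conj g).toMonoidHom ⊔ C = ⊤ ∧
      H.map (MulAut.conj g).toMonoidHom ⊓ C = ⊥) :
    ∃ C : Subgroup G, H ⊔ C = ⊤ ∧ H ⊓ C = ⊥ := by
  obtain ⟨C, h1, h2⟩ := h
  let e := (MulAut.conj g).mapSubgroup
  have he : e H = H.map (MulAut.conj g).toMonoidHom := rfl
  refine ⟨e.symm C, e.injective ?_, e.injective ?_⟩
  · rw [map_sup, OrderIso.apply_symm_apply, he, h1]
    exact (OrderIso.map_top e).symm
  · rw [OrderIso.map_inf, OrderIso.apply_symm_apply, he, h2]
    exact (OrderIso.map_bot e).symm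

theorem lattice_core {G : Type*} [Group G] [Finite G] (X M : Subgroup G)
    (hK : ComplementedLattice (Subgroup X)) (hXM : X ≤ M)
    (huniq : ∀ M' : Subgroup G, IsCoatom M' → X ≤ M' → M' = M) :
    (∀ H : Subgroup G, ¬ H ≤ M.normalCore → ∃ C : Subgroup G, H ⊔ C = ⊤ ∧ H ⊓ C = ⊥) ∧
    ComplementedLattice (Subgroup (G ⧸ M.normalCore)) := by
  have hint : ∀ Y : Subgroup G, ⊥ ≤ Y → Y ≤ X →
      ∃ C : Subgroup G, ⊥ ≤ C ∧ C ≤ X ∧ Y ⊔ C = X ∧ Y ⊓ C = ⊥ := by
    intro Y _ hY
    obtain ⟨C, hC⟩ := hK.exists_isCompl (Y.subgroupOf X)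
    have hY2 := (Subgroup.subgroupOf_map_subtype Y X).trans (inf_eq_left.mpr hY)
    refine ⟨C.map X.subtype, bot_le, Subgroup.map_subtype_le C, ?_, ?_⟩
    · have := congrArg (Subgroup.map X.subtype) hC.sup_eq_top
      rwa [Subgroup.map_sup, hY2, ← MonoidHom.range_eq_map, Subgroup.range_subtype] at this
    · have := congrArg (Subgroup.map X.subtype) hC.inf_eq_bot
      rwa [Subgroup.map_inf _ _ _ X.subtype_injective, hY2, Subgroup.map_bot] at this
  have main : ∀ H : Subgroup G, ¬ H ≤ M.normalCore →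
      ∃ C : Subgroup G, H ⊔ C = ⊤ ∧ H ⊓ C = ⊥ := fun H hH => by
    obtain ⟨g, hg⟩ := exists_conj_not_le hH
    exact complement_of_conj g (lattice_complement ⊥ X M bot_le hint huniq _ hg (inf_bot_eq _))
  refine ⟨main, ⟨fun Hb => ?_⟩⟩
  set π := QuotientGroup.mk' M.normalCore
  have hπ : Function.Surjective π := QuotientGroup.mk'_surjective _
  set H := Hb.comap π with hHdef
  have hKH : M.normalCore ≤ H := fun x hx => by
    show π x ∈ Hb
    rw [show π x = 1 from (QuotientGroup.eq_one_iff x).mpr hx]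
    exact one_mem _
  by_cases hle : H ≤ M.normalCore
  · refine ⟨⊤, ?_⟩
    have : Hb = ⊥ := by
      rw [← Subgroup.map_comap_eq_self_of_surjective hπ Hb, ← hHdef, Subgroup.map_eq_bot_iff]
      rwa [QuotientGroup.ker_mk']
    rw [this]
    exact isCompl_bot_top
  obtain ⟨C, h1, h2⟩ := main H hle
  refine ⟨C.map π, IsCompl.of_eq ?_ ?_⟩
  · rw [eq_bot_iff]
    rintro y ⟨hy, c, hc, rfl⟩
    have : c ∈ H ⊓ C := ⟨hy, hc⟩
    rw [h2, Subgroup.mem_bot] at this
    simp [this]
  · rw [← Subgroup.map_comap_eq_self_of_surjective hπ Hb, ← Subgroup.map_sup, ← hHdef, h1,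
      Subgroup.map_top_of_surjective _ hπ]

theorem lattice_simple {G : Type*} [Group G] [Finite G] [IsSimpleGroup G] (X M N : Subgroup G)
    (hM : IsCoatom M) (hXM : X ≤ M)
    (huniq : ∀ M' : Subgroup G, IsCoatom M' → X ≤ M' → M' = M)
    (hNX : N ≤ X) (hN : (Nat.card N).Prime) (hcen : ∀ n ∈ N, ∀ m ∈ M, m * n = n * m)
    [(N.subgroupOf X).Normal] (hK : ComplementedLattice (Subgroup (X ⧸ N.subgroupOf X))) :
    ComplementedLattice (Subgroup G) := by
  classical
  have hNbot : N ≠ ⊥ := fun h => by rw [h, Subgroup.card_bot] at hN; exact Nat.not_prime_one hN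
  have hint : ∀ Y : Subgroup G, N ≤ Y → Y ≤ X →
      ∃ C : Subgroup G, N ≤ C ∧ C ≤ X ∧ Y ⊔ C = X ∧ Y ⊓ C = N := by
    intro Y hNY hY
    set π := QuotientGroup.mk' (N.subgroupOf X)
    have hπ : Function.Surjective π := QuotientGroup.mk'_surjective _
    obtain ⟨C, hC⟩ := hK.exists_isCompl ((Y.subgroupOf X).map π)
    have hker : π.ker = N.subgroupOf X := QuotientGroup.ker_mk' _
    have hY' : ((Y.subgroupOf X).map π).comap π = Y.subgroupOf X := by
      rw [Subgroup.comap_map_eq, hker, sup_eq_left]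
      exact Subgroup.comap_mono hNY
    have hY2 := (Subgroup.subgroupOf_map_subtype Y X).trans (inf_eq_left.mpr hY)
    have hN2 := (Subgroup.subgroupOf_map_subtype N X).trans (inf_eq_left.mpr hNX)
    refine ⟨(C.comap π).map X.subtype, ?_, Subgroup.map_subtype_le _, ?_, ?_⟩
    · have h : N.subgroupOf X ≤ C.comap π := hker.ge.trans (Subgroup.ker_le_comap π C)
      have := Subgroup.map_mono (f := X.subtype) h
      rwa [hN2] at this
    · have := congrArg (fun Z => (Subgroup.comap π Z).map X.subtype) hC.sup_eq_top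
      simp only [← Subgroup.comap_sup_eq _ _ _ hπ, hY', Subgroup.map_sup, hY2, Subgroup.comap_top] at this
      rwa [← MonoidHom.range_eq_map, Subgroup.range_subtype] at this
    · have := congrArg (fun Z => (Subgroup.comap π Z).map X.subtype) hC.inf_eq_bot
      simp only [Subgroup.comap_inf, hY', Subgroup.map_inf _ _ _ X.subtype_injective, hY2,
        MonoidHom.comap_bot, hker, hN2] at this
      exact this
  refine ⟨fun H => ?_⟩
  by_cases hbot : H = ⊥
  · exact ⟨⊤, hbot ▸ isCompl_bot_top⟩
  by_cases htop : H = ⊤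
  · exact ⟨⊥, htop ▸ isCompl_top_bot⟩
  suffices h : ∃ C : Subgroup G, H ⊔ C = ⊤ ∧ H ⊓ C = ⊥ by
    obtain ⟨C, h1, h2⟩ := h
    exact ⟨C, IsCompl.of_eq h2 h1⟩
  by_contra hno
  have hnoconj : ∀ g : G, H.map (MulAut.conj g).toMonoidHom ≤ M ∨
      N ≤ H.map (MulAut.conj g).toMonoidHom := by
    intro g
    by_contra hh
    push Not at hh
    obtain ⟨h1, h2⟩ := hh
    apply hno
    refine complement_of_conj g (lattice_complement N X M hNX hint huniq _ h1 ?_)
    haveI : Fact (Nat.card N).Prime := ⟨hN⟩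
    rcases Subgroup.eq_bot_or_eq_top_of_prime_card
      ((H.map (MulAut.conj g).toMonoidHom ⊓ N).subgroupOf N) with e | e
    · rwa [Subgroup.subgroupOf_eq_bot, disjoint_iff, inf_assoc, inf_idem] at e
    · rw [Subgroup.subgroupOf_eq_top] at e
      exact absurd (e.trans inf_le_left) h2
  have hnorm : ∀ n ∈ N, ∀ g : G, g⁻¹ * n * g ∈ Subgroup.normalizer (H : Set G) := by
    intro n hn g
    rcases hnoconj g with hg | hg
    · rw [Subgroup.mem_normalizer_iff]
      intro x
      have key : ∀ y ∈ H, (g⁻¹ * n * g) * y = y * (g⁻¹ * n * g) := fun y hy => by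
        have h := hcen n hn _ (hg ⟨y, hy, rfl⟩)
        simp only [MulEquiv.coe_toMonoidHom, MulAut.conj_apply] at h
        calc g⁻¹ * n * g * y = g⁻¹ * (n * (g * y * g⁻¹)) * g := by group
          _ = g⁻¹ * (g * y * g⁻¹ * n) * g := by rw [h]
          _ = y * (g⁻¹ * n * g) := by group
      constructor
      · intro hx
        rw [key x hx, mul_inv_cancel_right]; exact hx
      · intro hx
        have h := key _ hx
        have : g⁻¹ * n * g * x * (g⁻¹ * n * g)⁻¹ = x := by
          have h' := congrArg (fun t => t * (g⁻¹ * n * g)⁻¹) h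
          simp only [mul_inv_cancel_right] at h'
          calc g⁻¹ * n * g * x * (g⁻¹ * n * g)⁻¹
              = (g⁻¹ * n * g)⁻¹ * (g⁻¹ * n * g * (g⁻¹ * n * g * x * (g⁻¹ * n * g)⁻¹) *
                  (g⁻¹ * n * g)⁻¹) * (g⁻¹ * n * g) := by group
            _ = (g⁻¹ * n * g)⁻¹ * (g⁻¹ * n * g * x * (g⁻¹ * n * g)⁻¹) * (g⁻¹ * n * g) := by rw [h']
            _ = x := by group
        rwa [this] at hx
    · obtain ⟨y, hy, rfl⟩ := hg hn
      refine Subgroup.le_normalizer ?_
      simpa [MulAut.conj_apply, mul_assoc] using hy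
  have hNN : Subgroup.normalClosure (N : Set G) ≤ Subgroup.normalizer (H : Set G) := by
    rw [Subgroup.normalClosure, Subgroup.closure_le]
    intro x hx
    obtain ⟨n, hn, hxn⟩ := Group.mem_conjugatesOfSet_iff.mp hx
    obtain ⟨c, rfl⟩ := isConj_iff.mp hxn
    simpa using hnorm n hn c⁻¹
  rcases (inferInstance : (Subgroup.normalClosure (N : Set G)).Normal).eq_bot_or_eq_top with e | e
  · exact hNbot (le_bot_iff.mp (e ▸ Subgroup.le_normalClosure))
  · rw [e, top_le_iff, Subgroup.normalizer_eq_top_iff] at hNN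
    rcases hNN.eq_bot_or_eq_top with h | h
    exacts [hbot h, htop h]

theorem class_lt {P : Type*} [Group P] [Group.IsNilpotent P]
    (hna : ¬ IsMulCommutative P) {E : Subgroup P} (hE : IsMulCommutative ↥E) :
    Group.nilpotencyClass ↥(Subgroup.normalClosure (E : Set P)) < Group.nilpotencyClass P := by
  set γ := fun i => (⊤ : Subgroup P).lowerCentralSeries i with hγ
  set N := E ⊔ γ 1
  haveI hN : N.Normal := by
    refine Subgroup.Normal.mk fun n hn g => ?_
    have hc : g * n * g⁻¹ * n⁻¹ ∈ γ 1 := Subgroup.commutator_mem_commutator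
      (Subgroup.mem_top g) (Subgroup.mem_top n)
    have := mul_mem ((le_sup_right : γ 1 ≤ N) hc) hn
    simpa using this
  have hle : Subgroup.normalClosure (E : Set P) ≤ N := Subgroup.normalClosure_le_normal fun x hx => (le_sup_left : E ≤ N) hx
  have h2 : N.lowerCentralSeries 1 ≤ γ 2 := by
    haveI : (γ 2).Normal := inferInstanceAs ((⊤ : Subgroup P).lowerCentralSeries 2).Normal
    set π := QuotientGroup.mk' (γ 2)
    have hcent : ∀ a ∈ γ 1, ∀ x : P, π a * π x = π x * π a := fun a ha x => by
      rw [← commutatorElement_eq_one_iff_mul_comm, ← map_commutatorElement]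
      exact (QuotientGroup.eq_one_iff _).mpr
        (Subgroup.commutator_mem_commutator ha (Subgroup.mem_top x))
    have hgen : ∀ a ∈ N, ∀ b ∈ N, π a * π b = π b * π a := by
      have hset : ∀ a ∈ (E : Set P) ∪ γ 1, ∀ b ∈ (E : Set P) ∪ γ 1, π a * π b = π b * π a := by
        rintro a (ha | ha) b (hb | hb)
        · rw [← map_mul, ← map_mul, show a * b = b * a from
            congrArg Subtype.val (hE.1.comm ⟨a, ha⟩ ⟨b, hb⟩)]
        · exact (hcent b hb a).symm
        · exact hcent a ha b
        · exact hcent a ha b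
      intro a ha b hb
      rw [show N = Subgroup.closure ((E : Set P) ∪ γ 1) by
        rw [Subgroup.closure_union, Subgroup.closure_eq, Subgroup.closure_eq]] at ha hb
      have hb' : ∀ a ∈ (E : Set P) ∪ γ 1, π a * π b = π b * π a := fun a ha =>
        Subgroup.closure_induction (p := fun b _ => π a * π b = π b * π a) (fun b hb => hset a ha b hb)
          (by simp) (fun x y _ _ hx hy => by
            rw [map_mul, ← mul_assoc, hx, mul_assoc, hy, mul_assoc])
          (fun x _ hx => by rw [map_inv]; exact Commute.inv_right hx) hb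
      exact Subgroup.closure_induction (p := fun a _ => π a * π b = π b * π a) hb'
        (by simp) (fun x y _ _ hx hy => by
          rw [map_mul, mul_assoc, hy, ← mul_assoc, hx, mul_assoc])
        (fun x _ hx => by rw [map_inv]; exact Commute.inv_left hx) ha
    refine Subgroup.commutator_le.mpr fun a ha b hb => (QuotientGroup.eq_one_iff _).mp ?_
    show π ⁅a, b⁆ = 1
    rw [map_commutatorElement, commutatorElement_eq_one_iff_mul_comm]
    exact hgen a ha b hb
  have hstep : ∀ i, N.lowerCentralSeries (i + 1) ≤ γ (i + 2) := by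
    intro i
    induction i with
    | zero => exact h2
    | succ i ih =>
      show ⁅N.lowerCentralSeries (i + 1), N⁆ ≤ ⁅γ (i + 2), ⊤⁆
      exact Subgroup.commutator_mono ih le_top
  obtain ⟨c, hc⟩ : ∃ c, Group.nilpotencyClass P = c + 2 := by
    rcases hk : Group.nilpotencyClass P with _ | _ | c
    · exfalso
      apply hna
      have h := (lowerCentralSeries_eq_bot_iff_nilpotencyClass_le (G := P) (n := 1)).mpr (by omega)
      refine ⟨⟨fun a b => ?_⟩⟩
      have : ⁅a, b⁆ ∈ (⊤ : Subgroup P).lowerCentralSeries 1 :=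
        Subgroup.commutator_mem_commutator (Subgroup.mem_top a) (Subgroup.mem_top b)
      rw [h, Subgroup.mem_bot, commutatorElement_eq_one_iff_mul_comm] at this
      exact this
    · exfalso
      apply hna
      have h := (lowerCentralSeries_eq_bot_iff_nilpotencyClass_le (G := P) (n := 1)).mpr (by omega)
      refine ⟨⟨fun a b => ?_⟩⟩
      have : ⁅a, b⁆ ∈ (⊤ : Subgroup P).lowerCentralSeries 1 :=
        Subgroup.commutator_mem_commutator (Subgroup.mem_top a) (Subgroup.mem_top b)
      rw [h, Subgroup.mem_bot, commutatorElement_eq_one_iff_mul_comm] at this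
      exact this
    · exact ⟨c, rfl⟩
  rw [hc]
  refine Nat.lt_succ_of_le ?_
  rw [← lowerCentralSeries_eq_bot_iff_nilpotencyClass_le, ← Subgroup.map_subtype_inj,
    Subgroup.map_bot, Subgroup.top_subtype_lowerCentralSeries, eq_bot_iff]
  refine ((Subgroup.lowerCentralSeries_mono (c + 1)) hle).trans ((hstep c).trans ?_)
  rw [show γ (c + 2) = (⊤ : Subgroup P).lowerCentralSeries (Group.nilpotencyClass P) by rw [hc]]
  exact (Subgroup.lowerCentralSeries_nilpotencyClass (G := P)).le

theorem prim_quotient {G X : Type*} [Group G] [Finite G] [MulAction G X] [FaithfulSMul G X]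
    (hprim : MulAction.IsPreprimitive G X) (x : X) (A : Subgroup G)
    (hA : A ≤ MulAction.stabilizer G x) (hAn : (A.subgroupOf (MulAction.stabilizer G x)).Normal)
    (hgen : Subgroup.normalClosure (A : Set G) = ⊤) (K : Subgroup G) [K.Normal] (hK : K ≠ ⊥) :
    ∃ (B : Subgroup A) (_ : B.Normal), Nonempty (G ⧸ K ≃* A ⧸ B) := by
  set φ : A →* G ⧸ K := (QuotientGroup.mk' K).comp A.subtype
  refine ⟨φ.ker, inferInstance, ⟨(QuotientGroup.quotientKerEquivOfSurjective φ ?_).symm⟩⟩
  have hfix : MulAction.fixedPoints K X ≠ Set.univ := by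
    intro h
    obtain ⟨⟨k, hk⟩, hk1'⟩ := Subgroup.ne_bot_iff_exists_ne_one.mp hK
    have hk1 : k ≠ 1 := fun e => hk1' (Subtype.ext e)
    refine hk1 (eq_of_smul_eq_smul (α := X) fun y => ?_)
    rw [one_smul]
    have hy : y ∈ MulAction.fixedPoints K X := h ▸ Set.mem_univ y
    exact hy ⟨k, hk⟩
  have htr : MulAction.IsPretransitive K X := MulAction.IsQuasiPreprimitive.isPretransitive_of_normal hfix
  have hsup : K ⊔ A = ⊤ := by
    haveI : (K ⊔ A).Normal := by
      rw [← Subgroup.normalizer_eq_top_iff, eq_top_iff]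
      intro g _
      obtain ⟨⟨k, hk⟩, hkx⟩ := htr.exists_smul_eq x (g • x)
      have hkx' : k • x = g • x := hkx
      have hh : k⁻¹ * g ∈ MulAction.stabilizer G x := by
        rw [MulAction.mem_stabilizer_iff, mul_smul, ← hkx', inv_smul_smul]
      have h1 : k ∈ Subgroup.normalizer ((K ⊔ A : Subgroup G) : Set G) :=
        Subgroup.le_normalizer ((le_sup_left : K ≤ K ⊔ A) hk)
      have h2 : k⁻¹ * g ∈ Subgroup.normalizer ((K ⊔ A : Subgroup G) : Set G) := by
        have hA' : k⁻¹ * g ∈ Subgroup.normalizer (A : Set G) :=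
          (Subgroup.normal_subgroupOf_iff_le_normalizer hA).mp hAn hh
        rw [Subgroup.mem_normalizer_iff]
        intro y
        have hmap : (K ⊔ A).map (MulAut.conj (k⁻¹ * g)).toMonoidHom = K ⊔ A := by
          have e : ∀ Z : Subgroup G, k⁻¹ * g ∈ Subgroup.normalizer (Z : Set G) →
              Z.map (MulAut.conj (k⁻¹ * g)).toMonoidHom = Z := fun Z hZ => by
            ext z
            rw [Subgroup.mem_map_equiv, MulAut.conj_symm_apply]
            exact (Subgroup.mem_normalizer_iff''.mp hZ z).symm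
          rw [Subgroup.map_sup, e A hA', e K (by rw [Subgroup.normalizer_eq_top_iff.mpr ‹K.Normal›]; trivial)]
        conv_rhs => rw [← hmap]
        rw [Subgroup.mem_map_equiv, MulAut.conj_symm_apply,
          show (k⁻¹ * g)⁻¹ * (k⁻¹ * g * y * (k⁻¹ * g)⁻¹) * (k⁻¹ * g) = y by group]
      simpa using mul_mem h1 h2
    exact top_le_iff.mp (hgen ▸ Subgroup.normalClosure_le_normal fun x hx => (le_sup_right : A ≤ K ⊔ A) hx)
  intro y
  obtain ⟨g, rfl⟩ := QuotientGroup.mk'_surjective K y
  have hg : g ∈ K ⊔ A := hsup ▸ Subgroup.mem_top g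
  obtain ⟨k, hk, a, ha, rfl⟩ : ∃ k ∈ K, ∃ a ∈ A, k * a = g := by
    rwa [← SetLike.mem_coe, Subgroup.normal_mul, Set.mem_mul] at hg
  refine ⟨⟨a, ha⟩, ?_⟩
  show QuotientGroup.mk' K a = QuotientGroup.mk' K (k * a)
  rw [map_mul, show QuotientGroup.mk' K k = 1 from (QuotientGroup.eq_one_iff k).mpr hk, one_mul]

theorem elusive (p s : ℕ) [Fact p.Prime] (hs : p = 2 ^ s - 1)
    (g : Equiv.Perm (GaloisField p 2)) (hg : g ∈ Cfsg.affineGroup (GaloisField p 2))
    (hord : (orderOf g).Prime) :
    ∃ x ∈ Cfsg.affineGroup (GaloisField p 2), ∃ a b : ZMod p, a ≠ 0 ∧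
      ∀ y : GaloisField p 2, (x * g * x⁻¹) y = algebraMap (ZMod p) (GaloisField p 2) a * y +
        algebraMap (ZMod p) (GaloisField p 2) b := by
  classical
  obtain ⟨a, b, hab⟩ := hg
  by_cases ha : (a : GaloisField p 2) = 1
  · have hb : b ≠ 0 := fun hb => by
      have : g = 1 := Equiv.ext fun y => by rw [hab, ha, hb, one_mul, add_zero]; rfl
      rw [this, orderOf_one] at hord
      exact Nat.not_prime_one hord
    refine ⟨Equiv.mulLeft₀ b⁻¹ (inv_ne_zero hb), ⟨(Units.mk0 b hb)⁻¹, 0, fun y => by simp⟩, 1, 1,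
      one_ne_zero, fun y => ?_⟩
    simp [hab, ha]
    field_simp
  · have h1 : (1 : GaloisField p 2) - a ≠ 0 := sub_ne_zero.mpr (Ne.symm ha)
    set c := b / (1 - (a : GaloisField p 2)) with hc
    have hpow : ∀ (n : ℕ) y, (g ^ n) y = (a : GaloisField p 2) ^ n * (y - c) + c := by
      intro n
      induction n with
      | zero => intro y; simp
      | succ n ih =>
        intro y
        rw [pow_succ', Equiv.Perm.mul_apply, ih, hab, hc]
        field_simp
        ring
    have har : (a : GaloisField p 2) ^ orderOf g = 1 := by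
      have h := hpow (orderOf g) (c + 1)
      rw [pow_orderOf_eq_one, Equiv.Perm.one_apply] at h
      linear_combination -h
    have haord : orderOf (a : GaloisField p 2) = orderOf g :=
      (hord.eq_one_or_self_of_dvd _ (orderOf_dvd_of_pow_eq_one har)).resolve_left
        (fun h => ha (orderOf_eq_one_iff.mp h))
    haveI : Fintype (GaloisField p 2) := Fintype.ofFinite _
    have hcard : Fintype.card (GaloisField p 2) = p ^ 2 := by
      rw [← Nat.card_eq_fintype_card, GaloisField.card p 2 two_ne_zero]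
    have hdvd : orderOf g ∣ p ^ 2 - 1 := by
      rw [← haord, ← hcard]
      exact orderOf_dvd_of_pow_eq_one (FiniteField.pow_card_sub_one_eq_one _ a.ne_zero)
    have hp2 : p ≠ 2 := fun h => by
      rw [h] at hs
      rcases s with _ | s
      · simp at hs
      · rw [pow_succ] at hs; omega
    have hp1 : orderOf g ∣ p - 1 := by
      have hfac : p ^ 2 - 1 = (p + 1) * (p - 1) := by
        rw [← one_pow 2, Nat.sq_sub_sq, one_pow]
      rw [hfac] at hdvd
      rcases hord.dvd_mul.mp hdvd with h | h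
      · have h2 : p + 1 = 2 ^ s := by
          have := (Fact.out : p.Prime).two_le; omega
        rw [h2] at h
        rw [(Nat.prime_dvd_prime_iff_eq hord Nat.prime_two).mp (hord.dvd_of_dvd_pow h)]
        obtain ⟨t, ht⟩ := (Fact.out : p.Prime).odd_of_ne_two hp2
        exact ⟨t, by omega⟩
      · exact h
    obtain ⟨k, hk⟩ := hp1
    have hap : (a : GaloisField p 2) ^ p = a := by
      have e : p = orderOf g * k + 1 := by have := (Fact.out : p.Prime).one_le; omega
      rw [show (a : GaloisField p 2) ^ p = (a : GaloisField p 2) ^ (orderOf g * k + 1) from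
        congrArg (fun i => (a : GaloisField p 2) ^ i) e, pow_succ, pow_mul, har, one_pow, one_mul]
    obtain ⟨a', ha'⟩ : ∃ a' : ZMod p, algebraMap (ZMod p) (GaloisField p 2) a' = a := by
        by_contra hne
        push Not at hne
        have hP : (Polynomial.X ^ p - Polynomial.X : Polynomial (GaloisField p 2)) ≠ 0 :=
          FiniteField.X_pow_card_sub_X_ne_zero _ (Fact.out : p.Prime).one_lt
        have hsub : insert (a : GaloisField p 2)
            (Finset.univ.image (algebraMap (ZMod p) (GaloisField p 2))) ⊆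
            (Polynomial.X ^ p - Polynomial.X : Polynomial (GaloisField p 2)).roots.toFinset := by
          intro z hz
          rw [Multiset.mem_toFinset, Polynomial.mem_roots hP]
          rcases Finset.mem_insert.mp hz with rfl | hz
          · simp [hap]
          · obtain ⟨w, -, rfl⟩ := Finset.mem_image.mp hz
            simp [← map_pow]
        have h1 := (Finset.card_le_card hsub).trans ((Multiset.toFinset_card_le _).trans
          (Polynomial.card_roots' _))
        rw [FiniteField.X_pow_card_sub_X_natDegree_eq _ (Fact.out : p.Prime).one_lt,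
          Finset.card_insert_of_notMem (by simpa using hne),
          Finset.card_image_of_injective _ (algebraMap (ZMod p) (GaloisField p 2)).injective,
          Finset.card_univ, ZMod.card] at h1
        omega
    refine ⟨Equiv.subRight c, ⟨1, -c, fun y => by simp [sub_eq_add_neg]⟩, a', 0, fun h => ?_, fun y => ?_⟩
    · rw [h, map_zero] at ha'
      exact a.ne_zero ha'.symm
    · have := hpow 1 (y + c)
      rw [pow_one, pow_one] at this
      simp [this, ha']

theorem unit_injective {F K : Type*} [Field F] [AddCommGroup K] [Module F K]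
    (g : (Module.End F K)ˣ) : Function.Injective (g : Module.End F K) := fun x y h => by
  have := congrArg ((g⁻¹ : (Module.End F K)ˣ) : Module.End F K) h
  rwa [← Module.End.mul_apply, ← Module.End.mul_apply, ← Units.val_mul, inv_mul_cancel, Units.val_one,
    Module.End.one_apply, Module.End.one_apply] at this

theorem singer_centralizer {F K : Type*} [Field F] [Field K] [Algebra F K] :
    Subgroup.centralizer (((Units.map ((Algebra.lmul F K : K →ₐ[F] Module.End F K) : K →* Module.End F K)).range :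
      Subgroup (Module.End F K)ˣ) : Set (Module.End F K)ˣ) =
      (Units.map ((Algebra.lmul F K : K →ₐ[F] Module.End F K) : K →* Module.End F K)).range := by
  refine le_antisymm (fun g hg => ?_) ?_
  · have key : ∀ (a : Kˣ) (x : K), (g : Module.End F K) ((a : K) * x) = (a : K) * (g : Module.End F K) x := by
      intro a x
      have := congrArg (fun u : (Module.End F K)ˣ => (u : Module.End F K) x)
        ((Subgroup.mem_centralizer_iff.mp hg) _ ⟨a, rfl⟩)
      simpa using this.symm
    have h1 : (g : Module.End F K) 1 ≠ 0 := fun h => by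
      exact one_ne_zero (unit_injective g (h.trans (map_zero _).symm))
    refine ⟨Units.mk0 _ h1, Units.ext (LinearMap.ext fun x => ?_)⟩
    show (g : Module.End F K) 1 * x = _
    rcases eq_or_ne x 0 with rfl | hx
    · simp
    · have := key (Units.mk0 x hx) 1
      simp at this
      rw [this, mul_comm]
  · rintro _ ⟨a, rfl⟩
    rw [Subgroup.mem_centralizer_iff]
    rintro _ ⟨b, rfl⟩
    rw [← map_mul, ← map_mul, mul_comm]

theorem singer_normalizer {F K : Type*} [Field F] [Fintype F] [Field K] [Fintype K] [Algebra F K]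
    (n : ℕ) (hdim : Module.finrank F K = n) :
    Nat.card (Subgroup.normalizer (((Units.map ((Algebra.lmul F K : K →ₐ[F] Module.End F K) :
      K →* Module.End F K)).range : Subgroup (Module.End F K)ˣ) : Set (Module.End F K)ˣ)) =
      n * (Fintype.card K - 1) := by
  classical
  set L : Kˣ →* (Module.End F K)ˣ :=
    Units.map ((Algebra.lmul F K : K →ₐ[F] Module.End F K) : K →* Module.End F K)
  have hL : ∀ (a : Kˣ) (x : K), (L a : Module.End F K) x = (a : K) * x := fun a x => rfl
  let A : (K ≃ₐ[F] K) → (Module.End F K)ˣ := fun σ =>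
    ⟨σ.toLinearMap, σ.symm.toLinearMap, LinearMap.ext fun x => σ.apply_symm_apply x,
      LinearMap.ext fun x => σ.symm_apply_apply x⟩
  have hA : ∀ (σ : K ≃ₐ[F] K) (x : K), (A σ : Module.End F K) x = σ x := fun σ x => rfl
  have hmem : ∀ σ : K ≃ₐ[F] K, A σ ∈ Subgroup.normalizer (L.range : Set (Module.End F K)ˣ) := fun σ => by
    have hc : ∀ τ : K ≃ₐ[F] K, ∀ a : Kˣ, A τ * L a * (A τ)⁻¹ = L (Units.map (τ : K →* K) a) :=
      fun τ a => Units.ext (LinearMap.ext fun x => by
        show τ ((a : K) * τ.symm x) = τ (a : K) * x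
        rw [map_mul, AlgEquiv.apply_symm_apply])
    rw [Subgroup.mem_normalizer_iff]
    intro u
    constructor
    · rintro ⟨a, rfl⟩
      exact ⟨_, (hc σ a).symm⟩
    · rintro ⟨a, ha⟩
      refine ⟨Units.map (σ.symm : K →* K) a, ?_⟩
      have h := hc σ (Units.map (σ.symm : K →* K) a)
      have e : Units.map (σ : K →* K) (Units.map (σ.symm : K →* K) a) = a :=
        Units.ext (σ.apply_symm_apply _)
      rw [e, ha] at h
      exact mul_left_cancel (mul_right_cancel h)
  let f : Kˣ × (K ≃ₐ[F] K) → Subgroup.normalizer (L.range : Set (Module.End F K)ˣ) := fun p =>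
    ⟨L p.1 * A p.2, mul_mem (Subgroup.le_normalizer ⟨p.1, rfl⟩) (hmem p.2)⟩
  have hf : Function.Bijective f := by
    constructor
    · rintro ⟨a, σ⟩ ⟨b, τ⟩ h
      have h' : ∀ x : K, (a : K) * σ x = (b : K) * τ x := fun x =>
        congrArg (fun u : Subgroup.normalizer (L.range : Set (Module.End F K)ˣ) =>
          ((u : (Module.End F K)ˣ) : Module.End F K) x) h
      have hab : a = b := Units.ext (by simpa using h' 1)
      subst hab
      exact Prod.ext rfl (AlgEquiv.ext fun x => mul_left_cancel₀ a.ne_zero (h' x))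
    · rintro ⟨g, hg⟩
      have hg1 : (g : Module.End F K) 1 ≠ 0 := fun h => by
        exact one_ne_zero (unit_injective g (h.trans (map_zero _).symm))
      set u := Units.mk0 _ hg1
      set φ : K →ₗ[F] K := (L u⁻¹ * g : (Module.End F K)ˣ).1 with hφ
      have hφa : ∀ x, φ x = ((g : Module.End F K) 1)⁻¹ * (g : Module.End F K) x := fun x => by
        show ((u⁻¹ : Kˣ) : K) * (g : Module.End F K) x = _
        simp [u]
      have hone : φ 1 = 1 := by rw [hφa, inv_mul_cancel₀ hg1]
      have hmul : ∀ x y, φ (x * y) = φ x * φ y := by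
        intro x y
        rcases eq_or_ne x 0 with rfl | hx
        · simp
        obtain ⟨c, hc⟩ := (Subgroup.mem_normalizer_iff.mp hg (L (Units.mk0 x hx))).mp ⟨_, rfl⟩
        have hgx : ∀ z, (g : Module.End F K) (x * z) = (c : K) * (g : Module.End F K) z := fun z => by
          have := congrArg (fun v : (Module.End F K)ˣ => (v : Module.End F K) ((g : Module.End F K) z)) hc
          simp only [Units.val_mul, Module.End.mul_apply, hL] at this
          rw [this]
          congr 2
          show z = ((g⁻¹ * g : (Module.End F K)ˣ) : Module.End F K) z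
          rw [inv_mul_cancel]; rfl
        have hx1 := hgx 1
        rw [mul_one] at hx1
        rw [hφa, hφa, hφa, hgx, hx1]
        field_simp
      set ψ : K →ₐ[F] K := AlgHom.ofLinearMap φ hone hmul
      refine ⟨(u, AlgEquiv.ofBijective ψ (Algebra.IsAlgebraic.algHom_bijective ψ)), ?_⟩
      refine Subtype.ext (Units.ext (LinearMap.ext fun x => ?_))
      show (u : K) * φ x = (g : Module.End F K) x
      rw [hφa]
      show (g : Module.End F K) 1 * _ = _
      rw [← mul_assoc, mul_inv_cancel₀ hg1, one_mul]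
  rw [← Nat.card_congr (Equiv.ofBijective f hf), Nat.card_prod, IsGalois.card_aut_eq_finrank, hdim,
    Nat.card_units, Nat.card_eq_fintype_card, mul_comm]

end Cfsg.Agent.Lead.GroupMisc
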