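import Mathlib

/-!
# Cosets of conjugates with the intersection property
-/

set_option autoImplicit false

namespace Cfsg.Agent.Helly

variable {G : Type*} [Group G]

/-- `e` lies in the coset `x * (g H g⁻¹)`. -/
def InC (H : Subgroup G) (g x e : G) : Prop := g⁻¹ * (x⁻¹ * e) * g ∈ H

/-- Pairwise meeting cosets of conjugates meet. -/
def IsHelly (H : Subgroup G) : Prop :=
  ∀ (ι : Type) [Finite ι] (g x : ι → G), (∀ i j, ∃ e, InC H (g i) (x i) e ∧ InC H (g j) (x j) e) →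
    ∃ e, ∀ i, InC H (g i) (x i) e

/-- A finite intersection of conjugates. -/
def IsForm (H K : Subgroup G) : Prop := ∃ (k : ℕ) (h : Fin k → G), ∀ e, e ∈ K ↔ ∀ j, (h j)⁻¹ * e * h j ∈ H

theorem InC.one {H : Subgroup G} {g e : G} : InC H g 1 e ↔ g⁻¹ * e * g ∈ H := by
  simp [InC]

theorem IsHelly.of_form {H K : Subgroup G} (hH : IsHelly H) (hK : IsForm H K) : IsHelly K := by
  obtain ⟨k, h, hh⟩ := hK
  intro ι _ g x hpair
  obtain ⟨e, he⟩ := hH (ι × Fin k) (fun w => g w.1 * h w.2) (fun w => x w.1) (fun w w' => by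
    obtain ⟨e, h1, h2⟩ := hpair w.1 w'.1
    refine ⟨e, ?_, ?_⟩
    · have := (hh _).1 h1 w.2
      simpa [InC, mul_assoc] using this
    · have := (hh _).1 h2 w'.2
      simpa [InC, mul_assoc] using this)
  refine ⟨e, fun i => (hh _).2 fun j => ?_⟩
  simpa [InC, mul_assoc] using he (i, j)

theorem IsForm.refl (H : Subgroup G) : IsForm H H :=
  ⟨1, fun _ => 1, fun e => by simp⟩

theorem IsForm.conj {H K : Subgroup G} (hK : IsForm H K) (g : G) :
    IsForm H (K.map (MulAut.conj g).toMonoidHom) := by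
  obtain ⟨k, h, hh⟩ := hK
  refine ⟨k, fun j => g * h j, fun e => ?_⟩
  rw [Subgroup.mem_map_equiv, hh]
  simp [mul_assoc]

theorem IsForm.inf {H K L : Subgroup G} (hK : IsForm H K) (hL : IsForm H L) : IsForm H (K ⊓ L) := by
  obtain ⟨k, h, hh⟩ := hK
  obtain ⟨l, f, hf⟩ := hL
  refine ⟨k + l, Fin.append h f, fun e => ?_⟩
  rw [Subgroup.mem_inf, hh, hf]
  constructor
  · rintro ⟨h1, h2⟩ j
    refine Fin.addCases (fun i => ?_) (fun i => ?_) j
    · rw [Fin.append_left]; exact h1 i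
    · rw [Fin.append_right]; exact h2 i
  · intro hall
    exact ⟨fun i => by simpa using hall (Fin.castAdd l i), fun i => by simpa using hall (Fin.natAdd k i)⟩

/-- Below a nontrivial intersection there is one meeting its conjugates trivially. -/
theorem exists_ti [Finite G] {H L : Subgroup G} (hL : IsForm H L) (hne : L ≠ ⊥) :
    ∃ K : Subgroup G, IsForm H K ∧ K ≤ L ∧ K ≠ ⊥ ∧
      ∀ g : G, K ⊓ K.map (MulAut.conj g).toMonoidHom = ⊥ ∨ K.map (MulAut.conj g).toMonoidHom = K := by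
  obtain ⟨K, ⟨hK, hKL, hK1⟩, hmin⟩ := Set.exists_min_image {K : Subgroup G | IsForm H K ∧ K ≤ L ∧ K ≠ ⊥}
    (fun K => Nat.card ↥K) (Set.toFinite _) ⟨L, hL, le_rfl, hne⟩
  refine ⟨K, hK, hKL, hK1, fun g => or_iff_not_imp_left.2 fun h => ?_⟩
  have h1 : K ⊓ K.map (MulAut.conj g).toMonoidHom = K :=
    Subgroup.eq_of_le_of_card_ge inf_le_left
      (hmin _ ⟨hK.inf (hK.conj g), inf_le_left.trans hKL, h⟩)
  exact (Subgroup.eq_of_le_of_card_ge (inf_eq_left.1 h1)
    (Subgroup.card_map_of_injective (MulAut.conj g).injective).le).symm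

/-- A triangle of conjugates refutes the intersection property. -/
theorem not_helly_of_triangle {H : Subgroup G} {p q r a b : G} (ha1 : a ≠ 1) (ha : p⁻¹ * a * p ∈ H)
    (hb : q⁻¹ * b * q ∈ H) (hab : r⁻¹ * (a * b) * r ∈ H)
    (hpq : ∀ e, p⁻¹ * e * p ∈ H → q⁻¹ * e * q ∈ H → e = 1)
    (hpr : ∀ e, p⁻¹ * e * p ∈ H → r⁻¹ * e * r ∈ H → e = 1) : ¬ IsHelly H := by
  intro hH
  have h1 : InC H p 1 1 := InC.one.2 (by simp)
  have h2 : InC H r 1 1 := InC.one.2 (by simp)
  have h3 : InC H p 1 a := InC.one.2 ha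
  have h4 : InC H q a a := by simp [InC]
  have h5 : InC H q a (a * b) := by simpa [InC] using hb
  have h6 : InC H r 1 (a * b) := InC.one.2 hab
  obtain ⟨e, he⟩ := hH (Fin 3) ![p, q, r] ![1, a, 1] (fun i j => by
    fin_cases i <;> fin_cases j
    · exact ⟨1, h1, h1⟩
    · exact ⟨a, h3, h4⟩
    · exact ⟨1, h1, h2⟩
    · exact ⟨a, h4, h3⟩
    · exact ⟨a, h4, h4⟩
    · exact ⟨a * b, h5, h6⟩
    · exact ⟨1, h2, h1⟩
    · exact ⟨a * b, h6, h5⟩
    · exact ⟨1, h2, h2⟩)
  have e0 : p⁻¹ * e * p ∈ H := InC.one.1 (he 0)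
  have e1 : q⁻¹ * (a⁻¹ * e) * q ∈ H := he 1
  have e2 : r⁻¹ * e * r ∈ H := InC.one.1 (he 2)
  have hea : a⁻¹ * e = 1 := hpq _ (by
    have := H.mul_mem (H.inv_mem ha) e0
    simpa [mul_assoc] using this) e1
  rw [inv_mul_eq_one] at hea
  exact ha1 (hpr a ha (hea ▸ e2))

/-- The condition on tuples of points of the coset space. -/
theorem binary_iff {H : Subgroup G} :
    (∀ (n : ℕ) (I J : Fin n → G ⧸ H), 2 ≤ n →
      (∀ i j : Fin n, i ≠ j → ∃ g : G, g • I i = J i ∧ g • I j = J j) → ∃ g : G, ∀ i, g • I i = J i) ↔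
    IsHelly H := by
  have key : ∀ g x e : G, e • (g : G ⧸ H) = ((x * g : G) : G ⧸ H) ↔ InC H g x e := by
    intro g x e
    show ((e * g : G) : G ⧸ H) = _ ↔ _
    rw [eq_comm, QuotientGroup.eq, InC, mul_inv_rev]
    simp [mul_assoc]
  constructor
  · intro hb ι _ g x hpair
    obtain ⟨n, ⟨σ⟩⟩ := Finite.exists_equiv_fin ι
    by_cases hn : 2 ≤ n
    · obtain ⟨e, he⟩ := hb n (fun i => (g (σ.symm i) : G ⧸ H)) (fun i => ((x (σ.symm i) * g (σ.symm i) : G) : G ⧸ H)) hn
        (fun i j _ => by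
          obtain ⟨e, h1, h2⟩ := hpair (σ.symm i) (σ.symm j)
          exact ⟨e, (key _ _ _).2 h1, (key _ _ _).2 h2⟩)
      exact ⟨e, fun i => by simpa using (key _ _ _).1 (he (σ i))⟩
    · rcases isEmpty_or_nonempty ι with h | ⟨⟨i₀⟩⟩
      · exact ⟨1, fun i => isEmptyElim i⟩
      · obtain ⟨e, he, -⟩ := hpair i₀ i₀
        refine ⟨e, fun i => ?_⟩
        haveI : Subsingleton ι := ⟨fun a b => σ.injective (Fin.ext (by have := (σ a).2; have := (σ b).2; omega))⟩
        rwa [Subsingleton.elim i i₀]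
  · intro hH n I J hn hpair
    have hI : ∀ i, ((I i).out : G ⧸ H) = I i := fun i => QuotientGroup.out_eq' _
    have hJ : ∀ i, (((J i).out * (I i).out⁻¹ * (I i).out : G) : G ⧸ H) = J i := fun i => by
      rw [inv_mul_cancel_right]; exact QuotientGroup.out_eq' _
    have hk : ∀ i e, e • I i = J i ↔ InC H (I i).out ((J i).out * (I i).out⁻¹) e := fun i e => by
      rw [← key, hI, hJ]
    obtain ⟨e, he⟩ := hH (Fin n) (fun i => (I i).out) (fun i => (J i).out * (I i).out⁻¹) (fun i j => by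
      by_cases hij : i = j
      · subst hij
        haveI : Nontrivial (Fin n) := Fin.nontrivial_iff_two_le.2 hn
        obtain ⟨k, hk'⟩ := exists_ne i
        obtain ⟨e, h1, -⟩ := hpair i k hk'.symm
        exact ⟨e, (hk i e).1 h1, (hk i e).1 h1⟩
      · obtain ⟨e, h1, h2⟩ := hpair i j hij
        exact ⟨e, (hk i e).1 h1, (hk j e).1 h2⟩)
    exact ⟨e, fun i => (hk i e).2 (he i)⟩

theorem isHelly_map_iff {G' : Type*} [Group G'] (f : G ≃* G') (H : Subgroup G) :
    IsHelly (H.map f.toMonoidHom) ↔ IsHelly H := by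
  have key : ∀ g x e : G, InC (H.map f.toMonoidHom) (f g) (f x) (f e) ↔ InC H g x e := fun g x e => by
    rw [InC, InC, ← map_inv, ← map_inv, ← map_mul, ← map_mul, ← map_mul]
    exact Subgroup.mem_map_iff_mem (f := f.toMonoidHom) f.injective
  constructor
  · intro hH ι _ g x hpair
    obtain ⟨e, he⟩ := hH ι (fun i => f (g i)) (fun i => f (x i)) (fun i j => by
      obtain ⟨e, h1, h2⟩ := hpair i j
      exact ⟨f e, (key _ _ _).2 h1, (key _ _ _).2 h2⟩)
    exact ⟨f.symm e, fun i => (key _ _ _).1 (by rw [f.apply_symm_apply]; exact he i)⟩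
  · intro hH ι _ g x hpair
    obtain ⟨e, he⟩ := hH ι (fun i => f.symm (g i)) (fun i => f.symm (x i)) (fun i j => by
      obtain ⟨e, h1, h2⟩ := hpair i j
      exact ⟨f.symm e, (key _ _ _).1 (by simpa using h1), (key _ _ _).1 (by simpa using h2)⟩)
    exact ⟨f e, fun i => by simpa using (key _ _ _).2 (he i)⟩

theorem isHelly_bot : IsHelly (⊥ : Subgroup G) := by
  intro ι _ g x hpair
  have h : ∀ i e, InC (⊥ : Subgroup G) (g i) (x i) e ↔ e = x i := fun i e => by
    rw [InC, Subgroup.mem_bot]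
    constructor
    · intro h
      have h' := congrArg (fun z => g i * z * (g i)⁻¹) h
      have h'' : (x i)⁻¹ * e = 1 := by simpa [mul_assoc] using h'
      exact (inv_mul_eq_one.1 h'').symm
    · intro h
      simp [h]
  rcases isEmpty_or_nonempty ι with hι | ⟨⟨i₀⟩⟩
  · exact ⟨1, fun i => isEmptyElim i⟩
  refine ⟨x i₀, fun i => ?_⟩
  obtain ⟨e, h1, h2⟩ := hpair i i₀
  rwa [← (h i₀ e).1 h2]

end Cfsg.Agent.Helly
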