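import Cfsg.Agent.Lib.Fusion.BaerTrick
import Cfsg.Agent.Lib.Fusion.PConstrained
import Cfsg.Agent.Lib.Solv.Coprime

/-!
# Invariant p'-subgroups in p-constrained groups

If an abelian p-subgroup contains all p-elements of its centralizer, then the p'-subgroups
it normalises lie in the p'-core of a p-constrained group (for p = 2: class two Sylow subgroups).
-/

set_option autoImplicit false
set_option linter.style.haveILetI false

open scoped commutatorElement

namespace Cfsg.Agent.Lead

open Cfsg.Agent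

/-- 2-subgroups have class at most two, when `p = 2`. -/
def ClassTwoHyp (p : ℕ) (G : Type*) [Group G] : Prop :=
  p = 2 → ∀ Y : Subgroup G, IsPGroup p Y → ∀ a ∈ Y, ∀ b ∈ Y, ∀ c ∈ Y, Commute ⁅a, b⁆ c

variable {G : Type*} [Group G] [Finite G] {p : ℕ} [hp : Fact p.Prime]

theorem classTwoHyp_of_sylow (h : p = 2 → ∀ S : Sylow p G,
    Group.IsNilpotent (S : Subgroup G) ∧ Group.nilpotencyClass (S : Subgroup G) ≤ 2) :
    ClassTwoHyp p G := by
  intro hp2 Y hY a ha b hb c hc
  obtain ⟨S, hS⟩ := hY.exists_le_sylow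
  obtain ⟨hn, hcl⟩ := h hp2 S
  haveI := hn
  have h2 := Subgroup.lowerCentralSeries_eq_bot_iff_nilpotencyClass_le.2 hcl
  let a' : (S : Subgroup G) := ⟨a, hS ha⟩
  let b' : (S : Subgroup G) := ⟨b, hS hb⟩
  let c' : (S : Subgroup G) := ⟨c, hS hc⟩
  have h3 : ⁅⁅a', b'⁆, c'⁆ ∈ (⊤ : Subgroup (S : Subgroup G)).lowerCentralSeries 2 := by
    rw [Subgroup.lowerCentralSeries_succ, Subgroup.lowerCentralSeries_succ,
      Subgroup.lowerCentralSeries_zero]
    exact Subgroup.commutator_mem_commutator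
      (Subgroup.commutator_mem_commutator (Subgroup.mem_top _) (Subgroup.mem_top _)) (Subgroup.mem_top _)
  rw [h2, Subgroup.mem_bot, commutatorElement_eq_one_iff_mul_comm] at h3
  exact congrArg Subtype.val h3

omit [Finite G] hp in
theorem classTwoHyp_subgroup (h : ClassTwoHyp p G) (H : Subgroup G) : ClassTwoHyp p H := by
  intro hp2 Y hY a ha b hb c hc
  have := h hp2 (Y.map H.subtype) (hY.map _) a ⟨a, ha, rfl⟩ b ⟨b, hb, rfl⟩ c ⟨c, hc, rfl⟩
  exact Subtype.ext this

theorem classTwoHyp_quotient (h : ClassTwoHyp p G) (N : Subgroup G) [N.Normal] :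
    ClassTwoHyp p (G ⧸ N) := by
  intro hp2 Y hY a ha b hb c hc
  obtain ⟨S, hS⟩ := hY.exists_le_sylow
  obtain ⟨P, rfl⟩ := (Sylow.mapSurjective_surjective (QuotientGroup.mk'_surjective N) p) S
  rw [Sylow.coe_mapSurjective] at hS
  obtain ⟨a', ha', rfl⟩ := hS ha
  obtain ⟨b', hb', rfl⟩ := hS hb
  obtain ⟨c', hc', rfl⟩ := hS hc
  have := (h hp2 P P.isPGroup' a' ha' b' hb' c' hc').map (QuotientGroup.mk' N)
  rwa [map_commutatorElement] at this

omit [Finite G] hp in
theorem iterate_conj {y u w : G} (h : y * u * y⁻¹ = w * u) (hw : y * w * y⁻¹ = w) :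
    ∀ n : ℕ, y ^ n * u * (y ^ n)⁻¹ = w ^ n * u
  | 0 => by simp
  | n + 1 => by
    calc y ^ (n + 1) * u * (y ^ (n + 1))⁻¹ = y * (y ^ n * u * (y ^ n)⁻¹) * y⁻¹ := by
          rw [pow_succ']; group
      _ = y * (w ^ n * u) * y⁻¹ := by rw [iterate_conj h hw n]
      _ = (y * w * y⁻¹) ^ n * (y * u * y⁻¹) := by rw [← conj_mul, conj_pow]
      _ = w ^ (n + 1) * u := by rw [hw, h, pow_succ, mul_assoc]

/-- A fixed displacement is trivial in coprime action. -/
theorem commute_of_fixed_displacement {P Q : Subgroup G} (hP : IsPGroup p P) (hQ : ¬ p ∣ Nat.card Q)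
    {y u w : G} (hy : y ∈ Q) (hw' : w ∈ P) (h : y * u * y⁻¹ = w * u) (hw : y * w * y⁻¹ = w) : w = 1 := by
  have h1 := iterate_conj h hw (orderOf y)
  rw [pow_orderOf_eq_one, one_mul, inv_one, mul_one, right_eq_mul] at h1
  obtain ⟨k, hk⟩ := hP ⟨w, hw'⟩
  have hk' : w ^ p ^ k = 1 := congrArg Subtype.val hk
  have hco : (orderOf y).Coprime (p ^ k) := by
    refine (Nat.Coprime.pow_right k ?_)
    refine Nat.Coprime.symm ((Nat.Prime.coprime_iff_not_dvd hp.out).2 fun hd => hQ (hd.trans ?_))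
    exact Subgroup.orderOf_dvd_natCard Q hy
  exact orderOf_eq_one_iff.1 (Nat.eq_one_of_dvd_coprimes hco (orderOf_dvd_of_pow_eq_one h1)
    (orderOf_dvd_of_pow_eq_one hk'))

omit [Finite G] hp in
theorem commutator_inv_mem_normalizer {U Q : Subgroup G} {x : G} (hU : x ∈ Subgroup.normalizer (U : Set G))
    (hQ : x ∈ Subgroup.normalizer (Q : Set G)) :
    x ∈ Subgroup.normalizer ((⁅U, Q⁆ : Subgroup G) : Set G) := by
  refine Solv.mem_normalizer_of_conj_smul ?_
  rw [Solv.conj_smul_eq_map, Subgroup.map_commutator, ← Solv.conj_smul_eq_map, ← Solv.conj_smul_eq_map,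
    Solv.conj_smul_of_mem_normalizer hU, Solv.conj_smul_of_mem_normalizer hQ]

/-- A p'-group normalised by a p-group, centralising the fixed points, centralises everything. -/
theorem centralizes_of_fixed {P E Q : Subgroup G} (hP : IsPGroup p P) (hE : IsPGroup p E)
    (hEc : IsMulCommutative E)
    (hQ : ¬ p ∣ Nat.card Q) (hEQ : E ≤ Subgroup.normalizer (Q : Set G))
    (hEP : E ≤ Subgroup.normalizer (P : Set G)) (hQP : Q ≤ Subgroup.normalizer (P : Set G))
    (hfix : ∀ y ∈ P, (∀ e ∈ E, e * y = y * e) → ∀ x ∈ Q, x * y = y * x)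
    (hcl : ClassTwoHyp p G) : P ≤ Subgroup.centralizer (Q : Set G) := by
  rcases eq_or_ne p 2 with hp2 | hp2
  · set Y := P ⊔ E with hYdef
    have hY : IsPGroup p Y := hP.to_sup_of_normal_left' hE hEP
    have hc := hcl hp2 Y hY
    have hz : ∀ u ∈ P, ∀ e ∈ E, ⁅e, u⁆ ∈ P ∧ (∀ x ∈ Q, x * ⁅e, u⁆ = ⁅e, u⁆ * x) ∧
        (∀ c ∈ Y, Commute ⁅e, u⁆ c) := by
      intro u hu e he
      have h1 : ⁅e, u⁆ ∈ P := by
        rw [commutatorElement_def]
        exact mul_mem (Solv.conj_mem_of_mem_normalizer (hEP he) hu) (inv_mem hu)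
      have h2 := hc e (Subgroup.mem_sup_right he) u (Subgroup.mem_sup_left hu)
      exact ⟨h1, hfix _ h1 fun e' he' => (h2 e' (Subgroup.mem_sup_right he')).eq.symm, h2⟩
    have hact : ∀ x ∈ Q, ∀ e ∈ E, ∀ u ∈ P, e * x * e⁻¹ * u * (e * x * e⁻¹)⁻¹ = x * u * x⁻¹ := by
      intro x hx e he u hu
      have hxu := Solv.conj_mem_of_mem_normalizer (hQP hx) hu
      obtain ⟨hz1, hz1x, hz1c⟩ := hz u hu e he
      obtain ⟨hz2, hz2x, hz2c⟩ := hz _ hxu e he
      set x' := e * x * e⁻¹ with hx'
      have hx'Q : x' ∈ Q := Solv.conj_mem_of_mem_normalizer (hEQ he) hx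
      set w := ⁅e, u⁆⁻¹ * ⁅e, x * u * x⁻¹⁆ with hw
      have e1 : x' * u * x'⁻¹ = w * (x * u * x⁻¹) := by
        have h3 : x' * (⁅e, u⁆ * u) * x'⁻¹ = ⁅e, x * u * x⁻¹⁆ * (x * u * x⁻¹) := by
          simp only [hx', commutatorElement_def]; group
        rw [← conj_mul, hz1x x' hx'Q, mul_inv_cancel_right] at h3
        rw [hw, mul_assoc ⁅e, u⁆⁻¹, ← h3, inv_mul_cancel_left]
      have hwx : ∀ x ∈ Q, x * w = w * x := fun x hx =>
        ((Commute.inv_right (hz1x x hx)).mul_right (hz2x x hx)).eq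
      have e2 : (x⁻¹ * x') * u * (x⁻¹ * x')⁻¹ = w * u := by
        rw [show (x⁻¹ * x') * u * (x⁻¹ * x')⁻¹ = x⁻¹ * (x' * u * x'⁻¹) * x by group, e1, ← mul_assoc,
          ← mul_assoc, hwx x⁻¹ (inv_mem hx)]
        group
      have hw1 : w = 1 := commute_of_fixed_displacement hP hQ (mul_mem (inv_mem hx) hx'Q)
        (mul_mem (inv_mem hz1) hz2) e2 (by rw [hwx _ (mul_mem (inv_mem hx) hx'Q), mul_inv_cancel_right])
      rw [e1, hw1, one_mul]
    intro u hu
    rw [Subgroup.mem_centralizer_iff]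
    intro x hx
    set c := x * u * x⁻¹ * u⁻¹ with hc'
    have hcP : c ∈ P := mul_mem (Solv.conj_mem_of_mem_normalizer (hQP hx) hu) (inv_mem hu)
    have hcx : x * c = c * x := by
      refine hfix c hcP (fun e he => ?_) x hx
      obtain ⟨hz1, hz1x, hz1c⟩ := hz u hu e he
      have h3 : e * (x * u * x⁻¹) * e⁻¹ = ⁅e, u⁆ * (x * u * x⁻¹) := by
        have h4 : e * (x * u * x⁻¹) * e⁻¹ = (e * x * e⁻¹) * (⁅e, u⁆ * u) * (e * x * e⁻¹)⁻¹ := by
          simp only [commutatorElement_def]; group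
        rw [h4, ← conj_mul, hact x hx e he u hu, hz1x _ (Solv.conj_mem_of_mem_normalizer (hEQ he) hx),
          mul_inv_cancel_right]
      have h5 : e * c * e⁻¹ = c := by
        have h6 : e * c * e⁻¹ = e * (x * u * x⁻¹) * e⁻¹ * (⁅e, u⁆ * u)⁻¹ := by
          simp only [hc', commutatorElement_def]; group
        rw [h6, h3, mul_inv_rev, ← mul_assoc, mul_assoc ⁅e, u⁆ (x * u * x⁻¹) u⁻¹, ← hc',
          (hz1c c (Subgroup.mem_sup_left hcP)).eq, mul_inv_cancel_right]
      exact mul_inv_eq_iff_eq_mul.1 h5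
    have h1 : c = 1 := commute_of_fixed_displacement (u := u) hP hQ hx hcP (by rw [hc']; group)
      (by rw [hcx, mul_inv_cancel_right])
    rw [hc', mul_inv_eq_one, mul_inv_eq_iff_eq_mul] at h1
    exact h1
  · have key : ∀ (n : ℕ) (U : Subgroup G), Nat.card U = n → U ≤ P → E ≤ Subgroup.normalizer (U : Set G) →
        Q ≤ Subgroup.normalizer (U : Set G) → U ≤ Subgroup.centralizer (Q : Set G) := by
      intro n
      induction n using Nat.strong_induction_on with
      | _ n ih =>
        intro U hn hUP hEU hQU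
        have hUp : IsPGroup p U := hP.to_le hUP
        have hco : (Nat.card Q).Coprime (Nat.card U) := by
          obtain ⟨k, hk⟩ := IsPGroup.iff_card.1 hUp
          rw [hk]
          exact Nat.Coprime.pow_right k ((Nat.Prime.coprime_iff_not_dvd hp.out).2 hQ).symm
        haveI := hUp.isNilpotent
        have hsol : Group.IsSolvable Q ∨ Group.IsSolvable U := Or.inr inferInstance
        obtain ⟨hDU, hUD, hQD⟩ := Solv.commutator_normal_in (K := U) (A := Q) hQU
        by_cases hD : ⁅U, Q⁆ = U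
        swap
        · have hlt : ⁅U, Q⁆ < U := lt_of_le_of_ne hDU hD
          have hDC := ih _ (hn ▸ Solv.card_lt_of_lt hlt) ⁅U, Q⁆ rfl (hDU.trans hUP)
            (fun e he => commutator_inv_mem_normalizer (hEU he) (hEQ he)) hQD
          have h1 := Solv.commutator_commutator_eq (K := U) (A := Q) hQU hco hsol
          rw [Subgroup.commutator_eq_bot_iff_le_centralizer.2 hDC] at h1
          exact Subgroup.commutator_eq_bot_iff_le_centralizer.1 h1.symm
        rcases eq_or_ne U ⊥ with rfl | hU0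
        · exact bot_le
        set V := ⁅U, U⁆ with hV
        have hVU : V ≤ U := by
          rw [hV]
          exact Subgroup.commutator_le.2 fun a ha b hb => by
            rw [commutatorElement_def]
            exact mul_mem (mul_mem (mul_mem ha hb) (inv_mem ha)) (inv_mem hb)
        have hVne : V ≠ U := by
          intro h
          haveI : Nontrivial U := (Subgroup.nontrivial_iff_ne_bot U).2 hU0
          have h2 := IsSolvable.commutator_lt_top_of_nontrivial U
          refine h2.ne ?_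
          refine Subgroup.map_injective U.subtype_injective ?_
          rw [commutator_def, Subgroup.map_commutator, ← MonoidHom.range_eq_map, Subgroup.range_subtype]
          exact h
        have hVC := ih _ (hn ▸ Solv.card_lt_of_lt (lt_of_le_of_ne hVU hVne)) V rfl (hVU.trans hUP)
          (fun e he => commutator_inv_mem_normalizer (hEU he) (hEU he))
          (fun e he => commutator_inv_mem_normalizer (hQU he) (hQU he))
        have hz : ⁅V, U⁆ = ⊥ := by
          have h1 : ⁅⁅Q, V⁆, U⁆ = ⊥ := by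
            rw [Subgroup.commutator_comm Q V, Subgroup.commutator_eq_bot_iff_le_centralizer.2 hVC,
              Subgroup.commutator_bot_left]
          have h2 : ⁅⁅V, U⁆, Q⁆ = ⊥ := by
            refine Subgroup.commutator_eq_bot_iff_le_centralizer.2 (le_trans ?_ hVC)
            exact Subgroup.commutator_mono hVU le_rfl
          have h3 := Subgroup.commutator_commutator_eq_bot_of_rotate (H₁ := U) (H₂ := Q) (H₃ := V) h1 h2
          rwa [hD, Subgroup.commutator_comm] at h3
        have hclass : commutator U ≤ Subgroup.center U := by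
          intro z hz'
          rw [Subgroup.mem_center_iff]
          intro g
          refine Subtype.ext ?_
          have hzV : (z : G) ∈ V := by
            have := Subgroup.mem_map_of_mem U.subtype hz'
            rwa [commutator_def, Subgroup.map_commutator, ← MonoidHom.range_eq_map, Subgroup.range_subtype] at this
          exact Subgroup.mem_centralizer_iff.1
            (Subgroup.commutator_eq_bot_iff_le_centralizer.1 hz hzV) _ g.2
        by_contra hne
        let φ : E →* MulAut U := U.normalizerMonoidHom.comp (Subgroup.inclusion hEU)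
        let ψ : Q →* MulAut U := U.normalizerMonoidHom.comp (Subgroup.inclusion hQU)
        let σ : E → Q ≃ Q := fun e => (Q.normalizerMonoidHom (Subgroup.inclusion hEQ e)).toEquiv
        obtain ⟨d, -, hdE, x, hdx⟩ := Fusion.exists_fixed_order_p_not_fixed hp2 hUp hclass φ ψ hE hQ σ
          (fun e x u => Subtype.ext (by
            show (e : G) * ((x : G) * u * (x : G)⁻¹) * (e : G)⁻¹ =
              (e : G) * x * (e : G)⁻¹ * ((e : G) * u * (e : G)⁻¹) * ((e : G) * x * (e : G)⁻¹)⁻¹
            group))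
          (by
            by_contra hall
            push Not at hall
            refine hne fun u hu => Subgroup.mem_centralizer_iff.2 fun x hx => ?_
            exact mul_inv_eq_iff_eq_mul.1 (congrArg Subtype.val (hall ⟨x, hx⟩ ⟨u, hu⟩)))
        refine hdx (Subtype.ext ?_)
        show (x : G) * d * (x : G)⁻¹ = d
        rw [hfix _ (hUP d.2) (fun e he => mul_inv_eq_iff_eq_mul.1 (congrArg Subtype.val (hdE ⟨e, he⟩))) _ x.2,
          mul_inv_cancel_right]
    exact key _ P rfl le_rfl hEP hQP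

/-- In a p-constrained group such subgroups lie in the p'-core. -/
theorem invariant_le_pPrimeCore (hc : Cfsg.IsPConstrained p G) {E Q : Subgroup G}
    (hE : IsPGroup p E) (hEc : IsMulCommutative E)
    (hfull : ∀ x : G, (∀ e ∈ E, e * x = x * e) → IsPGroup p (Subgroup.zpowers x) → x ∈ E)
    (hQ : ¬ p ∣ Nat.card Q) (hEQ : E ≤ Subgroup.normalizer (Q : Set G))
    (hcl : ClassTwoHyp p G) : Q ≤ Cfsg.pPrimeCore p G := by
  set M := Cfsg.pPrimeCore p G with hM
  haveI : M.Normal := Solv.pPrimeCore_normal p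
  set π := QuotientGroup.mk' M with hπ
  set P := Cfsg.pCore p (G ⧸ M) with hP
  haveI : P.Normal := by rw [hP]; exact inferInstance
  have hcM : (Nat.card M).Coprime p := Fusion.card_pPrimeCore_coprime p G
  have hQ' : ¬ p ∣ Nat.card (Q.map π) := fun h => hQ (h.trans (Subgroup.card_map_dvd _ _))
  have hfix : ∀ y ∈ P, (∀ e ∈ E.map π, e * y = y * e) → ∀ x ∈ Q.map π, x * y = y * x := by
    intro y hy hye
    obtain ⟨g, rfl⟩ := QuotientGroup.mk'_surjective M y
    have hg : ∀ e ∈ E, g⁻¹ * (e * g * e⁻¹) ∈ M := fun e he => by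
      refine (QuotientGroup.eq_one_iff _).1 ?_
      show π (g⁻¹ * (e * g * e⁻¹)) = 1
      rw [map_mul, map_mul, map_mul, hye (π e) (Subgroup.mem_map_of_mem π he), map_inv, map_inv,
        mul_inv_cancel_right, inv_mul_cancel]
    have hcoE : (Nat.card E).Coprime (Nat.card M) := by
      obtain ⟨k, hk⟩ := IsPGroup.iff_card.1 hE
      rw [hk]; exact hcM.symm.pow_left k
    obtain ⟨d, hd, hdn⟩ := Solv.exists_fixed_in_coset E M
      (by rw [Subgroup.normalizer_eq_top]; exact le_top) hcoE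
      (Or.inl (Group.isSolvable_of_comm fun a b => hEc.is_comm.comm a b)) hg
    set g' := g * d with hg'
    have hπg : π g' = π g := by
      rw [hg', map_mul, (QuotientGroup.eq_one_iff d).2 hd |> (fun h => (h : π d = 1)), mul_one]
    have hgc : ∀ e ∈ E, e * g' = g' * e := by
      intro e he
      have h1 : g' * e * g'⁻¹ * e⁻¹ ∈ E := mul_mem (Solv.conj_mem_of_mem_normalizer hdn he) (inv_mem he)
      have h2 : g' * e * g'⁻¹ * e⁻¹ ∈ M := by
        refine (QuotientGroup.eq_one_iff _).1 ?_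
        show π (g' * e * g'⁻¹ * e⁻¹) = 1
        rw [map_mul, map_mul, map_mul, map_inv, map_inv, hπg, ← hye (π e) (Subgroup.mem_map_of_mem π he),
          mul_inv_cancel_right, mul_inv_cancel]
      have h3 : g' * e * g'⁻¹ * e⁻¹ ∈ (M ⊓ E : Subgroup G) := ⟨h2, h1⟩
      rw [Fusion.coprime_inf_pGroup hcM hE, Subgroup.mem_bot, mul_inv_eq_one, mul_inv_eq_iff_eq_mul] at h3
      exact h3.symm
    obtain ⟨k, hk⟩ := Fusion.isPGroup_pCore p (G ⧸ M) ⟨π g, hy⟩
    have hk' : π g' ^ p ^ k = 1 := by rw [hπg]; exact congrArg Subtype.val hk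
    set o := orderOf g' with ho
    have ho0 : o ≠ 0 := (orderOf_pos g').ne'
    have hcop : (p ^ (o.factorization p)).Coprime (o / p ^ (o.factorization p)) :=
      Nat.Coprime.pow_left _ (Nat.coprime_ordCompl hp.out ho0)
    obtain ⟨n, hn1, hn0⟩ := Nat.chineseRemainder hcop 1 0
    have hn1' : π (g' ^ n) = π g' := by
      have h4 : orderOf (π g') ∣ p ^ (o.factorization p) := by
        have h5 : orderOf (π g') ∣ o := orderOf_map_dvd π g'
        obtain ⟨i, -, hi⟩ := (Nat.dvd_prime_pow hp.out).1 (orderOf_dvd_of_pow_eq_one hk')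
        rw [hi] at h5 ⊢
        exact pow_dvd_pow p ((hp.out.pow_dvd_iff_le_factorization ho0).1 h5)
      rw [map_pow]
      nth_rewrite 2 [← pow_one (π g')]
      exact pow_eq_pow_iff_modEq.2 (hn1.of_dvd h4)
    have hmem : g' ^ n ∈ E := by
      refine hfull _ (fun e he => (Commute.pow_right (hgc e he) n).eq) ?_
      have h6 : orderOf (g' ^ n) ∣ p ^ (o.factorization p) := by
        refine orderOf_dvd_of_pow_eq_one ?_
        rw [← pow_mul]
        refine orderOf_dvd_iff_pow_eq_one.1 ?_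
        rw [← ho]
        nth_rewrite 1 [← Nat.ordProj_mul_ordCompl_eq_self o p]
        rw [mul_comm n]
        exact Nat.mul_dvd_mul_left _ (Nat.modEq_zero_iff_dvd.1 hn0)
      obtain ⟨i, -, hi⟩ := (Nat.dvd_prime_pow hp.out).1 h6
      exact IsPGroup.of_card (n := i) (by rw [Nat.card_zpowers, hi])
    intro x hx
    have hyE : π g ∈ E.map π := ⟨g' ^ n, hmem, hn1'.trans hπg⟩
    obtain ⟨q, hq, rfl⟩ := hx
    obtain ⟨e, he, hee⟩ := hyE
    rw [← hee] at hy ⊢
    have h7 : π e * π q * (π e)⁻¹ * (π q)⁻¹ ∈ (Q.map π : Subgroup (G ⧸ M)) ⊓ P := by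
      refine ⟨?_, ?_⟩
      · rw [← map_inv, ← map_inv, ← map_mul, ← map_mul, ← map_mul]
        exact Subgroup.mem_map_of_mem π (mul_mem (Solv.conj_mem_of_mem_normalizer (hEQ he) hq) (inv_mem hq))
      · rw [mul_assoc (π e), mul_assoc (π e)]
        exact mul_mem hy (Subgroup.Normal.conj_mem inferInstance _ (inv_mem hy) _)
    rw [Fusion.coprime_inf_pGroup ((Nat.Prime.coprime_iff_not_dvd hp.out).2 hQ').symm
      (Fusion.isPGroup_pCore p _), Subgroup.mem_bot, mul_inv_eq_one, mul_inv_eq_iff_eq_mul] at h7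
    exact h7.symm
  have hcent := centralizes_of_fixed (E := E.map π) (Q := Q.map π) (Fusion.isPGroup_pCore p (G ⧸ M))
    (hE.map π) ⟨⟨fun a b => by
      obtain ⟨a, ha, ea⟩ := a.2
      obtain ⟨b', hb, eb⟩ := b.2
      refine Subtype.ext ?_
      show (_ : G ⧸ M) * _ = _ * _
      rw [← ea, ← eb, ← map_mul, ← map_mul]
      exact congrArg π (congrArg Subtype.val (hEc.is_comm.comm ⟨_, ha⟩ ⟨_, hb⟩))⟩⟩ hQ'
    (fun x hx => by
      obtain ⟨e, he, rfl⟩ := hx
      exact Subgroup.le_normalizer_map π ⟨e, hEQ he, rfl⟩)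
    (by rw [Subgroup.normalizer_eq_top]; exact le_top) (by rw [Subgroup.normalizer_eq_top]; exact le_top)
    hfix (classTwoHyp_quotient hcl M)
  have hle : Q.map π ≤ P := le_trans (Subgroup.le_centralizer_iff.1 hcent) (Fusion.isPConstrained_iff.1 hc)
  have hbot : Q.map π = ⊥ := by
    rw [← inf_eq_left.2 hle]
    exact Fusion.coprime_inf_pGroup ((Nat.Prime.coprime_iff_not_dvd hp.out).2 hQ').symm
      (Fusion.isPGroup_pCore p _)
  rw [Subgroup.map_eq_bot_iff, hπ, QuotientGroup.ker_mk'] at hbot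
  exact hbot

end Cfsg.Agent.Lead
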