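import Mathlib
import Cfsg.Agent.Lib.Char.Linear
import Cfsg.Agent.Lib.Char.DegreeDvd
import Cfsg.Agent.Lib.Char.Glauberman

/-!
Counting irreducible characters by a property of the degree: small tools.
-/

set_option autoImplicit false
set_option linter.unusedSectionVars false

namespace Cfsg.Agent.Lead.DegCount

open Cfsg Cfsg.Agent.Char

universe u v

/-- The number of irreducible characters whose degree has the property `P`. -/
noncomputable def dc (H : Type u) [Group H] (P : ℕ → Prop) : ℕ :=
  Nat.card {χ : IrrCharacter H // P (deg (χ : H → ℂ))}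

theorem dc_congr {A : Type u} {B : Type v} [Group A] [Group B] [Finite A] [Finite B] (e : A ≃* B)
    (P : ℕ → Prop) : dc A P = dc B P := by
  classical
  haveI := Fintype.ofFinite A
  haveI := Fintype.ofFinite B
  let E : IrrCharacter A ≃ IrrCharacter B :=
    { toFun := fun χ => ⟨fun b => (χ : A → ℂ) (e.symm b), isIrrCharacter_comp_equiv e.symm χ.2⟩
      invFun := fun χ => ⟨fun a => (χ : B → ℂ) (e a), isIrrCharacter_comp_equiv e χ.2⟩
      left_inv := fun χ => Subtype.ext (funext fun a => by simp)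
      right_inv := fun χ => Subtype.ext (funext fun b => by simp) }
  refine Nat.card_congr (E.subtypeEquiv fun χ => ?_)
  have : deg ((E χ : IrrCharacter B) : B → ℂ) = deg (χ : A → ℂ) := by simp [deg, E]
  rw [this]

theorem dc_of_forall {H : Type u} [Group H] [Finite H] {P : ℕ → Prop}
    (h : ∀ χ : IrrCharacter H, P (deg (χ : H → ℂ))) : dc H P = Nat.card (ConjClasses H) := by
  rw [dc, Nat.card_congr (Equiv.subtypeUnivEquiv h), Char.card_irr]

theorem sum_deg_sq (H : Type u) [Group H] [Fintype H] :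
    ∑ χ : IrrCharacter H, deg (χ : H → ℂ) ^ 2 = Nat.card H := by
  have h := sum_sq_deg (G := H)
  simp only [char_one_eq_deg (irr_isCharacter (Subtype.prop _))] at h
  exact_mod_cast h

theorem deg_eq_one_iff {H : Type u} [Group H] (χ : IrrCharacter H) :
    deg (χ : H → ℂ) = 1 ↔ (χ : H → ℂ) 1 = 1 := by
  rw [char_one_eq_deg (irr_isCharacter χ.2), Nat.cast_eq_one]

/-- A central involution acts by a sign, which is positive in odd degree inside the commutator. -/
theorem central_involution_value {H : Type u} [Group H] [Finite H] {z : H}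
    (hz : z ∈ Subgroup.center H) (z2 : z * z = 1) (χ : IrrCharacter H) :
    ((χ : H → ℂ) z = (χ : H → ℂ) 1 ∨ (χ : H → ℂ) z = -(χ : H → ℂ) 1) ∧
      (z ∈ commutator H → Odd (deg (χ : H → ℂ)) → (χ : H → ℂ) z = (χ : H → ℂ) 1) := by
  classical
  haveI := Fintype.ofFinite H
  obtain ⟨χ, n, ρ, hρ, rfl⟩ := χ
  have := hρ
  have h1 : ρ.character 1 ≠ 0 := irr_one_ne_zero (isIrrCharacter_character ρ hρ)
  have hn : deg ρ.character = n := by simp [deg, Representation.char_one]
  have hn0 : n ≠ 0 := fun h => h1 (by rw [Representation.char_one]; simp [h])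
  have : Nontrivial (Fin n → ℂ) :=
    Module.nontrivial_of_finrank_pos (R := ℂ) (by simpa using Nat.pos_of_ne_zero hn0)
  have hf : (Finset.univ.filter fun x => IsConj z x) = {z} := by
    ext x
    simp only [Finset.mem_filter, Finset.mem_univ, true_and, Finset.mem_singleton]
    constructor
    · intro h
      obtain ⟨c, rfl⟩ := isConj_iff.mp h
      rw [Subgroup.mem_center_iff.mp hz c, mul_inv_cancel_right]
    · rintro rfl
      exact IsConj.refl _
  have hs := classSum_eq_omega ρ z
  rw [hf, Finset.sum_singleton] at hs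
  obtain ⟨ω, hω⟩ : ∃ ω, ω = omega ρ.character z := ⟨_, rfl⟩
  rw [← hω] at hs
  have hval : ρ.character z = ω * ρ.character 1 := by
    rw [Representation.char_one]
    simp [Representation.character, hs, LinearMap.map_smul]
  have hsq : ω * ω = 1 := by
    have e := map_mul ρ z z
    rw [z2, map_one, hs] at e
    rw [show (ω • LinearMap.id : (Fin n → ℂ) →ₗ[ℂ] (Fin n → ℂ)) * (ω • LinearMap.id)
      = (ω * ω) • (1 : Module.End ℂ (Fin n → ℂ)) from by
        ext v i; simp [mul_assoc]] at e
    exact smul_left_injective ℂ (one_ne_zero (α := Module.End ℂ (Fin n → ℂ)))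
      (show (ω * ω) • (1 : Module.End ℂ (Fin n → ℂ)) = (1 : ℂ) • 1 from
        e.symm.trans (one_smul ℂ _).symm)
  have hω' : ω = 1 ∨ ω = -1 := mul_self_eq_one_iff.mp hsq
  show (ρ.character z = ρ.character 1 ∨ ρ.character z = -ρ.character 1) ∧
    (z ∈ commutator H → Odd (deg ρ.character) → ρ.character z = ρ.character 1)
  refine ⟨hω'.imp (fun h => by rw [hval, h, one_mul]) (fun h => by rw [hval, h, neg_one_mul]),
    fun hc ho => ?_⟩
  rw [hn] at ho
  let d : H →* ℂˣ := MonoidHom.toHomUnits ((LinearMap.det).comp ρ)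
  have hd : d z = 1 := Abelianization.commutator_subset_ker d hc
  have hd' : LinearMap.det (ρ z) = 1 := congrArg Units.val hd
  rw [hs, LinearMap.det_smul, LinearMap.det_id, mul_one, Module.finrank_fintype_fun_eq_card,
    Fintype.card_fin] at hd'
  rcases hω' with h | h
  · rw [hval, h, one_mul]
  · rw [h, ho.neg_one_pow] at hd'
    norm_num at hd'

/-- Degrees in a group of order `24` with a central involution in a derived subgroup of index `3`. -/
theorem degrees_twentyfour {H : Type u} [Group H] [Finite H] (hc : Nat.card H = 24) {z : H}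
    (hz : z ∈ Subgroup.center H) (z2 : z * z = 1) (z1 : z ≠ 1)
    (hidx : (commutator H).index = 3) (hzc : z ∈ commutator H) :
    dc H (fun d => ¬ 2 ∣ d) = 4 ∧ dc H (fun d => d = 3) = 1 := by
  classical
  haveI := Fintype.ofFinite H
  obtain ⟨A, hA⟩ : ∃ A : Finset (IrrCharacter H),
      A = Finset.univ.filter (fun χ : IrrCharacter H => (χ : H → ℂ) z = (χ : H → ℂ) 1) := ⟨_, rfl⟩
  obtain ⟨d, hd⟩ : ∃ d : IrrCharacter H → ℕ, d = fun χ : IrrCharacter H => deg (χ : H → ℂ) := ⟨_, rfl⟩
  have hd1 : ∀ χ : IrrCharacter H, (χ : H → ℂ) 1 = d χ := fun χ => by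
    rw [hd]; exact char_one_eq_deg (irr_isCharacter χ.2)
  have hpos : ∀ χ, 0 < d χ := fun χ => by rw [hd]; exact deg_pos χ.2
  have hdvd : ∀ χ, d χ ∣ 24 := fun χ => by
    rw [hd]; exact (deg_dvd_card χ.2).trans hc.dvd
  have hodd : ∀ χ, Odd (d χ) → χ ∈ A := fun χ h => by
    rw [hA, Finset.mem_filter]
    exact ⟨Finset.mem_univ _, (central_involution_value hz z2 χ).2 hzc (by rw [hd] at h; exact h)⟩
  have h12 : ∑ χ ∈ A, d χ ^ 2 = 12 := by
    have e1 := regular_sum z
    rw [if_neg z1] at e1
    have e2 := sum_sq_deg (G := H)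
    have e3 : ∑ χ : IrrCharacter H, ((χ : H → ℂ) 1 * (χ : H → ℂ) z + (χ : H → ℂ) 1 ^ 2) =
        2 * ∑ χ ∈ A, ((d χ ^ 2 : ℕ) : ℂ) := by
      rw [hA, Finset.sum_filter, Finset.mul_sum]
      refine Finset.sum_congr rfl fun χ _ => ?_
      split_ifs with h
      · rw [h, hd1]; push_cast; ring
      · rw [((central_involution_value hz z2 χ).1).resolve_left h]; ring
    rw [Finset.sum_add_distrib, e1, e2, hc, zero_add] at e3
    have e4 : (24 : ℕ) = 2 * ∑ χ ∈ A, d χ ^ 2 := by exact_mod_cast e3
    omega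
  obtain ⟨L, hL⟩ : ∃ L : Finset (IrrCharacter H), L = Finset.univ.filter (fun χ => d χ = 1) :=
    ⟨_, rfl⟩
  obtain ⟨T, hT⟩ : ∃ T : Finset (IrrCharacter H), T = Finset.univ.filter (fun χ => d χ = 3) :=
    ⟨_, rfl⟩
  have hL3 : L.card = 3 := by
    rw [hL, ← Fintype.card_subtype, ← Nat.card_eq_fintype_card, ← hidx, ← card_linear, hd]
    exact Nat.card_congr (Equiv.subtypeEquivRight fun χ => deg_eq_one_iff χ)
  have hLA : L ⊆ A := fun χ h => by
    rw [hL, Finset.mem_filter] at h
    exact hodd χ (by rw [h.2]; exact odd_one)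
  have hTA : T ⊆ A \ L := fun χ h => by
    rw [hT, Finset.mem_filter] at h
    rw [Finset.mem_sdiff, hL, Finset.mem_filter]
    exact ⟨hodd χ (by rw [h.2]; decide), fun e => by omega⟩
  have h9 : ∑ χ ∈ A \ L, d χ ^ 2 = 9 := by
    have e := Finset.sum_sdiff (f := fun χ => d χ ^ 2) hLA
    rw [Finset.sum_congr rfl (s₂ := L) (g := fun _ => 1) (fun χ h => by
      rw [hL, Finset.mem_filter] at h; simp [h.2]), ← Finset.card_eq_sum_ones, hL3, h12] at e
    omega
  have hodd3 : ∀ χ, Odd (d χ) → d χ = 1 ∨ d χ = 3 := fun χ h => by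
    have h2 : d χ ∣ 3 := ((Nat.coprime_two_left.mpr h).pow_left 3).symm.dvd_of_dvd_mul_left
      (show d χ ∣ 2 ^ 3 * 3 from hdvd χ)
    exact (Nat.dvd_prime Nat.prime_three).mp h2
  have hT1 : T.card = 1 := by
    have e := Finset.sum_sdiff (f := fun χ => d χ ^ 2) hTA
    rw [Finset.sum_congr rfl (s₂ := T) (g := fun _ => 9) (fun χ h => by
      rw [hT, Finset.mem_filter] at h; simp [h.2]), Finset.sum_const, smul_eq_mul, h9] at e
    have hev : 2 ∣ ∑ χ ∈ (A \ L) \ T, d χ ^ 2 := Finset.dvd_sum fun χ h => by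
      rw [Finset.mem_sdiff, Finset.mem_sdiff, hL, hT, Finset.mem_filter, Finset.mem_filter] at h
      refine dvd_pow ?_ two_ne_zero
      rcases Nat.even_or_odd (d χ) with he | ho
      · exact he.two_dvd
      · rcases hodd3 χ ho with h1 | h3
        · exact absurd ⟨Finset.mem_univ _, h1⟩ h.1.2
        · exact absurd ⟨Finset.mem_univ _, h3⟩ h.2
    omega
  constructor
  · rw [dc, Nat.card_eq_fintype_card, Fintype.card_subtype,
      show (Finset.univ.filter fun χ : IrrCharacter H => ¬ 2 ∣ deg (χ : H → ℂ)) = L ∪ T from ?_,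
      Finset.card_union_of_disjoint, hL3, hT1]
    · rw [Finset.disjoint_left]
      intro χ h h'
      rw [hL, Finset.mem_filter] at h
      rw [hT, Finset.mem_filter] at h'
      omega
    · ext χ
      simp only [hL, hT, hd, Finset.mem_filter, Finset.mem_union, Finset.mem_univ, true_and]
      constructor
      · intro h
        have := hodd3 χ (by rw [hd]; exact Nat.not_even_iff_odd.mp fun he => h he.two_dvd)
        rw [hd] at this
        exact this
      · intro h
        rcases h with h | h <;> rw [h] <;> decide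
  · rw [dc, Nat.card_eq_fintype_card, Fintype.card_subtype, ← hT1, hT, hd]

end Cfsg.Agent.Lead.DegCount
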