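import Cfsg.Agent.Lib.Local.StrongEmb
import Cfsg.Prelude.Def_CaseTheorems

/-!
# All maximal 2-locals conjugate

If all maximal 2-local subgroups are conjugate, the one containing the normaliser of a Sylow 2-subgroup lies in a
strongly 2-embedded maximal subgroup, unless it is everything.
-/

set_option autoImplicit false
set_option linter.unusedSectionVars false
set_option linter.style.haveILetI false

namespace Cfsg.Agent.OneClassLocal

open Cfsg Subgroup Cfsg.Agent.Fusion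

variable {G : Type*} [Group G] [Finite G]

theorem exists_max_local {D : Subgroup G} (hD : IsPGroup 2 D) (hne : D ≠ ⊥) :
    ∃ M : Subgroup G, IsMaximalTwoLocal M ∧ normalizer (D : Set G) ≤ M := by
  obtain ⟨M, hDM, hM⟩ := (Set.toFinite {N : Subgroup G | IsTwoLocal N}).exists_le_maximal
    (a := normalizer (D : Set G)) ⟨D, hD, hne, rfl⟩
  exact ⟨M, ⟨hM.1, fun N hN hMN => le_antisymm (hM.2 hN hMN) hMN⟩, hDM⟩

variable (hconj : ∀ M M' : Subgroup G, IsMaximalTwoLocal M → IsMaximalTwoLocal M' →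
  ∃ g : G, M' = M.map (MulAut.conj g).toMonoidHom)

include hconj

/-- Only one maximal 2-local contains a given Sylow 2-subgroup. -/
theorem eq_of_sylow_le (h2 : 2 ∣ Nat.card G) (S : Sylow 2 G) {M M' : Subgroup G} (hM : IsMaximalTwoLocal M)
    (hM' : IsMaximalTwoLocal M') (hS : (S : Subgroup G) ≤ M) (hS' : (S : Subgroup G) ≤ M') : M = M' := by
  haveI : Fact (Nat.Prime 2) := ⟨Nat.prime_two⟩
  have hne : (S : Subgroup G) ≠ ⊥ := fun e => by
    have h := S.dvd_card_of_dvd_card h2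
    rw [e, Subgroup.card_bot] at h
    omega
  obtain ⟨M₀, hM₀, hN⟩ := exists_max_local S.isPGroup' hne
  suffices key : ∀ K : Subgroup G, IsMaximalTwoLocal K → (S : Subgroup G) ≤ K → K = M₀ by
    rw [key M hM hS, key M' hM' hS']
  intro K hK hSK
  obtain ⟨g, hg⟩ := hconj M₀ K hM₀ hK
  have hgS : ((g • S : Sylow 2 G) : Subgroup G) ≤ K := by
    rw [hg, Sylow.coe_subgroup_smul]
    exact Subgroup.map_mono (le_normalizer.trans hN)
  obtain ⟨h, hh⟩ := MulAction.exists_smul_eq K ((g • S).subtype hgS) (S.subtype hSK)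
  rw [Sylow.smul_subtype] at hh
  have h' : ((h : G) • g • S : Sylow 2 G) = S := Sylow.subtype_injective hh
  rw [smul_smul, Sylow.smul_eq_iff_mem_normalizer] at h'
  have hmem : (h : G) * g ∈ M₀ := hN h'
  calc K = K.map (MulAut.conj (h : G)).toMonoidHom := (mem_normalizer_iff_cj.1 (le_normalizer h.2)).symm
    _ = (M₀.map (MulAut.conj g).toMonoidHom).map (MulAut.conj (h : G)).toMonoidHom := by rw [← hg]
    _ = M₀.map (MulAut.conj ((h : G) * g)).toMonoidHom := by
      rw [Subgroup.map_map]; congr 1; ext x; simp [mul_assoc]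
    _ = M₀ := mem_normalizer_iff_cj.1 (le_normalizer hmem)

/-- Every maximal 2-local contains a Sylow 2-subgroup. -/
theorem exists_sylow_le (h2 : 2 ∣ Nat.card G) {M : Subgroup G} (hM : IsMaximalTwoLocal M) :
    ∃ S : Sylow 2 G, (S : Subgroup G) ≤ M := by
  haveI : Fact (Nat.Prime 2) := ⟨Nat.prime_two⟩
  let S₀ : Sylow 2 G := default
  have hne : (S₀ : Subgroup G) ≠ ⊥ := fun e => by
    have h := S₀.dvd_card_of_dvd_card h2
    rw [e, Subgroup.card_bot] at h
    omega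
  obtain ⟨M₀, hM₀, hN⟩ := exists_max_local S₀.isPGroup' hne
  obtain ⟨g, hg⟩ := hconj M₀ M hM₀ hM
  refine ⟨g • S₀, ?_⟩
  rw [hg, Sylow.coe_subgroup_smul]
  exact Subgroup.map_mono (le_normalizer.trans hN)

/-- Two distinct maximal 2-locals have no common nontrivial 2-subgroup. -/
theorem eq_bot_of_le (h2 : 2 ∣ Nat.card G) {M M' : Subgroup G} (hM : IsMaximalTwoLocal M)
    (hM' : IsMaximalTwoLocal M') (hne : M ≠ M') {E : Subgroup G} (hE : IsPGroup 2 E) (hEM : E ≤ M)
    (hEM' : E ≤ M') : E = ⊥ := by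
  haveI : Fact (Nat.Prime 2) := ⟨Nat.prime_two⟩
  by_contra hE0
  let P : Subgroup G → Prop := fun D => IsPGroup 2 D ∧ D ≠ ⊥ ∧
    ∃ A B : Subgroup G, IsMaximalTwoLocal A ∧ IsMaximalTwoLocal B ∧ A ≠ B ∧ D ≤ A ∧ D ≤ B
  obtain ⟨D, -, hD⟩ := (Set.toFinite {D : Subgroup G | P D}).exists_le_maximal (a := E)
    ⟨hE, hE0, M, M', hM, hM', hne, hEM, hEM'⟩
  obtain ⟨hDp, hD0, A, B, hA, hB, hAB, hDA, hDB⟩ := hD.1
  obtain ⟨C, hC, hNC⟩ := exists_max_local hDp hD0
  suffices key : ∀ K : Subgroup G, IsMaximalTwoLocal K → D ≤ K → K = C from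
    hAB ((key A hA hDA).trans (key B hB hDB).symm)
  intro K hK hDK
  by_contra hKC
  obtain ⟨S₁, hS₁⟩ := exists_sylow_le hconj h2 hK
  obtain ⟨R, hR⟩ := (hDp.of_equiv (Subgroup.subgroupOfEquivOfLe hDK).symm).exists_le_sylow
  obtain ⟨k, hk⟩ := MulAction.exists_smul_eq K (S₁.subtype hS₁) R
  rw [Sylow.smul_subtype] at hk
  let S : Sylow 2 G := (k : G) • S₁
  have hSK : (S : Subgroup G) ≤ K := Sylow.smul_le hS₁ k
  have hDS : D ≤ S := fun x hx => by
    have h : (⟨x, hDK hx⟩ : K) ∈ (R : Subgroup K) := hR hx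
    rw [← hk] at h
    exact h
  have hDne : D ≠ (S : Subgroup G) := fun e =>
    hAB (eq_of_sylow_le hconj h2 S hA hB (e ▸ hDA) (e ▸ hDB))
  have hlt := SylIn.normalizer_growth hDS hDne S.isPGroup'
  exact hD.not_gt (y := (S : Subgroup G) ⊓ normalizer (D : Set G))
    ⟨S.isPGroup'.to_le inf_le_left, fun e => not_lt_bot (e ▸ hlt), K, C, hK, hC, hKC,
      inf_le_left.trans hSK, inf_le_right.trans hNC⟩ hlt

/-- A maximal subgroup that is strongly 2-embedded. -/
theorem exists_spe (h2 : 2 ∣ Nat.card G) (hloc : ∀ M : Subgroup G, IsMaximalTwoLocal M → M ≠ ⊤) :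
    ∃ M : Subgroup G, IsCoatom M ∧ IsStronglyPEmbedded 2 M := by
  haveI : Fact (Nat.Prime 2) := ⟨Nat.prime_two⟩
  let S : Sylow 2 G := default
  have hne : (S : Subgroup G) ≠ ⊥ := fun e => by
    have h := S.dvd_card_of_dvd_card h2
    rw [e, Subgroup.card_bot] at h
    omega
  obtain ⟨M₀, hM₀, hN⟩ := exists_max_local S.isPGroup' hne
  obtain h | ⟨M, hM, hle⟩ := eq_top_or_exists_le_coatom M₀
  · exact absurd h (hloc M₀ hM₀)
  refine ⟨M, hM, Local.isStronglyPEmbedded_iff.2 ⟨h2, hM.1, S, sylIn_top S, fun Q hQ hQ0 => ?_⟩⟩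
  obtain ⟨C, hC, hQC⟩ := exists_max_local (S.isPGroup'.to_le hQ) hQ0
  rcases eq_or_ne C M₀ with rfl | hCne
  · exact hQC.trans hle
  · exact absurd (eq_bot_of_le hconj h2 hC hM₀ hCne (S.isPGroup'.to_le hQ) (le_normalizer.trans hQC)
      (hQ.trans (le_normalizer.trans hN))) hQ0

end Cfsg.Agent.OneClassLocal
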