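import Mathlib

/-!
The set of element orders of `GL₂(F) / Z` for a finite field `F`.
-/

set_option autoImplicit false

namespace Cfsg.Agent.PGLOrders

open Matrix

variable {F : Type*} [Field F] [Fintype F]

local notation "G2" => Matrix.GeneralLinearGroup (Fin 2) F
local notation "Z2" => Subgroup.center (Matrix.GeneralLinearGroup (Fin 2) F)

omit [Fintype F] in
theorem mk_eq_one_iff (g : G2) :
    (QuotientGroup.mk g : G2 ⧸ Z2) = 1 ↔ ∃ c : F, g.1 = c • (1 : Matrix (Fin 2) (Fin 2) F) := by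
  rw [QuotientGroup.eq_one_iff, Subgroup.mem_center_iff]
  constructor
  · intro h
    have e1 := congrArg Units.val (h ⟨!![1, 1; 0, 1], !![1, -1; 0, 1],
      by simp [Matrix.one_fin_two], by simp [Matrix.one_fin_two]⟩)
    have e2 := congrArg Units.val (h ⟨!![1, 0; 1, 1], !![1, 0; -1, 1],
      by simp [Matrix.one_fin_two], by simp [Matrix.one_fin_two]⟩)
    simp only [Units.val_mul] at e1 e2
    have a1 := congrFun (congrFun e1 0) 0
    have a2 := congrFun (congrFun e1 0) 1
    have a3 := congrFun (congrFun e2 0) 0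
    simp [Matrix.mul_apply, Fin.sum_univ_two] at a1 a2 a3
    refine ⟨g.1 0 0, ?_⟩
    ext i j
    fin_cases i <;> fin_cases j <;> simp_all
  · rintro ⟨c, hc⟩ x
    refine Units.ext ?_
    rw [Units.val_mul, Units.val_mul, hc]
    simp

/-- The two by two matrices: a power of `g` is scalar. -/
theorem exists_scalar_pow (p : ℕ) [Fact p.Prime] [CharP F p] (hp : p ≠ 2)
    (g : Matrix (Fin 2) (Fin 2) F) (hg : g.det ≠ 0) :
    (∃ c : F, g ^ p = c • 1) ∨ (∃ c : F, g ^ (Fintype.card F - 1) = c • 1) ∨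
      (∃ c : F, g ^ (Fintype.card F + 1) = c • 1) := by
  classical
  have h2 : (2 : F) ≠ 0 := Ring.two_ne_zero (by rw [ringChar.eq F p]; exact hp)
  obtain ⟨m, hq⟩ : ∃ m : ℕ+, Fintype.card F = p ^ (m : ℕ) := by
    obtain ⟨m, -, h⟩ := FiniteField.card F p
    exact ⟨m, h⟩
  haveI : CharP (Matrix (Fin 2) (Fin 2) F) p := inferInstance
  set t := g 0 0 + g 1 1 with ht
  set D := t * t - 4 * g.det with hD
  set h : Matrix (Fin 2) (Fin 2) F := (2 : F) • g - t • 1 with hh
  have hsq : h * h = D • (1 : Matrix (Fin 2) (Fin 2) F) := by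
    ext i j
    fin_cases i <;> fin_cases j <;>
      simp [hh, hD, ht, Matrix.det_fin_two, Matrix.mul_apply, Fin.sum_univ_two] <;> ring
  have hghd : ((2 : F)⁻¹ * t) • (1 : Matrix (Fin 2) (Fin 2) F) + (2 : F)⁻¹ • h = g := by
    rw [hh, smul_sub, smul_smul, inv_mul_cancel₀ h2, one_smul, smul_smul]; abel
  have hodd : Fintype.card F = 2 * (Fintype.card F / 2) + 1 := by
    have h := FiniteField.odd_card_of_char_ne_two (F := F) (by rw [ringChar.eq F p]; exact hp)
    omega
  have hpodd : p = 2 * (p / 2) + 1 := by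
    have := (Fact.out : p.Prime).mod_two_eq_one_iff_ne_two.2 hp
    omega
  have hcomm : Commute (((2 : F)⁻¹ * t) • (1 : Matrix (Fin 2) (Fin 2) F)) ((2 : F)⁻¹ • h) := by
    exact ((Commute.one_left h).smul_left _).smul_right _
  by_cases hD0 : D = 0
  · left
    refine ⟨((2 : F)⁻¹ * t) ^ p, ?_⟩
    conv_lhs => rw [← hghd, add_pow_char_of_commute p hcomm, smul_pow, one_pow, smul_pow]
    have : h ^ p = 0 := by
      rw [hpodd, pow_succ, pow_mul, sq, hsq, hD0, zero_smul, zero_pow (by
        have := (Fact.out : p.Prime).two_le; omega), zero_mul]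
    rw [this, smul_zero, add_zero]
  have key : g ^ Fintype.card F =
      ((2 : F)⁻¹ * t) • (1 : Matrix (Fin 2) (Fin 2) F) + ((2 : F)⁻¹ * D ^ (Fintype.card F / 2)) • h := by
    conv_lhs => rw [← hghd]
    rw [hq, add_pow_char_pow_of_commute p (m : ℕ) hcomm, smul_pow, one_pow, smul_pow, ← hq,
      FiniteField.pow_card, FiniteField.pow_card]
    conv_lhs => rw [hodd, pow_succ, pow_mul, sq, hsq, smul_pow, one_pow, smul_mul_assoc, one_mul,
      smul_smul]
  rcases FiniteField.pow_dichotomy (by rw [ringChar.eq F p]; exact hp) hD0 with e | e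
  · right; left
    rw [e, mul_one, hghd] at key
    refine ⟨1, ?_⟩
    have hu : IsUnit g := (Matrix.isUnit_iff_isUnit_det g).2 (isUnit_iff_ne_zero.2 hg)
    have h1 : g ^ (Fintype.card F - 1) * g = 1 * g := by
      rw [← pow_succ, Nat.sub_add_cancel Fintype.card_pos, key, one_mul]
    rw [one_smul]
    exact hu.mul_right_cancel h1
  · right; right
    refine ⟨g.det, ?_⟩
    rw [pow_succ, key, e, hh]
    ext i j
    fin_cases i <;> fin_cases j <;>
      simp [ht, Matrix.det_fin_two, Matrix.mul_apply, Fin.sum_univ_two] <;> field_simp <;> ring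

theorem orderOf_dvd (p : ℕ) [Fact p.Prime] [CharP F p] (hp : p ≠ 2) (x : G2 ⧸ Z2) :
    orderOf x ∣ p ∨ orderOf x ∣ Fintype.card F - 1 ∨ orderOf x ∣ Fintype.card F + 1 := by
  induction x using QuotientGroup.induction_on with
  | H g =>
    have key : ∀ n : ℕ, (∃ c : F, g.1 ^ n = c • (1 : Matrix (Fin 2) (Fin 2) F)) →
        orderOf (QuotientGroup.mk g : G2 ⧸ Z2) ∣ n := fun n ⟨c, hc⟩ =>
      orderOf_dvd_of_pow_eq_one (by
        rw [← QuotientGroup.mk_pow, mk_eq_one_iff]
        exact ⟨c, by rw [Units.val_pow_eq_pow_val, hc]⟩)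
    rcases exists_scalar_pow p hp g.1 ((Matrix.isUnit_iff_isUnit_det _).1 g.isUnit).ne_zero
      with h | h | h
    · exact Or.inl (key _ h)
    · exact Or.inr (Or.inl (key _ h))
    · exact Or.inr (Or.inr (key _ h))

theorem exists_unipotent (p : ℕ) [Fact p.Prime] [CharP F p] : ∃ x : G2 ⧸ Z2, orderOf x = p := by
  let g : G2 := ⟨!![1, 1; 0, 1], !![1, -1; 0, 1], by simp [Matrix.one_fin_two],
    by simp [Matrix.one_fin_two]⟩
  have hpow : ∀ n : ℕ, (g ^ n).1 = !![1, (n : F); 0, 1] := by
    intro n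
    induction n with
    | zero => simp [Matrix.one_fin_two]
    | succ n ih => rw [pow_succ, Units.val_mul, ih]; simp [g, add_comm]
  refine ⟨QuotientGroup.mk g, orderOf_eq_prime ?_ ?_⟩
  · rw [← QuotientGroup.mk_pow, mk_eq_one_iff]
    exact ⟨1, by rw [hpow, CharP.cast_eq_zero, one_smul, Matrix.one_fin_two]⟩
  · rw [Ne, mk_eq_one_iff]
    rintro ⟨c, hc⟩
    have := congrFun (congrFun hc 0) 1
    simp [g] at this

theorem exists_split : ∃ x : G2 ⧸ Z2, orderOf x = Fintype.card F - 1 := by
  classical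
  obtain ⟨a, ha⟩ := IsCyclic.exists_generator (α := Fˣ)
  have hoa : orderOf a = Fintype.card F - 1 := by
    rw [orderOf_eq_card_of_forall_mem_zpowers ha, Nat.card_eq_fintype_card, Fintype.card_units]
  let g : G2 := ⟨!![(a : F), 0; 0, 1], !![((a⁻¹ : Fˣ) : F), 0; 0, 1],
    by simp [Matrix.one_fin_two], by simp [Matrix.one_fin_two]⟩
  have hpow : ∀ n : ℕ, (g ^ n).1 = !![(a : F) ^ n, 0; 0, 1] := by
    intro n
    induction n with
    | zero => simp [Matrix.one_fin_two]
    | succ n ih => rw [pow_succ, Units.val_mul, ih]; simp [g, pow_succ]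
  refine ⟨QuotientGroup.mk g, ?_⟩
  rw [← hoa]
  refine Nat.dvd_antisymm (orderOf_dvd_of_pow_eq_one ?_) (orderOf_dvd_of_pow_eq_one ?_)
  · rw [← QuotientGroup.mk_pow, mk_eq_one_iff]
    exact ⟨1, by rw [hpow, ← Units.val_pow_eq_pow_val, pow_orderOf_eq_one, one_smul,
      Matrix.one_fin_two]; rfl⟩
  · have h := pow_orderOf_eq_one (QuotientGroup.mk g : G2 ⧸ Z2)
    rw [← QuotientGroup.mk_pow, mk_eq_one_iff] at h
    obtain ⟨c, hc⟩ := h
    rw [hpow] at hc
    have h0 := congrFun (congrFun hc 0) 0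
    have h1 := congrFun (congrFun hc 1) 1
    simp at h0 h1
    exact Units.ext (by rw [Units.val_pow_eq_pow_val, h0, ← h1, Units.val_one])

/-- The fixed points of the `q`-th power map lie in the base field. -/
theorem mem_range_of_pow_card {L : Type*} [Field L] [Algebra F L] (x : L)
    (hx : x ^ Fintype.card F = x) : x ∈ Set.range (algebraMap F L) := by
  classical
  open Polynomial in
  have hne : (X ^ Fintype.card F - X : L[X]) ≠ 0 :=
    FiniteField.X_pow_card_sub_X_ne_zero L Fintype.one_lt_card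
  open Polynomial in
  have hsub : Finset.univ.image (algebraMap F L) ⊆ (X ^ Fintype.card F - X : L[X]).roots.toFinset := by
    intro y hy
    obtain ⟨c, -, rfl⟩ := Finset.mem_image.1 hy
    simp [mem_roots hne, ← map_pow, FiniteField.pow_card]
  open Polynomial in
  have hle : (X ^ Fintype.card F - X : L[X]).roots.toFinset.card ≤
      (Finset.univ.image (algebraMap F L)).card := by
    rw [Finset.card_image_of_injective _ (algebraMap F L).injective, Finset.card_univ]
    refine (Multiset.toFinset_card_le _).trans ((card_roots' _).trans ?_)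
    rw [FiniteField.X_pow_card_sub_X_natDegree_eq L Fintype.one_lt_card]
  open Polynomial in
  have hmem : x ∈ (X ^ Fintype.card F - X : L[X]).roots.toFinset := by
    simp [mem_roots hne, hx]
  rw [← Finset.eq_of_subset_of_card_le hsub hle] at hmem
  obtain ⟨c, -, rfl⟩ := Finset.mem_image.1 hmem
  exact ⟨c, rfl⟩

theorem exists_nonsplit (p : ℕ) [Fact p.Prime] [CharP F p] :
    ∃ x : G2 ⧸ Z2, orderOf x = Fintype.card F + 1 := by
  classical
  let L := FiniteField.Extension F p 2
  haveI : Finite L := inferInstance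
  letI := Fintype.ofFinite L
  have hL : Fintype.card L = Fintype.card F ^ 2 := by
    rw [← Nat.card_eq_fintype_card, ← Nat.card_eq_fintype_card]
    exact FiniteField.natCard_extension F p 2
  obtain ⟨z, hz⟩ := IsCyclic.exists_generator (α := Lˣ)
  let b : Module.Basis (Fin 2) F L := Module.finBasisOfFinrankEq F L
    (FiniteField.finrank_extension F p 2)
  let M : L →ₐ[F] Matrix (Fin 2) (Fin 2) F := Algebra.leftMulMatrix b
  have hinj : Function.Injective M := Algebra.leftMulMatrix_injective b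
  let g : G2 := Units.map (M : L →* Matrix (Fin 2) (Fin 2) F) z
  have hq1 := Fintype.one_lt_card (α := F)
  have hoz : orderOf z = (Fintype.card F + 1) * (Fintype.card F - 1) := by
    rw [orderOf_eq_card_of_forall_mem_zpowers hz, Nat.card_eq_fintype_card, Fintype.card_units, hL,
      ← Nat.sq_sub_sq]
  have hiff : ∀ n : ℕ, (QuotientGroup.mk g : G2 ⧸ Z2) ^ n = 1 ↔ Fintype.card F + 1 ∣ n := by
    intro n
    rw [← QuotientGroup.mk_pow, mk_eq_one_iff]
    have e : (g ^ n).1 = M ((z : L) ^ n) := by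
      rw [Units.val_pow_eq_pow_val, map_pow]; rfl
    rw [e]
    have h1 : (∃ c : F, M ((z : L) ^ n) = c • (1 : Matrix (Fin 2) (Fin 2) F)) ↔
        ((z : L) ^ n) ^ Fintype.card F = (z : L) ^ n := by
      constructor
      · rintro ⟨c, hc⟩
        have : (z : L) ^ n = algebraMap F L c := hinj (by
          rw [hc, AlgHom.commutes, Algebra.algebraMap_eq_smul_one])
        rw [this, ← map_pow, FiniteField.pow_card]
      · intro h
        have hmem : (z : L) ^ n ∈ Set.range (algebraMap F L) :=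
          mem_range_of_pow_card ((z : L) ^ n) h
        obtain ⟨c, hc⟩ := hmem
        exact ⟨c, by rw [← hc, AlgHom.commutes, Algebra.algebraMap_eq_smul_one]⟩
    rw [h1]
    have h2 : ((z : L) ^ n) ^ Fintype.card F = (z : L) ^ n ↔ z ^ (n * (Fintype.card F - 1)) = 1 := by
      rw [← pow_mul, ← Units.val_pow_eq_pow_val, ← Units.val_pow_eq_pow_val, Units.val_inj,
        show n * Fintype.card F = n * (Fintype.card F - 1) + n by
          rw [← Nat.mul_succ]; congr 1; omega, pow_add, mul_eq_right]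
    rw [h2, ← orderOf_dvd_iff_pow_eq_one, hoz]
    exact Nat.mul_dvd_mul_iff_right (by omega)
  exact ⟨QuotientGroup.mk g, Nat.dvd_antisymm (orderOf_dvd_of_pow_eq_one ((hiff _).2 dvd_rfl))
    ((hiff _).1 (pow_orderOf_eq_one _))⟩

/-- The divisors of `p`, `q - 1`, `q + 1`. -/
def spec (p q : ℕ) : Set ℕ := {m | m ∣ p ∨ m ∣ q - 1 ∨ m ∣ q + 1}

theorem exists_of_dvd {G : Type*} [Monoid G] {x : G} {n m : ℕ} (hx : orderOf x = n) (hn : n ≠ 0)
    (hm : m ∣ n) : ∃ y : G, orderOf y = m :=
  ⟨x ^ (orderOf x / m), orderOf_pow_orderOf_div (hx ▸ hn) (hx ▸ hm)⟩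

theorem range_eq (p : ℕ) [Fact p.Prime] [CharP F p] (hp : p ≠ 2) :
    Set.range (orderOf : G2 ⧸ Z2 → ℕ) = spec p (Fintype.card F) := by
  have hq1 := Fintype.one_lt_card (α := F)
  refine Set.eq_of_subset_of_subset (Set.range_subset_iff.2 fun x => orderOf_dvd p hp x) ?_
  rintro m (h | h | h)
  · obtain ⟨x, hx⟩ := exists_unipotent (F := F) p
    exact exists_of_dvd hx (Fact.out : p.Prime).ne_zero h
  · obtain ⟨x, hx⟩ := exists_split (F := F)
    exact exists_of_dvd hx (by omega) h
  · obtain ⟨x, hx⟩ := exists_nonsplit (F := F) p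
    exact exists_of_dvd hx (by omega) h

end Cfsg.Agent.PGLOrders
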