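import Mathlib
import Cfsg.Agent.Lib.Small.SL2.Orders

/-!
A module over the field with two elements for `PSL₂(p)` in which the elements of order `p` have no
fixed vectors, while generators of the two kinds of tori have nonzero norm.
-/

set_option autoImplicit false
set_option linter.unusedSectionVars false

namespace Cfsg.Agent.TwoModule

open Matrix Cfsg.Agent.Small
open scoped QuadraticAlgebra

variable {F : Type*} [Field F] [Fintype F] [DecidableEq F] (p : ℕ) [Fact p.Prime] [CharP F p]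

local notation "SL2" => Matrix.SpecialLinearGroup (Fin 2) F
local notation "P2" => Matrix.ProjectiveSpecialLinearGroup (Fin 2) F

variable (F) in
/-- Functions with zero sum over every coset of a subgroup of order `p`. -/
def cusp : AddSubgroup (P2 → ZMod 2) where
  carrier := {φ | ∀ u : P2, orderOf u = p → ∀ x, ∑ i ∈ Finset.range p, φ (u ^ i * x) = 0}
  add_mem' {f g} hf hg u hu x := by
    simp only [Pi.add_apply, Finset.sum_add_distrib, hf u hu x, hg u hu x, add_zero]
  zero_mem' u _ x := by simp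
  neg_mem' {f} hf u hu x := by
    simp only [Pi.neg_apply, Finset.sum_neg_distrib, hf u hu x, neg_zero]

variable (F) in
/-- The module. -/
abbrev Mod : Type _ := ↥(cusp F p)

instance : SMul P2 (Mod F p) where
  smul g φ := ⟨fun x => (φ : P2 → ZMod 2) (g⁻¹ * x), fun u hu x => by
    have h := φ.2 (g⁻¹ * u * g) (by
      have := MulEquiv.orderOf_eq (MulAut.conj g⁻¹) u
      simpa [MulAut.conj_apply] using this.trans hu) (g⁻¹ * x)
    refine Eq.trans (Finset.sum_congr rfl fun i _ => ?_) h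
    congr 1
    have e : (g⁻¹ * u * g) ^ i = g⁻¹ * u ^ i * g := by
      have := conj_pow (a := g⁻¹) (b := u) (i := i)
      simpa using this
    rw [e]; group⟩

theorem smul_apply (g : P2) (φ : Mod F p) (x : P2) :
    ((g • φ : Mod F p) : P2 → ZMod 2) x = (φ : P2 → ZMod 2) (g⁻¹ * x) := rfl

instance : DistribMulAction P2 (Mod F p) where
  one_smul φ := by ext x; simp [smul_apply]
  mul_smul g h φ := by ext x; simp [smul_apply, mul_assoc]
  smul_zero g := by ext x; simp [smul_apply]
  smul_add g a b := by ext x; simp [smul_apply]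

theorem two_nsmul_eq (φ : Mod F p) : 2 • φ = 0 := by
  ext x
  simp only [AddSubgroup.coe_nsmul, Pi.smul_apply, ZeroMemClass.coe_zero, Pi.zero_apply,
    nsmul_eq_mul, ZMod.natCast_self, zero_mul]

theorem fixed_eq_zero (hp : p ≠ 2) (u : P2) (hu : orderOf u = p) (φ : Mod F p) (h : u • φ = φ) :
    φ = 0 := by
  have h1 : ∀ x, (φ : P2 → ZMod 2) (u⁻¹ * x) = (φ : P2 → ZMod 2) x := fun x =>
    congrFun (congrArg Subtype.val h) x
  have h2 : ∀ x, (φ : P2 → ZMod 2) (u * x) = (φ : P2 → ZMod 2) x := fun x => by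
    conv_rhs => rw [← inv_mul_cancel_left u x]
    rw [h1]
  have h3 : ∀ (i : ℕ) (x : P2), (φ : P2 → ZMod 2) (u ^ i * x) = (φ : P2 → ZMod 2) x := by
    intro i
    induction i with
    | zero => simp
    | succ i ih => intro x; rw [pow_succ', mul_assoc, h2, ih]
  ext x
  have h4 := φ.2 u hu x
  simp only [h3, Finset.sum_const, Finset.card_range, nsmul_eq_mul] at h4
  have hodd : (p : ZMod 2) = 1 :=
    ZMod.natCast_eq_one_iff_odd.2 ((Fact.out : p.Prime).odd_of_ne_two hp)
  rw [hodd, one_mul] at h4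
  exact h4

/-- A function on `PSL₂` from one on `SL₂`. -/
noncomputable def desc (Φ : SL2 → ZMod 2) : P2 → ZMod 2 :=
  fun x => Φ (Classical.choose (PSL2.pr_surjective x))

theorem desc_pr (Φ : SL2 → ZMod 2)
    (hΦ : ∀ (ε : F) (A B : SL2), ε * ε = 1 → A.1 = ε • B.1 → Φ A = Φ B) (A : SL2) :
    desc Φ (PSL2.pr A) = Φ A := by
  have h := Classical.choose_spec (PSL2.pr_surjective (PSL2.pr A))
  obtain ⟨ε, hε, e⟩ := (PSL2.pr_eq_iff _ _).1 h
  exact hΦ ε _ _ hε e

theorem mem_cusp (hp : p ≠ 2) (hcard : Fintype.card F = p) (Φ : SL2 → ZMod 2)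
    (hΦ : ∀ (ε : F) (A B : SL2), ε * ε = 1 → A.1 = ε • B.1 → Φ A = Φ B)
    (hsum : ∀ C B : SL2, ∑ t : F, Φ (C * PSL2.uS t * B) = 0) : desc Φ ∈ cusp F p := by
  intro u hu x
  obtain ⟨g, rfl⟩ := PSL2.pr_surjective u
  obtain ⟨X, rfl⟩ := PSL2.pr_surjective x
  have hns : ¬ SL2C.IsSc g.1 := fun h => by
    rw [SL2C.pr_eq_one_iff.mpr h, orderOf_one] at hu
    exact (Fact.out : p.Prime).one_lt.ne hu
  have ht : g.1.trace * g.1.trace = 4 := by
    by_contra ht
    have h := orderOf_dvd_of_pow_eq_one (SL2C.pr_pow_sol ht)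
    rw [hu, SL2C.center_card_odd (SL2C.two_ne_zero_of_char (F := F) p hp)] at h
    have hodd := Nat.odd_iff.1 ((Fact.out : p.Prime).odd_of_ne_two hp)
    have h2 := (Fact.out : p.Prime).two_le
    rcases SL2C.sol_eq ht with ⟨-, hs⟩ | ⟨-, hs⟩ <;> rw [hs, hcard] at h <;>
      have := Nat.le_of_dvd (by omega) h <;> omega
  obtain ⟨b, hb, hc⟩ := SL2C.exists_pr_uS hns ht
  obtain ⟨c, hc⟩ := isConj_iff.mp hc
  obtain ⟨C, rfl⟩ := PSL2.pr_surjective c
  have hpow : ∀ i : ℕ, PSL2.pr g ^ i * PSL2.pr X =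
      PSL2.pr (C⁻¹ * PSL2.uS ((i : F) * b) * (C * X)) := by
    intro i
    have hu' : (PSL2.uS b : SL2) ^ i = PSL2.uS ((i : F) * b) := by
      induction i with
      | zero => simp only [pow_zero, Nat.cast_zero, zero_mul]; ext i j
                fin_cases i <;> fin_cases j <;> simp
      | succ i ih => rw [pow_succ, ih, ← PSL2.uS_add]; congr 1; push_cast; ring
    have hg : PSL2.pr g = (PSL2.pr C)⁻¹ * PSL2.pr (PSL2.uS b) * PSL2.pr C := by
      rw [← hc]; group
    have hgi : PSL2.pr g ^ i = (PSL2.pr C)⁻¹ * PSL2.pr (PSL2.uS b) ^ i * PSL2.pr C := by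
      rw [hg]
      have := conj_pow (a := (PSL2.pr C)⁻¹) (b := PSL2.pr (PSL2.uS b)) (i := i)
      simpa using this
    rw [hgi, ← map_pow, hu', map_mul, map_mul, map_mul, map_inv]
    group
  simp only [hpow, desc_pr Φ hΦ]
  refine Eq.trans ?_ (hsum C⁻¹ (C * X))
  refine Finset.sum_bij (fun i _ => (i : F) * b) (fun _ _ => Finset.mem_univ _) ?_ ?_
    (fun _ _ => rfl)
  · intro i hi j hj h
    exact CharP.natCast_injOn_Iio F p (Finset.mem_range.1 hi) (Finset.mem_range.1 hj)
      (mul_right_cancel₀ hb h)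
  · intro t _
    obtain ⟨i, him, hi⟩ : ∃ i ∈ Finset.range p, (i : F) = t / b := by
      have hinj : Set.InjOn (fun i : ℕ => (i : F)) (Finset.range p) := fun i hi j hj h =>
        CharP.natCast_injOn_Iio F p (Finset.mem_range.1 hi) (Finset.mem_range.1 hj) h
      have himg : (Finset.range p).image (fun i : ℕ => (i : F)) = Finset.univ :=
        Finset.eq_univ_of_card _ (by rw [Finset.card_image_of_injOn hinj, Finset.card_range, hcard])
      have := Finset.mem_image.1 (himg ▸ Finset.mem_univ (t / b))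
      exact this
    exact ⟨i, him, by rw [hi, div_mul_cancel₀ _ hb]⟩

/-! ### The split torus -/

/-- Incidence of the image of a point with a point, as a two by two determinant. -/
def cr (A : Matrix (Fin 2) (Fin 2) F) (a b : F × F) : F :=
  (A 0 0 * a.1 + A 0 1 * a.2) * b.2 - (A 1 0 * a.1 + A 1 1 * a.2) * b.1

/-- Incidence indicator. -/
def inc (A : SL2) (a b : F × F) : ZMod 2 := if cr A.1 a b = 0 then 1 else 0

/-- The function attached to the split torus. -/
def splitFun (A : SL2) : ZMod 2 :=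
  inc A (0, 1) (1, 0) + inc A (0, 1) (1, 1) + inc A (1, 1) (1, 0) + inc A (1, 1) (1, 1)

theorem inc_scale (ε : F) (A B : SL2) (hε : ε * ε = 1) (h : A.1 = ε • B.1) (a b : F × F) :
    inc A a b = inc B a b := by
  have e : cr A.1 a b = ε * cr B.1 a b := by
    simp [cr, h]; ring
  simp only [inc, e, mul_eq_zero, show ε ≠ 0 from fun h => by simp [h] at hε, false_or]

theorem sum_inc (hp : p ≠ 2) (hcard : Fintype.card F = p) (C B : SL2) (a b : F × F)
    (ha : a ≠ 0) (hb : b ≠ 0) :
    ∑ t : F, inc (C * PSL2.uS t * B) a b =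
      1 + (if B.1 1 0 * a.1 + B.1 1 1 * a.2 = 0 then 1 else 0) +
        (if C.1 0 0 * b.2 - C.1 1 0 * b.1 = 0 then 1 else 0) := by
  set m0 := B.1 0 0 * a.1 + B.1 0 1 * a.2 with hm0
  set m1 := B.1 1 0 * a.1 + B.1 1 1 * a.2 with hm1
  set L0 := C.1 0 0 * b.2 - C.1 1 0 * b.1 with hL0
  set L1 := C.1 0 1 * b.2 - C.1 1 1 * b.1 with hL1
  have hBd : B.1 0 0 * B.1 1 1 - B.1 0 1 * B.1 1 0 = 1 := by rw [← Matrix.det_fin_two]; exact B.2
  have hCd : C.1 0 0 * C.1 1 1 - C.1 0 1 * C.1 1 0 = 1 := by rw [← Matrix.det_fin_two]; exact C.2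
  have hm : m1 = 0 → m0 ≠ 0 := by
    intro h h0
    refine ha (Prod.ext ?_ ?_)
    · show a.1 = 0
      linear_combination B.1 1 1 * hm0.symm - B.1 0 1 * hm1.symm - a.1 * hBd
        + B.1 1 1 * h0 - B.1 0 1 * h
    · show a.2 = 0
      linear_combination B.1 0 0 * hm1.symm - B.1 1 0 * hm0.symm - a.2 * hBd
        + B.1 0 0 * h - B.1 1 0 * h0
  have hL : L0 = 0 → L1 ≠ 0 := by
    intro h h0
    refine hb (Prod.ext ?_ ?_)
    · show b.1 = 0
      linear_combination C.1 0 1 * hL0.symm - C.1 0 0 * hL1.symm - b.1 * hCd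
        + C.1 0 1 * h - C.1 0 0 * h0
    · show b.2 = 0
      linear_combination C.1 1 1 * hL0.symm - C.1 1 0 * hL1.symm - b.2 * hCd
        + C.1 1 1 * h - C.1 1 0 * h0
  have e : ∀ t : F, cr (C * PSL2.uS t * B).1 a b = L0 * (m0 + t * m1) + L1 * m1 := by
    intro t
    simp [cr, hm0, hm1, hL0, hL1, SpecialLinearGroup.coe_mul, PSL2.uS_val, Matrix.mul_apply, Fin.sum_univ_two]
    ring
  simp only [inc, e]
  have hpodd : (p : ZMod 2) = 1 :=
    ZMod.natCast_eq_one_iff_odd.2 ((Fact.out : p.Prime).odd_of_ne_two hp)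
  by_cases h1 : m1 = 0
  · rw [if_pos h1]
    simp only [h1, mul_zero, add_zero, mul_eq_zero, hm h1, or_false]
    rw [Finset.sum_const, Finset.card_univ, hcard, nsmul_eq_mul, hpodd, one_mul,
      show (1 : ZMod 2) + 1 = 0 by decide, zero_add]
  · rw [if_neg h1, add_zero]
    by_cases h0 : L0 = 0
    · rw [if_pos h0]
      simp only [h0, zero_mul, zero_add, mul_eq_zero, h1, hL h0, or_self, if_false]
      rw [Finset.sum_const_zero, show (1 : ZMod 2) + 1 = 0 by decide]
    · rw [if_neg h0, add_zero]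
      have hiff : ∀ t : F, L0 * (m0 + t * m1) + L1 * m1 = 0 ↔
          t = -(L0 * m0 + L1 * m1) / (L0 * m1) := by
        intro t
        rw [eq_div_iff (mul_ne_zero h0 h1)]
        constructor <;> intro h <;> linear_combination h
      simp only [hiff, Finset.sum_ite_eq', Finset.mem_univ, if_true]

theorem splitFun_mem (hp : p ≠ 2) (hcard : Fintype.card F = p) :
    desc (splitFun : SL2 → ZMod 2) ∈ cusp F p := by
  refine mem_cusp p hp hcard _ (fun ε A B hε h => by simp [splitFun, inc_scale ε A B hε h])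
    fun C B => ?_
  have ne1 : ((0, 1) : F × F) ≠ 0 := by simp
  have ne2 : ((1, 0) : F × F) ≠ 0 := by simp
  have ne3 : ((1, 1) : F × F) ≠ 0 := by simp
  simp only [splitFun, Finset.sum_add_distrib]
  rw [sum_inc p hp hcard C B _ _ ne1 ne2, sum_inc p hp hcard C B _ _ ne1 ne3,
    sum_inc p hp hcard C B _ _ ne3 ne2, sum_inc p hp hcard C B _ _ ne3 ne3]
  generalize (if B.1 1 0 * ((0, 1) : F × F).1 + B.1 1 1 * ((0, 1) : F × F).2 = 0 then (1 : ZMod 2) else 0) = x
  generalize (if B.1 1 0 * ((1, 1) : F × F).1 + B.1 1 1 * ((1, 1) : F × F).2 = 0 then (1 : ZMod 2) else 0) = y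
  generalize (if C.1 0 0 * ((1, 0) : F × F).2 - C.1 1 0 * ((1, 0) : F × F).1 = 0 then (1 : ZMod 2) else 0) = z
  generalize (if C.1 0 0 * ((1, 1) : F × F).2 - C.1 1 0 * ((1, 1) : F × F).1 = 0 then (1 : ZMod 2) else 0) = w
  revert x y z w
  decide

theorem split_norm (hp : p ≠ 2) (hcard : Fintype.card F = p) :
    ∃ (g : P2) (φ : Mod F p), orderOf g = (p - 1) / 2 ∧
      ∑ i ∈ Finset.range (orderOf g), (g ^ i) • φ ≠ 0 := by
  obtain ⟨a, ha⟩ := IsCyclic.exists_generator (α := Fˣ)
  have hoa : orderOf a = p - 1 := by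
    rw [orderOf_eq_card_of_forall_mem_zpowers ha, Nat.card_eq_fintype_card, Fintype.card_units, hcard]
  have hodd := Nat.odd_iff.1 ((Fact.out : p.Prime).odd_of_ne_two hp)
  have h2p := (Fact.out : p.Prime).two_le
  have hpow : ∀ k : ℕ, (PSL2.hS a : SL2) ^ k = PSL2.hS (a ^ k) := by
    intro k
    induction k with
    | zero => ext i j; fin_cases i <;> fin_cases j <;> simp [PSL2.hS_val]
    | succ k ih =>
      rw [pow_succ, ih]; ext i j
      fin_cases i <;> fin_cases j <;> simp [PSL2.hS_val, pow_succ, PSL2.val_mul, mul_comm]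
  have hone : ∀ k : ℕ, PSL2.pr (PSL2.hS a : SL2) ^ k = 1 ↔ p - 1 ∣ 2 * k := by
    intro k
    rw [← map_pow, hpow, ← map_one (PSL2.pr : SL2 →* P2), PSL2.pr_eq_iff, ← hoa,
      orderOf_dvd_iff_pow_eq_one, two_mul, pow_add]
    constructor
    · rintro ⟨ε, hε, h⟩
      have := congrFun (congrFun h 0) 0
      simp [PSL2.hS_val] at this
      exact Units.ext (by simp [this, hε])
    · intro h
      have h' : ((a ^ k : Fˣ) : F) * ((a ^ k : Fˣ) : F) = 1 := by rw [← Units.val_mul, h, Units.val_one]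
      refine ⟨((a ^ k : Fˣ) : F), h', ?_⟩
      ext i j
      have hinv : ((a : F) ^ k)⁻¹ = (a : F) ^ k := inv_eq_of_mul_eq_one_right (by simpa using h')
      fin_cases i <;> fin_cases j <;> simp [PSL2.hS_val, hinv]
  set g : P2 := (PSL2.pr (PSL2.hS a : SL2))⁻¹ with hg
  have hog : orderOf g = (p - 1) / 2 := by
    rw [hg, orderOf_inv]
    refine Nat.dvd_antisymm (orderOf_dvd_of_pow_eq_one ((hone _).2 ⟨1, by omega⟩)) ?_
    obtain ⟨c, hc⟩ := (hone _).1 (pow_orderOf_eq_one (PSL2.pr (PSL2.hS a : SL2)))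
    exact ⟨c, by
      have : p - 1 = 2 * ((p - 1) / 2) := by omega
      rw [this, mul_assoc] at hc
      exact Nat.eq_of_mul_eq_mul_left two_pos hc⟩
  refine ⟨g, ⟨_, splitFun_mem p hp hcard⟩, hog, fun h => ?_⟩
  have hdesc : ∀ A : SL2, desc splitFun (PSL2.pr A) = splitFun A :=
    desc_pr _ (fun ε A B hε h => by simp [splitFun, inc_scale ε A B hε h])
  have h1 := congrFun (congrArg Subtype.val h) 1
  simp only [AddSubgroup.val_finsetSum, Finset.sum_apply, smul_apply, hg, inv_pow, inv_inv,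
    mul_one, ZeroMemClass.coe_zero, Pi.zero_apply, ← map_pow, hpow,
    hdesc] at h1
  rw [Finset.sum_eq_single 0] at h1
  · simp [splitFun, inc, cr, PSL2.hS_val] at h1
  · intro i hi hi0
    rw [← hg, hog, Finset.mem_range] at hi
    have hne : ((a ^ i : Fˣ) : F) * ((a ^ i : Fˣ) : F) ≠ 1 := by
      intro h
      have h' : a ^ (2 * i) = 1 := by rw [two_mul, pow_add]; exact Units.ext h
      rw [← orderOf_dvd_iff_pow_eq_one, hoa] at h'
      have := Nat.le_of_dvd (by omega) h'
      omega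
    have hz : ((a : F) ^ i)⁻¹ ≠ 0 := by simp
    have hsub : (a : F) ^ i - ((a : F) ^ i)⁻¹ ≠ 0 := by
      intro h
      apply hne
      rw [sub_eq_zero] at h
      simp only [Units.val_pow_eq_pow_val]
      nth_rewrite 2 [h]
      exact mul_inv_cancel₀ (pow_ne_zero _ a.ne_zero)
    simp [splitFun, inc, cr, PSL2.hS_val, hz, hsub]
  · intro h; rw [← hg, hog, Finset.mem_range] at h; omega

/-! ### The non-split torus -/

/-- Action on symmetric matrices, written as triples. -/
def act (A : Matrix (Fin 2) (Fin 2) F) (S : F × F × F) : F × F × F :=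
  (A 0 0 * A 0 0 * S.1 + 2 * A 0 0 * A 0 1 * S.2.1 + A 0 1 * A 0 1 * S.2.2,
   A 0 0 * A 1 0 * S.1 + (A 0 0 * A 1 1 + A 0 1 * A 1 0) * S.2.1 + A 0 1 * A 1 1 * S.2.2,
   A 1 0 * A 1 0 * S.1 + 2 * A 1 0 * A 1 1 * S.2.1 + A 1 1 * A 1 1 * S.2.2)

/-- A linear functional on triples. -/
def lin (L S : F × F × F) : F := L.1 * S.1 + 2 * L.2.1 * S.2.1 + L.2.2 * S.2.2

theorem act_mul (A B : Matrix (Fin 2) (Fin 2) F) (S : F × F × F) :
    act (A * B) S = act A (act B S) := by
  simp only [act, Matrix.mul_apply, Fin.sum_univ_two, Prod.mk.injEq]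
  refine ⟨?_, ?_, ?_⟩ <;> ring

theorem sum_roots_even (hp2 : (2 : F) ≠ 0) (a b c : F) (ha : a ≠ 0) (hd : b * b - a * c ≠ 0) :
    ∑ t : F, (if a * t * t + 2 * b * t + c = 0 then (1 : ZMod 2) else 0) = 0 := by
  refine Finset.sum_involution (fun t _ => -(2 * b) / a - t) ?_ ?_ (fun _ _ => Finset.mem_univ _) ?_
  · intro t _
    have e : a * (-(2 * b) / a - t) * (-(2 * b) / a - t) + 2 * b * (-(2 * b) / a - t) + c =
        a * t * t + 2 * b * t + c := by field_simp; ring
    rw [e]; exact CharTwo.add_self_eq_zero _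
  · intro t _ ht he
    rw [ne_eq, ite_eq_right_iff, Classical.not_imp] at ht
    apply hd
    have h1 : 2 * (a * t + b) = 0 := by
      have := congrArg (fun x => a * x) he
      simp only [mul_sub, mul_div_cancel₀ _ ha] at this
      linear_combination -this
    have h2 : a * t + b = 0 := by simpa [hp2] using h1
    linear_combination (a * t + b) * h2 - a * ht.1
  · intro t _; ring

/-- The function attached to a functional. -/
def levelFun (L S : F × F × F) (s : F) (A : SL2) : ZMod 2 :=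
  if lin L (act A.1 S) = s then 1 else 0

theorem levelFun_mem (hp : p ≠ 2) (hcard : Fintype.card F = p) (L S : F × F × F) (s : F)
    (hL : ¬ IsSquare (L.2.1 * L.2.1 - L.1 * L.2.2))
    (hS : ¬ IsSquare (-(S.1 * S.2.2 - S.2.1 * S.2.1)))
    (hs : ¬ IsSquare (s * s + 4 * (L.2.1 * L.2.1 - L.1 * L.2.2) * (S.1 * S.2.2 - S.2.1 * S.2.1))) :
    desc (levelFun L S s) ∈ cusp F p := by
  refine mem_cusp p hp hcard _ ?_ fun C B => ?_
  · intro ε A B hε h
    have e : act A.1 S = act B.1 S := by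
      simp only [act, h, Matrix.smul_apply, smul_eq_mul, Prod.mk.injEq]
      exact ⟨by linear_combination (B.1 0 0 * B.1 0 0 * S.1 + 2 * B.1 0 0 * B.1 0 1 * S.2.1 +
          B.1 0 1 * B.1 0 1 * S.2.2) * hε,
        by linear_combination (B.1 0 0 * B.1 1 0 * S.1 + (B.1 0 0 * B.1 1 1 + B.1 0 1 * B.1 1 0) * S.2.1 +
          B.1 0 1 * B.1 1 1 * S.2.2) * hε,
        by linear_combination (B.1 1 0 * B.1 1 0 * S.1 + 2 * B.1 1 0 * B.1 1 1 * S.2.1 +
          B.1 1 1 * B.1 1 1 * S.2.2) * hε⟩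
    simp only [levelFun, e]
  set δ := L.2.1 * L.2.1 - L.1 * L.2.2 with hδ
  set d := S.1 * S.2.2 - S.2.1 * S.2.1 with hd
  obtain ⟨⟨m0, m1, m2⟩, hM⟩ : ∃ x, act B.1 S = x := ⟨_, rfl⟩
  have hBd : B.1 0 0 * B.1 1 1 - B.1 0 1 * B.1 1 0 = 1 := by rw [← Matrix.det_fin_two]; exact B.2
  have hCd : C.1 0 0 * C.1 1 1 - C.1 0 1 * C.1 1 0 = 1 := by rw [← Matrix.det_fin_two]; exact C.2
  have hdM : m0 * m2 - m1 * m1 = d := by
    have e : (act B.1 S).1 * (act B.1 S).2.2 - (act B.1 S).2.1 * (act B.1 S).2.1 =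
        (B.1 0 0 * B.1 1 1 - B.1 0 1 * B.1 1 0) ^ 2 * d := by rw [hd]; simp only [act]; ring
    rw [hM, hBd, one_pow, one_mul] at e
    exact e
  set al := L.1 * C.1 0 0 * C.1 0 0 + 2 * L.2.1 * C.1 0 0 * C.1 1 0 + L.2.2 * C.1 1 0 * C.1 1 0
    with hal
  set be := L.1 * C.1 0 0 * C.1 0 1 + L.2.1 * (C.1 0 0 * C.1 1 1 + C.1 0 1 * C.1 1 0) +
    L.2.2 * C.1 1 0 * C.1 1 1 with hbe
  set ga := L.1 * C.1 0 1 * C.1 0 1 + 2 * L.2.1 * C.1 0 1 * C.1 1 1 + L.2.2 * C.1 1 1 * C.1 1 1
    with hga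
  have hdisc : be * be - al * ga = δ := by
    have e : be * be - al * ga = (C.1 0 0 * C.1 1 1 - C.1 0 1 * C.1 1 0) ^ 2 * δ := by
      rw [hal, hbe, hga, hδ]; ring
    rw [e, hCd, one_pow, one_mul]
  have hal0 : al ≠ 0 := fun h => hL ⟨be, by rw [← hdisc, h]; ring⟩
  have hm2 : m2 ≠ 0 := fun h => hS ⟨m1, by rw [← hdM, h]; ring⟩
  have e : ∀ t : F, lin L (act (C * PSL2.uS t * B).1 S) = s ↔
      al * m2 * t * t + 2 * (al * m1 + be * m2) * t + (al * m0 + 2 * be * m1 + ga * m2 - s) = 0 := by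
    intro t
    rw [PSL2.val_mul, PSL2.val_mul, act_mul, act_mul, hM]
    have : lin L (act C.1 (act (PSL2.uS t : SL2).1 (m0, m1, m2))) =
        al * m2 * t * t + 2 * (al * m1 + be * m2) * t + (al * m0 + 2 * be * m1 + ga * m2) := by
      simp only [lin, act, PSL2.uS, hal, hbe, hga]
      simp
      ring
    rw [this]
    constructor <;> intro h <;> linear_combination h
  simp only [levelFun, e]
  refine sum_roots_even (SL2C.two_ne_zero_of_char (F := F) p hp) _ _ _ (mul_ne_zero hal0 hm2) ?_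
  intro h0
  apply hs
  have e2 : δ * m2 * m2 + s * m2 * al - d * al * al = 0 := by
    rw [← hdisc, ← hdM]; linear_combination h0
  refine ⟨(2 * δ * m2 + s * al) / al, ?_⟩
  field_simp
  linear_combination (-4 * δ) * e2

/-- The multiplication matrix of an element of the quadratic extension. -/
def qMat (ν : F) (w : QuadraticAlgebra F ν 0) : Matrix (Fin 2) (Fin 2) F :=
  !![w.re, ν * w.im; w.im, w.re]

theorem qMat_det (ν : F) (w : QuadraticAlgebra F ν 0) : (qMat ν w).det = w.norm := by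
  simp [qMat, Matrix.det_fin_two, QuadraticAlgebra.norm_def]

theorem qMat_mul (ν : F) (v w : QuadraticAlgebra F ν 0) :
    qMat ν (v * w) = qMat ν v * qMat ν w := by
  ext i j
  fin_cases i <;> fin_cases j <;> (simp [qMat, Matrix.mul_apply, Fin.sum_univ_two]; try ring)

theorem qMat_one (ν : F) : qMat ν 1 = 1 := by
  ext i j
  fin_cases i <;> fin_cases j <;> simp [qMat]

theorem exists_nonsquare (hp : p ≠ 2) : ∃ ν : F, ¬ IsSquare ν :=
  FiniteField.exists_nonsquare (by rw [ringChar.eq F p]; exact hp)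

/-- Squares and non-squares: the tournament count. -/
theorem exists_pair
    (hp : p ≠ 2) (hcard : Fintype.card F = p) (h3 : p % 4 = 3) (h7 : 4 < p) :
    ∃ R s : F, R ≠ 0 ∧ IsSquare (1 + R * R) ∧ ¬ IsSquare (s * s - R * R) ∧ ¬ IsSquare (s * s + 1) := by
  classical
  have hchar : ringChar F ≠ 2 := by rw [ringChar.eq F p]; exact hp
  have hm1 : ¬ IsSquare (-1 : F) := by rw [FiniteField.isSquare_neg_one_iff, hcard, h3]; simp
  have hxor : ∀ x : F, x ≠ 0 → (IsSquare x ↔ ¬ IsSquare (-x)) := by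
    intro x hx
    constructor
    · intro h1 h2
      exact hm1 (by simpa [neg_div, div_self hx] using h2.div h1)
    · intro h1
      rw [FiniteField.isSquare_iff hchar hx, hcard]
      rw [FiniteField.isSquare_iff hchar (neg_ne_zero.2 hx), hcard] at h1
      rcases FiniteField.pow_dichotomy hchar hx with e | e
      · rwa [hcard] at e
      · rw [hcard] at e
        exfalso; apply h1
        rw [neg_pow, e, Odd.neg_one_pow (Nat.odd_iff.2 (by omega)), neg_one_mul, neg_neg]
  set Q : Finset F := Finset.univ.filter (fun x => x ≠ 0 ∧ IsSquare x) with hQ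
  set A := Q.filter (fun x => IsSquare (x + 1)) with hA
  set D := fun x : F => Q.filter (fun z => z - x ∈ Q) with hD
  have hDcard : ∀ x ∈ Q, (D x).card = A.card := by
    intro x hx
    simp only [hQ, Finset.mem_filter, Finset.mem_univ, true_and] at hx
    refine Finset.card_bij (fun z _ => (z - x) / x) ?_ ?_ ?_
    · intro z hz
      simp only [hD, hQ, hA, Finset.mem_filter, Finset.mem_univ, true_and] at hz ⊢
      refine ⟨⟨div_ne_zero hz.2.1 hx.1, hz.2.2.div hx.2⟩, ?_⟩
      rw [div_add_one hx.1, sub_add_cancel]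
      exact hz.1.2.div hx.2
    · intro z1 _ z2 _ h
      simpa [hx.1] using h
    · intro w hw
      simp only [hQ, hA, Finset.mem_filter, Finset.mem_univ, true_and] at hw
      refine ⟨(w + 1) * x, ?_, by rw [add_mul, one_mul, add_sub_cancel_right, mul_div_cancel_right₀ _ hx.1]⟩
      have hw1 : w + 1 ≠ 0 := fun h => hm1 ((show w = -1 by linear_combination h) ▸ hw.1.2)
      simp only [hD, hQ, Finset.mem_filter, Finset.mem_univ, true_and]
      refine ⟨⟨mul_ne_zero hw1 hx.1, hw.2.mul hx.2⟩, ?_⟩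
      rw [show (w + 1) * x - x = w * x by ring]
      exact ⟨mul_ne_zero hw.1.1 hx.1, hw.1.2.mul hx.2⟩
  have hm : 2 * A.card + 1 = Q.card := by
    have h1 : ∀ x ∈ Q, (D x).card + (Q.filter (fun z => x - z ∈ Q)).card = Q.card - 1 := by
      intro x hx
      rw [← Finset.card_union_of_disjoint, ← Finset.card_erase_of_mem hx]
      · congr 1
        ext z
        simp only [hD, Finset.mem_union, Finset.mem_filter, Finset.mem_erase]
        constructor
        · rintro (⟨hz, h⟩ | ⟨hz, h⟩) <;>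
            simp only [hQ, Finset.mem_filter, Finset.mem_univ, true_and] at h <;>
            exact ⟨fun e => h.1 (by rw [e, sub_self]), hz⟩
        · rintro ⟨hne, hz⟩
          simp only [hQ, Finset.mem_filter, Finset.mem_univ, true_and, sub_ne_zero]
          by_cases hsq : IsSquare (z - x)
          · exact Or.inl ⟨by simpa [hQ] using hz, hne, hsq⟩
          · refine Or.inr ⟨by simpa [hQ] using hz, hne.symm, ?_⟩
            rw [hxor _ (sub_ne_zero.2 hne.symm), neg_sub]; exact hsq
      · rw [Finset.disjoint_filter]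
        intro z _ h1 h2
        simp only [hQ, Finset.mem_filter, Finset.mem_univ, true_and] at h1 h2
        exact (hxor _ h1.1).1 h1.2 (by rw [neg_sub]; exact h2.2)
    have h2' : ∑ x ∈ Q, (Q.filter (fun z => x - z ∈ Q)).card = ∑ x ∈ Q, (D x).card := by
      simp only [hD, Finset.card_filter]
      rw [Finset.sum_comm]
    have h4 := Finset.sum_congr rfl h1
    rw [Finset.sum_add_distrib, h2', Finset.sum_congr rfl hDcard, Finset.sum_const,
      Finset.sum_const, smul_eq_mul, smul_eq_mul, ← mul_add] at h4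
    have hQpos : 0 < Q.card := Finset.card_pos.2 ⟨1, by simp [hQ]⟩
    have := Nat.eq_of_mul_eq_mul_left hQpos h4
    omega
  obtain ⟨x, hx⟩ : A.Nonempty := by
    rw [← Finset.card_pos]
    by_contra h0
    have hQ2 : 2 ≤ Q.card := by
      refine Finset.one_lt_card.2 ⟨1, by simp [hQ], 4, ?_, ?_⟩
      · simp only [hQ, Finset.mem_filter, Finset.mem_univ, true_and]
        refine ⟨?_, ⟨2, by norm_num⟩⟩
        have h4 : ((4 : ℕ) : F) ≠ 0 := by
          rw [Ne, CharP.cast_eq_zero_iff F p]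
          intro h; have := Nat.le_of_dvd (by norm_num) h; omega
        exact_mod_cast h4
      · intro h
        have h3' : ((3 : ℕ) : F) ≠ 0 := by
          rw [Ne, CharP.cast_eq_zero_iff F p]
          intro h; have := Nat.le_of_dvd (by norm_num) h; omega
        apply h3'
        push_cast; linear_combination -h
    omega
  obtain ⟨hxQ, hx1⟩ := Finset.mem_filter.1 hx
  obtain ⟨z, hz, hzA⟩ : ∃ z ∈ Q \ A, z - x ∉ Q := by
    by_contra hcon
    push Not at hcon
    have hsub : Q \ A ⊆ D x := fun z hz =>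
      Finset.mem_filter.2 ⟨(Finset.mem_sdiff.1 hz).1, hcon z hz⟩
    have h1 := Finset.card_le_card hsub
    rw [hDcard x hxQ, Finset.card_sdiff_of_subset (Finset.filter_subset _ _)] at h1
    rw [← hA] at h1
    omega
  obtain ⟨hzQ, hznA⟩ := Finset.mem_sdiff.1 hz
  simp only [hA, hQ, Finset.mem_filter, Finset.mem_univ, true_and] at hxQ hzQ hznA hzA
  obtain ⟨R, hR⟩ := hxQ.2
  obtain ⟨s, hs⟩ := hzQ.2
  refine ⟨R, s, fun h => hxQ.1 (by rw [hR, h, mul_zero]), by rwa [add_comm, ← hR], ?_, ?_⟩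
  · rw [← hR, ← hs]
    intro hsq
    refine hzA ⟨sub_ne_zero.2 ?_, hsq⟩
    rintro rfl
    exact hznA ⟨hzQ, hx1⟩
  · rw [← hs]
    exact fun h => hznA ⟨hzQ, h⟩

theorem nonsplit_norm (hp : p ≠ 2) (hcard : Fintype.card F = p) (h7 : 4 < p) :
    ∃ (g : P2) (φ : Mod F p), orderOf g = (p + 1) / 2 ∧
      ∑ i ∈ Finset.range (orderOf g), (g ^ i) • φ ≠ 0 := by
  classical
  have hodd := Nat.odd_iff.1 ((Fact.out : p.Prime).odd_of_ne_two hp)
  have hchar : ringChar F ≠ 2 := by rw [ringChar.eq F p]; exact hp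
  have h2 : (2 : F) ≠ 0 := SL2C.two_ne_zero_of_char (F := F) p hp
  obtain ⟨ν, hν, hνcase⟩ : ∃ ν : F, ¬ IsSquare ν ∧ (p % 4 = 3 → ν = -1) := by
    by_cases h3 : p % 4 = 3
    · exact ⟨-1, by rw [FiniteField.isSquare_neg_one_iff, hcard, h3]; simp, fun _ => rfl⟩
    · obtain ⟨ν, hν⟩ := exists_nonsquare (F := F) p hp
      exact ⟨ν, hν, fun h => absurd h h3⟩
  haveI : Fact (∀ r : F, r ^ 2 ≠ ν + 0 * r) := ⟨fun r hr => hν ⟨r, by
    rw [zero_mul, add_zero] at hr; rw [← hr, sq]⟩⟩
  haveI : Finite (QuadraticAlgebra F ν 0) := Finite.of_equiv _ (QuadraticAlgebra.equivProd ν 0).symm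
  letI := Fintype.ofFinite (QuadraticAlgebra F ν 0)
  have hK : Fintype.card (QuadraticAlgebra F ν 0) = p * p := by
    rw [Fintype.card_congr (QuadraticAlgebra.equivProd ν (0 : F)), Fintype.card_prod, hcard]
  haveI : CharP (QuadraticAlgebra F ν 0) p := charP_of_injective_algebraMap (algebraMap F (QuadraticAlgebra F ν 0)).injective p
  have hνpow : ν ^ (p / 2) = -1 := by
    rcases FiniteField.pow_dichotomy hchar (fun h : ν = 0 => hν (h ▸ IsSquare.zero)) with e | e
    · exact absurd ((FiniteField.isSquare_iff hchar (fun h : ν = 0 => hν (h ▸ IsSquare.zero))).2 e) hν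
    · rwa [hcard] at e
  have hstar : ∀ w : (QuadraticAlgebra F ν 0), w ^ p = star w := by
    intro w
    have hw : w = algebraMap F (QuadraticAlgebra F ν 0) w.re + algebraMap F (QuadraticAlgebra F ν 0) w.im * (⟨0, 1⟩ : (QuadraticAlgebra F ν 0)) := by
      ext <;> simp
    have hI : (⟨0, 1⟩ : (QuadraticAlgebra F ν 0)) ^ p = algebraMap F (QuadraticAlgebra F ν 0) (-1) * (⟨0, 1⟩ : (QuadraticAlgebra F ν 0)) := by
      have h1 : (⟨0, 1⟩ : (QuadraticAlgebra F ν 0)) ^ 2 = algebraMap F (QuadraticAlgebra F ν 0) ν := by ext <;> simp [sq]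
      conv_lhs => rw [show p = 2 * (p / 2) + 1 by omega, pow_succ, pow_mul, h1, ← map_pow, hνpow]
    conv_lhs => rw [hw, add_pow_char, mul_pow, hI, ← map_pow, ← map_pow]
    rw [show w.re ^ p = w.re by rw [← hcard, FiniteField.pow_card],
      show w.im ^ p = w.im by rw [← hcard, FiniteField.pow_card]]
    ext <;> simp
  obtain ⟨z, hz⟩ := IsCyclic.exists_generator (α := (QuadraticAlgebra F ν 0)ˣ)
  have hoz : orderOf z = (p + 1) * (p - 1) := by
    rw [orderOf_eq_card_of_forall_mem_zpowers hz, Nat.card_eq_fintype_card, Fintype.card_units, hK,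
      ← Nat.mul_self_sub_mul_self_eq, mul_one]
  set om : (QuadraticAlgebra F ν 0) := (z : (QuadraticAlgebra F ν 0)) ^ (p - 1) with hom
  have hoom : orderOf om = p + 1 := by
    rw [hom, ← Units.val_pow_eq_pow_val, orderOf_units, orderOf_pow' z (by omega), hoz,
      Nat.gcd_eq_right (dvd_mul_left _ _), Nat.mul_div_cancel _ (by omega)]
  have hprim : IsPrimitiveRoot om (p + 1) := hoom ▸ IsPrimitiveRoot.orderOf om
  have hnom : QuadraticAlgebra.norm om = 1 := by
    rw [hom, map_pow]
    have hne : QuadraticAlgebra.norm (z : (QuadraticAlgebra F ν 0)) ≠ 0 :=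
      ((QuadraticAlgebra.isUnit_iff_norm_isUnit).1 z.isUnit).ne_zero
    rw [← hcard, FiniteField.pow_card_sub_one_eq_one _ hne]
  have hnp : ∀ i : ℕ, QuadraticAlgebra.norm (om ^ i) = 1 := fun i => by rw [map_pow, hnom, one_pow]
  let T : ℕ → SL2 := fun i => ⟨qMat ν (om ^ i), by rw [qMat_det, hnp]⟩
  have hT : ∀ i, T i = T 1 ^ i := by
    intro i
    induction i with
    | zero =>
      refine Subtype.ext ?_
      show qMat ν (om ^ 0) = 1
      rw [pow_zero, qMat_one]
    | succ i ih =>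
      rw [pow_succ, ← ih]
      exact Subtype.ext (by rw [PSL2.val_mul]; simp only [T]; rw [← qMat_mul, pow_one, pow_succ])
  set n := (p + 1) / 2 with hn
  have hhalf : om ^ n = -1 := by
    have h1 : om ^ n * om ^ n = 1 := by
      rw [← pow_add, show n + n = p + 1 by omega, hprim.pow_eq_one]
    rcases mul_self_eq_one_iff.1 h1 with h | h
    · exact absurd h (hprim.pow_ne_one_of_pos_of_lt (by omega) (by omega))
    · exact h
  have hog : orderOf (PSL2.pr (T 1)) = n := by
    refine Nat.dvd_antisymm (orderOf_dvd_of_pow_eq_one ?_) ?_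
    · rw [← map_pow, ← hT, ← map_one (PSL2.pr : SL2 →* P2), PSL2.pr_eq_iff]
      refine ⟨-1, by ring, ?_⟩
      show qMat ν (om ^ n) = (-1 : F) • (1 : Matrix (Fin 2) (Fin 2) F)
      rw [hhalf]
      ext i j
      fin_cases i <;> fin_cases j <;> simp [qMat]
    · have h := pow_orderOf_eq_one (PSL2.pr (T 1))
      rw [← map_pow, ← hT, ← map_one (PSL2.pr : SL2 →* P2), PSL2.pr_eq_iff] at h
      obtain ⟨ε, hε, h⟩ := h
      generalize orderOf (PSL2.pr (T 1)) = m at h ⊢
      have a1 := congrFun (congrFun h 0) 0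
      have a2 := congrFun (congrFun h 1) 0
      simp [T, qMat] at a1 a2
      have : om ^ m * om ^ m = 1 := by
        ext <;> simp [a1, a2, hε]
      rw [← pow_add] at this
      obtain ⟨c, hc⟩ := hoom ▸ orderOf_dvd_of_pow_eq_one this
      refine ⟨c, ?_⟩
      rw [show p + 1 = 2 * n by omega, mul_assoc, ← two_mul] at hc
      exact Nat.eq_of_mul_eq_mul_left two_pos hc
  suffices H : ∃ (L S : F × F × F) (s : F),
      ¬ IsSquare (L.2.1 * L.2.1 - L.1 * L.2.2) ∧ ¬ IsSquare (-(S.1 * S.2.2 - S.2.1 * S.2.1)) ∧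
      ¬ IsSquare (s * s + 4 * (L.2.1 * L.2.1 - L.1 * L.2.2) * (S.1 * S.2.2 - S.2.1 * S.2.1)) ∧
      ∑ i ∈ Finset.range n, levelFun L S s (T i) = 1 by
    obtain ⟨L, S, s, hL, hS, hs, hsum⟩ := H
    refine ⟨(PSL2.pr (T 1))⁻¹, ⟨_, levelFun_mem p hp hcard L S s hL hS hs⟩,
      by rw [orderOf_inv, hog], fun h => ?_⟩
    have h1 := congrFun (congrArg Subtype.val h) 1
    simp only [AddSubgroup.val_finsetSum, Finset.sum_apply, smul_apply, inv_pow, inv_inv, mul_one,
      ZeroMemClass.coe_zero, Pi.zero_apply, ← map_pow, ← hT, orderOf_inv, hog] at h1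
    have hinv : ∀ (ε : F) (A B : SL2), ε * ε = 1 → A.1 = ε • B.1 →
        levelFun L S s A = levelFun L S s B := by
      intro ε A B hε h
      have e : act A.1 S = act B.1 S := by
        simp only [act, h, Matrix.smul_apply, smul_eq_mul, Prod.mk.injEq]
        exact ⟨by linear_combination (B.1 0 0 * B.1 0 0 * S.1 + 2 * B.1 0 0 * B.1 0 1 * S.2.1 +
          B.1 0 1 * B.1 0 1 * S.2.2) * hε,
        by linear_combination (B.1 0 0 * B.1 1 0 * S.1 + (B.1 0 0 * B.1 1 1 + B.1 0 1 * B.1 1 0) * S.2.1 +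
          B.1 0 1 * B.1 1 1 * S.2.2) * hε,
        by linear_combination (B.1 1 0 * B.1 1 0 * S.1 + 2 * B.1 1 0 * B.1 1 1 * S.2.1 +
          B.1 1 1 * B.1 1 1 * S.2.2) * hε⟩
      simp only [levelFun, e]
    simp only [desc_pr _ hinv] at h1
    exact one_ne_zero (hsum.symm.trans h1)
  have hν0 : ν ≠ 0 := fun h => hν (h ▸ IsSquare.zero)
  by_cases h3 : p % 4 = 3
  · have hν1 := hνcase h3
    subst hν1
    obtain ⟨R, s, hR, ⟨z0, hz0⟩, hsR, hs1⟩ := exists_pair p hp hcard h3 h7
    obtain ⟨e, h, heh⟩ : ∃ e h : F, e * e + h * h = -1 := by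
      obtain ⟨e, h, heh⟩ := CharP.sq_add_sq F p (-1)
      exact ⟨e, h, by simpa [sq] using heh⟩
    refine ⟨(e, h, -e), ((z0 + 1) / 2, 0, (z0 - 1) / 2), s, ?_, ?_, ?_, ?_⟩
    · show ¬ IsSquare (h * h - e * -e)
      rwa [show h * h - e * -e = -1 by linear_combination heh]
    · show ¬ IsSquare (-((z0 + 1) / 2 * ((z0 - 1) / 2) - 0 * 0))
      intro ⟨r, hr⟩
      apply hν
      refine ⟨2 * r / R, ?_⟩
      field_simp
      field_simp at hr
      linear_combination hr - hz0
    · show ¬ IsSquare (s * s + 4 * (h * h - e * -e) * ((z0 + 1) / 2 * ((z0 - 1) / 2) - 0 * 0))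
      rwa [show s * s + 4 * (h * h - e * -e) * ((z0 + 1) / 2 * ((z0 - 1) / 2) - 0 * 0) =
        s * s - R * R by field_simp; linear_combination 4 * ((z0 * z0 - 1) * heh + hz0)]
    obtain ⟨y, hy⟩ : IsSquare (-(s * s + 1)) := by
      have hne : -(s * s + 1) ≠ 0 := fun h0 => hs1 ⟨0, by linear_combination -h0⟩
      by_contra hcon
      have e1 := (FiniteField.pow_dichotomy hchar hne).resolve_left
        (fun e => hcon ((FiniteField.isSquare_iff hchar hne).2 e))
      rw [hcard, ← neg_one_mul (s * s + 1), mul_pow, hνpow, neg_one_mul, neg_inj] at e1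
      exact hs1 ((FiniteField.isSquare_iff hchar (fun h0 => hne (by rw [h0, neg_zero]))).2
        (by rwa [hcard]))
    let a : (QuadraticAlgebra F (-1 : F) 0) := ⟨e, h⟩
    have hna : QuadraticAlgebra.norm a = -1 := by
      simp [a, QuadraticAlgebra.norm_def]; linear_combination heh
    have hsolve : ∀ y' : F, y' * y' = -(s * s + 1) →
        ∃ k, k < p + 1 ∧ om ^ k = -(a * (⟨s, y'⟩ : (QuadraticAlgebra F (-1 : F) 0))) := by
      intro y' hy'
      have hn' : QuadraticAlgebra.norm (-(a * (⟨s, y'⟩ : (QuadraticAlgebra F (-1 : F) 0)))) = 1 := by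
        rw [QuadraticAlgebra.norm_neg, map_mul, hna]
        simp [QuadraticAlgebra.norm_def]
        linear_combination -hy'
      have hp1 : (-(a * (⟨s, y'⟩ : (QuadraticAlgebra F (-1 : F) 0)))) ^ (p + 1) = 1 := by
        rw [pow_succ, hstar, mul_comm, ← QuadraticAlgebra.algebraMap_norm_eq_mul_star, hn', map_one]
      exact hprim.eq_pow_of_pow_eq_one hp1
    obtain ⟨k, hk, hk'⟩ := hsolve y hy.symm
    obtain ⟨l, hl, hl'⟩ := hsolve (-y) (by rw [neg_mul_neg]; exact hy.symm)
    have hparity : (k + l) % 2 = 1 := by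
      by_contra hcon
      obtain ⟨j, hj⟩ : ∃ j, k + l = j + j := ⟨(k + l) / 2, by omega⟩
      have h1 : om ^ j * om ^ j = -(a * a) := by
        rw [← pow_add, ← hj, pow_add, hk', hl']
        have : ((⟨s, y⟩ : (QuadraticAlgebra F (-1 : F) 0)) * ⟨s, -y⟩) = -1 := by
          ext <;> simp <;> (first | linear_combination hy | linear_combination -hy | ring)
        linear_combination (a * a) * this
      have ha0 : a ≠ 0 := fun h0 => by
        rw [h0, QuadraticAlgebra.norm_zero] at hna; exact one_ne_zero (neg_eq_zero.1 hna.symm)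
      set x := om ^ j / a with hx
      have hx2 : x * x = -1 := by rw [hx]; field_simp; linear_combination h1
      have hnx : QuadraticAlgebra.norm x = -1 := by
        have hxa : x * a = om ^ j := by rw [hx]; field_simp
        have := congrArg QuadraticAlgebra.norm hxa
        rw [map_mul, hna, hnp] at this
        linear_combination -this
      have hxI : x * x = (⟨0, 1⟩ : (QuadraticAlgebra F (-1 : F) 0)) * ⟨0, 1⟩ := by rw [hx2]; ext <;> simp
      have h11 : (-1 : F) = 1 := by
        rcases mul_self_eq_mul_self_iff.1 hxI with h | h <;>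
          · rw [← hnx, h]; simp [QuadraticAlgebra.norm_def]
      exact h2 (by linear_combination -h11)
    have hval : ∀ i : ℕ, levelFun (e, h, -e) ((z0 + 1) / 2, 0, (z0 - 1) / 2) s (T i) =
        if (om ^ (2 * i) = -(a * (⟨s, y⟩ : (QuadraticAlgebra F (-1 : F) 0))) ∨ om ^ (2 * i) = -(a * (⟨s, -y⟩ : (QuadraticAlgebra F (-1 : F) 0)))) then 1 else 0 := by
      intro i
      unfold levelFun
      congr 1
      have hW : lin (e, h, -e) (act (T i).1 ((z0 + 1) / 2, 0, (z0 - 1) / 2)) =
          (star a * (om ^ i * om ^ i)).re := by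
        have hni := hnp i
        rw [QuadraticAlgebra.norm_def] at hni
        simp [lin, act, T, qMat, a]
        field_simp
        ring
      rw [hW, two_mul, pow_add]
      set W := om ^ i * om ^ i with hWdef
      have hnW : QuadraticAlgebra.norm W = 1 := by rw [hWdef, map_mul, hnp, one_mul]
      have haa : a * star a = -1 := by
        rw [← QuadraticAlgebra.algebraMap_norm_eq_mul_star, hna, map_neg, map_one]
      apply propext
      constructor
      · intro hre
        have hn2 : QuadraticAlgebra.norm (star a * W) = -1 := by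
          rw [map_mul, QuadraticAlgebra.norm_star, hna, hnW, mul_one]
        rw [QuadraticAlgebra.norm_def, hre] at hn2
        have hyy : (star a * W).im * (star a * W).im = y * y := by linear_combination hn2 + hy
        have hWeq : W = -(a * (star a * W)) := by linear_combination W * haa
        rcases mul_self_eq_mul_self_iff.1 hyy with h' | h'
        · left
          conv_lhs => rw [hWeq]
          congr 2
          exact QuadraticAlgebra.ext hre h'
        · right
          conv_lhs => rw [hWeq]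
          congr 2
          exact QuadraticAlgebra.ext hre h'
      · rintro (h' | h') <;>
          · rw [h', show star a * -(a * (⟨s, _⟩ : (QuadraticAlgebra F (-1 : F) 0))) = (⟨s, _⟩ : (QuadraticAlgebra F (-1 : F) 0)) by
              linear_combination (-(⟨s, _⟩ : (QuadraticAlgebra F (-1 : F) 0))) * haa]
    simp only [hval]
    obtain ⟨m, hm, hme, hmo⟩ : ∃ m, m < n ∧
        (om ^ (2 * m) = -(a * (⟨s, y⟩ : (QuadraticAlgebra F (-1 : F) 0))) ∨ om ^ (2 * m) = -(a * (⟨s, -y⟩ : (QuadraticAlgebra F (-1 : F) 0)))) ∧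
        ∀ i < n, (om ^ (2 * i) = -(a * (⟨s, y⟩ : (QuadraticAlgebra F (-1 : F) 0))) ∨ om ^ (2 * i) = -(a * (⟨s, -y⟩ : (QuadraticAlgebra F (-1 : F) 0)))) → i = m := by
      rcases Nat.even_or_odd k with ⟨m, hm⟩ | hko
      · refine ⟨m, by omega, Or.inl (by rw [← hk']; congr 1; omega), fun i hi hh => ?_⟩
        rcases hh with hh | hh
        · rw [← hk'] at hh; have := hprim.pow_inj (by omega) hk hh; omega
        · rw [← hl'] at hh; have := hprim.pow_inj (by omega) hl hh; omega
      · obtain ⟨m, hm⟩ : ∃ m, l = m + m := ⟨l / 2, by rw [Nat.odd_iff] at hko; omega⟩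
        refine ⟨m, by omega, Or.inr (by rw [← hl']; congr 1; omega), fun i hi hh => ?_⟩
        rw [Nat.odd_iff] at hko
        rcases hh with hh | hh
        · rw [← hk'] at hh; have := hprim.pow_inj (by omega) hk hh; omega
        · rw [← hl'] at hh; have := hprim.pow_inj (by omega) hl hh; omega
    rw [Finset.sum_eq_single m (fun i hi hne => if_neg fun hh => hne (hmo i (Finset.mem_range.1 hi) hh))
      (fun hh => absurd (Finset.mem_range.2 hm) hh), if_pos hme]
  · have hsq1 : IsSquare (-1 : F) := by rw [FiniteField.isSquare_neg_one_iff, hcard]; omega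
    set c := (1 - ν) / 2 with hc
    set r := (1 + ν) / 2 with hr
    have hr0 : r ≠ 0 := by
      intro h
      apply hν
      rw [hr, div_eq_zero_iff] at h
      rw [show ν = -1 by linear_combination h.resolve_right h2]
      exact hsq1
    have hcr : ν + c * c = r * r := by rw [hc, hr]; field_simp; ring
    refine ⟨(c, -ν, -(ν * c)), (1 / 2, 0, -1 / (2 * ν)), c, ?_, ?_, ?_, ?_⟩
    · show ¬ IsSquare (-ν * -ν - c * -(ν * c))
      rintro ⟨x, hx⟩
      apply hν
      refine ⟨x / r, ?_⟩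
      field_simp
      linear_combination hx - ν * hcr
    · show ¬ IsSquare (-((1 / 2) * (-1 / (2 * ν)) - 0 * 0))
      rintro ⟨x, hx⟩
      apply hν
      refine ⟨2 * ν * x, ?_⟩
      field_simp at hx
      linear_combination ν * hx
    · show ¬ IsSquare (c * c + 4 * (-ν * -ν - c * -(ν * c)) * ((1 / 2) * (-1 / (2 * ν)) - 0 * 0))
      rw [show c * c + 4 * (-ν * -ν - c * -(ν * c)) * ((1 / 2) * (-1 / (2 * ν)) - 0 * 0) = -ν by
        field_simp; ring]
      intro h
      exact hν (by simpa using hsq1.mul h)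
    have hval : ∀ i, levelFun (c, -ν, -(ν * c)) (1 / 2, 0, -1 / (2 * ν)) c (T i) = 1 := by
      intro i
      rw [levelFun, if_pos]
      have hni := hnp i
      rw [QuadraticAlgebra.norm_def] at hni
      simp [lin, act, T, qMat]
      field_simp
      linear_combination (2 * c) * hni
    rw [Finset.sum_congr rfl (fun i _ => hval i), Finset.sum_const, Finset.card_range, nsmul_eq_mul,
      mul_one]
    exact ZMod.natCast_eq_one_iff_odd.2 (Nat.odd_iff.2 (by omega))

end Cfsg.Agent.TwoModule
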