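import Mathlib
import Cfsg.Prelude.Def_GeometricClasses
import Cfsg.Agent.Lib.Classical.Irreducible

/-!
Fixed spaces in primitive soluble linear groups.
-/

set_option autoImplicit false

namespace Cfsg.Agent.Lead.PrimFix

open Matrix Cfsg.Geo Cfsg.Agent.Classical

variable {F : Type*} [Field F] {n : ℕ}

local notation "V" => (Fin n → F)
local notation "GLn" => GL (Fin n) F

/-- The fixed space. -/
noncomputable def fixSp (g : GL (Fin n) F) : Submodule F (Fin n → F) :=
  Module.End.eigenspace (Matrix.toLin' (g : Matrix (Fin n) (Fin n) F)) 1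

theorem mem_fixSp {g : GLn} {v : V} : v ∈ fixSp g ↔ (g : Matrix (Fin n) (Fin n) F) *ᵥ v = v := by
  simp [fixSp]

theorem fix_comm_bound (g x : GLn) :
    2 * Module.finrank F (fixSp g) ≤ n + Module.finrank F (fixSp (g * x * g⁻¹ * x⁻¹)) := by
  set X := (fixSp g).map (Matrix.toLin' (x : Matrix (Fin n) (Fin n) F)) with hX
  have h1 := Submodule.finrank_sup_add_finrank_inf_eq (fixSp g) X
  have h2 : Module.finrank F (fixSp g ⊔ X : Submodule F V) ≤ n :=
    (Submodule.finrank_le _).trans (by simp)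
  have h3 : fixSp g ⊓ X ≤ fixSp (g * x * g⁻¹ * x⁻¹) := by
    rintro v ⟨hv, w, hw, rfl⟩
    rw [SetLike.mem_coe, mem_fixSp] at hv hw
    rw [Matrix.toLin'_apply] at hv ⊢
    rw [mem_fixSp, gl_mul_mulVec, gl_inv_mulVec_cancel, gl_mul_mulVec]
    have : ((g⁻¹ : GLn) : Matrix (Fin n) (Fin n) F) *ᵥ w = w := by
      conv_lhs => rw [← hw, gl_inv_mulVec_cancel]
    rw [this, gl_mul_mulVec]
    exact hv
  have h4 := Submodule.finrank_mono h3
  rw [finrank_map_gl] at h1
  omega

theorem adjoin_preserves {S : Set (Matrix (Fin n) (Fin n) F)} {W : Submodule F V}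
    (h : ∀ s ∈ S, ∀ w ∈ W, s *ᵥ w ∈ W) {r : Matrix (Fin n) (Fin n) F} (hr : r ∈ Algebra.adjoin F S) :
    ∀ w ∈ W, r *ᵥ w ∈ W := by
  induction hr using Algebra.adjoin_induction with
  | mem x hx => exact h x hx
  | algebraMap c =>
    intro w hw
    rw [Algebra.algebraMap_eq_smul_one, Matrix.smul_mulVec, Matrix.one_mulVec]
    exact W.smul_mem c hw
  | add x y _ _ hx hy =>
    intro w hw
    rw [Matrix.add_mulVec]; exact W.add_mem (hx w hw) (hy w hw)
  | mul x y _ _ hx hy =>
    intro w hw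
    rw [← Matrix.mulVec_mulVec]; exact hx _ (hy w hw)

theorem adjoin_commute {S : Set (Matrix (Fin n) (Fin n) F)} {a : Matrix (Fin n) (Fin n) F}
    (h : ∀ s ∈ S, a * s = s * a) {r : Matrix (Fin n) (Fin n) F} (hr : r ∈ Algebra.adjoin F S) :
    a * r = r * a := by
  induction hr using Algebra.adjoin_induction with
  | mem x hx => exact h x hx
  | algebraMap c => exact (Algebra.commutes c a).symm
  | add x y _ _ hx hy => rw [mul_add, add_mul, hx, hy]
  | mul x y _ _ hx hy => rw [← mul_assoc, hx, mul_assoc, hy, mul_assoc]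

variable [Finite F]

open scoped Classical in
/-- In an irreducible primitive group the nontrivial elements of an abelian normal subgroup fix no
nonzero vector. -/
theorem fix_eq_bot {G A : Subgroup GLn} (hirr : ActsIrreducibly (matrixSet G))
    (hprim : ∀ (m t : ℕ) (D : Fin t → Submodule F V), 2 ≤ t → IsMDecomposition m D →
      ¬ G ≤ decompositionStabilizer D)
    (hn : ∀ h ∈ G, ∀ x ∈ A, h * x * h⁻¹ ∈ A) (hab : ∀ x ∈ A, ∀ y ∈ A, x * y = y * x)
    {a : GLn} (ha : a ∈ A) (hne : a ≠ 1) : fixSp a = ⊥ := by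
  rw [Submodule.eq_bot_iff]
  intro v hv
  by_contra hv0
  haveI : Nonempty (Fin n) := by
    by_contra h
    rw [not_nonempty_iff] at h
    exact hv0 (funext fun i => h.elim i)
  obtain ⟨W, t, h, hW0, hWi, hWm, hhG, hind, htop, -⟩ := clifford_decomposition hirr hn
  set T : Fin t → Submodule F V := fun i => W.map (Matrix.toLin' (h i : Matrix (Fin n) (Fin n) F))
    with hT
  set R := Algebra.adjoin F (matrixSet A) with hR
  have hconjmem : ∀ g ∈ G, ∀ r ∈ R,
      (g : Matrix (Fin n) (Fin n) F) * r * ((g⁻¹ : GLn) : Matrix (Fin n) (Fin n) F) ∈ R := by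
    intro g hg r hr
    induction hr using Algebra.adjoin_induction with
    | mem x hx =>
      obtain ⟨y, hy, rfl⟩ := hx
      refine Algebra.subset_adjoin ⟨g * y * g⁻¹, hn g hg y hy, ?_⟩
      simp
    | algebraMap c =>
      rw [← Algebra.commutes, mul_assoc, Units.mul_inv, mul_one]
      exact R.algebraMap_mem c
    | add x y _ _ hx hy => rw [mul_add, add_mul]; exact R.add_mem hx hy
    | mul x y _ _ hx hy =>
      convert R.mul_mem hx hy using 1
      simp only [mul_assoc, Units.inv_mul_cancel_left]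
  have hTi : ∀ i, ∀ r ∈ R, ∀ w ∈ T i, r *ᵥ w ∈ T i := by
    intro i r hr
    refine adjoin_preserves ?_ hr
    rintro _ ⟨x, hx, rfl⟩ _ ⟨w, hw, rfl⟩
    refine ⟨(((h i)⁻¹ * x * h i : GLn) : Matrix (Fin n) (Fin n) F) *ᵥ w,
      hWi _ (by simpa using hn (h i)⁻¹ (inv_mem (hhG i)) x hx) w hw, ?_⟩
    simp only [Matrix.toLin'_apply, gl_mul_mulVec, gl_mulVec_inv_cancel]
  have hcomm : ∀ r ∈ R, ∀ s ∈ R, r * s = s * r := by
    intro r hr s hs
    refine adjoin_commute ?_ hs
    intro x hx
    refine (adjoin_commute ?_ hr).symm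
    obtain ⟨x, hx, rfl⟩ := hx
    rintro _ ⟨y, hy, rfl⟩
    rw [← Units.val_mul, ← Units.val_mul, hab x hx y hy]
  -- elements of `R` are injective or zero on each piece
  have hinj : ∀ i, ∀ r ∈ R, ∀ u ∈ T i, u ≠ 0 → r *ᵥ u = 0 → ∀ w ∈ T i, r *ᵥ w = 0 := by
    intro i r hr u hu hu0 hru w hw
    obtain ⟨u', hu', rfl⟩ := hu
    obtain ⟨w', hw', rfl⟩ := hw
    set K : Submodule F V := W ⊓ LinearMap.ker (Matrix.toLin'
      (r * (h i : Matrix (Fin n) (Fin n) F))) with hK
    have hKi : ∀ x ∈ A, ∀ z ∈ K, (x : Matrix (Fin n) (Fin n) F) *ᵥ z ∈ K := by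
      intro x hx z hz
      refine ⟨hWi x hx z hz.1, ?_⟩
      have h2 : (r * (h i : Matrix (Fin n) (Fin n) F)) *ᵥ z = 0 := hz.2
      show (r * (h i : Matrix (Fin n) (Fin n) F)) *ᵥ ((x : Matrix (Fin n) (Fin n) F) *ᵥ z) = 0
      have e : r * (h i : Matrix (Fin n) (Fin n) F) * (x : Matrix (Fin n) (Fin n) F) =
          ((h i * x * (h i)⁻¹ : GLn) : Matrix (Fin n) (Fin n) F) * (r * (h i : Matrix (Fin n) (Fin n) F)) := by
        rw [← mul_assoc _ r, ← hcomm r hr _ (Algebra.subset_adjoin
          (coe_mem_matrixSet (hn _ (hhG i) x hx)))]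
        simp [mul_assoc]
      rw [Matrix.mulVec_mulVec, e, ← Matrix.mulVec_mulVec, h2, Matrix.mulVec_zero]
    rcases hWm K inf_le_left hKi with hb | hb
    · refine absurd ?_ hu0
      have : u' ∈ K := ⟨hu', by simpa [Matrix.mulVec_mulVec] using hru⟩
      rw [hb, Submodule.mem_bot] at this
      simp [this]
    · have : w' ∈ K := by rw [hb]; exact hw'
      simpa [Matrix.mulVec_mulVec] using this.2
  -- the annihilators
  let I : Fin t → Set (Matrix (Fin n) (Fin n) F) := fun i =>
    {r | r ∈ R ∧ ∀ w ∈ T i, r *ᵥ w = 0}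
  have hTne : ∀ i, ∃ u ∈ T i, u ≠ 0 := by
    intro i
    obtain ⟨u, hu, hu0⟩ := (Submodule.ne_bot_iff W).1 hW0
    exact ⟨_, ⟨u, hu, rfl⟩, fun e => hu0 (gl_mulVec_injective (h i) (by simpa using e))⟩
  have hmax : ∀ i j, I i ⊆ I j → I i = I j := by
    intro i j hij
    refine Set.Subset.antisymm hij fun r hr => ?_
    by_contra hri
    haveI : Finite (Matrix (Fin n) (Fin n) F) := inferInstance
    obtain ⟨k, l, hkl, he⟩ := Finite.exists_ne_map_eq_of_infinite (fun m : ℕ => r ^ m)
    wlog hlt : k < l generalizing k l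
    · exact this l k hkl.symm he.symm (by omega)
    obtain ⟨d, rfl⟩ : ∃ d, l = k + d + 1 := ⟨l - k - 1, by omega⟩
    obtain ⟨u, hu, hu0⟩ := hTne i
    have hri' : ∀ w ∈ T i, r *ᵥ w = 0 → w = 0 := fun w hw hrw => by
      by_contra hw0
      exact hri ⟨hr.1, hinj i r hr.1 w hw hw0 hrw⟩
    have hs : (1 : Matrix (Fin n) (Fin n) F) - r ^ (d + 1) ∈ R :=
      R.sub_mem R.one_mem (R.pow_mem hr.1 _)
    have hsI : (1 : Matrix (Fin n) (Fin n) F) - r ^ (d + 1) ∈ I i := by
      refine ⟨hs, fun w hw => ?_⟩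
      have hzero : ∀ m : ℕ, ∀ z ∈ T i, r ^ m *ᵥ z = 0 → z = 0 := by
        intro m
        induction m with
        | zero => intro z _ hz; simpa using hz
        | succ m ih =>
          intro z hz hm
          rw [pow_succ, ← Matrix.mulVec_mulVec] at hm
          exact hri' z hz (ih _ (hTi i r hr.1 z hz) hm)
      refine hzero k _ (hTi i _ hs w hw) ?_
      rw [Matrix.mulVec_mulVec, mul_sub, mul_one, ← pow_add, ← add_assoc]
      rw [show r ^ k = r ^ (k + d + 1) from he, sub_self, Matrix.zero_mulVec]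
    obtain ⟨u, hu, hu0⟩ := hTne j
    have h1 := (hij hsI).2 u hu
    rw [Matrix.sub_mulVec, Matrix.one_mulVec, pow_succ, ← Matrix.mulVec_mulVec, hr.2 u hu,
      Matrix.mulVec_zero, sub_zero] at h1
    exact hu0 h1
  -- homogeneous components
  let U : Fin t → Submodule F V := fun k =>
    { carrier := {w | ∀ r ∈ I k, r *ᵥ w = 0}
      add_mem' := fun {x y} hx hy r hr => by rw [Matrix.mulVec_add, hx r hr, hy r hr, add_zero]
      zero_mem' := fun r _ => Matrix.mulVec_zero r
      smul_mem' := fun c x hx r hr => by rw [Matrix.mulVec_smul, hx r hr, smul_zero] }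
  have hTU : ∀ i, T i ≤ U i := fun i w hw r hr => hr.2 w hw
  have hdec : ∀ w : V, ∃ x : Fin t → V, (∀ i, x i ∈ T i) ∧ ∑ i, x i = w := by
    intro w
    have hw : w ∈ ⨆ i, T i := by rw [hT, htop]; exact Submodule.mem_top
    obtain ⟨f, hf, hsum⟩ := (Submodule.mem_iSup_iff_exists_finsupp T w).1 hw
    exact ⟨f, hf, by rw [← hsum, Finsupp.sum_fintype _ _ (fun _ => rfl)]⟩
  have huniq : ∀ x : Fin t → V, (∀ i, x i ∈ T i) → ∑ i, x i = 0 → ∀ i, x i = 0 := fun x hx hs i =>
    (iSupIndep_iff_finset_sum_eq_zero_imp_eq_zero T).1 hind Finset.univ x (fun i _ => hx i) hs i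
      (Finset.mem_univ i)
  have hcomp : ∀ k, ∀ x : Fin t → V, (∀ i, x i ∈ T i) → ∑ i, x i ∈ U k → ∀ i, x i ≠ 0 → I i = I k := by
    intro k x hx hsum i hi
    refine (hmax k i fun r hr => ⟨hr.1, ?_⟩).symm
    refine hinj i r hr.1 (x i) (hx i) hi (huniq (fun j => r *ᵥ x j) (fun j => hTi j r hr.1 _ (hx j)) ?_ i)
    rw [← Matrix.mulVec_sum]; exact hsum r hr
  have himg : ∀ g ∈ G, ∀ k, ∃ j, (U k).map (Matrix.toLin' (g : Matrix (Fin n) (Fin n) F)) = U j := by
    intro g hg k
    obtain ⟨u, hu, hu0⟩ := hTne k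
    obtain ⟨x, hx, hxs⟩ := hdec ((g : Matrix (Fin n) (Fin n) F) *ᵥ u)
    obtain ⟨j, hj⟩ : ∃ j, x j ≠ 0 := by
      by_contra hall
      push Not at hall
      rw [Finset.sum_eq_zero fun i _ => hall i] at hxs
      exact hu0 (gl_mulVec_injective g (by simp only; rw [← hxs, Matrix.mulVec_zero]))
    set c := fun r : Matrix (Fin n) (Fin n) F =>
      ((g⁻¹ : GLn) : Matrix (Fin n) (Fin n) F) * r * (g : Matrix (Fin n) (Fin n) F) with hc
    have hcR : ∀ r ∈ R, c r ∈ R := fun r hr => by
      have := hconjmem g⁻¹ (inv_mem hg) r hr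
      rwa [inv_inv] at this
    have hkey : ∀ r ∈ R, (c r ∈ I k ↔ r ∈ I j) := by
      have hcalc : ∀ r w, r *ᵥ ((g : Matrix (Fin n) (Fin n) F) *ᵥ w) =
          (g : Matrix (Fin n) (Fin n) F) *ᵥ (c r *ᵥ w) := by
        intro r w
        simp only [hc, ← Matrix.mulVec_mulVec, gl_mulVec_inv_cancel]
      have hfwd : ∀ r ∈ R, c r ∈ I k → r ∈ I j := by
        intro r hr hck
        refine ⟨hr, hinj j r hr (x j) (hx j) hj
          (huniq (fun i => r *ᵥ x i) (fun i => hTi i r hr _ (hx i)) ?_ j)⟩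
        rw [← Matrix.mulVec_sum, hxs, hcalc, hck.2 u hu, Matrix.mulVec_zero]
      intro r hr
      refine ⟨hfwd r hr, fun hrj => ?_⟩
      -- by maximality
      by_contra hck
      obtain ⟨i, hi⟩ : ∃ i : Fin t, ∃ z ∈ T i, z ≠ 0 ∧
          ((g⁻¹ : GLn) : Matrix (Fin n) (Fin n) F) *ᵥ x j ≠ 0 := ⟨k, u, hu, hu0, fun e =>
            hj (gl_mulVec_injective g⁻¹ (by simp only; rw [e, Matrix.mulVec_zero]))⟩
      obtain ⟨y, hy, hys⟩ := hdec (((g⁻¹ : GLn) : Matrix (Fin n) (Fin n) F) *ᵥ x j)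
      obtain ⟨l, hl⟩ : ∃ l, y l ≠ 0 := by
        by_contra hall
        push Not at hall
        rw [Finset.sum_eq_zero fun i _ => hall i] at hys
        obtain ⟨z, -, -, hz⟩ := hi
        exact hz hys.symm
      have hsub : ∀ s ∈ R, s ∈ I j → c s ∈ I l := by
        intro s hs hsj
        refine ⟨hcR s hs, hinj l _ (hcR s hs) (y l) (hy l) hl
          (huniq (fun i => c s *ᵥ y i) (fun i => hTi i _ (hcR s hs) _ (hy i)) ?_ l)⟩
        rw [← Matrix.mulVec_sum, hys]
        apply gl_mulVec_injective g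
        simp only
        rw [← hcalc, gl_mulVec_inv_cancel, Matrix.mulVec_zero, hsj.2 _ (hx j)]
      have hkl : I k ⊆ I l := by
        intro s hs
        have e : c ((g : Matrix (Fin n) (Fin n) F) * s * ((g⁻¹ : GLn) : Matrix (Fin n) (Fin n) F)) = s := by
          simp only [hc, mul_assoc, Units.inv_mul, mul_one, Units.inv_mul_cancel_left]
        have hs' := hconjmem g hg s hs.1
        have := hsub _ hs' (hfwd _ hs' (by rw [e]; exact hs))
        rwa [e] at this
      exact hck (hmax k l hkl ▸ hsub r hr hrj)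
    refine ⟨j, le_antisymm ?_ ?_⟩
    · rintro _ ⟨w, hw, rfl⟩ r hr
      rw [Matrix.toLin'_apply]
      have : c r *ᵥ w = 0 := hw _ ((hkey r hr.1).2 hr)
      rw [show r *ᵥ ((g : Matrix (Fin n) (Fin n) F) *ᵥ w) =
        (g : Matrix (Fin n) (Fin n) F) *ᵥ (c r *ᵥ w) by
          simp only [hc, ← Matrix.mulVec_mulVec, gl_mulVec_inv_cancel], this, Matrix.mulVec_zero]
    · intro w hw
      refine ⟨((g⁻¹ : GLn) : Matrix (Fin n) (Fin n) F) *ᵥ w, fun s hs => ?_, by simp [gl_mulVec_inv_cancel]⟩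
      have hs' := hconjmem g hg s hs.1
      have e : c ((g : Matrix (Fin n) (Fin n) F) * s * ((g⁻¹ : GLn) : Matrix (Fin n) (Fin n) F)) = s := by
        simp only [hc, mul_assoc, Units.inv_mul, mul_one, Units.inv_mul_cancel_left]
      have h0 := hw _ ((hkey _ hs').1 (by rw [e]; exact hs))
      rw [← Matrix.mulVec_mulVec, ← Matrix.mulVec_mulVec] at h0
      exact gl_mulVec_injective g (by simp only; rw [h0, Matrix.mulVec_zero])
  -- the family of components
  let S : Finset (Submodule F V) := Finset.univ.image U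
  let D : Fin S.card → Submodule F V := fun i => (S.equivFin.symm i : Submodule F V)
  have hDinj : Function.Injective D := fun i j e =>
    S.equivFin.symm.injective (Subtype.ext e)
  have hDU : ∀ i, ∃ k, D i = U k := fun i => by
    obtain ⟨k, -, hk⟩ := Finset.mem_image.1 (S.equivFin.symm i).2
    exact ⟨k, hk.symm⟩
  have hUD : ∀ k, ∃ i, D i = U k := fun k =>
    ⟨S.equivFin ⟨U k, Finset.mem_image.2 ⟨k, Finset.mem_univ _, rfl⟩⟩, by simp [D]⟩
  have hUI : ∀ k l, I k = I l → U k = U l := fun k l e => by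
    ext w; exact ⟨fun hw r hr => hw r (e ▸ hr), fun hw r hr => hw r (e.symm ▸ hr)⟩
  have hperm : G ≤ decompositionStabilizer D := by
    intro g hg
    have hex : ∀ i, ∃ i', (D i).map (Matrix.toLin' (g : Matrix (Fin n) (Fin n) F)) = D i' := fun i => by
      obtain ⟨k, hk⟩ := hDU i
      obtain ⟨j, hj⟩ := himg g hg k
      obtain ⟨i', hi'⟩ := hUD j
      exact ⟨i', by rw [hk, hj, hi']⟩
    choose σ hσ using hex
    have hσi : Function.Injective σ := fun i i' e => hDinj
      (Submodule.map_injective_of_injective (fun u v h => gl_mulVec_injective g (by simpa using h))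
        ((hσ i).trans ((congrArg D e).trans (hσ i').symm)))
    exact ⟨Equiv.ofBijective σ (Finite.injective_iff_bijective.1 hσi), fun i => hσ i⟩
  by_cases hcard : S.card ≤ 1
  · -- one component: `a - 1` kills everything
    have hall : ∀ k l, U k = U l := fun k l => Finset.card_le_one.1 hcard _
      (Finset.mem_image.2 ⟨k, Finset.mem_univ _, rfl⟩) _
      (Finset.mem_image.2 ⟨l, Finset.mem_univ _, rfl⟩)
    have haR : (a : Matrix (Fin n) (Fin n) F) - 1 ∈ R :=
      R.sub_mem (Algebra.subset_adjoin (coe_mem_matrixSet ha)) R.one_mem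
    obtain ⟨x, hx, hxs⟩ := hdec v
    obtain ⟨j, hj⟩ : ∃ j, x j ≠ 0 := by
      by_contra hall'
      push Not at hall'
      rw [Finset.sum_eq_zero fun i _ => hall' i] at hxs
      exact hv0 hxs.symm
    have hk : (a : Matrix (Fin n) (Fin n) F) - 1 ∈ I j := by
      refine ⟨haR, hinj j _ haR (x j) (hx j) hj
        (huniq (fun i => ((a : Matrix (Fin n) (Fin n) F) - 1) *ᵥ x i) (fun i => hTi i _ haR _ (hx i)) ?_ j)⟩
      rw [← Matrix.mulVec_sum, hxs, Matrix.sub_mulVec, mem_fixSp.1 hv, Matrix.one_mulVec, sub_self]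
    refine hne (Units.ext (Matrix.ext_of_mulVec_single fun i => ?_))
    obtain ⟨y, hy, hys⟩ := hdec (Pi.single i 1)
    have hmem : (Pi.single i 1 : V) ∈ U j := by
      rw [← hys]
      exact Submodule.sum_mem _ fun l _ => by rw [hall j l]; exact hTU l (hy l)
    have h0 := hmem _ hk
    rw [Matrix.sub_mulVec, Matrix.one_mulVec, sub_eq_zero] at h0
    rw [Units.val_one, Matrix.one_mulVec]
    exact h0
  · obtain ⟨k₀, hk₀⟩ : ∃ k₀ : Fin t, True := by
      by_contra hno
      push Not at hno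
      refine hcard ?_
      have : IsEmpty (Fin t) := ⟨fun k => absurd (hno k) (by simp)⟩
      rw [show S = ∅ from Finset.image_eq_empty.2 Finset.univ_eq_empty]
      simp
    refine hprim (Module.finrank F (U k₀)) S.card D (by omega) ⟨by omega, ?_, ?_, ?_, ?_⟩ hperm
    · obtain ⟨u, hu, hu0⟩ := hTne k₀
      exact Nat.pos_of_ne_zero fun h0 => hu0 (by
        have := hTU k₀ hu
        rwa [Submodule.finrank_eq_zero.1 h0, Submodule.mem_bot] at this)
    · -- equal dimensions
      have hTT : ∀ i l : Fin t, Module.finrank F (U i) ≤ Module.finrank F (U l) := by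
        intro i l
        set g : GLn := h l * (h i)⁻¹ with hg'
        have hg : g ∈ G := mul_mem (hhG l) (inv_mem (hhG i))
        obtain ⟨j, hj⟩ := himg g hg i
        obtain ⟨u, hu, hu0⟩ := hTne i
        have hgu : (g : Matrix (Fin n) (Fin n) F) *ᵥ u ∈ T l := by
          obtain ⟨w, hw, rfl⟩ := hu
          refine ⟨w, hw, ?_⟩
          simp only [hg', Matrix.toLin'_apply, gl_mul_mulVec, gl_inv_mulVec_cancel]
        have hmemU : (g : Matrix (Fin n) (Fin n) F) *ᵥ u ∈ U j := by
          rw [← hj]; exact ⟨u, hTU i hu, by simp⟩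
        have : I l = I j := hcomp j (Pi.single l ((g : Matrix (Fin n) (Fin n) F) *ᵥ u))
          (fun m => by
            by_cases hm : m = l
            · subst hm; rw [Pi.single_eq_same]; exact hgu
            · rw [Pi.single_eq_of_ne hm]; exact Submodule.zero_mem _)
          (by rw [Finset.sum_pi_single']; simpa using hmemU) l
          (by rw [Pi.single_eq_same]; exact fun e => hu0 (gl_mulVec_injective g (by simp only; rw [e, Matrix.mulVec_zero])))
        rw [hUI l j this, ← hj, finrank_map_gl]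
      intro i
      obtain ⟨k, hk⟩ := hDU i
      rw [hk]
      exact le_antisymm (hTT k k₀) (hTT k₀ k)
    · -- independence
      intro i
      rw [Submodule.disjoint_def]
      intro w hw hw'
      obtain ⟨k, hk⟩ := hDU i
      have hle : (⨆ (j : Fin S.card) (_ : j ≠ i), D j) ≤ ⨆ (m : Fin t) (_ : I m ≠ I k), T m := by
        refine iSup₂_le fun j hj z hz => ?_
        obtain ⟨l, hl⟩ := hDU j
        obtain ⟨x, hx, hxs⟩ := hdec z
        rw [← hxs]
        refine Submodule.sum_mem _ fun m _ => ?_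
        by_cases hm : x m = 0
        · rw [hm]; exact Submodule.zero_mem _
        · have hml := hcomp l x hx (by rw [hxs, ← hl]; exact hz) m hm
          refine le_iSup₂ (f := fun (m : Fin t) (_ : I m ≠ I k) => T m) m (fun e => hj ?_) (hx m)
          exact hDinj (by rw [hl, hk]; exact hUI l k (hml.symm.trans e))
      have hw'' := hle hw'
      rw [iSup_subtype'] at hw''
      obtain ⟨f, hf, hfs⟩ := (Submodule.mem_iSup_iff_exists_finsupp _ w).1 hw''
      let x : Fin t → V := fun m => if hm : I m ≠ I k then f ⟨m, hm⟩ else 0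
      have hx : ∀ m, x m ∈ T m := fun m => by
        by_cases hm : I m ≠ I k
        · simp only [x, dif_pos hm]; exact hf ⟨m, hm⟩
        · simp only [x, dif_neg hm]; exact Submodule.zero_mem _
      have hxs : ∑ m, x m = w := by
        rw [← hfs, Finsupp.sum_fintype _ _ (fun _ => rfl),
          ← Fintype.sum_subtype_add_sum_subtype (fun m => I m ≠ I k) x]
        have h0 : ∀ m : {m // ¬ I m ≠ I k}, x m = 0 := fun m => dif_neg m.2
        rw [Finset.sum_eq_zero fun m _ => h0 m, add_zero]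
        exact Finset.sum_congr rfl fun m _ => dif_pos m.2
      rw [← hxs]
      refine Finset.sum_eq_zero fun m _ => ?_
      by_contra hm
      have := hcomp k x hx (by rw [hxs, ← hk]; exact hw) m hm
      exact hm (dif_neg (not_not.2 this))
    · rw [eq_top_iff]
      intro w _
      obtain ⟨x, hx, hxs⟩ := hdec w
      rw [← hxs]
      refine Submodule.sum_mem _ fun m _ => ?_
      obtain ⟨i, hi⟩ := hUD m
      exact le_iSup D i (hi ▸ hTU m (hx m))

open scoped commutatorElement

/-- Nonidentity elements of a primitive soluble group fix at most three quarters of the space. -/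
theorem main {G : Subgroup GLn} (hsol : IsSolvable G) (hirr : ActsIrreducibly (matrixSet G))
    (hprim : ∀ (m t : ℕ) (D : Fin t → Submodule F V), 2 ≤ t → IsMDecomposition m D →
      ¬ G ≤ decompositionStabilizer D)
    {g : GLn} (hg : g ∈ G) (hg1 : g ≠ 1) : 4 * Module.finrank F (fixSp g) ≤ 3 * n := by
  classical
  haveI : Finite G := Finite.of_injective _ Subtype.val_injective
  haveI : Group.IsSolvable G := hsol
  have hfpf : ∀ A : Subgroup G, A.Normal → IsMulCommutative A → ∀ a ∈ A, a ≠ (1 : G) →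
      Module.finrank F (fixSp (a : GLn)) = 0 := by
    intro A hA hAc a ha ha1
    have hn' : ∀ h ∈ G, ∀ x ∈ A.map G.subtype, h * x * h⁻¹ ∈ A.map G.subtype := by
      intro h hh x hx
      rw [Subgroup.mem_map] at hx ⊢
      obtain ⟨x, hx, rfl⟩ := hx
      refine ⟨(⟨h, hh⟩ : G) * x * (⟨h, hh⟩ : G)⁻¹, hA.conj_mem x hx _, ?_⟩
      rw [map_mul, map_mul, map_inv, Subgroup.subtype_apply, Subgroup.subtype_apply]
    have hc' : ∀ x ∈ A.map G.subtype, ∀ y ∈ A.map G.subtype, x * y = y * x := by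
      intro x hx y hy
      rw [Subgroup.mem_map] at hx hy
      obtain ⟨x, hx, rfl⟩ := hx
      obtain ⟨y, hy, rfl⟩ := hy
      have e : (⟨x, hx⟩ : A) * ⟨y, hy⟩ = ⟨y, hy⟩ * ⟨x, hx⟩ := hAc.is_comm.comm _ _
      rw [← map_mul, ← map_mul, show x * y = y * x from congrArg Subtype.val e]
    have hm : (a : GLn) ∈ A.map G.subtype := by
      rw [Subgroup.mem_map]
      exact ⟨a, ha, Subgroup.subtype_apply a⟩
    have hne : (a : GLn) ≠ 1 := fun e => ha1 (Subtype.ext e)
    have h0 := fix_eq_bot hirr hprim hn' hc' hm hne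
    rw [h0]
    exact finrank_bot F V
  have hb : ∀ a x : G, 2 * Module.finrank F (fixSp (a : GLn)) ≤
      n + Module.finrank F (fixSp ((⁅a, x⁆ : G) : GLn)) := fun a x => by
    rw [commutatorElement_def]; exact fix_comm_bound (a : GLn) (x : GLn)
  obtain ⟨A, ⟨hAn, hAc⟩, hAmax⟩ := (Set.toFinite {A : Subgroup G | A.Normal ∧ IsMulCommutative A}).exists_maximal
    ⟨⊥, inferInstance, inferInstance⟩
  haveI := hAn
  haveI := hAc
  set C := Subgroup.centralizer (A : Set G) with hC
  have hAC : A ≤ C := Subgroup.le_centralizer_iff_isMulCommutative.2 hAc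
  obtain ⟨y, rfl⟩ : ∃ y : G, (y : GLn) = g := ⟨⟨g, hg⟩, rfl⟩
  have hy1 : y ≠ 1 := fun e => hg1 (by rw [e]; rfl)
  by_cases hyA : y ∈ A
  · rw [hfpf A hAn hAc y hyA hy1]; omega
  by_cases hyC : y ∈ C
  swap
  · obtain ⟨a, ha, hne⟩ : ∃ a ∈ A, ⁅y, a⁆ ≠ 1 := by
      by_contra hall
      push Not at hall
      exact hyC (Subgroup.mem_centralizer_iff.2 fun a ha =>
        (commutatorElement_eq_one_iff_mul_comm.1 (hall a ha)).symm)
    have hmem : ⁅y, a⁆ ∈ A := by
      rw [commutatorElement_def]; exact A.mul_mem (hAn.conj_mem a ha y) (A.inv_mem ha)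
    have := hb y a
    rw [hfpf A hAn hAc _ hmem hne] at this
    omega
  obtain ⟨M, ⟨hMn, hAM, hMC, hMM⟩, hMmax⟩ := (Set.toFinite
    {M : Subgroup G | M.Normal ∧ A ≤ M ∧ M ≤ C ∧ ⁅M, M⁆ ≤ A}).exists_maximal
    ⟨A, hAn, le_rfl, hAC, Subgroup.commutator_le_left A A⟩
  haveI := hMn
  set D := C ⊓ Subgroup.centralizer (M : Set G) with hD
  have hMZ : M ⊓ Subgroup.centralizer (M : Set G) ≤ A := by
    have hle : A ≤ M ⊓ Subgroup.centralizer (M : Set G) :=
      le_inf hAM (Subgroup.le_centralizer_iff.1 hMC)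
    exact hAmax ⟨inferInstance, Subgroup.le_centralizer_iff_isMulCommutative.1
      (inf_le_right.trans (Subgroup.centralizer_le inf_le_left))⟩ hle
  have hDA : D ≤ A := by
    by_contra hDA
    haveI : D.Normal := inferInstance
    haveI : Group.IsSolvable D := inferInstance
    obtain ⟨k, hk⟩ := Group.IsSolvable.solvable (G := D)
    have hk' : (derivedSeries D k).map D.subtype ≤ A := by rw [hk, Subgroup.map_bot]; exact bot_le
    have h0 : ¬ (derivedSeries D 0).map D.subtype ≤ A := by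
      rw [derivedSeries_zero, ← MonoidHom.range_eq_map, Subgroup.range_subtype]; exact hDA
    obtain ⟨j, hj, hj1⟩ : ∃ j, ¬ (derivedSeries D j).map D.subtype ≤ A ∧
        (derivedSeries D (j + 1)).map D.subtype ≤ A := by
      by_contra hall
      push Not at hall
      have : ∀ i, ¬ (derivedSeries D i).map D.subtype ≤ A := by
        intro i
        induction i with
        | zero => exact h0
        | succ i ih => exact hall i ih
      exact this k hk'
    set D1 := (derivedSeries D j).map D.subtype with hD1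
    haveI : D1.Normal := ConjAct.normal_of_characteristic_of_normal
    have hD1D : D1 ≤ D := Subgroup.map_subtype_le _
    have hD11 : ⁅D1, D1⁆ ≤ A := by
      rw [← Subgroup.map_commutator, ← derivedSeries_succ]; exact hj1
    have hE : ⁅M ⊔ D1, M ⊔ D1⁆ ≤ A := by
      have hq : ∀ X Y : Subgroup G, ⁅X, Y⁆ ≤ A →
          X.map (QuotientGroup.mk' A) ≤ Subgroup.centralizer ((Y.map (QuotientGroup.mk' A) : Subgroup (G ⧸ A)) : Set (G ⧸ A)) := by
        intro X Y hXY
        rw [← Subgroup.commutator_eq_bot_iff_le_centralizer, ← Subgroup.map_commutator,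
          Subgroup.map_eq_bot_iff, QuotientGroup.ker_mk']
        exact hXY
      have hMD : ⁅M, D1⁆ ≤ A := by
        rw [Subgroup.commutator_eq_bot_iff_le_centralizer.2
          (Subgroup.le_centralizer_iff.1 (hD1D.trans inf_le_right))]
        exact bot_le
      have h1 := hq M M hMM
      have h2 := hq M D1 hMD
      have h3 := hq D1 D1 hD11
      rw [← QuotientGroup.ker_mk' A, ← Subgroup.map_eq_bot_iff, Subgroup.map_commutator,
        Subgroup.commutator_eq_bot_iff_le_centralizer, Subgroup.map_sup]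
      refine sup_le (Subgroup.le_centralizer_iff.1 (sup_le h1 (Subgroup.le_centralizer_iff.1 h2)))
        (Subgroup.le_centralizer_iff.1 (sup_le h2 h3))
    have hle : M ⊔ D1 ≤ M := hMmax
      ⟨inferInstance, hAM.trans le_sup_left, sup_le hMC (hD1D.trans inf_le_left), hE⟩ le_sup_left
    exact hj fun z hz => hMZ ⟨hle ((le_sup_right : D1 ≤ M ⊔ D1) hz), (hD1D hz).2⟩
  obtain ⟨x, hx, hne⟩ : ∃ x ∈ M, ⁅y, x⁆ ≠ 1 := by
    by_contra hall
    push Not at hall
    exact hyA (hDA ⟨hyC, Subgroup.mem_centralizer_iff.2 fun x hx =>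
      (commutatorElement_eq_one_iff_mul_comm.1 (hall x hx)).symm⟩)
  have htM : ⁅y, x⁆ ∈ M := by
    rw [commutatorElement_def]; exact M.mul_mem (hMn.conj_mem x hx y) (M.inv_mem hx)
  have h1 := hb y x
  by_cases htA : ⁅y, x⁆ ∈ A
  · rw [hfpf A hAn hAc _ htA hne] at h1; omega
  obtain ⟨z, hz, hne'⟩ : ∃ z ∈ M, ⁅⁅y, x⁆, z⁆ ≠ 1 := by
    by_contra hall
    push Not at hall
    exact htA (hMZ ⟨htM, Subgroup.mem_centralizer_iff.2 fun z hz =>
      (commutatorElement_eq_one_iff_mul_comm.1 (hall z hz)).symm⟩)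
  have h2 := hb ⁅y, x⁆ z
  rw [hfpf A hAn hAc _ (hMM (Subgroup.commutator_mem_commutator htM hz)) hne'] at h2
  omega

end Cfsg.Agent.Lead.PrimFix
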