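import Cfsg.Agent.Lib.Fusion.Critical
import Cfsg.Agent.Lib.Fusion.OmegaClassTwo
import Cfsg.Agent.Lib.Solv.UniqueSub

/-!
Tools for normal subgroups of small order in groups of `p`-rank two.
-/

set_option autoImplicit false

open scoped commutatorElement

namespace Cfsg.Agent.Lead.QdTwo

variable {G : Type*} [Group G] [Finite G] {p : ℕ} [hp : Fact p.Prime]

/-- Derived subgroups act trivially on sections of order at most `p`. -/
theorem comm_step (C D F : Subgroup G) (hFD : F ≤ D) (hD : ∀ g ∈ C, ∀ d ∈ D, g * d * g⁻¹ ∈ D)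
    (hF : ∀ g ∈ C, ∀ f ∈ F, g * f * g⁻¹ ∈ F) (hn : ∀ d ∈ D, ∀ f ∈ F, d * f * d⁻¹ ∈ F)
    (hcard : Nat.card D ∣ p * Nat.card F) : ∀ l ∈ ⁅C, C⁆, ∀ d ∈ D, ⁅l, d⁆ ∈ F := by
  haveI hN : (F.subgroupOf D).Normal := ⟨fun f hf d => hn d d.2 f hf⟩
  haveI : IsCyclic (D ⧸ F.subgroupOf D) := by
    refine isCyclic_of_card_dvd_prime (p := p) ?_
    have h := Subgroup.card_eq_card_quotient_mul_card_subgroup (F.subgroupOf D)
    rw [Nat.card_congr (Subgroup.subgroupOfEquivOfLe hFD).toEquiv] at h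
    rw [h] at hcard
    exact Nat.dvd_of_mul_dvd_mul_right Nat.card_pos hcard
  let cj : C → (D →* D) := fun g =>
    ((MulAut.conj (g : G)).toMonoidHom.comp D.subtype).codRestrict D fun d => hD g g.2 d d.2
  let ψ : C →* Monoid.End (D ⧸ F.subgroupOf D) :=
    { toFun := fun g => QuotientGroup.map _ _ (cj g) fun f hf => hF g g.2 f hf
      map_one' := by
        refine MonoidHom.ext fun x => ?_
        induction x using QuotientGroup.induction_on with
        | H d =>
          show ((cj 1 d : D) : D ⧸ F.subgroupOf D) = d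
          congr 1
          exact Subtype.ext (by simp [cj])
      map_mul' := fun a b => by
        refine MonoidHom.ext fun x => ?_
        induction x using QuotientGroup.induction_on with
        | H d =>
          show ((cj (a * b) d : D) : D ⧸ F.subgroupOf D) = (cj a (cj b d) : D)
          congr 1
          exact Subtype.ext (by simp [cj, mul_assoc]) }
  have hcomm : ∀ a b : C, ψ a * ψ b = ψ b * ψ a := fun a b => by
    obtain ⟨m, hm⟩ := MonoidHom.map_cyclic (ψ a)
    obtain ⟨n, hn⟩ := MonoidHom.map_cyclic (ψ b)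
    refine MonoidHom.ext fun x => ?_
    refine (hm _).trans (Eq.trans ?_ (hn _).symm)
    refine (congrArg (fun y => y ^ m) (hn x)).trans (Eq.trans ?_ (congrArg (fun y => y ^ n) (hm x)).symm)
    show (x ^ n) ^ m = (x ^ m) ^ n
    rw [← zpow_mul, ← zpow_mul, mul_comm]
  have hker : ⁅C, C⁆ ≤ ψ.ker.map C.subtype := Subgroup.commutator_le.2 fun a ha b hb =>
    Subgroup.mem_map.2 ⟨⁅(⟨a, ha⟩ : C), (⟨b, hb⟩ : C)⁆, MonoidHom.mem_ker.2 (by
      rw [commutatorElement_def, map_mul, map_mul, map_mul, hcomm ⟨a, ha⟩ ⟨b, hb⟩,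
        mul_assoc (ψ ⟨b, hb⟩), ← map_mul, mul_inv_cancel, map_one, mul_one, ← map_mul,
        mul_inv_cancel, map_one]), rfl⟩
  intro l hl d hd
  obtain ⟨l, hlk, rfl⟩ := hker hl
  have h : ψ l (⟨d, hd⟩ : D) = ((⟨d, hd⟩ : D) : D ⧸ F.subgroupOf D) := by
    rw [MonoidHom.mem_ker.1 hlk]; rfl
  have h2 : ((l : G) * d * (l : G)⁻¹)⁻¹ * d ∈ F :=
    (QuotientGroup.eq (s := F.subgroupOf D) (a := cj l ⟨d, hd⟩) (b := ⟨d, hd⟩)).1 h
  have h3 := hn d hd _ (inv_mem h2)
  rw [commutatorElement_def]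
  convert h3 using 1
  show (l : G) * d * (l : G)⁻¹ * d⁻¹ = _
  group

omit hp in
/-- An element of order prime to `p` stabilizing a series fixes it. -/
theorem fix_of_series {l : G} (D F : Subgroup G) (hF : ∀ f ∈ F, l * f = f * l)
    (hstep : ∀ d ∈ D, ⁅l, d⁆ ∈ F) (hFp : IsPGroup p F) (hl : (orderOf l).Coprime p) :
    ∀ d ∈ D, l * d = d * l := by
  intro d hd
  set z := ⁅l, d⁆ with hz
  have hld : l * d * l⁻¹ = z * d := by rw [hz, commutatorElement_def]; group
  have hlz : l * z * l⁻¹ = z := by rw [hF z (hstep d hd), mul_inv_cancel_right]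
  have hpow : ∀ j : ℕ, l ^ j * d * (l ^ j)⁻¹ = z ^ j * d := by
    intro j
    induction j with
    | zero => simp
    | succ j ih =>
      calc l ^ (j + 1) * d * (l ^ (j + 1))⁻¹ = l * (l ^ j * d * (l ^ j)⁻¹) * l⁻¹ := by
            rw [pow_succ']; group
        _ = (l * z * l⁻¹) ^ j * (l * d * l⁻¹) := by rw [ih, conj_pow]; group
        _ = z ^ (j + 1) * d := by rw [hlz, hld, pow_succ, mul_assoc]
  have h1 := hpow (orderOf l)
  rw [pow_orderOf_eq_one, inv_one, mul_one, one_mul] at h1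
  obtain ⟨k, hk⟩ := hFp ⟨z, hstep d hd⟩
  have h2 := pow_gcd_eq_one.2 ⟨(mul_eq_right.1 h1.symm), congrArg Subtype.val hk⟩
  rw [Nat.Coprime.pow_right k hl, pow_one] at h2
  exact commutatorElement_eq_one_iff_mul_comm.1 h2

/-- A commuting element of order `p` lies in a maximal elementary abelian subgroup. -/
theorem rank_mem (hr : ∀ A : Subgroup G, IsMulCommutative A → (∀ a ∈ A, a ^ p = 1) → Nat.card A ≤ p ^ 2)
    (A : Subgroup G) (hA : ∀ a ∈ A, ∀ b ∈ A, a * b = b * a) (hAp : ∀ a ∈ A, a ^ p = 1)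
    (hcard : Nat.card A = p ^ 2) {c : G} (hc : c ^ p = 1) (hcA : ∀ a ∈ A, c * a = a * c) : c ∈ A := by
  set B := Subgroup.closure (insert c (A : Set G)) with hB
  haveI hBc : IsMulCommutative B := Subgroup.isMulCommutative_closure (by
    rintro a (rfl | ha) b (rfl | hb)
    · rfl
    · exact hcA b hb
    · exact (hcA a ha).symm
    · exact hA a ha b hb)
  have hBp : ∀ a ∈ B, a ^ p = 1 := fun a ha => by
    induction ha using Subgroup.closure_induction with
    | mem b hb => rcases hb with rfl | hb; exacts [hc, hAp b hb]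
    | one => exact one_pow p
    | mul a b ha hb ea eb =>
      rw [Commute.mul_pow (congrArg Subtype.val (mul_comm' (⟨a, ha⟩ : B) ⟨b, hb⟩)), ea, eb, one_mul]
    | inv a ha ea => rw [inv_pow, ea, inv_one]
  have hAB : A ≤ B := fun a ha => Subgroup.subset_closure (Or.inr ha)
  rw [Subgroup.eq_of_le_of_card_ge hAB ((hr B hBc hBp).trans hcard.ge)]
  exact Subgroup.subset_closure (Or.inl rfl)

omit [Finite G] in
/-- A `p`-group fixes a point in a nontrivial section. -/
theorem exists_fix [Finite G] (S : Subgroup G) (hS : IsPGroup p S) (C N : Subgroup G) (hCS : C ≤ S)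
    (hn : ∀ s ∈ S, ∀ c ∈ C, s * c * s⁻¹ ∈ C) (hCN : ¬ C ≤ N) :
    ∃ x ∈ C, x ∉ N ∧ ∀ s ∈ S, ⁅x, s⁆ ∈ N := by
  haveI : Group.IsNilpotent S := hS.isNilpotent
  haveI : (C.subgroupOf S).Normal := ⟨fun c hc s => hn s s.2 c hc⟩
  obtain ⟨x, hx, hxN, h⟩ := Fusion.exists_fixed_mod (P := S) (N := N.subgroupOf S)
    (C := C.subgroupOf S) (Q := ⊤) (by rw [Subgroup.normalizer_eq_top]) fun h =>
      hCN fun c hc => h (show (⟨c, hCS hc⟩ : S) ∈ C.subgroupOf S from hc)
  exact ⟨x, hx, hxN, fun s hs => h ⟨s, hs⟩ trivial⟩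

/-- Subgroups of exponent `p` of order at most `p ^ 3` and class two in rank two. -/
theorem small_cases (hr : ∀ A : Subgroup G, IsMulCommutative A → (∀ a ∈ A, a ^ p = 1) → Nat.card A ≤ p ^ 2)
    (D : Subgroup G) (hDp : ∀ d ∈ D, d ^ p = 1)
    (h2 : ∀ a ∈ D, ∀ b ∈ D, ⁅a, b⁆ ∈ Subgroup.centralizer (D : Set G))
    (hna : ¬ ∀ a ∈ D, ∀ b ∈ D, a * b = b * a) :
    Nat.card (D ⊓ Subgroup.centralizer (D : Set G) : Subgroup G) = p ∧ Nat.card D = p ^ 3 := by
  set Z := D ⊓ Subgroup.centralizer (D : Set G) with hZ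
  have hZmem : ∀ z ∈ Z, ∀ d ∈ D, z * d = d * z := fun z hz d hd =>
    (Subgroup.mem_centralizer_iff.1 hz.2 d hd).symm
  have hcomm : ∀ a ∈ D, ∀ b ∈ D, ⁅a, b⁆ ∈ Z := fun a ha b hb =>
    ⟨by rw [commutatorElement_def]
        exact D.mul_mem (D.mul_mem (D.mul_mem ha hb) (D.inv_mem ha)) (D.inv_mem hb), h2 a ha b hb⟩
  have hpg : ∀ H : Subgroup G, (∀ d ∈ H, d ^ p = 1) → ∃ k, Nat.card H = p ^ k := fun H hH =>
    IsPGroup.iff_card.1 fun a => ⟨1, Subtype.ext (by simpa using hH a a.2)⟩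
  have hZc : IsMulCommutative Z := ⟨⟨fun a b => Subtype.ext (hZmem a a.2 b b.2.1)⟩⟩
  have hZp : ∀ z ∈ Z, z ^ p = 1 := fun z hz => hDp z hz.1
  push Not at hna
  obtain ⟨a, ha, b, hb, hab⟩ := hna
  obtain ⟨k, hk⟩ := hpg Z hZp
  have hk2 : k ≤ 2 := (Nat.pow_le_pow_iff_right hp.out.one_lt).1 (hk ▸ hr Z hZc hZp)
  have hk1 : k = 1 := by
    interval_cases k
    · rw [pow_zero, Subgroup.card_eq_one] at hk
      exact absurd (commutatorElement_eq_one_iff_mul_comm.1 (Subgroup.mem_bot.1 (hk ▸ hcomm a ha b hb))) hab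
    · rfl
    · have haZ : a ∈ Z := rank_mem hr Z (fun u hu v hv => hZmem u hu v hv.1) hZp hk (hDp a ha)
        fun z hz => (hZmem z hz a ha).symm
      exact absurd (hZmem a haZ b hb) hab
  subst hk1
  rw [pow_one] at hk
  refine ⟨hk, ?_⟩
  set A := Subgroup.closure (insert a (Z : Set G)) with hA
  have hAD : A ≤ D := (Subgroup.closure_le _).2 (Set.insert_subset ha fun z hz => hz.1)
  haveI hAc : IsMulCommutative A := Subgroup.isMulCommutative_closure (by
    rintro x (rfl | hx) y (rfl | hy)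
    · rfl
    · exact (hZmem y hy _ ha).symm
    · exact hZmem x hx _ ha
    · exact hZmem x hx y hy.1)
  have hAab : ∀ x ∈ A, ∀ y ∈ A, x * y = y * x := fun x hx y hy =>
    congrArg Subtype.val (mul_comm' (⟨x, hx⟩ : A) ⟨y, hy⟩)
  have hAp : ∀ x ∈ A, x ^ p = 1 := fun x hx => hDp x (hAD hx)
  obtain ⟨j, hj⟩ := hpg A hAp
  have hlt : p < Nat.card A := by
    refine hk ▸ lt_of_le_of_ne (Nat.card_le_card_of_injective (Subgroup.inclusion
      (fun z hz => Subgroup.subset_closure (Or.inr hz) : Z ≤ A)) (Subgroup.inclusion_injective _)) fun e => ?_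
    have := Subgroup.eq_of_le_of_card_ge
      (fun z hz => Subgroup.subset_closure (Or.inr hz) : Z ≤ A) e.ge
    exact hab (hZmem a (this ▸ Subgroup.subset_closure (Or.inl rfl)) b hb)
  have hA2 : Nat.card A = p ^ 2 := le_antisymm (hr A hAc hAp) (by
    rw [hj] at hlt ⊢
    refine Nat.pow_le_pow_right hp.out.pos ?_
    by_contra h
    interval_cases j <;> simp at hlt <;> have := hp.out.two_le <;> omega)
  let f : D →* Z :=
    { toFun := fun c => ⟨⁅(c : G), a⁆, hcomm c c.2 a ha⟩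
      map_one' := Subtype.ext (by simp)
      map_mul' := fun c d => Subtype.ext (by
        show ⁅(c : G) * d, a⁆ = ⁅(c : G), a⁆ * ⁅(d : G), a⁆
        have e : ⁅(c : G) * d, a⁆ = (c : G) * ⁅(d : G), a⁆ * (c : G)⁻¹ * ⁅(c : G), a⁆ := by
          simp only [commutatorElement_def]; group
        rw [e, ← hZmem _ (hcomm d d.2 a ha) c c.2, mul_inv_cancel_right]
        exact hZmem _ (hcomm d d.2 a ha) _ (hcomm c c.2 a ha).1) }
  have hker : f.ker.map D.subtype ≤ A := by
    rintro _ ⟨c, hc, rfl⟩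
    have hca : (c : G) * a = a * c :=
      commutatorElement_eq_one_iff_mul_comm.1 (congrArg Subtype.val (MonoidHom.mem_ker.1 hc))
    refine rank_mem hr A hAab hAp hA2 (hDp c c.2) fun x hx => ?_
    induction hx using Subgroup.closure_induction with
    | mem y hy => rcases hy with rfl | hy; exacts [hca, (hZmem y hy c c.2).symm]
    | one => simp
    | mul x y _ _ ex ey => exact (Commute.mul_right ex ey : Commute (c : G) _)
    | inv x _ ex => exact (Commute.inv_right ex : Commute (c : G) _)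
  have h1 : Nat.card f.ker ≤ p ^ 2 := by
    rw [← hA2, ← Subgroup.card_map_of_injective D.subtype_injective]
    exact Nat.card_le_card_of_injective _ (Subgroup.inclusion_injective hker)
  have h2' : Nat.card D ≤ p ^ 3 := by
    rw [Subgroup.card_eq_card_quotient_mul_card_subgroup f.ker, pow_succ' p 2]
    refine Nat.mul_le_mul ?_ h1
    rw [Nat.card_congr (QuotientGroup.quotientKerEquivRange f).toEquiv]
    exact (Nat.card_le_card_of_injective _ Subtype.val_injective).trans hk.le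
  obtain ⟨i, hi⟩ := hpg D hDp
  have h3 : p ^ 2 < Nat.card D := hA2 ▸ lt_of_le_of_ne
    (Nat.card_le_card_of_injective _ (Subgroup.inclusion_injective hAD)) fun e => by
      have := Subgroup.eq_of_le_of_card_ge hAD e.ge
      exact hab (hAab a (this ▸ ha) b (this ▸ hb))
  rw [hi] at h3 h2' ⊢
  have := (Nat.pow_lt_pow_iff_right hp.out.one_lt).1 h3
  have := (Nat.pow_le_pow_iff_right hp.out.one_lt).1 h2'
  congr 1; omega

end Cfsg.Agent.Lead.QdTwo
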