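import Cfsg.Agent.Lib.Solv.Zipper
import Cfsg.Agent.Lib.Fusion.WeakClosureFunctor
import Cfsg.Agent.Lib.Local.ElemAb

/-!
# Best offenders in groups whose 2-subgroups act quadratically

If every 2-subgroup of a faithful group `Q` of automorphisms of an elementary abelian 2-group `V`
acts quadratically and no involution inverts an element of order three, then every best offender
lies in `O₂(Q)`.
-/

set_option autoImplicit false

universe u v

open Cfsg
open scoped Pointwise

namespace Cfsg.Agent.QuadOff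

variable {Q : Type u} [Group Q] {V : Type v} [CommGroup V] [MulDistribMulAction Q V]

/-- The fixed points of a set of acting elements. -/
def fixd (F : Subgroup Q) : Subgroup V where
  carrier := {v | ∀ g ∈ F, g • v = v}
  one_mem' := fun _ _ => smul_one _
  mul_mem' := fun {a b} ha hb g hg => by rw [smul_mul', ha g hg, hb g hg]
  inv_mem' := fun {a} ha g hg => by rw [smul_inv', ha g hg]

theorem mem_fixd {F : Subgroup Q} {v : V} : v ∈ fixd F ↔ ∀ g ∈ F, g • v = v := Iff.rfl

theorem fixd_anti {F F' : Subgroup Q} (h : F ≤ F') : (fixd F' : Subgroup V) ≤ fixd F :=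
  fun _ hv g hg => hv g (h hg)

theorem mem_fixd_sup {F F' : Subgroup Q} {v : V} :
    v ∈ fixd (F ⊔ F') ↔ v ∈ fixd F ∧ v ∈ fixd F' := by
  refine ⟨fun h => ⟨fixd_anti le_sup_left h, fixd_anti le_sup_right h⟩, fun ⟨h, h'⟩ g hg => ?_⟩
  have hle : F ⊔ F' ≤ MulAction.stabilizer Q v := sup_le (fun a ha => h a ha) fun a ha => h' a ha
  exact hle hg

theorem mem_fixd_conj {F : Subgroup Q} {v : V} {y : Q} :
    v ∈ fixd (MulAut.conj y • F) ↔ y⁻¹ • v ∈ fixd F := by
  constructor
  · intro h g hg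
    have h1 := h (y * g * y⁻¹)
      (Solv.mem_conj_smul.2 (by rwa [show y⁻¹ * (y * g * y⁻¹) * y = g by group]))
    rw [mul_smul, mul_smul] at h1
    rw [eq_inv_smul_iff]
    exact h1
  · intro h g hg
    have h1 := h _ (Solv.mem_conj_smul.1 hg)
    rw [← mul_smul, show y⁻¹ * g * y * y⁻¹ = y⁻¹ * g by group, mul_smul] at h1
    exact MulAction.injective y⁻¹ h1

theorem card_fixd_conj [Finite V] (F : Subgroup Q) (y : Q) :
    Nat.card (fixd (MulAut.conj y • F) : Subgroup V) = Nat.card (fixd F : Subgroup V) :=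
  Nat.card_congr
    { toFun := fun v => ⟨y⁻¹ • (v : V), mem_fixd_conj.1 v.2⟩
      invFun := fun v => ⟨y • (v : V), mem_fixd_conj.2 (by rw [inv_smul_smul]; exact v.2)⟩
      left_inv := fun v => Subtype.ext (smul_inv_smul _ _)
      right_inv := fun v => Subtype.ext (inv_smul_smul _ _) }

variable (V) in
/-- Best offenders. -/
def IsBest (E : Subgroup Q) : Prop :=
  IsElementaryAbelian 2 E ∧ ∀ F : Subgroup Q, F ≤ E →
    Nat.card F * Nat.card (fixd F : Subgroup V) ≤ Nat.card E * Nat.card (fixd E : Subgroup V)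

theorem conj_conj_smul (y z : Q) (E : Subgroup Q) :
    MulAut.conj y • MulAut.conj z • E = MulAut.conj (y * z) • E := by
  rw [smul_smul, map_mul]

theorem card_conj (E : Subgroup Q) (y : Q) : Nat.card (MulAut.conj y • E : Subgroup Q) = Nat.card E :=
  (Nat.card_congr (Subgroup.equivSMul (MulAut.conj y) E).toEquiv).symm

theorem IsBest.conj [Finite V] {E : Subgroup Q} (hE : IsBest V E) (y : Q) :
    IsBest V (MulAut.conj y • E : Subgroup Q) := by
  refine ⟨⟨⟨⟨fun a b => Subtype.ext ?_⟩⟩, fun a ha => ?_⟩, fun F hF => ?_⟩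
  · have h := Local.elemAb_commute hE.1 (Solv.mem_conj_smul.1 a.2) (Solv.mem_conj_smul.1 b.2)
    have h' := congrArg (fun t => y * t * y⁻¹) h
    simpa [mul_assoc] using h'
  · have h := hE.1.2 _ (Solv.mem_conj_smul.1 ha)
    rw [pow_two] at h ⊢
    have h' := congrArg (fun t => y * t * y⁻¹) h
    simpa [mul_assoc] using h'
  · have hF' : MulAut.conj y⁻¹ • F ≤ E := by
      intro z hz
      have := hF (Solv.mem_conj_smul.1 hz)
      rw [Solv.mem_conj_smul, inv_inv, show y⁻¹ * (y * z * y⁻¹) * y = z by group] at this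
      exact this
    have h := hE.2 _ hF'
    rw [card_conj, card_fixd_conj] at h
    rwa [card_conj, card_fixd_conj]

variable [Finite Q] [Finite V]

theorem isPGroup_elem {E : Subgroup Q} (hE : IsElementaryAbelian 2 E) : IsPGroup 2 E :=
  fun a => ⟨1, Subtype.ext (by rw [pow_one]; exact hE.2 a a.2)⟩

theorem commute_of_quadratic [FaithfulSMul Q V]
    (hquad : ∀ P : Subgroup Q, IsPGroup 2 P → ∀ g ∈ P, ∀ h ∈ P, ∀ v : V,
      h • (g • v * v) = g • v * v)
    (hV : ∀ v : V, v * v = 1) {P : Subgroup Q} (hP : IsPGroup 2 P) {g h : Q} (hg : g ∈ P)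
    (hh : h ∈ P) : g * h = h * g := by
  refine FaithfulSMul.eq_of_smul_eq_smul (α := V) fun v => ?_
  have h1 := hquad P hP g hg h hh v
  have h2 := hquad P hP h hh g hg v
  rw [smul_mul'] at h1 h2
  rw [mul_smul, mul_smul]
  have e1 : g • h • v = h • v * v * g • v := by
    calc g • h • v = g • h • v * (g • v * g • v) := by rw [hV, mul_one]
      _ = (g • h • v * g • v) * g • v := (mul_assoc _ _ _).symm
      _ = _ := by rw [h2]
  have e2 : h • g • v = g • v * v * h • v := by
    calc h • g • v = h • g • v * (h • v * h • v) := by rw [hV, mul_one]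
      _ = (h • g • v * h • v) * h • v := (mul_assoc _ _ _).symm
      _ = _ := by rw [h1]
  rw [e1, e2]
  ac_rfl

theorem conj_two_isPGroup {A B : Subgroup Q} (hA : IsPGroup 2 A) (hB : IsPGroup 2 B)
    (h : B ≤ Subgroup.normalizer (A : Set Q)) : IsPGroup 2 (A ⊔ B : Subgroup Q) :=
  hA.to_sup_of_normal_left' hB h

/-- A subgroup all of whose internal joins with conjugates are 2-groups lies in the 2-core. -/
theorem le_pCoreOf_of_joins {L E : Subgroup Q} (hEL : E ≤ L)
    (h : ∀ y ∈ L, IsPGroup 2 (E ⊔ MulAut.conj y • E : Subgroup Q)) : E ≤ pCoreOf 2 L := by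
  haveI : Fact (Nat.Prime 2) := ⟨Nat.prime_two⟩
  have h1 : E.subgroupOf L ≤ pCore 2 L := by
    refine Solv.baer_suzuki _ fun y => ?_
    have hle : (E.subgroupOf L ⊔ MulAut.conj y • E.subgroupOf L : Subgroup L).map L.subtype ≤
        E ⊔ MulAut.conj (y : Q) • E := by
      rw [Subgroup.map_sup, sup_le_iff]
      constructor
      · rintro _ ⟨z, hz, rfl⟩; exact Subgroup.mem_sup_left hz
      · rintro _ ⟨z, hz, rfl⟩
        exact Subgroup.mem_sup_right (Solv.mem_conj_smul.2
          (Subgroup.mem_subgroupOf.1 (Solv.mem_conj_smul.1 hz)))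
    have h2 := (h y y.2).to_le hle
    exact h2.of_equiv ((E.subgroupOf L ⊔ MulAut.conj y • E.subgroupOf L).equivMapOfInjective
      L.subtype L.subtype_injective).symm
  intro z hz
  exact ⟨⟨z, hEL hz⟩, h1 hz, rfl⟩

theorem isPGroup_pCoreOf (L : Subgroup Q) : IsPGroup 2 (pCoreOf 2 L) := by
  haveI : Fact (Nat.Prime 2) := ⟨Nat.prime_two⟩
  exact (Fusion.isPGroup_pCore 2 L).map _

/-- In a pair of minimal join, any two proper joins are 2-groups. -/
theorem exists_pair {E : Subgroup Q} (hE : IsBest V E) (hcore : ¬ E ≤ pCore 2 Q) :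
    ∃ (E : Subgroup Q) (x : Q), IsBest V E ∧ x ∈ E ⊔ MulAut.conj x • E ∧
      ¬ IsPGroup 2 (E ⊔ MulAut.conj x • E : Subgroup Q) ∧
      ∀ (F : Subgroup Q) (y : Q), IsBest V F →
        Nat.card (F ⊔ MulAut.conj y • F : Subgroup Q) < Nat.card (E ⊔ MulAut.conj x • E : Subgroup Q) →
        IsPGroup 2 (F ⊔ MulAut.conj y • F : Subgroup Q) := by
  haveI : Fact (Nat.Prime 2) := ⟨Nat.prime_two⟩
  classical
  have hex : ∃ n : ℕ, ∃ (F : Subgroup Q) (y : Q), IsBest V F ∧
      ¬ IsPGroup 2 (F ⊔ MulAut.conj y • F : Subgroup Q) ∧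
      Nat.card (F ⊔ MulAut.conj y • F : Subgroup Q) = n := by
    by_contra hno
    refine hcore (Solv.baer_suzuki E fun g => ?_)
    by_contra hg
    exact hno ⟨_, E, g, hE, hg, rfl⟩
  obtain ⟨F, y, hF, hne, hn⟩ := Nat.find_spec hex
  set M := F ⊔ MulAut.conj y • F with hM
  have hmin : ∀ (F' : Subgroup Q) (y' : Q), IsBest V F' →
      Nat.card (F' ⊔ MulAut.conj y' • F' : Subgroup Q) < Nat.card M →
      IsPGroup 2 (F' ⊔ MulAut.conj y' • F' : Subgroup Q) := by
    intro F' y' hF' hlt
    by_contra h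
    exact Nat.find_min hex (hn ▸ hlt) ⟨F', y', hF', h, rfl⟩
  -- one of the two generates `M` with a conjugate by an element of `M`
  have key : ∀ F' : Subgroup Q, IsBest V F' → F' ≤ M → ¬ F' ≤ pCoreOf 2 M →
      ∃ (E : Subgroup Q) (x : Q), IsBest V E ∧ x ∈ E ⊔ MulAut.conj x • E ∧
      ¬ IsPGroup 2 (E ⊔ MulAut.conj x • E : Subgroup Q) ∧
      ∀ (F : Subgroup Q) (y : Q), IsBest V F →
        Nat.card (F ⊔ MulAut.conj y • F : Subgroup Q) < Nat.card (E ⊔ MulAut.conj x • E : Subgroup Q) →
        IsPGroup 2 (F ⊔ MulAut.conj y • F : Subgroup Q) := by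
    intro F' hF' hle hn'
    obtain ⟨x, hxM, hx⟩ : ∃ x ∈ M, ¬ IsPGroup 2 (F' ⊔ MulAut.conj x • F' : Subgroup Q) := by
      by_contra hno
      simp only [not_exists, not_and, not_not] at hno
      exact hn' (le_pCoreOf_of_joins hle hno)
    have hleM : F' ⊔ MulAut.conj x • F' ≤ M := sup_le hle fun z hz => by
      have := hle (Solv.mem_conj_smul.1 hz)
      have h := M.mul_mem (M.mul_mem hxM this) (M.inv_mem hxM)
      rwa [show x * (x⁻¹ * z * x) * x⁻¹ = z by group] at h
    have heq : F' ⊔ MulAut.conj x • F' = M := by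
      refine Subgroup.eq_of_le_of_card_ge hleM (not_lt.1 fun hlt => hx (hmin F' x hF' hlt))
    exact ⟨F', x, hF', heq ▸ hxM, hx, fun F y hF hlt => hmin F y hF (heq ▸ hlt)⟩
  by_cases h1 : F ≤ pCoreOf 2 M
  · by_cases h2 : MulAut.conj y • F ≤ pCoreOf 2 M
    · exact absurd ((isPGroup_pCoreOf M).to_le (sup_le h1 h2)) hne
    · exact key _ (hF.conj y) le_sup_right h2
  · exact key F hF le_sup_left h1

/-- The main theorem. -/
theorem best_le_pCore [FaithfulSMul Q V] (hV : ∀ v : V, v * v = 1)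
    (hquad : ∀ P : Subgroup Q, IsPGroup 2 P → ∀ g ∈ P, ∀ h ∈ P, ∀ v : V,
      h • (g • v * v) = g • v * v)
    (hS3 : ∀ r a : Q, orderOf r = 3 → a * a = 1 → a * r * a⁻¹ * r ≠ 1)
    (E₀ : Subgroup Q) (hE₀ : IsBest V E₀) : E₀ ≤ pCore 2 Q := by
  haveI : Fact (Nat.Prime 2) := ⟨Nat.prime_two⟩
  by_contra hcore
  obtain ⟨E, x, hE, hxM, hne, hmin⟩ := exists_pair hE₀ hcore
  set M := E ⊔ MulAut.conj x • E with hMdef
  clear hcore hE₀
  have hEM : E ≤ M := le_sup_left
  have hVinv : ∀ v : V, v⁻¹ = v := fun v => inv_eq_of_mul_eq_one_right (hV v)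
  have hcM : ∀ y ∈ M, MulAut.conj y • E ≤ M := fun y hy z hz => by
    have h := M.mul_mem (M.mul_mem hy (hEM (Solv.mem_conj_smul.1 hz))) (M.inv_mem hy)
    rwa [show y * (y⁻¹ * z * y) * y⁻¹ = z by group] at h
  have hgen : ∀ y ∈ M, IsPGroup 2 (E ⊔ MulAut.conj y • E : Subgroup Q) ∨
      E ⊔ MulAut.conj y • E = M := by
    intro y hy
    by_cases h : Nat.card (E ⊔ MulAut.conj y • E : Subgroup Q) < Nat.card M
    · exact Or.inl (hmin E y hE h)
    · exact Or.inr (Subgroup.eq_of_le_of_card_ge (sup_le hEM (hcM y hy)) (not_lt.1 h))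
  set C : Subgroup V := fixd E with hC
  let Cy : Q → Subgroup V := fun y => fixd (MulAut.conj y • E)
  set D : Subgroup V := fixd M with hD
  have hDC : ∀ y ∈ M, D ≤ Cy y := fun y hy => fixd_anti (hcM y hy)
  have hDC1 : D ≤ C := fixd_anti hEM
  have hcap : ∀ y, E ⊔ MulAut.conj y • E = M → ∀ v, v ∈ C → v ∈ Cy y → v ∈ D := by
    intro y hy v h1 h2
    rw [hD, ← hy]
    exact mem_fixd_sup.2 ⟨h1, h2⟩
  have hEq : ∀ g ∈ E, ∀ v : V, g • v * v ∈ C := fun g hg v h hh =>
    hquad E (isPGroup_elem hE.1) g hg h hh v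
  have hEqy : ∀ y, ∀ g ∈ (MulAut.conj y • E : Subgroup Q), ∀ v : V, g • v * v ∈ Cy y :=
    fun y g hg v h hh => hquad _ (isPGroup_elem (hE.conj y).1) g hg h hh v
  set Y : Subgroup V := C ⊔ Cy x with hY
  have hYgen : ∀ g ∈ M, ∀ v ∈ Y, g • v ∈ Y := by
    let St : Subgroup Q :=
      { carrier := {g | (∀ v ∈ Y, g • v ∈ Y) ∧ ∀ v ∈ Y, g⁻¹ • v ∈ Y}
        one_mem' := by simp
        mul_mem' := fun {a b} ha hb => ⟨fun v hv => by rw [mul_smul]; exact ha.1 _ (hb.1 v hv),
          fun v hv => by rw [mul_inv_rev, mul_smul]; exact hb.2 _ (ha.2 v hv)⟩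
        inv_mem' := fun {a} ha => ⟨ha.2, by simpa using ha.1⟩ }
    have hdiff : ∀ g : Q, (∀ v : V, g • v * v ∈ Y) → ∀ v ∈ Y, g • v ∈ Y := fun g hg v hv => by
      have := Y.mul_mem (hg v) hv
      rwa [mul_assoc, hV, mul_one] at this
    have hle : M ≤ St := by
      refine sup_le (fun g hg => ⟨hdiff g fun v => Subgroup.mem_sup_left (hEq g hg v),
        hdiff _ fun v => Subgroup.mem_sup_left (hEq _ (E.inv_mem hg) v)⟩) fun g hg => ?_
      exact ⟨hdiff g fun v => Subgroup.mem_sup_right (hEqy x g hg v),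
        hdiff _ fun v => Subgroup.mem_sup_right (hEqy x _ (Subgroup.inv_mem _ hg) v)⟩
    exact fun g hg => (hle hg).1
  have hMgen : M = E ⊔ MulAut.conj x • E := rfl
  have hcardCy : ∀ y, Nat.card (Cy y) = Nat.card C := fun y => card_fixd_conj E y
  have hCyY : ∀ y ∈ M, Cy y ≤ Y := fun y hy v hv => by
    have := hYgen y hy _ (Subgroup.mem_sup_left (mem_fixd_conj.1 hv))
    rwa [smul_inv_smul] at this
  have hcardY : ∀ y, E ⊔ MulAut.conj y • E = M → y ∈ M →
      Nat.card (C ⊔ Cy y : Subgroup V) * Nat.card D = Nat.card C * Nat.card C := by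
    intro y hy hyM
    have h := Solv.card_sup_mul_card_inf C (Cy y)
    have hinf : C ⊓ Cy y = D := le_antisymm (fun v hv => hcap y hy v hv.1 hv.2)
      (le_inf hDC1 (hDC y hyM))
    rw [hinf, hcardCy] at h
    exact h
  have hYy : ∀ y, E ⊔ MulAut.conj y • E = M → y ∈ M → C ⊔ Cy y = Y := by
    intro y hy hyM
    refine Subgroup.eq_of_le_of_card_ge (sup_le le_sup_left (hCyY y hyM)) (le_of_eq ?_)
    exact Nat.eq_of_mul_eq_mul_right Nat.card_pos
      ((hcardY x hMgen.symm hxM).trans (hcardY y hy hyM).symm)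
  -- the elements of `E` fixing `Y`
  set E0 : Subgroup Q := E ⊓ ⨅ v ∈ Y, MulAction.stabilizer Q v with hE0
  have hE0mem : ∀ a, a ∈ E0 ↔ a ∈ E ∧ ∀ v ∈ Y, a • v = v := by
    intro a
    simp only [hE0, Subgroup.mem_inf, Subgroup.mem_iInf, MulAction.mem_stabilizer_iff]
  have hDfix : ∀ g ∈ M, ∀ δ ∈ D, g • δ = δ := fun g hg δ hδ => hδ g hg
  -- elements off `E0` have no fixed point on `Y / D` outside `C`
  have hTa : ∀ a ∈ E, a ∉ E0 → ∀ v ∈ Y, a • v * v ∈ D → v ∈ C := by
    intro a haE ha0 v hvY hav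
    by_contra hvC
    have hall : ∀ y ∈ M, IsPGroup 2 (MulAut.conj y • E ⊔ Subgroup.zpowers a : Subgroup Q) := by
      intro y hy
      rcases hgen y hy with h | h
      · exact h.to_le (sup_le le_sup_right ((Subgroup.zpowers_le.2 haE).trans le_sup_left))
      · have hv' : v ∈ C ⊔ Cy y := by rw [hYy y h hy]; exact hvY
        obtain ⟨c, hc, d, hd, rfl⟩ := Subgroup.mem_sup.1 hv'
        have hdD : a • d * d ∈ D := by
          have e : a • (c * d) * (c * d) = a • d * d := by
            rw [smul_mul', hc a haE]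
            calc c * a • d * (c * d) = (c * c) * (a • d * d) := by ac_rfl
              _ = _ := by rw [hV, one_mul]
          rwa [e] at hav
        have hdnD : d ∉ D := fun h' => hvC (C.mul_mem hc (hDC1 h'))
        set L := MulAut.conj y • E ⊔ Subgroup.zpowers a with hL
        have hLM : L ≤ M := sup_le (hcM y hy) (Subgroup.zpowers_le.2 (hEM haE))
        have hLne : L ≠ M := by
          intro hLeq
          let K : Subgroup Q :=
            { carrier := {g | g ∈ M ∧ g • d * d ∈ D}
              one_mem' := ⟨M.one_mem, by rw [one_smul, hV]; exact D.one_mem⟩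
              mul_mem' := fun {g k} hg hk => ⟨M.mul_mem hg.1 hk.1, by
                have e : (g * k) • d * d = (k • d * d) * (g • d * d) := by
                  conv_rhs => rw [← hDfix g hg.1 _ hk.2]
                  rw [mul_smul, smul_mul']
                  calc g • k • d * d = g • k • d * (g • d * g • d) * d := by rw [hV, mul_one]
                    _ = _ := by ac_rfl
                rw [e]; exact D.mul_mem hk.2 hg.2⟩
              inv_mem' := fun {g} hg => ⟨M.inv_mem hg.1, by
                have h := hDfix g⁻¹ (M.inv_mem hg.1) _ hg.2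
                rw [smul_mul', inv_smul_smul, mul_comm] at h
                rw [h]; exact hg.2⟩ }
          have hK : M ≤ K := by
            conv_lhs => rw [← hLeq]
            refine sup_le (fun g hg => ⟨hcM y hy hg, ?_⟩) (Subgroup.zpowers_le.2 ⟨hEM haE, hdD⟩)
            rw [hd g hg, hV]; exact D.one_mem
          have hmul : ∀ g ∈ M, ∀ k ∈ M, (g * k) • d * d = (k • d * d) * (g • d * d) := by
            intro g hg k hk
            conv_rhs => rw [← hDfix g hg _ (hK hk).2]
            rw [mul_smul, smul_mul']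
            calc g • k • d * d = g • k • d * (g • d * g • d) * d := by rw [hV, mul_one]
              _ = _ := by ac_rfl
          have hdC : d ∈ C := by
            intro e he
            have he' : y * e * y⁻¹ ∈ MulAut.conj y • E :=
              Solv.mem_conj_smul.2 (by rwa [show y⁻¹ * (y * e * y⁻¹) * y = e by group])
            have h2 := hmul (y * e) (M.mul_mem hy (hEM he)) y⁻¹ (M.inv_mem hy)
            have h3 := hmul y hy e (hEM he)
            have h4 : y • d * d = y⁻¹ • d * d := by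
              have h5 := hmul y hy y⁻¹ (M.inv_mem hy)
              rw [mul_inv_cancel, one_smul, hV] at h5
              exact (eq_inv_of_mul_eq_one_right h5.symm).trans (hVinv _)
            rw [hd _ he', hV, h3] at h2
            have h6 : e • d * d = 1 := by
              calc e • d * d = (e • d * d) * ((y • d * d) * (y • d * d)) := by rw [hV, mul_one]
                _ = (y⁻¹ • d * d) * ((e • d * d) * (y • d * d)) := by
                    rw [← h4]; ac_rfl
                _ = 1 := h2.symm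
            exact (eq_inv_of_mul_eq_one_left h6).trans (hVinv d)
          exact hdnD (hcap y h d hdC hd)
        have hlt : Nat.card L < Nat.card M :=
          lt_of_le_of_ne (Subgroup.card_le_of_le hLM)
            fun e => hLne (Subgroup.eq_of_le_of_card_ge hLM e.ge)
        have hcl : (MulAut.conj y • E : Subgroup Q) ≤ pCoreOf 2 L := by
          refine le_pCoreOf_of_joins le_sup_left fun z hz => ?_
          have hle : (MulAut.conj y • E ⊔ MulAut.conj z • MulAut.conj y • E : Subgroup Q) ≤ L := by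
            refine sup_le le_sup_left fun w hw => ?_
            have h1 : z⁻¹ * w * z ∈ L := Subgroup.mem_sup_left (Solv.mem_conj_smul.1 hw)
            have h2 := L.mul_mem (L.mul_mem hz h1) (L.inv_mem hz)
            rwa [show z * (z⁻¹ * w * z) * z⁻¹ = w by group] at h2
          exact hmin _ z (hE.conj y) ((Subgroup.card_le_of_le hle).trans_lt hlt)
        have hza : IsPGroup 2 (Subgroup.zpowers a) :=
          (isPGroup_elem hE.1).to_le (Subgroup.zpowers_le.2 haE)
        have hn : Subgroup.zpowers a ≤ Subgroup.normalizer ((pCoreOf 2 L : Subgroup Q) : Set Q) :=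
          le_trans le_sup_right (Fusion.le_normalizer_pCoreOf L)
        exact (conj_two_isPGroup (isPGroup_pCoreOf L) hza hn).to_le
          (sup_le (le_sup_of_le_left hcl) le_sup_right)
    -- so `a` lies in `O₂(M)` and is central in `M`
    have hza : Subgroup.zpowers a ≤ pCoreOf 2 M := by
      refine le_pCoreOf_of_joins (Subgroup.zpowers_le.2 (hEM haE)) fun y hy => ?_
      refine (hall y hy).to_le (sup_le le_sup_right fun w hw => Subgroup.mem_sup_left ?_)
      exact Solv.mem_conj_smul.2 ((Subgroup.zpowers_le.2 haE) (Solv.mem_conj_smul.1 hw))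
    have haP : a ∈ pCoreOf 2 M := hza (Subgroup.mem_zpowers a)
    have hcent : M ≤ Subgroup.centralizer ({a} : Set Q) := by
      refine sup_le (fun e he => ?_) fun e he => ?_
      · exact Subgroup.mem_centralizer_singleton_iff.2 (Local.elemAb_commute hE.1 he haE)
      · have hP := conj_two_isPGroup (isPGroup_pCoreOf M) (isPGroup_elem (hE.conj x).1)
          ((hcM x hxM).trans (Fusion.le_normalizer_pCoreOf M))
        exact Subgroup.mem_centralizer_singleton_iff.2
          (commute_of_quadratic hquad hV hP (Subgroup.mem_sup_right he) (Subgroup.mem_sup_left haP))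
    refine ha0 ((hE0mem a).2 ⟨haE, fun w hw => ?_⟩)
    obtain ⟨c, hc, d, hd, rfl⟩ := Subgroup.mem_sup.1 hw
    have hax : a * x = x * a := (Subgroup.mem_centralizer_singleton_iff.1 (hcent hxM)).symm
    rw [smul_mul', hc a haE]
    have h1 : x⁻¹ • d ∈ C := mem_fixd_conj.1 hd
    have h2 : a • d = d := by
      have := congrArg (fun t => x • t) (h1 a haE)
      simp only [smul_inv_smul] at this
      rwa [← mul_smul, ← mul_smul, ← hax, mul_assoc, mul_inv_cancel, mul_one] at this
    rw [h2]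
  -- dichotomy
  have hYC : ¬ Y ≤ C := by
    intro hle
    have hstab : ∀ g ∈ M, ∀ c ∈ C, g • c = c := by
      intro g hg c hc
      have heq : Cy x = C := Subgroup.eq_of_le_of_card_ge (le_sup_right.trans hle) (hcardCy x).ge
      have : c ∈ D := hcap x hMgen.symm c hc (heq ▸ hc)
      exact this g hg
    refine hne fun g => ?_
    have hdiff : ∀ h ∈ M, ∀ v : V, h • v * v ∈ C := by
      let K : Subgroup Q :=
        { carrier := {g | g ∈ M ∧ ∀ v : V, g • v * v ∈ C}
          one_mem' := ⟨M.one_mem, fun v => by rw [one_smul, hV]; exact C.one_mem⟩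
          mul_mem' := fun {g k} hg hk => ⟨M.mul_mem hg.1 hk.1, fun v => by
            have e : (g * k) • v * v = g • (k • v) * (k • v) * (k • v * v) := by
              rw [mul_smul]
              calc g • k • v * v = g • k • v * (k • v * k • v) * v := by rw [hV, mul_one]
                _ = _ := by ac_rfl
            rw [e]; exact C.mul_mem (hg.2 _) (hk.2 v)⟩
          inv_mem' := fun {g} hg => ⟨M.inv_mem hg.1, fun v => by
            have := hg.2 (g⁻¹ • v)
            rwa [smul_inv_smul, mul_comm] at this⟩ }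
      have hK : M ≤ K := sup_le (fun e he => ⟨hEM he, hEq e he⟩) fun e he =>
        ⟨hcM x hxM he, fun v => hle (Subgroup.mem_sup_right (hEqy x e he v))⟩
      exact fun h hh => (hK hh).2
    refine ⟨1, Subtype.ext (FaithfulSMul.eq_of_smul_eq_smul (α := V) fun v => ?_)⟩
    show ((g : Q) ^ 2 ^ 1) • v = (1 : Q) • v
    rw [pow_one, pow_two, mul_smul, one_smul]
    have h1 := hstab g g.2 _ (hdiff g g.2 v)
    rw [smul_mul'] at h1
    calc (g : Q) • (g : Q) • v = (g : Q) • (g : Q) • v * ((g : Q) • v * (g : Q) • v) := by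
          rw [hV, mul_one]
      _ = ((g : Q) • (g : Q) • v * (g : Q) • v) * (g : Q) • v := (mul_assoc _ _ _).symm
      _ = (g : Q) • v * v * (g : Q) • v := by rw [h1]
      _ = v * ((g : Q) • v * (g : Q) • v) := by ac_rfl
      _ = v := by rw [hV, mul_one]
  have hE0lt : ∃ a ∈ E, a ∉ E0 := by
    by_contra hno
    simp only [not_exists, not_and, not_not] at hno
    exact hYC fun v hv g hg => ((hE0mem g).1 (hno g hg)).2 v hv
  obtain ⟨a₁, ha₁, ha₁0⟩ := hE0lt
  have hdich : ∀ y ∈ M, Cy y ≠ C → E ⊔ MulAut.conj y • E = M := by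
    intro y hy hne'
    rcases hgen y hy with h | h
    · exfalso
      refine hne' (Subgroup.eq_of_le_of_card_ge ?_ (hcardCy y).le).symm
      let ψ : Cy x →* V :=
        { toFun := fun d => a₁ • (d : V) * d
          map_one' := by simp
          map_mul' := fun d d' => by
            show a₁ • ((d : V) * d') * ((d : V) * d') = _
            rw [smul_mul']; ac_rfl }
      have hψC : ψ.range ≤ C := by rintro _ ⟨d, rfl⟩; exact hEq a₁ ha₁ d
      have hker : Nat.card ψ.ker = Nat.card D := by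
        refine Nat.card_congr ?_
        refine
          { toFun := fun d => ⟨((d : Cy x) : V), ?_⟩
            invFun := fun δ => ⟨⟨δ, hDC x hxM δ.2⟩, ?_⟩
            left_inv := fun d => rfl
            right_inv := fun d => rfl }
        · have h1 : a₁ • ((d : Cy x) : V) * ((d : Cy x) : V) = 1 := d.2
          exact hcap x hMgen.symm _ (hTa a₁ ha₁ ha₁0 _ (Subgroup.mem_sup_right (d : Cy x).2)
            (h1 ▸ D.one_mem)) (d : Cy x).2
        · show a₁ • (δ : V) * δ = 1
          rw [hDfix a₁ (hEM ha₁) δ δ.2, hV]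
      have hrange : Nat.card ψ.range * Nat.card D = Nat.card C := by
        rw [← hker, ← hcardCy x, ← Subgroup.index_ker, mul_comm]
        exact Subgroup.card_mul_index _
      have hinf : ψ.range ⊓ D = ⊥ := by
        rw [Subgroup.eq_bot_iff_forall]
        rintro _ ⟨⟨d, rfl⟩, hD'⟩
        have hdD : (d : V) ∈ D :=
          hcap x hMgen.symm _ (hTa a₁ ha₁ ha₁0 _ (Subgroup.mem_sup_right d.2) hD') d.2
        show a₁ • (d : V) * d = 1
        rw [hDfix a₁ (hEM ha₁) _ hdD, hV]
      have hCeq : ψ.range ⊔ D = C := by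
        refine Subgroup.eq_of_le_of_card_ge (sup_le hψC hDC1) ?_
        have h' := Solv.card_sup_mul_card_inf ψ.range D
        rw [hinf, Subgroup.card_bot, mul_one, hrange] at h'
        exact h'.ge
      calc C = ψ.range ⊔ D := hCeq.symm
        _ ≤ Cy y := sup_le (by
            rintro _ ⟨d, rfl⟩ g hg
            exact hquad _ h a₁ (Subgroup.mem_sup_left ha₁) g (Subgroup.mem_sup_right hg) d)
            (hDC y hy)
    · exact h
  have hCxC : Cy x ≠ C := fun h => hYC (sup_le le_rfl h.le)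
  have hsmul : ∀ (y z : Q) (v : V), v ∈ Cy (y * z) ↔ y⁻¹ • v ∈ Cy z := by
    intro y z v
    show v ∈ fixd (MulAut.conj (y * z) • E) ↔ y⁻¹ • v ∈ fixd (MulAut.conj z • E)
    rw [mem_fixd_conj, mem_fixd_conj, mul_inv_rev, mul_smul]
  have hCy1 : Cy 1 = C := by
    show fixd (MulAut.conj (1 : Q) • E) = C
    rw [map_one, one_smul]
  have hdisj : ∀ y ∈ M, ∀ z ∈ M, Cy y ≠ Cy z → ∀ v, v ∈ Cy y → v ∈ Cy z → v ∈ D := by
    intro y hy z hz hne' v h1 h2
    have hw : y⁻¹ * z ∈ M := M.mul_mem (M.inv_mem hy) hz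
    have hne2 : Cy (y⁻¹ * z) ≠ C := fun h => hne' (by
      ext w
      have hl : w ∈ Cy y ↔ y⁻¹ • w ∈ C := mem_fixd_conj
      have hr : w ∈ Cy z ↔ y⁻¹ • w ∈ Cy (y⁻¹ * z) := by
        rw [← hsmul, mul_inv_cancel_left]
      rw [hl, hr, h])
    have h2' : y⁻¹ • v ∈ Cy (y⁻¹ * z) := by
      rw [← hsmul, mul_inv_cancel_left]; exact h2
    have hin := hcap _ (hdich _ hw hne2) _ (mem_fixd_conj.1 h1) h2'
    have := hDfix y hy _ hin
    rw [smul_inv_smul] at this
    rw [this]; exact hin
  -- counting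
  classical
  haveI : Fintype M := Fintype.ofFinite M
  haveI : Fintype E := Fintype.ofFinite E
  haveI : Fintype V := Fintype.ofFinite V
  let 𝒮 : Finset (Subgroup V) := Finset.univ.image fun y : M => Cy y
  have hS : ∀ y ∈ M, Cy y ∈ 𝒮 := fun y hy => Finset.mem_image.2 ⟨⟨y, hy⟩, Finset.mem_univ _, rfl⟩
  let Dset : Finset V := Finset.univ.filter (· ∈ D)
  let pts : Subgroup V → Finset V := fun S => Finset.univ.filter fun v => v ∈ S ∧ v ∉ D
  have hfc : ∀ S : Subgroup V, D ≤ S → (pts S).card + Nat.card D = Nat.card S := by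
    intro S hDS
    rw [Nat.card_eq_fintype_card, Nat.card_eq_fintype_card, Fintype.card_subtype,
      Fintype.card_subtype, ← Finset.card_union_of_disjoint]
    · congr 1
      ext v
      simp only [pts, Finset.mem_union, Finset.mem_filter, Finset.mem_univ, true_and]
      constructor
      · rintro (⟨h, -⟩ | h)
        · exact h
        · exact hDS h
      · intro h; by_cases hv : v ∈ D
        · exact Or.inr hv
        · exact Or.inl ⟨h, hv⟩
    · rw [Finset.disjoint_left]
      intro v hv hv'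
      simp only [pts, Finset.mem_filter] at hv hv'
      exact hv.2.2 hv'.2
  have hcount : 𝒮.card * (pts C).card ≤ (pts Y).card := by
    have hsub : 𝒮.biUnion pts ⊆ pts Y := by
      intro v hv
      obtain ⟨S, hS', hvS⟩ := Finset.mem_biUnion.1 hv
      obtain ⟨y, -, rfl⟩ := Finset.mem_image.1 hS'
      simp only [pts, Finset.mem_filter, Finset.mem_univ, true_and] at hvS ⊢
      exact ⟨hCyY y y.2 hvS.1, hvS.2⟩
    refine le_trans (le_of_eq ?_) (Finset.card_le_card hsub)
    rw [Finset.card_biUnion]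
    · rw [Finset.sum_congr rfl (g := fun _ => (pts C).card), Finset.sum_const, smul_eq_mul]
      intro S hS'
      obtain ⟨y, -, rfl⟩ := Finset.mem_image.1 hS'
      have h1 := hfc (Cy y) (hDC y y.2)
      have h2 := hfc C hDC1
      rw [hcardCy] at h1
      omega
    · intro S hS' T hT hne'
      obtain ⟨y, -, rfl⟩ := Finset.mem_image.1 (Finset.mem_coe.1 hS')
      obtain ⟨z, -, rfl⟩ := Finset.mem_image.1 (Finset.mem_coe.1 hT)
      rw [Function.onFun, Finset.disjoint_left]
      intro v hv hv'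
      simp only [pts, Finset.mem_filter, Finset.mem_univ, true_and] at hv hv'
      exact hv.2 (hdisj y y.2 z z.2 hne' v hv.1 hv'.1)
  obtain ⟨q, hq⟩ : Nat.card D ∣ Nat.card C := Subgroup.card_dvd_of_le hDC1
  have hDpos : 0 < Nat.card D := Nat.card_pos
  have hcY : Nat.card Y = q * q * Nat.card D := by
    have h := hcardY x hMgen.symm hxM
    change Nat.card Y * Nat.card D = _ at h
    rw [hq] at h
    refine Nat.eq_of_mul_eq_mul_right hDpos (h.trans ?_)
    ring
  have hq2 : 2 ≤ q := by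
    by_contra hlt
    refine hYC ?_
    have : Nat.card Y ≤ Nat.card C := by
      rw [hcY, hq]
      calc q * q * Nat.card D ≤ 1 * q * Nat.card D :=
            Nat.mul_le_mul_right _ (Nat.mul_le_mul_right _ (by omega))
        _ = Nat.card D * q := by ring
    exact (Subgroup.eq_of_le_of_card_ge (le_sup_left : C ≤ Y) this).ge
  have hn : 𝒮.card ≤ q + 1 := by
    have h1 := hfc C hDC1
    have h2 := hfc Y (hDC1.trans le_sup_left)
    rw [hq] at h1
    rw [hcY] at h2
    obtain ⟨k, rfl⟩ : ∃ k, q = k + 1 := ⟨q - 1, by omega⟩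
    have hp : (pts C).card = Nat.card D * k := by
      rw [mul_add, mul_one] at h1; omega
    have hp2 : (pts Y).card = (k + 1 + 1) * (Nat.card D * k) := by
      have e : (k + 1) * (k + 1) * Nat.card D = (k + 1 + 1) * (Nat.card D * k) + Nat.card D := by
        ring
      omega
    rw [hp, hp2] at hcount
    exact Nat.le_of_mul_le_mul_right hcount (Nat.mul_pos hDpos (by omega))
  -- the action of `E` on the conjugates of `C`
  let f : E → Subgroup V := fun a => Cy ((a : Q) * x)
  have hstab : ∀ a ∈ E, Cy (a * x) = Cy x → a ∈ E0 := by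
    intro a ha heq
    by_contra ha0
    refine hCxC (Subgroup.eq_of_le_of_card_ge (fun d hd => ?_) (hcardCy x).ge)
    have had : a • d ∈ Cy x := by
      rw [← heq, hsmul, inv_smul_smul]; exact hd
    refine hTa a ha ha0 d (Subgroup.mem_sup_right hd) ?_
    exact hcap x hMgen.symm _ (hEq a ha d) ((Cy x).mul_mem had hd)
  have hfib : Nat.card E ≤ (Finset.univ.image f).card * Nat.card E0 := by
    rw [Nat.card_eq_fintype_card, ← Finset.card_univ]
    refine (Finset.card_le_mul_card_image _ _ (fun S hS' => ?_)).trans (le_of_eq (mul_comm _ _))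
    obtain ⟨a₀, -, rfl⟩ := Finset.mem_image.1 hS'
    rw [← Fintype.card_subtype, ← Nat.card_eq_fintype_card]
    have hm : ∀ a : {a : E // f a = f a₀}, (a₀ : Q)⁻¹ * ((a : E) : Q) ∈ E0 := fun a => by
      refine hstab _ (E.mul_mem (E.inv_mem a₀.2) (a : E).2) ?_
      ext v
      have h1 : ((a₀ : Q) • v ∈ f a) ↔ ((a₀ : Q) • v ∈ f a₀) := by rw [a.2]
      simp only [f] at h1
      rw [hsmul, hsmul, inv_smul_smul] at h1
      rw [mul_assoc, hsmul, inv_inv, hsmul]
      exact h1
    refine Nat.card_le_card_of_injective (fun a => (⟨_, hm a⟩ : E0)) fun a b hab => ?_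
    exact Subtype.ext (Subtype.ext (mul_left_cancel (congrArg Subtype.val hab)))
  have hsub : Finset.univ.image f ⊆ 𝒮.erase C := by
    intro S hS'
    obtain ⟨a, -, rfl⟩ := Finset.mem_image.1 hS'
    refine Finset.mem_erase.2 ⟨fun h => hCxC ?_, hS _ (M.mul_mem (hEM a.2) hxM)⟩
    refine Subgroup.eq_of_le_of_card_ge (fun v hv => ?_) (hcardCy x).ge
    have h1 : (a : Q) • v ∈ C := by
      rw [← h]
      show (a : Q) • v ∈ Cy ((a : Q) * x)
      rw [hsmul, inv_smul_smul]; exact hv
    have h2 := h1 (a : Q)⁻¹ (E.inv_mem a.2)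
    rw [inv_smul_smul] at h2
    rwa [← h2] at h1
  have hbest : q * Nat.card E0 ≤ Nat.card E := by
    have hYfix : Y ≤ fixd E0 := fun v hv g hg => ((hE0mem g).1 hg).2 v hv
    have h := le_trans (Nat.mul_le_mul_left _ (Subgroup.card_le_of_le hYfix)) (hE.2 E0 inf_le_left)
    rw [hcY, ← hC, hq] at h
    refine le_of_mul_le_mul_right (a := q * Nat.card D) ?_ (Nat.mul_pos (by omega) hDpos)
    calc q * Nat.card E0 * (q * Nat.card D) = Nat.card E0 * (q * q * Nat.card D) := by ring
      _ ≤ _ := h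
      _ = Nat.card E * (q * Nat.card D) := by ring
  have hC𝒮 : C ∈ 𝒮 := hCy1 ▸ hS 1 M.one_mem
  have himg : q ≤ (Finset.univ.image f).card :=
    le_of_mul_le_mul_right (hbest.trans hfib) Nat.card_pos
  have herase : Finset.univ.image f = 𝒮.erase C :=
    Finset.eq_of_subset_of_card_le hsub (by rw [Finset.card_erase_of_mem hC𝒮]; omega)
  -- a third conjugate
  obtain ⟨S, hS', hSx⟩ : ∃ S ∈ 𝒮.erase C, S ≠ Cy x := by
    refine Finset.exists_mem_ne ?_ (Cy x)
    rw [← herase]; omega
  obtain ⟨hSC, hS''⟩ := Finset.mem_erase.1 hS'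
  obtain ⟨⟨y, hy⟩, -, rfl⟩ := Finset.mem_image.1 hS''
  -- an involution of a conjugate of `E` swapping `C` and `Cy x`
  obtain ⟨b, hbM, hb2, hbfix, hbC⟩ : ∃ b ∈ M, b * b = 1 ∧ (∀ v ∈ Cy y, b • v = v) ∧
      ∀ c ∈ C, b • c ∈ Cy x := by
    have htarget : ∀ z ∈ M, Cy z ≠ C → ∃ a : E, f a = Cy z := fun z hz h => by
      have : Cy z ∈ Finset.univ.image f := by rw [herase]; exact Finset.mem_erase.2 ⟨h, hS z hz⟩
      obtain ⟨a, -, ha⟩ := Finset.mem_image.1 this
      exact ⟨a, ha⟩
    have hne1 : Cy (y⁻¹ * 1) ≠ C := fun h => hSC (by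
      ext v
      have h1 : y⁻¹ • v ∈ Cy (y⁻¹ * 1) ↔ y⁻¹ • v ∈ C := by rw [h]
      rw [hsmul, inv_inv, smul_inv_smul, hCy1] at h1
      exact mem_fixd_conj.trans h1.symm)
    have hne2 : Cy (y⁻¹ * x) ≠ C := fun h => hSx (by
      ext v
      have h1 : y⁻¹ • v ∈ Cy (y⁻¹ * x) ↔ y⁻¹ • v ∈ C := by rw [h]
      rw [hsmul, inv_inv, smul_inv_smul] at h1
      exact mem_fixd_conj.trans h1.symm)
    obtain ⟨a1, ha1⟩ := htarget _ (M.mul_mem (M.inv_mem hy) M.one_mem) hne1
    obtain ⟨a2, ha2⟩ := htarget _ (M.mul_mem (M.inv_mem hy) hxM) hne2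
    refine ⟨y * ((a2 : Q) * (a1 : Q)⁻¹) * y⁻¹, M.mul_mem (M.mul_mem hy
      (M.mul_mem (hEM a2.2) (M.inv_mem (hEM a1.2)))) (M.inv_mem hy), ?_, fun v hv => ?_,
      fun c hc => ?_⟩
    · have he : (a2 : Q) * (a1 : Q)⁻¹ ∈ E := E.mul_mem a2.2 (E.inv_mem a1.2)
      have := hE.1.2 _ he
      rw [pow_two] at this
      calc y * ((a2 : Q) * (a1 : Q)⁻¹) * y⁻¹ * (y * ((a2 : Q) * (a1 : Q)⁻¹) * y⁻¹)
          = y * (((a2 : Q) * (a1 : Q)⁻¹) * ((a2 : Q) * (a1 : Q)⁻¹)) * y⁻¹ := by group
        _ = 1 := by rw [this]; group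
    · have he : (a2 : Q) * (a1 : Q)⁻¹ ∈ E := E.mul_mem a2.2 (E.inv_mem a1.2)
      have h1 : y⁻¹ • v ∈ C := mem_fixd_conj.1 hv
      rw [mul_smul, mul_smul, h1 _ he, smul_inv_smul]
    · have h1 : y⁻¹ • c ∈ Cy (y⁻¹ * 1) := by rw [hsmul, inv_inv, smul_inv_smul, hCy1]; exact hc
      rw [← ha1] at h1
      simp only [f] at h1
      rw [hsmul] at h1
      have h2 : (a2 : Q) • (a1 : Q)⁻¹ • y⁻¹ • c ∈ f a2 := by
        simp only [f]
        rw [hsmul, inv_smul_smul]
        exact h1
      rw [ha2, hsmul, inv_inv] at h2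
      rw [mul_smul, mul_smul, mul_smul]
      exact h2
  have hbb : ∀ v : V, b • b • v = v := fun v => by rw [← mul_smul, hb2, one_smul]
  have hbd : ∀ d ∈ Cy x, b • d ∈ C := by
    -- `b` maps `C` onto `Cy x`
    let g : C → Cy x := fun c => ⟨b • (c : V), hbC c c.2⟩
    have hg : Function.Injective g := fun c c' h =>
      Subtype.ext (MulAction.injective b (congrArg Subtype.val h))
    have hgs : Function.Surjective g :=
      ((Nat.bijective_iff_injective_and_card g).2 ⟨hg, (hcardCy x).symm⟩).2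
    intro d hd
    obtain ⟨c, hc⟩ := hgs ⟨d, hd⟩
    rw [← show b • (c : V) = d from congrArg Subtype.val hc, hbb]
    exact c.2
  have hyM' : E ⊔ MulAut.conj y • E = M := hdich y hy hSC
  have hcS : ∀ c ∈ C, c * b • c ∈ Cy y := by
    intro c hc
    have hcY' : c ∈ Cy y ⊔ Cy x := by
      have hne' : Cy y ≠ Cy x := hSx
      have heq : Cy y ⊔ Cy x = Y := by
        refine Subgroup.eq_of_le_of_card_ge (sup_le (hCyY y hy) le_sup_right) (le_of_eq ?_)
        refine Nat.eq_of_mul_eq_mul_right hDpos ?_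
        have h := Solv.card_sup_mul_card_inf (Cy y) (Cy x)
        have hinf : Cy y ⊓ Cy x = D := le_antisymm (fun v hv => hdisj y hy x hxM hne' v hv.1 hv.2)
          (le_inf (hDC y hy) (hDC x hxM))
        rw [hinf, hcardCy, hcardCy] at h
        rw [h]
        exact hcardY x hMgen.symm hxM
      rw [heq]; exact Subgroup.mem_sup_left hc
    obtain ⟨c', hc', d, hd, hcd⟩ := Subgroup.mem_sup.1 hcY'
    have hbc : b • c = c' * b • d := by rw [← hcd, smul_mul', hbfix c' hc']
    have hδ : c * b • d ∈ D := by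
      refine hcap x hMgen.symm _ (C.mul_mem hc (hbd d hd)) ?_
      have : c * b • d = d * b • c := by rw [hbc, ← hcd]; ac_rfl
      rw [this]
      exact (Cy x).mul_mem hd (hbC c hc)
    have : c * b • c = c' * (c * b • d) := by rw [hbc]; ac_rfl
    rw [this]
    exact (Cy y).mul_mem hc' (hDC y hy hδ)
  obtain ⟨a, ha⟩ : ∃ a : E, f a = Cy y := by
    have : Cy y ∈ Finset.univ.image f := by rw [herase]; exact hS'
    obtain ⟨a, -, ha⟩ := Finset.mem_image.1 this
    exact ⟨a, ha⟩
  have had : ∀ d ∈ Cy x, (a : Q) • d * (d * b • d) ∈ D := by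
    intro d hd
    have h1 : (a : Q) • d ∈ Cy y := by
      rw [← ha]
      show (a : Q) • d ∈ Cy ((a : Q) * x)
      rw [hsmul, inv_smul_smul]; exact hd
    have h2 : d * b • d ∈ Cy y := by
      have := hcS _ (hbd d hd)
      rwa [hbb, mul_comm] at this
    refine hcap y hyM' _ ?_ ((Cy y).mul_mem h1 h2)
    rw [← mul_assoc]
    exact C.mul_mem (hEq a a.2 d) (hbd d hd)
  -- `r = a b` has order three on `Y / D`
  set r := (a : Q) * b with hr
  have hrM : r ∈ M := M.mul_mem (hEM a.2) hbM
  have hr2 : ∀ c ∈ C, r • b • c = c := fun c hc => by rw [hr, mul_smul, hbb, hc a a.2]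
  have hr1 : ∀ c ∈ C, r • c * (c * b • c) ∈ D := fun c hc => by
    have := had (b • c) (hbC c hc)
    rw [hbb] at this
    rwa [hr, mul_smul, mul_comm c]
  have hDr : ∀ δ ∈ D, r • δ = δ := hDfix r hrM
  have hpow : ∀ c ∈ C, r • r • c * b • c ∈ D ∧ r • r • r • c * c ∈ D := by
    intro c hc
    have h1 := hr1 c hc
    have e2 : r • r • c * b • c = (r • c * (c * b • c)) * (r • c * (c * b • c)) := by
      nth_rewrite 2 [← hDr _ h1]
      rw [smul_mul', smul_mul', hr2 c hc]
      calc r • r • c * b • c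
          = r • r • c * b • c * (r • c * r • c) * (c * c) := by rw [hV, hV, mul_one, mul_one]
        _ = _ := by ac_rfl
    have h2 : r • r • c * b • c ∈ D := e2 ▸ D.mul_mem h1 h1
    refine ⟨h2, ?_⟩
    have h3 := hDr _ h2
    rw [smul_mul', hr2 c hc] at h3
    rw [h3]; exact h2
  obtain ⟨c₀, hc₀, hc₀D⟩ : ∃ c ∈ C, c ∉ D := by
    by_contra hno
    simp only [not_exists, not_and, not_not] at hno
    have := Subgroup.card_le_of_le (hno : C ≤ D)
    rw [hq] at this
    have : Nat.card D * 2 ≤ Nat.card D * q := Nat.mul_le_mul_left _ hq2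
    omega
  have h3n : 3 ∣ orderOf r := by
    by_contra h3
    have hiter : ∀ j : ℕ, (r ^ (3 * j)) • c₀ * c₀ ∈ D := by
      intro j
      induction j with
      | zero => rw [mul_zero, pow_zero, one_smul, hV]; exact D.one_mem
      | succ j ih =>
        have h' : (r ^ 3) • ((r ^ (3 * j)) • c₀ * c₀) = (r ^ (3 * j)) • c₀ * c₀ :=
          hDfix _ (M.pow_mem hrM 3) _ ih
        rw [smul_mul', ← mul_smul, ← pow_add] at h'
        have h3' : (r ^ 3) • c₀ * c₀ ∈ D := by
          rw [pow_succ, pow_two, mul_smul, mul_smul]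
          exact (hpow c₀ hc₀).2
        have : (r ^ (3 * (j + 1))) • c₀ * c₀ =
            ((r ^ (3 * j)) • c₀ * c₀) * ((r ^ 3) • c₀ * c₀) := by
          rw [show 3 * (j + 1) = 3 + 3 * j by ring, ← h']
          calc (r ^ (3 + 3 * j)) • c₀ * c₀
              = (r ^ (3 + 3 * j)) • c₀ * c₀ * ((r ^ 3) • c₀ * (r ^ 3) • c₀) := by rw [hV, mul_one]
            _ = _ := by ac_rfl
        rw [this]
        exact D.mul_mem ih h3'
    have hone : (r ^ orderOf r) • c₀ = c₀ := by rw [pow_orderOf_eq_one, one_smul]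
    have hbad : b • c₀ ∉ D := fun h => hc₀D (by
      have := hDfix b hbM _ h
      rw [hbb] at this
      rwa [← this] at h)
    have hsplit : ∀ i : ℕ, (r ^ (i + 3 * (orderOf r / 3))) • c₀ = c₀ → (r ^ i) • c₀ * c₀ ∈ D := by
      intro i hi
      have h := hDfix _ (M.pow_mem hrM i) _ (hiter (orderOf r / 3))
      rw [smul_mul', ← mul_smul, ← pow_add, hi] at h
      rw [mul_comm, h]
      exact hiter _
    have hm : orderOf r % 3 = 1 ∨ orderOf r % 3 = 2 := by omega
    rcases hm with hm | hm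
    · have h := hsplit 1 (by rw [show 1 + 3 * (orderOf r / 3) = orderOf r by omega]; exact hone)
      rw [pow_one] at h
      have h' := D.mul_mem h (hr1 c₀ hc₀)
      refine hbad ?_
      have e : r • c₀ * c₀ * (r • c₀ * (c₀ * b • c₀)) =
          (r • c₀ * r • c₀) * (c₀ * c₀) * b • c₀ := by ac_rfl
      rwa [e, hV, hV, one_mul, one_mul] at h'
    · have h := hsplit 2 (by rw [show 2 + 3 * (orderOf r / 3) = orderOf r by omega]; exact hone)
      rw [pow_two, mul_smul] at h
      have h' := D.mul_mem h (hpow c₀ hc₀).1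
      have e : r • r • c₀ * c₀ * (r • r • c₀ * b • c₀) =
          (r • r • c₀ * r • r • c₀) * (c₀ * b • c₀) := by ac_rfl
      rw [e, hV, one_mul] at h'
      refine hc₀D (hcap y hyM' c₀ hc₀ ?_)
      have hb' : b • c₀ ∈ C := by
        have := C.mul_mem hc₀ (hDC1 h')
        rwa [← mul_assoc, hV, one_mul] at this
      exact absurd (hcap x hMgen.symm _ hb' (hbC c₀ hc₀)) hbad
  obtain ⟨k, hk⟩ := h3n
  have hk0 : k ≠ 0 := by
    have := orderOf_pos r
    omega
  have ha2 : (a : Q) * a = 1 := by rw [← pow_two]; exact hE.1.2 a a.2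
  refine hS3 (r ^ k) a ?_ ha2 ?_
  · rw [orderOf_pow_of_dvd hk0 ⟨3, by rw [hk]; ring⟩, hk, Nat.mul_div_cancel _ (by omega)]
  · have hinv : (a : Q) * r * (a : Q)⁻¹ = r⁻¹ := by
      refine eq_inv_of_mul_eq_one_left ?_
      rw [hr, inv_eq_of_mul_eq_one_right ha2]
      calc (a : Q) * ((a : Q) * b) * a * ((a : Q) * b) = ((a : Q) * a) * b * ((a : Q) * a) * b := by
            group
        _ = 1 := by rw [ha2, one_mul, mul_one, hb2]
    rw [← conj_pow, hinv, inv_pow, inv_mul_cancel]

end Cfsg.Agent.QuadOff
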