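import Cfsg.Agent.Lib.Lead.SFourFactor
import Cfsg.Agent.Lib.Lead.QuadOffender
import Cfsg.Agent.Lib.Fusion.PConstrained

/-!
# Thompson factorization in 2-constrained `S₄`-free groups with class two Sylow 2-subgroups
-/

set_option autoImplicit false

universe u

open Cfsg
open scoped commutatorElement Pointwise

namespace Cfsg.Agent.SFour

variable {G : Type u} [Group G] [Finite G]

theorem card_eq_inf_ker_mul {H : Type*} [Group H] (f : G →* H) (K : Subgroup G) :
    Nat.card K = Nat.card (f.ker ⊓ K : Subgroup G) * Nat.card (K.map f) := by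
  have h := Subgroup.relIndex_mul_relIndex ⊥ (f.ker ⊓ K) K bot_le inf_le_right
  rw [Subgroup.relIndex_bot_left, Subgroup.relIndex_bot_left, Subgroup.inf_relIndex_right,
    Subgroup.relIndex_ker] at h
  exact h.symm

/-- An element of order three inverted by an element, nontrivially on an elementary abelian
2-subgroup, gives a section `S₄`. -/
theorem involves_of_inverted (V : Subgroup G) [hVn : V.Normal]
    (hVc : ∀ v ∈ V, ∀ w ∈ V, v * w = w * v) (hV2 : ∀ v ∈ V, v * v = 1) (r a : G)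
    (hro : Odd (orderOf r)) (hr3 : ∀ v ∈ V, r * (r * (r * v * r⁻¹) * r⁻¹) * r⁻¹ = v)
    (haa : ∀ v ∈ V, a * (a * v * a⁻¹) * a⁻¹ = v)
    (hra : ∀ v ∈ V, r * (a * (r * v * r⁻¹) * a⁻¹) * r⁻¹ = a * v * a⁻¹)
    (hne : ∃ v ∈ V, r * v * r⁻¹ ≠ v) :
    Involves (Equiv.Perm (Fin 4)) G := by
  classical
  have hcj : ∀ g : G, ∀ v ∈ V, g * v * g⁻¹ ∈ V := fun g v hv => hVn.conj_mem v hv g
  let W : G → Prop := fun w => ∃ v ∈ V, r * v * r⁻¹ * v = w
  have hWV : ∀ w, W w → w ∈ V := by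
    rintro _ ⟨v, hv, rfl⟩
    exact V.mul_mem (hcj r v hv) hv
  have hsum : ∀ w, W w → w * (r * w * r⁻¹) * (r * (r * w * r⁻¹) * r⁻¹) = 1 := by
    rintro _ ⟨v, hv, rfl⟩
    set v1 := r * v * r⁻¹ with hv1
    set v2 := r * v1 * r⁻¹ with hv2
    have h3 : r * v2 * r⁻¹ = v := hr3 v hv
    have e1 : r * (v1 * v) * r⁻¹ = v2 * v1 := by rw [hv2, hv1]; group
    have e2 : r * (v2 * v1) * r⁻¹ = v * v2 := by
      rw [show r * (v2 * v1) * r⁻¹ = (r * v2 * r⁻¹) * (r * v1 * r⁻¹) by group, h3]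
    have hm1 : v1 ∈ V := hcj r v hv
    have hm2 : v2 ∈ V := hcj r v1 hm1
    rw [e1, e2]
    calc v1 * v * (v2 * v1) * (v * v2) = v1 * (v * v2) * v1 * (v * v2) := by simp only [mul_assoc]
      _ = v1 * v1 * (v * v2) * (v * v2) := by
          rw [mul_assoc v1 (v * v2) v1, hVc (v * v2) (V.mul_mem hv hm2) v1 hm1]
          simp only [mul_assoc]
      _ = 1 := by rw [mul_assoc, hV2 _ (V.mul_mem hv hm2), mul_one, hV2 v1 hm1]
  have hfixW : ∀ w, W w → r * w * r⁻¹ = w → w = 1 := by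
    intro w hw h
    have := hsum w hw
    rwa [h, h, hV2 w (hWV w hw), one_mul] at this
  -- a fixed point of `a` in `[V, r]`
  obtain ⟨u, huW, hua, hu1⟩ : ∃ u, W u ∧ a * u * a⁻¹ = u ∧ u ≠ 1 := by
    obtain ⟨v, hv, hv'⟩ := hne
    set w := r * v * r⁻¹ * v with hw
    have hwW : W w := ⟨v, hv, rfl⟩
    have hw1 : w ≠ 1 := fun h => hv' (by
      rw [hw, mul_eq_one_iff_eq_inv] at h
      rw [h, inv_eq_of_mul_eq_one_right (hV2 v hv)])
    by_cases h : a * w * a⁻¹ = w
    · exact ⟨w, hwW, h, hw1⟩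
    · have hwV := hWV w hwW
      have hav := hcj a v hv
      refine ⟨w * (a * w * a⁻¹), ?_, ?_, fun h' => h ?_⟩
      · -- `a` normalizes `[V, r]`
        set z := a * (r * v * r⁻¹) * a⁻¹ with hz
        have hzV : z ∈ V := hcj a _ (hcj r v hv)
        have hrz : r * z * r⁻¹ = a * v * a⁻¹ := hra v hv
        refine ⟨v * z, V.mul_mem hv hzV, ?_⟩
        have e : a * w * a⁻¹ = z * (r * z * r⁻¹) := by rw [hrz, hw, hz]; group
        rw [e, show r * (v * z) * r⁻¹ * (v * z) = (r * v * r⁻¹) * ((r * z * r⁻¹) * v) * z by group,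
          hVc _ (hcj r z hzV) v hv, hw, hVc z hzV (r * z * r⁻¹) (hcj r z hzV)]
        group
      · rw [show a * (w * (a * w * a⁻¹)) * a⁻¹ = (a * w * a⁻¹) * (a * (a * w * a⁻¹) * a⁻¹) by group,
          haa w hwV, hVc _ (hcj a w hwV) w hwV]
      · rw [mul_eq_one_iff_eq_inv] at h'
        rw [← inv_inv (a * w * a⁻¹), ← h', inv_eq_of_mul_eq_one_right (hV2 w hwV)]
  set u1 := r * u * r⁻¹ with hu1d
  set u2 := r * u1 * r⁻¹ with hu2d
  have huV := hWV u huW
  have hu1V : u1 ∈ V := hcj r u huV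
  have hu2V : u2 ∈ V := hcj r u1 hu1V
  have hS : u * u1 * u2 = 1 := hsum u huW
  have hr2 : r * u2 * r⁻¹ = u := hr3 u huV
  have hne1 : u1 ≠ u := fun h => hu1 (hfixW u huW h)
  have hne2 : u2 ≠ u := fun h => hne1 (by
    have := congrArg (fun t => r * t * r⁻¹) h
    rw [hr2] at this
    exact this.symm)
  have hne12 : u1 ≠ u2 := fun h => hne1 (by
    have : r * u * r⁻¹ = r * u1 * r⁻¹ := h
    exact (mul_left_cancel (mul_right_cancel this)).symm)
  have hm01 : u * u1 = u2 := by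
    rw [mul_eq_one_iff_eq_inv] at hS
    rw [hS, inv_eq_of_mul_eq_one_right (hV2 u2 hu2V)]
  have hm02 : u * u2 = u1 := by
    rw [← hm01, ← mul_assoc, hV2 u huV, one_mul]
  have hm12 : u1 * u2 = u := by
    rw [← hm01, hVc u huV u1 hu1V, ← mul_assoc, hV2 u1 hu1V, one_mul]
  have hm10 : u1 * u = u2 := by rw [hVc u1 hu1V u huV, hm01]
  have hm20 : u2 * u = u1 := by rw [hVc u2 hu2V u huV, hm02]
  have hm21 : u2 * u1 = u := by rw [hVc u2 hu2V u1 hu1V, hm12]
  let U : Subgroup G :=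
    { carrier := {g | g = 1 ∨ g = u ∨ g = u1 ∨ g = u2}
      one_mem' := Or.inl rfl
      mul_mem' := by
        rintro x y (h | h | h | h) (h' | h' | h' | h') <;> rw [h, h'] <;>
          simp [hm01, hm02, hm12, hm10, hm20, hm21, hV2 u huV, hV2 u1 hu1V, hV2 u2 hu2V]
      inv_mem' := by
        rintro x (h | h | h | h) <;> rw [h]
        · simp
        · right; left; exact inv_eq_of_mul_eq_one_right (hV2 u huV)
        · right; right; left; exact inv_eq_of_mul_eq_one_right (hV2 u1 hu1V)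
        · right; right; right; exact inv_eq_of_mul_eq_one_right (hV2 u2 hu2V) }
  have hU : ∀ g, g ∈ U ↔ g = 1 ∨ g = u ∨ g = u1 ∨ g = u2 := fun g => Iff.rfl
  have hUV : ∀ g ∈ U, g ∈ V := by
    intro g hg
    rcases (hU g).1 hg with h | h | h | h <;> rw [h]
    · exact V.one_mem
    all_goals assumption
  have hcard : Nat.card U = 4 := by
    have h1 : u1 ≠ 1 := fun h => hu1 (by
      have : u = r⁻¹ * u1 * r := by rw [hu1d]; group
      rw [this, h]; group)
    have h2 : u2 ≠ 1 := fun h => h1 (by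
      have : u1 = r⁻¹ * u2 * r := by rw [hu2d]; group
      rw [this, h]; group)
    have e : (U : Set G) = {1, u, u1, u2} := by
      ext g
      simp [hU g]
    rw [← SetLike.coe_sort_coe, Nat.card_coe_set_eq, e]
    rw [Set.ncard_insert_of_notMem (by simp [hu1.symm, h1.symm, h2.symm]),
      Set.ncard_insert_of_notMem (by simp [hne1.symm, hne2.symm]),
      Set.ncard_pair hne12]
  have hrU : ∀ g ∈ U, r * g * r⁻¹ ∈ U := by
    intro g hg
    rcases (hU g).1 hg with h | h | h | h <;> rw [h]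
    · simp
    · exact (hU _).2 (Or.inr (Or.inr (Or.inl rfl)))
    · exact (hU _).2 (Or.inr (Or.inr (Or.inr rfl)))
    · exact (hU _).2 (Or.inr (Or.inl hr2))
  have hau1 : a * u1 * a⁻¹ = u2 := by
    have h := hra u huV
    rw [hua, ← hu1d] at h
    -- `r (a u₁) = u`
    have h' : a * u1 * a⁻¹ = r⁻¹ * (r * (a * u1 * a⁻¹) * r⁻¹) * r := by group
    rw [h', h, ← hr2]
    group
  have hau2 : a * u2 * a⁻¹ = u1 := by rw [← hau1, haa u1 hu1V]
  have haU : ∀ g ∈ U, a * g * a⁻¹ ∈ U := by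
    intro g hg
    rcases (hU g).1 hg with h | h | h | h <;> rw [h]
    · simp
    · rw [hua]; exact (hU _).2 (Or.inr (Or.inl rfl))
    · rw [hau1]; exact (hU _).2 (Or.inr (Or.inr (Or.inr rfl)))
    · rw [hau2]; exact (hU _).2 (Or.inr (Or.inr (Or.inl rfl)))
  refine involves_sfour U hcard r a hrU haU hro (fun g hg hfx => ?_)
    ⟨u1, (hU _).2 (Or.inr (Or.inr (Or.inl rfl))), by rw [hau1]; exact hne12.symm⟩
    fun g hg => haa g (hUV g hg)
  rcases (hU g).1 hg with h | h | h | h <;> rw [h] at hfx ⊢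
  · exact absurd hfx hne1
  · exact absurd hfx hne12.symm
  · rw [hr2] at hfx; exact absurd hfx.symm hne2

/-- The elementary abelian subgroups of largest order lie in `R = O₂(G)` when `C(R) ≤ R`. -/
theorem maxIn_le_pCore' (hC : Subgroup.centralizer (pCore 2 G : Set G) ≤ pCore 2 G)
    (hS4 : ¬ Involves (Equiv.Perm (Fin 4)) G) (S : Sylow 2 G)
    (hcl : ∀ a ∈ (S : Subgroup G), ∀ b ∈ (S : Subgroup G), ∀ c ∈ (S : Subgroup G),
      ⁅a, b⁆ * c = c * ⁅a, b⁆)
    {A : Subgroup G} (hA : A ∈ Fusion.maxIn (fun A : Subgroup G => IsElementaryAbelian 2 A) S) :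
    A ≤ pCore 2 G := by
  haveI : Fact (Nat.Prime 2) := ⟨Nat.prime_two⟩
  have hR2 : IsPGroup 2 (pCore 2 G) := Fusion.isPGroup_pCore 2 G
  have hRS : ∀ T : Sylow 2 G, pCore 2 G ≤ (T : Subgroup G) := fun T => Fusion.pCore_le_sylow T
  set R := pCore 2 G with hR
  haveI : R.Normal := Solv.pCore_normal 2
  set V := omegaZ R with hV
  haveI hVn : V.Normal := ⟨fun v hv g => omegaZ_conj R g hv⟩
  have hVc : ∀ v ∈ V, ∀ w ∈ V, v * w = w * v := fun v hv w hw =>
    (mem_omegaZ.1 hv).2.1 w (omegaZ_le hw)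
  have hV2 : ∀ v ∈ V, v * v = 1 := fun v hv => (mem_omegaZ.1 hv).2.2
  letI : CommGroup V :=
    { (inferInstance : Group V) with mul_comm := fun a b => Subtype.ext (hVc a a.2 b b.2) }
  let φ : G →* MulAut V := MulAut.conjNormal
  let q : G →* φ.range := φ.rangeRestrict
  have hqs : Function.Surjective q := φ.rangeRestrict_surjective
  have hact : ∀ (g : G) (v : V), ((q g • v : V) : G) = g * v * g⁻¹ := fun g v => rfl
  -- class two in every Sylow
  have hclT : ∀ T : Sylow 2 G, ∀ a ∈ (T : Subgroup G), ∀ b ∈ (T : Subgroup G),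
      ∀ c ∈ (T : Subgroup G), ⁅a, b⁆ * c = c * ⁅a, b⁆ := by
    intro T a ha b hb c hc
    obtain ⟨g, rfl⟩ := MulAction.exists_smul_eq G S T
    have hm : ∀ z ∈ ((g • S : Sylow 2 G) : Subgroup G), (MulAut.conj g⁻¹) z ∈ (S : Subgroup G) := by
      intro z hz
      have := Solv.mem_conj_smul.1 hz
      rwa [MulAut.conj_apply, inv_inv]
    apply (MulAut.conj g⁻¹).injective
    simpa only [map_mul, map_commutatorElement] using hcl _ (hm a ha) _ (hm b hb) _ (hm c hc)
  have hquad : ∀ P : Subgroup φ.range, IsPGroup 2 P → ∀ g ∈ P, ∀ h ∈ P, ∀ v : V,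
      h • (g • v * v) = g • v * v := by
    intro P hP g hg h hh v
    obtain ⟨P', hP'⟩ := hP.exists_le_sylow
    obtain ⟨T, hT⟩ := Sylow.mapSurjective_surjective hqs 2 P'
    have hT' : (P' : Subgroup φ.range) = (T : Subgroup G).map q := by rw [← hT]; rfl
    obtain ⟨g', hg', rfl⟩ := (hT' ▸ hP' hg : g ∈ (T : Subgroup G).map q)
    obtain ⟨h', hh', rfl⟩ := (hT' ▸ hP' hh : h ∈ (T : Subgroup G).map q)
    apply Subtype.ext
    have hvT : (v : G) ∈ (T : Subgroup G) := hRS T (omegaZ_le v.2)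
    rw [hact]
    show h' * ((q g' • v : V) * (v : G)) * h'⁻¹ = (q g' • v : V) * (v : G)
    rw [hact]
    have hc := hclT T g' hg' v hvT h' hh'
    rw [commutatorElement_def, inv_eq_of_mul_eq_one_right (hV2 v v.2)] at hc
    rw [← hc, mul_inv_cancel_right]
  have hS3 : ∀ r a : φ.range, orderOf r = 3 → a * a = 1 → a * r * a⁻¹ * r ≠ 1 := by
    intro r a hr3 ha2 hinv
    obtain ⟨g, hg⟩ := hqs r
    obtain ⟨a0, ha0⟩ := hqs a
    obtain ⟨t, m, hm, hgm⟩ := Nat.exists_eq_pow_mul_and_not_dvd (orderOf_pos g).ne' 2 (by norm_num)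
    set r0 := g ^ 2 ^ t with hr0
    have hodd : Odd (orderOf r0) := by
      rw [hr0, orderOf_pow_of_dvd (by positivity) ⟨m, hgm⟩, hgm,
        Nat.mul_div_cancel_left _ (by positivity), Nat.odd_iff]
      omega
    set r1 := r ^ 2 ^ t with hr1
    have hq0 : q r0 = r1 := by rw [hr0, map_pow, hg]
    have h31 : r1 ^ 3 = 1 := by
      rw [hr1, ← pow_mul, mul_comm, pow_mul, ← hr3, pow_orderOf_eq_one, one_pow]
    have hne1 : r1 ≠ 1 := fun h => by
      have h3 : 3 ∣ 2 ^ t := hr3 ▸ orderOf_dvd_of_pow_eq_one h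
      exact absurd (Nat.Prime.dvd_of_dvd_pow Nat.prime_three h3) (by norm_num)
    have hinv1 : r1 * a * r1 = a := by
      have h : a * r * a⁻¹ = r⁻¹ := eq_inv_of_mul_eq_one_left hinv
      have h' : a * r1 * a⁻¹ = r1⁻¹ := by rw [hr1, ← conj_pow, h, inv_pow]
      calc r1 * a * r1 = r1 * (a * r1 * a⁻¹) * a := by group
        _ = a := by rw [h', mul_inv_cancel, one_mul]
    refine hS4 (involves_of_inverted V hVc hV2 r0 a0 hodd (fun v hv => ?_) (fun v hv => ?_)
      (fun v hv => ?_) ?_)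
    · have e := hact (r0 * r0 * r0) ⟨v, hv⟩
      rw [map_mul, map_mul, hq0, show r1 * r1 * r1 = r1 ^ 3 by rw [pow_succ, pow_two], h31, one_smul] at e
      calc r0 * (r0 * (r0 * v * r0⁻¹) * r0⁻¹) * r0⁻¹ = r0 * r0 * r0 * v * (r0 * r0 * r0)⁻¹ := by
            group
        _ = v := e.symm
    · have e := hact (a0 * a0) ⟨v, hv⟩
      rw [map_mul, ha0, ha2, one_smul] at e
      calc a0 * (a0 * v * a0⁻¹) * a0⁻¹ = a0 * a0 * v * (a0 * a0)⁻¹ := by group
        _ = v := e.symm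
    · have e := hact (r0 * a0 * r0) ⟨v, hv⟩
      rw [map_mul, map_mul, hq0, ha0, hinv1, ← ha0] at e
      calc r0 * (a0 * (r0 * v * r0⁻¹) * a0⁻¹) * r0⁻¹
          = r0 * a0 * r0 * v * (r0 * a0 * r0)⁻¹ := by group
        _ = _ := e.symm.trans (hact a0 ⟨v, hv⟩)
    · by_contra hno
      simp only [not_exists, not_and, not_not, ne_eq] at hno
      refine hne1 (Subtype.ext (MulEquiv.ext fun v => ?_))
      apply Subtype.ext
      have e := hact r0 v
      rw [hq0] at e
      exact e.trans (hno v v.2)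
  -- `A` gives a best offender
  have hfix : ∀ F : Subgroup G, ∀ v : V,
      v ∈ QuadOff.fixd (F.map q) ↔ (v : G) ∈ V ⊓ Subgroup.centralizer (F : Set G) := by
    intro F v
    rw [QuadOff.mem_fixd, Subgroup.mem_inf, Subgroup.mem_centralizer_iff]
    constructor
    · refine fun h => ⟨v.2, fun f hf => ?_⟩
      have := congrArg Subtype.val (h (q f) ⟨f, hf, rfl⟩)
      rw [hact] at this
      exact mul_inv_eq_iff_eq_mul.1 this
    · rintro ⟨-, h⟩ _ ⟨f, hf, rfl⟩
      apply Subtype.ext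
      rw [hact]
      exact mul_inv_eq_iff_eq_mul.2 (h f hf)
  have hcardfix : ∀ F : Subgroup G, Nat.card (QuadOff.fixd (V := V) (F.map q)) =
      Nat.card (V ⊓ Subgroup.centralizer (F : Set G) : Subgroup G) := fun F =>
    Nat.card_congr
      { toFun := fun v => ⟨_, (hfix F v).1 v.2⟩
        invFun := fun w => ⟨⟨(w : G), w.2.1⟩, (hfix F ⟨(w : G), w.2.1⟩).2 w.2⟩
        left_inv := fun v => rfl
        right_inv := fun w => rfl }
  have hbest : QuadOff.IsBest V (A.map q) := by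
    refine ⟨⟨⟨⟨?_⟩⟩, ?_⟩, fun F hF => ?_⟩
    · rintro ⟨_, x, hx, rfl⟩ ⟨_, y, hy, rfl⟩
      apply Subtype.ext
      show q x * q y = q y * q x
      rw [← map_mul, ← map_mul, Local.elemAb_commute hA.2.1 hx hy]
    · rintro _ ⟨x, hx, rfl⟩
      rw [← map_pow, hA.2.1.2 x hx, map_one]
    · set F' := A ⊓ F.comap q with hF'
      have hFeq : F = F'.map q := by
        refine le_antisymm (fun z hz => ?_) ?_
        · obtain ⟨x, hx, rfl⟩ := hF hz
          exact ⟨x, ⟨hx, hz⟩, rfl⟩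
        · rintro _ ⟨x, ⟨-, hx⟩, rfl⟩; exact hx
      have hker : q.ker ⊓ F' = q.ker ⊓ A := by
        refine le_antisymm (inf_le_inf_left _ inf_le_left) fun z hz => ⟨hz.1, hz.2, ?_⟩
        show q z ∈ F
        rw [MonoidHom.mem_ker.1 hz.1]
        exact F.one_mem
      rw [hFeq, hcardfix, hcardfix]
      refine Nat.le_of_mul_le_mul_left ?_ (Nat.card_pos : 0 < Nat.card (q.ker ⊓ A : Subgroup G))
      rw [← mul_assoc, ← mul_assoc, ← card_eq_inf_ker_mul q A, ← hker, ← card_eq_inf_ker_mul q F']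
      -- maximality of `A`
      set CF := V ⊓ Subgroup.centralizer (F' : Set G) with hCF
      have hW : IsElementaryAbelian 2 (F' ⊔ CF) :=
        Local.elemAb_sup (Local.elemAb_mono hA.2.1 inf_le_left)
          (Local.elemAb_mono (omegaZ_elem R) inf_le_left)
          fun x hx v hv => Subgroup.mem_centralizer_iff.1 hv.2 x hx
      have hWc := hA.2.2 _ (sup_le (inf_le_left.trans hA.1)
        (inf_le_left.trans (omegaZ_le.trans (hRS S)))) hW
      have e := Solv.card_sup_mul_card_inf' F' CF fun v hv => mem_normalizer_of_forall fun x hx => by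
        rw [← Subgroup.mem_centralizer_iff.1 hv.2 x hx, mul_inv_cancel_right]; exact hx
      have hle : F' ⊓ CF ≤ V ⊓ Subgroup.centralizer (A : Set G) := fun z hz =>
        ⟨hz.2.1, Subgroup.mem_centralizer_iff.2 fun x hx =>
          Local.elemAb_commute hA.2.1 hx hz.1.1⟩
      rw [← e]
      exact Nat.mul_le_mul hWc (Subgroup.card_le_of_le hle)
  have hle := QuadOff.best_le_pCore (V := V) (fun v => Subtype.ext (hV2 v v.2)) hquad hS3 _ hbest
  -- back to `G`
  intro a ha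
  by_contra haR
  have ha' : (a : G ⧸ R) ∉ pCore 2 (G ⧸ R) := by
    rw [show pCore 2 (G ⧸ R) = ⊥ from Fusion.pCore_quotient_eq_bot (p := 2) (G := G),
      Subgroup.mem_bot, QuotientGroup.eq_one_iff]
    exact haR
  have ho : orderOf (a : G ⧸ R) = 2 := by
    refine orderOf_eq_prime ?_ fun h => haR ((QuotientGroup.eq_one_iff a).1 h)
    rw [← QuotientGroup.mk_pow, hA.2.1.2 a ha, QuotientGroup.mk_one]
  obtain ⟨h, h1, hodd, hinv⟩ := Solv.exists_odd_inverted ho ha'
  obtain ⟨r, hr, hrodd⟩ := exists_odd_lift R hR2 h hodd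
  have har : a * r * a⁻¹ * r ∈ R := by
    rw [← QuotientGroup.eq_one_iff, QuotientGroup.mk_mul, QuotientGroup.mk_mul, QuotientGroup.mk_mul,
      QuotientGroup.mk_inv, hr, hinv, inv_mul_cancel]
  refine h1 (hr ▸ (QuotientGroup.eq_one_iff r).2 (mem_of_inverted R S hR2 (hRS S) hC hcl (hA.1 ha)
    hrodd har fun v hv => ?_))
  -- `q r` is trivial
  haveI : (pCore 2 φ.range).Normal := Solv.pCore_normal 2
  have haP : q a ∈ pCore 2 φ.range := hle ⟨a, ha, rfl⟩
  have hqy : ∀ y ∈ R, q y = 1 := fun y hy => by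
    apply Subtype.ext
    refine MulEquiv.ext fun w => Subtype.ext ?_
    show y * (w : G) * y⁻¹ = w
    rw [← (mem_omegaZ.1 w.2).2.1 y hy, mul_inv_cancel_right]
  have hr2 : q r ^ 2 ∈ pCore 2 φ.range := by
    have h' : q a * q r * (q a)⁻¹ * q r = 1 := by
      rw [← map_inv, ← map_mul, ← map_mul, ← map_mul]
      exact hqy _ har
    have e : q r ^ 2 = (q a * (q r * (q a)⁻¹ * (q r)⁻¹))⁻¹ * (q a * q r * (q a)⁻¹ * q r) := by
      rw [pow_two]; group
    rw [e, h', mul_one]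
    refine Subgroup.inv_mem _ (Subgroup.mul_mem _ haP ?_)
    exact Subgroup.Normal.conj_mem inferInstance _ (Subgroup.inv_mem _ haP) _
  have hqr : q r = 1 := by
    obtain ⟨k, hk⟩ := Fusion.isPGroup_pCore 2 φ.range ⟨_, hr2⟩
    have hk' : q r ^ 2 ^ (k + 1) = 1 := by
      rw [pow_succ', pow_mul]
      exact congrArg Subtype.val hk
    have hd : orderOf (q r) ∣ orderOf r := orderOf_map_dvd q r
    exact orderOf_eq_one_iff.1 (Nat.eq_one_of_dvd_coprimes
      (Nat.Coprime.pow_left (k + 1) (Nat.coprime_two_left.2 hrodd))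
      (orderOf_dvd_of_pow_eq_one hk') hd)
  have e := hact r ⟨v, hv⟩
  rw [hqr, one_smul] at e
  exact (mul_inv_eq_iff_eq_mul.1 e.symm)

end Cfsg.Agent.SFour
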