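import Cfsg.Agent.Lib.Lead.SFourSection
import Cfsg.Agent.Lib.Fusion.SolvableBalance
import Cfsg.Agent.Lib.Fusion.ThompsonBasics
import Cfsg.Agent.Lib.Fusion.WeakClosedTools
import Cfsg.Agent.Lib.Solv.Generation

/-!
# Thompson factorization in solvable `S₄`-free groups with class two Sylow 2-subgroups
-/

set_option autoImplicit false

universe u

open scoped commutatorElement

open Cfsg

namespace Cfsg.Agent.SFour

variable {G : Type u} [Group G] [Finite G]

theorem card_comap_mk (R : Subgroup G) [R.Normal] (H : Subgroup (G ⧸ R)) :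
    Nat.card (H.comap (QuotientGroup.mk' R)) = Nat.card R * Nat.card H := by
  set M := H.comap (QuotientGroup.mk' R)
  have hRM : R ≤ M := fun x hx => by
    show QuotientGroup.mk' R x ∈ H
    rw [QuotientGroup.mk'_apply, (QuotientGroup.eq_one_iff x).2 hx]
    exact H.one_mem
  have h2 := Subgroup.relIndex_ker (f := QuotientGroup.mk' R) (K := M)
  rw [QuotientGroup.ker_mk', Subgroup.map_comap_eq_self_of_surjective
    (QuotientGroup.mk'_surjective R)] at h2
  have h3 := Subgroup.relIndex_mul_relIndex ⊥ R M bot_le hRM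
  rw [Subgroup.relIndex_bot_left, Subgroup.relIndex_bot_left, h2] at h3
  exact h3.symm

/-- `Ω₁(Z(R))` for `p = 2`, inside `G`. -/
def omegaZ (R : Subgroup G) : Subgroup G where
  carrier := {x | x ∈ R ∧ (∀ y ∈ R, x * y = y * x) ∧ x * x = 1}
  one_mem' := ⟨R.one_mem, fun y _ => by rw [one_mul, mul_one], one_mul 1⟩
  mul_mem' := by
    rintro x y ⟨hx, hxc, hx2⟩ ⟨hy, hyc, hy2⟩
    refine ⟨R.mul_mem hx hy, fun z hz => ?_, ?_⟩
    · rw [mul_assoc, hyc z hz, ← mul_assoc, hxc z hz, mul_assoc]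
    · rw [mul_assoc, ← mul_assoc y x y, hyc x hx, mul_assoc x y y, hy2, mul_one, hx2]
  inv_mem' := by
    rintro x ⟨hx, hxc, hx2⟩
    rw [inv_eq_of_mul_eq_one_right hx2]
    exact ⟨hx, hxc, hx2⟩

theorem mem_omegaZ {R : Subgroup G} {x : G} :
    x ∈ omegaZ R ↔ x ∈ R ∧ (∀ y ∈ R, x * y = y * x) ∧ x * x = 1 := Iff.rfl

theorem omegaZ_le {R : Subgroup G} : omegaZ R ≤ R := fun _ h => (mem_omegaZ.1 h).1

theorem omegaZ_conj (R : Subgroup G) [hR : R.Normal] (g : G) {v : G} (hv : v ∈ omegaZ R) :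
    g * v * g⁻¹ ∈ omegaZ R := by
  obtain ⟨hvR, hvc, hv2⟩ := mem_omegaZ.1 hv
  refine mem_omegaZ.2 ⟨hR.conj_mem v hvR g, fun y hy => ?_, ?_⟩
  · have h := hvc _ (hR.conj_mem y hy g⁻¹)
    have h' := congrArg (fun t => g * t * g⁻¹) h
    simpa [mul_assoc] using h'
  · rw [show g * v * g⁻¹ * (g * v * g⁻¹) = g * (v * v) * g⁻¹ by group, hv2]
    group

theorem omegaZ_elem (R : Subgroup G) : IsElementaryAbelian 2 (omegaZ R) :=
  ⟨⟨⟨fun a b => Subtype.ext ((mem_omegaZ.1 a.2).2.1 b (mem_omegaZ.1 b.2).1)⟩⟩,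
    fun a ha => by rw [pow_two]; exact (mem_omegaZ.1 ha).2.2⟩

theorem exists_odd_lift (R : Subgroup G) [R.Normal] (hR : IsPGroup 2 R) (x : G ⧸ R)
    (hx : Odd (orderOf x)) :
    ∃ r : G, (r : G ⧸ R) = x ∧ Odd (orderOf r) := by
  obtain ⟨g, rfl⟩ := QuotientGroup.mk_surjective x
  set m := orderOf (g : G ⧸ R)
  have hgR : g ^ m ∈ R := by
    rw [← QuotientGroup.eq_one_iff, QuotientGroup.mk_pow]
    exact pow_orderOf_eq_one _
  obtain ⟨t, ht⟩ := hR ⟨_, hgR⟩
  have ht' : (g ^ m) ^ 2 ^ t = 1 := congrArg Subtype.val ht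
  obtain ⟨j, hj⟩ := hx
  refine ⟨g ^ (m + 1) ^ t, ?_, ?_⟩
  · rw [QuotientGroup.mk_pow, ← pow_mod_orderOf]
    have h1 : (m + 1) ^ t % m = 1 % m := by
      rw [Nat.pow_mod, Nat.add_mod_left, ← Nat.pow_mod, one_pow]
    rw [h1, pow_mod_orderOf, pow_one]
  · refine Odd.of_dvd_nat (⟨j, hj⟩ : Odd m) (orderOf_dvd_of_pow_eq_one ?_)
    rw [← pow_mul, mul_comm, pow_mul, show m + 1 = 2 * (j + 1) by omega, mul_pow, pow_mul, ht',
      one_pow]

theorem odd_of_eq_one {r : G} (hr : Odd (orderOf r)) (h : r ^ 2 = 1) : r = 1 := by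
  have hd : orderOf r ∣ 2 := orderOf_dvd_of_pow_eq_one h
  rcases (Nat.dvd_prime Nat.prime_two).1 hd with h1 | h1
  · exact orderOf_eq_one_iff.1 h1
  · rw [h1] at hr; exact absurd hr (by decide)

theorem exists_sq_pow {r : G} (hr : Odd (orderOf r)) : ∃ k : ℕ, r = (r ^ 2) ^ k := by
  obtain ⟨j, hj⟩ := hr
  refine ⟨j + 1, ?_⟩
  rw [← pow_mul, show 2 * (j + 1) = orderOf r + 1 by omega, pow_succ, pow_orderOf_eq_one, one_mul]

/-- An element of odd order inverted modulo `R` by an element of `S` and centralizing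
`Ω₁(Z(R))` lies in `R`. -/
theorem mem_of_inverted (R S : Subgroup G) [R.Normal] (hR : IsPGroup 2 R) (hRS : R ≤ S)
    (hC : Subgroup.centralizer (R : Set G) ≤ R)
    (hcl : ∀ a ∈ S, ∀ b ∈ S, ∀ c ∈ S, ⁅a, b⁆ * c = c * ⁅a, b⁆)
    {a r : G} (ha : a ∈ S) (hr : Odd (orderOf r)) (har : a * r * a⁻¹ * r ∈ R)
    (hV : ∀ v ∈ omegaZ R, r * v = v * r) : r ∈ R := by
  set Z : Subgroup G := R ⊓ Subgroup.centralizer (R : Set G) with hZ
  haveI : Z.Normal := by rw [hZ]; infer_instance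
  set mk := QuotientGroup.mk' Z
  haveI : (R.map mk).Normal := Subgroup.Normal.map inferInstance mk (QuotientGroup.mk'_surjective Z)
  set K : Subgroup G := (Subgroup.centralizer ((R.map mk : Subgroup (G ⧸ Z)) : Set (G ⧸ Z))).comap mk
    with hK
  haveI : K.Normal := Subgroup.Normal.comap inferInstance mk
  have hKmem : ∀ g : G, g ∈ K ↔ ∀ x ∈ R, ⁅g, x⁆ ∈ Z := by
    intro g
    rw [hK, Subgroup.mem_comap, Subgroup.mem_centralizer_iff]
    constructor
    · intro h x hx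
      have := h (mk x) ⟨x, hx, rfl⟩
      rw [← QuotientGroup.eq_one_iff]
      show mk ⁅g, x⁆ = 1
      rw [map_commutatorElement, commutatorElement_eq_one_iff_mul_comm]
      exact this.symm
    · rintro h _ ⟨x, hx, rfl⟩
      have := (QuotientGroup.eq_one_iff _).2 (h x hx)
      change mk ⁅g, x⁆ = 1 at this
      rw [map_commutatorElement, commutatorElement_eq_one_iff_mul_comm] at this
      exact this.symm
  have hSK : ∀ s ∈ S, s ∈ K := fun s hs => (hKmem s).2 fun x hx => by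
    refine ⟨?_, Subgroup.mem_centralizer_iff.2 fun y hy => (hcl s hs x (hRS hx) y (hRS hy)).symm⟩
    rw [commutatorElement_def]
    exact R.mul_mem (Subgroup.Normal.conj_mem inferInstance x hx s) (R.inv_mem hx)
  have hr2 : r ^ 2 ∈ K := by
    have h1 : ⁅a, r⁆ ∈ K := by
      rw [commutatorElement_def, mul_assoc a r a⁻¹, mul_assoc a (r * a⁻¹) r⁻¹]
      exact K.mul_mem (hSK a ha) (Subgroup.Normal.conj_mem inferInstance _ (K.inv_mem (hSK a ha)) r)
    have h2 : r ^ 2 = (⁅a, r⁆)⁻¹ * (a * r * a⁻¹ * r) := by rw [commutatorElement_def, pow_two]; group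
    rw [h2]
    exact K.mul_mem (K.inv_mem h1) (hSK _ (hRS har))
  have hrK : r ∈ K := by
    obtain ⟨k, hk⟩ := exists_sq_pow hr
    rw [hk]
    exact K.pow_mem hr2 k
  have hZ2 : IsPGroup 2 Z := hR.to_le inf_le_left
  have hrZ : ∀ z ∈ Z, r * z = z * r := by
    refine Fusion.commute_of_coprime_fixed_omega hZ2 (fun x hx y hy =>
      (Subgroup.mem_centralizer_iff.1 hy.2 x hx.1))
      (mem_normalizer_of_forall fun z hz => Subgroup.Normal.conj_mem inferInstance z hz r)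
      (n := orderOf r) (Nat.two_dvd_ne_zero.2 (Nat.odd_iff.1 hr)) (fun v _ => ?_) fun v hv hv2 => ?_
    · rw [pow_orderOf_eq_one, one_mul, mul_one]
    · exact hV v (mem_omegaZ.2 ⟨hv.1, fun y hy => (Subgroup.mem_centralizer_iff.1 hv.2 y hy).symm,
        by rw [← pow_two]; exact hv2⟩)
  refine hC (Subgroup.mem_centralizer_iff.2 fun x hx => ?_)
  set z := ⁅r, x⁆ with hz
  have hzZ : z ∈ Z := (hKmem r).1 hrK x hx
  have hrx : r * x * r⁻¹ = z * x := by rw [hz, commutatorElement_def]; group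
  have hn : ∀ n : ℕ, r ^ n * x * (r ^ n)⁻¹ = z ^ n * x := by
    intro n
    induction n with
    | zero => simp
    | succ n ih =>
      have hc : r ^ n * z = z * r ^ n := (Commute.pow_left (hrZ z hzZ) n)
      calc r ^ (n + 1) * x * (r ^ (n + 1))⁻¹ = r ^ n * (r * x * r⁻¹) * (r ^ n)⁻¹ := by
            rw [pow_succ]; group
        _ = z * (r ^ n * x * (r ^ n)⁻¹) := by rw [hrx, ← mul_assoc (r ^ n), hc]; group
        _ = z ^ (n + 1) * x := by rw [ih, pow_succ']; group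
  have hz1 : z ^ orderOf r = 1 := by
    have := hn (orderOf r)
    rw [pow_orderOf_eq_one, one_mul, inv_one, mul_one] at this
    exact right_eq_mul.1 this
  obtain ⟨k, hk⟩ := IsPGroup.iff_orderOf.1 hR ⟨z, hzZ.1⟩
  rw [Subgroup.orderOf_mk] at hk
  have : orderOf z = 1 :=
    Nat.eq_one_of_dvd_coprimes (Nat.Coprime.pow_left k (Nat.coprime_two_left.2 hr)) (hk ▸ dvd_rfl)
      (orderOf_dvd_of_pow_eq_one hz1)
  rw [orderOf_eq_one_iff, hz, commutatorElement_eq_one_iff_mul_comm] at this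
  exact this.symm

/-- In a nontrivial elementary abelian section `E / R` of a solvable group with `O₂(G) = R` there
are a hyperplane, an involution off it and an element of odd order inverted by the involution. -/
theorem exists_hyperplane (hs : Group.IsSolvable G) (R : Subgroup G) [R.Normal]
    (hR : R = pCore 2 G) (E : Subgroup G) (hRE : R ≤ E) (hE : ∀ e ∈ E, e * e ∈ R) (hne : ¬ E ≤ R) :
    ∃ (E0 : Subgroup G) (a r : G), R ≤ E0 ∧ E0 ≤ E ∧ Nat.card E ≤ 2 * Nat.card E0 ∧ a ∈ E ∧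
      Odd (orderOf r) ∧ r ∉ R ∧ a * r * a⁻¹ * r ∈ R ∧ ∀ b ∈ E0, ⁅b, r⁆ ∈ R := by
  haveI : Fact (Nat.Prime 2) := ⟨Nat.prime_two⟩
  have hsQ : Group.IsSolvable (G ⧸ R) := Group.isSolvable_of_surjective (QuotientGroup.mk'_surjective R)
  set mk := QuotientGroup.mk' R
  set F : Subgroup (G ⧸ R) := fittingSubgroup (G ⧸ R) with hF
  haveI : F.Normal := Solv.fittingSubgroup_normal
  have hR2 : IsPGroup 2 R := hR ▸ Fusion.isPGroup_pCore 2 G
  have h0 : pCore 2 (G ⧸ R) = ⊥ := by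
    subst hR
    exact Fusion.pCore_quotient_eq_bot
  have hFodd : Odd (Nat.card F) := by
    rw [Nat.odd_iff, ← Nat.two_dvd_ne_zero]
    intro h2
    obtain ⟨P⟩ := (inferInstance : Nonempty (Sylow 2 F))
    have hnil : Group.IsNilpotent F := Solv.fittingSubgroup_nilpotent
    have hiff : Group.IsNilpotent F ↔ ∀ (p : ℕ), Fact p.Prime → ∀ Q : Sylow p F, (Q : Subgroup F).Normal :=
      (Group.isNilpotent_of_finite_tfae (G := F)).out 0 3
    haveI hPn : (P : Subgroup F).Normal := hiff.mp hnil 2 inferInstance P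
    haveI := P.characteristic_of_normal hPn
    have hmn : ((P : Subgroup F).map F.subtype).Normal :=
      Solv.map_subtype_normal_of_characteristic F (P : Subgroup F)
    have hle : (P : Subgroup F).map F.subtype ≤ pCore 2 (G ⧸ R) :=
      Fusion.le_pCore (hn := hmn) (P.2.map _)
    rw [h0, le_bot_iff, Subgroup.map_eq_bot_iff_of_injective _ F.subtype_injective] at hle
    exact P.not_dvd_index (by rw [hle, Subgroup.index_bot]; exact h2)
  set E' : Subgroup (G ⧸ R) := E.map mk with hE'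
  have hsq : ∀ x ∈ E', x * x = 1 := by
    rintro _ ⟨e, he, rfl⟩
    rw [← map_mul]
    exact (QuotientGroup.eq_one_iff _).2 (hE e he)
  have hcomm : ∀ x ∈ E', ∀ y ∈ E', x * y = y * x := fun x hx y hy => by
    calc x * y = (x * y) * ((y * x) * (y * x)) := by rw [hsq _ (E'.mul_mem hy hx), mul_one]
      _ = x * (y * y) * x * (y * x) := by group
      _ = y * x := by rw [hsq y hy, mul_one, hsq x hx, one_mul]
  have hab : IsMulCommutative E' := ⟨⟨fun x y => Subtype.ext (hcomm x x.2 y y.2)⟩⟩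
  have hE'2 : IsPGroup 2 E' := fun x => ⟨1, Subtype.ext (by simpa [pow_two] using hsq x x.2)⟩
  have hco : (Nat.card E').Coprime (Nat.card F) := by
    obtain ⟨k, hk⟩ := IsPGroup.iff_card.1 hE'2
    rw [hk]
    exact Nat.Coprime.pow_left k (Nat.coprime_two_left.2 hFodd)
  have hgen := Solv.gen_eq E' F hab (by rw [Subgroup.normalizer_eq_top]; exact le_top) hco
  have hex : ∃ B ∈ Solv.CycQuot E', ¬ F ⊓ Subgroup.centralizer (B : Set (G ⧸ R)) ≤
      Subgroup.centralizer (E' : Set (G ⧸ R)) := by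
    by_contra hno
    simp only [not_exists, not_and, not_not] at hno
    have hFE : F ≤ Subgroup.centralizer (E' : Set (G ⧸ R)) := hgen ▸ iSup₂_le hno
    have hEF : E' ≤ F := (Subgroup.le_centralizer_iff.1 hFE).trans (Solv.centralizer_fitting_le hsQ)
    have h1 : E' = ⊥ := by
      have := Solv.coprime_inf hco
      rwa [inf_eq_left.2 hEF] at this
    rw [hE', Subgroup.map_eq_bot_iff, QuotientGroup.ker_mk'] at h1
    exact hne h1
  obtain ⟨B, ⟨hBE, a', ha', hBa⟩, hf⟩ := hex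
  obtain ⟨f, ⟨hfF, hfB⟩, hfE⟩ := SetLike.not_le_iff_exists.1 hf
  have hnc : a' * f ≠ f * a' := by
    intro h
    refine hfE ?_
    have hle : E' ≤ Subgroup.centralizer ({f} : Set (G ⧸ R)) := by
      rw [← hBa, sup_le_iff, Subgroup.zpowers_le]
      exact ⟨fun b hb => Subgroup.mem_centralizer_singleton_iff.2
        (Subgroup.mem_centralizer_iff.1 hfB b hb), Subgroup.mem_centralizer_singleton_iff.2 h⟩
    exact Subgroup.mem_centralizer_iff.2 fun e he =>
      Subgroup.mem_centralizer_singleton_iff.1 (hle he)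
  set x := ⁅a', f⁆ with hx
  have hxF : x ∈ F := by
    rw [hx, commutatorElement_def]
    exact F.mul_mem (Subgroup.Normal.conj_mem inferInstance f hfF a') (F.inv_mem hfF)
  have hxodd : Odd (orderOf x) := by
    refine hFodd.of_dvd_nat ?_
    exact (Subgroup.orderOf_mk x hxF) ▸ orderOf_dvd_natCard _
  have hinv : a' * x * a'⁻¹ * x = 1 := by
    have ha2 := hsq a' ha'
    rw [hx, commutatorElement_def, show a'⁻¹ = a' from inv_eq_of_mul_eq_one_right ha2]
    calc a' * (a' * f * a' * f⁻¹) * a' * (a' * f * a' * f⁻¹)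
        = (a' * a') * f * a' * f⁻¹ * (a' * a') * f * a' * f⁻¹ := by group
      _ = 1 := by rw [ha2]; simp [mul_assoc, ← mul_assoc a' a', ha2]
  have hxB : ∀ b ∈ B, b * x = x * b := by
    intro b hb
    have hcb : Subgroup.centralizer ({b} : Set (G ⧸ R)) = _ := rfl
    refine (Subgroup.mem_centralizer_singleton_iff.1 (?_ : x ∈ Subgroup.centralizer {b})).symm
    have h1 : a' ∈ Subgroup.centralizer ({b} : Set (G ⧸ R)) :=
      Subgroup.mem_centralizer_singleton_iff.2 (hcomm a' ha' b (hBE hb))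
    have h2 : f ∈ Subgroup.centralizer ({b} : Set (G ⧸ R)) :=
      Subgroup.mem_centralizer_singleton_iff.2 (Subgroup.mem_centralizer_iff.1 hfB b hb).symm
    rw [hx, commutatorElement_def]
    exact mul_mem (mul_mem (mul_mem h1 h2) (inv_mem h1)) (inv_mem h2)
  obtain ⟨r, hr, hrodd⟩ := exists_odd_lift R hR2 x hxodd
  obtain ⟨a, haE, ha⟩ := ha'
  have hEc : E = E'.comap mk := by
    rw [hE', Subgroup.comap_map_eq_self (by rw [QuotientGroup.ker_mk']; exact hRE)]
  refine ⟨B.comap mk, a, r, fun y hy => ?_, ?_, ?_, haE, hrodd, fun h => ?_, ?_, fun b hb => ?_⟩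
  · show mk y ∈ B
    rw [QuotientGroup.mk'_apply, (QuotientGroup.eq_one_iff y).2 hy]
    exact B.one_mem
  · rw [hEc]; exact Subgroup.comap_mono hBE
  · rw [hEc, card_comap_mk, card_comap_mk]
    have hle : Nat.card E' ≤ 2 * Nat.card B := by
      have hn : Subgroup.zpowers a' ≤ Subgroup.normalizer (B : Set (G ⧸ R)) := by
        rw [Subgroup.zpowers_le]
        refine mem_normalizer_of_forall fun b hb => ?_
        rw [hcomm a' ⟨a, haE, ha⟩ b (hBE hb), mul_inv_cancel_right]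
        exact hb
      have h := Solv.card_sup_mul_card_inf' B (Subgroup.zpowers a') hn
      rw [hBa] at h
      have h2 : Nat.card (Subgroup.zpowers a') ≤ 2 := by
        rw [Nat.card_zpowers]
        exact Nat.le_of_dvd two_pos (orderOf_dvd_of_pow_eq_one
          (by rw [pow_two]; exact hsq a' ⟨a, haE, ha⟩))
      calc Nat.card E' ≤ Nat.card E' * Nat.card (B ⊓ Subgroup.zpowers a' : Subgroup (G ⧸ R)) :=
            Nat.le_mul_of_pos_right _ Nat.card_pos
        _ = Nat.card B * Nat.card (Subgroup.zpowers a') := h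
        _ ≤ Nat.card B * 2 := Nat.mul_le_mul_left _ h2
        _ = 2 * Nat.card B := mul_comm _ _
    calc Nat.card R * Nat.card E' ≤ Nat.card R * (2 * Nat.card B) := Nat.mul_le_mul_left _ hle
      _ = 2 * (Nat.card R * Nat.card B) := by ring
  · rw [← QuotientGroup.eq_one_iff, hr, hx, commutatorElement_eq_one_iff_mul_comm] at h
    exact hnc h
  · rw [← QuotientGroup.eq_one_iff]
    show mk (a * r * a⁻¹ * r) = 1
    rw [map_mul, map_mul, map_mul, map_inv, ha]
    rw [show mk r = x from hr]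
    exact hinv
  · rw [← QuotientGroup.eq_one_iff]
    show mk ⁅b, r⁆ = 1
    rw [map_commutatorElement, commutatorElement_eq_one_iff_mul_comm, show mk r = x from hr]
    exact hxB _ hb

/-- The key step: the elementary abelian subgroups of largest order of `S` lie in `O₂(G)`. -/
theorem maxIn_le_pCore (hs : Group.IsSolvable G) (h0 : pPrimeCore 2 G = ⊥)
    (hS4 : ¬ Involves (Equiv.Perm (Fin 4)) G) (S : Sylow 2 G)
    (hcl : ∀ a ∈ (S : Subgroup G), ∀ b ∈ (S : Subgroup G), ∀ c ∈ (S : Subgroup G),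
      ⁅a, b⁆ * c = c * ⁅a, b⁆)
    {A : Subgroup G} (hA : A ∈ Fusion.maxIn (fun A : Subgroup G => IsElementaryAbelian 2 A) S) :
    A ≤ pCore 2 G := by
  haveI : Fact (Nat.Prime 2) := ⟨Nat.prime_two⟩
  by_contra hAR
  have hC := Fusion.centralizer_pCore_le_of_solvable hs h0 (p := 2)
  have hR2 : IsPGroup 2 (pCore 2 G) := Fusion.isPGroup_pCore 2 G
  have hRS : pCore 2 G ≤ (S : Subgroup G) := Fusion.pCore_le_sylow S
  set R := pCore 2 G with hR
  haveI : R.Normal := Solv.pCore_normal 2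
  set V := omegaZ R with hV
  have hVR : ∀ v ∈ V, ∀ y ∈ R, v * y = y * v := fun v hv => (mem_omegaZ.1 hv).2.1
  -- the measure
  let val : Subgroup G → ℕ := fun E =>
    Nat.card E * Nat.card (V ⊓ Subgroup.centralizer (E : Set G) : Subgroup G)
  let ok : Subgroup G → Prop := fun E => R ≤ E ∧ E ≤ S ∧ (∀ e ∈ E, e * e ∈ R) ∧ ¬ E ≤ R
  have hA2 : ∀ x ∈ A, x * x = 1 := fun x hx => by rw [← pow_two]; exact hA.2.1.2 x hx
  have hok : ok (A ⊔ R) := by
    refine ⟨le_sup_right, sup_le hA.1 hRS, fun e he => ?_, fun h => hAR (le_sup_left.trans h)⟩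
    obtain ⟨x, hx, y, hy, rfl⟩ := Subgroup.mem_sup_of_normal_right.1 he
    rw [show x * y * (x * y) = (x * x) * ((x⁻¹ * y * x⁻¹⁻¹) * y) by group, hA2 x hx, one_mul]
    exact R.mul_mem (Subgroup.Normal.conj_mem inferInstance y hy _) hy
  have hbase : Nat.card R * Nat.card V ≤ val (A ⊔ R) := by
    have hVE : (V ⊓ Subgroup.centralizer ((A ⊔ R : Subgroup G) : Set G)) = A ⊓ V := by
      ext v
      constructor
      · rintro ⟨hv, hc⟩
        refine ⟨Fusion.mem_of_maxIn hA (hRS (omegaZ_le hv))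
          (Fusion.isElementaryAbelian_closure_insert hA.2.1 (fun x hx => ?_)
            ((omegaZ_elem R).2 v hv)), hv⟩
        exact (Subgroup.mem_centralizer_iff.1 hc x (Subgroup.mem_sup_left hx)).symm
      · rintro ⟨hvA, hv⟩
        refine ⟨hv, Subgroup.mem_centralizer_iff.2 fun e he => ?_⟩
        obtain ⟨x, hx, y, hy, rfl⟩ := Subgroup.mem_sup_of_normal_right.1 he
        rw [mul_assoc, ← hVR v hv y hy, ← mul_assoc, Local.elemAb_commute hA.2.1 hx hvA, mul_assoc]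
    have hW : IsElementaryAbelian 2 (A ⊓ R ⊔ V) :=
      Local.elemAb_sup (Local.elemAb_mono hA.2.1 inf_le_left) (omegaZ_elem R)
        fun x hx v hv => (hVR v hv x hx.2).symm
    have hWc := hA.2.2 _ (sup_le (inf_le_left.trans hA.1) (omegaZ_le.trans hRS)) hW
    have e1 := Solv.card_sup_mul_card_inf' (A ⊓ R) V (fun v hv => mem_normalizer_of_forall fun x hx => by
      rw [hVR v hv x hx.2, mul_inv_cancel_right]; exact hx)
    have hi : A ⊓ R ⊓ V = A ⊓ V := by rw [inf_assoc, inf_eq_right.2 (omegaZ_le : V ≤ R)]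
    rw [hi] at e1
    have e2 := Solv.card_sup_mul_card_inf' R A (by rw [Subgroup.normalizer_eq_top]; exact le_top)
    rw [sup_comm R A, inf_comm R A] at e2
    show _ ≤ Nat.card (A ⊔ R : Subgroup G) * _
    rw [hVE]
    refine le_of_mul_le_mul_right (a := Nat.card (A ⊓ R : Subgroup G)) ?_ Nat.card_pos
    calc Nat.card R * Nat.card V * Nat.card (A ⊓ R : Subgroup G)
        = Nat.card R * (Nat.card (A ⊓ R ⊔ V : Subgroup G) * Nat.card (A ⊓ V : Subgroup G)) := by
          rw [e1]; ring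
      _ ≤ Nat.card R * (Nat.card A * Nat.card (A ⊓ V : Subgroup G)) :=
          Nat.mul_le_mul_left _ (Nat.mul_le_mul_right _ hWc)
      _ = Nat.card (A ⊔ R : Subgroup G) * Nat.card (A ⊓ R : Subgroup G) *
            Nat.card (A ⊓ V : Subgroup G) := by rw [e2]; ring
      _ = _ := by ring
  obtain ⟨E, hEok, hEmax⟩ := (Set.toFinite {E | ok E}).exists_maximalFor val _ ⟨A ⊔ R, hok⟩
  have hmax : ∀ E', ok E' → val E' ≤ val E := fun E' hE' => by
    rcases le_total (val E) (val E') with h | h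
    · exact hEmax hE' h
    · exact h
  obtain ⟨hRE, hES, hE2, hEne⟩ := hEok
  obtain ⟨E0, a, r, hRE0, hE0E, hcard, haE, hrodd, hrR, har, hbr⟩ :=
    exists_hyperplane hs R hR E hRE hE2 hEne
  -- the action on `V`
  have hconj : ∀ g : G, ∀ v ∈ V, g * v * g⁻¹ ∈ V := fun g v hv => omegaZ_conj R g hv
  have hfixR : ∀ y ∈ R, ∀ v ∈ V, y * v * y⁻¹ = v := fun y hy v hv => by
    rw [← hVR v hv y hy, mul_inv_cancel_right]
  have hVc : ∀ v ∈ V, ∀ w ∈ V, v * w = w * v := fun v hv w hw => hVR v hv w (omegaZ_le hw)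
  have hV2 : ∀ v ∈ V, v * v = 1 := fun v hv => (mem_omegaZ.1 hv).2.2
  have haa : ∀ v ∈ V, a * (a * v * a⁻¹) * a⁻¹ = v := fun v hv => by
    rw [show a * (a * v * a⁻¹) * a⁻¹ = (a * a) * v * (a * a)⁻¹ by group]
    exact hfixR _ (hE2 a haE) v hv
  have hra : ∀ v ∈ V, a * (r * v * r⁻¹) * a⁻¹ = r⁻¹ * (a * v * a⁻¹) * r := fun v hv => by
    rw [show a * (r * v * r⁻¹) * a⁻¹ = (a * r * a⁻¹ * r) *
        (r⁻¹ * (a * v * a⁻¹) * r⁻¹⁻¹) * (a * r * a⁻¹ * r)⁻¹ by group,
      hfixR _ har _ (hconj r⁻¹ _ (hconj a v hv)), inv_inv]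
  have hrb : ∀ b ∈ E0, ∀ v ∈ V, b * (r * v * r⁻¹) * b⁻¹ = r * (b * v * b⁻¹) * r⁻¹ := fun b hb v hv => by
    rw [show b * (r * v * r⁻¹) * b⁻¹ = ⁅b, r⁆ * (r * (b * v * b⁻¹) * r⁻¹) * ⁅b, r⁆⁻¹ by
      rw [commutatorElement_def]; group]
    exact hfixR _ (hbr b hb) _ (hconj r _ (hconj b v hv))
  -- `U = [V, r]`
  let δ : G → G := fun v => r * v * r⁻¹ * v
  have hδmul : ∀ v ∈ V, ∀ w ∈ V, δ (v * w) = δ v * δ w := fun v hv w hw => by
    show r * (v * w) * r⁻¹ * (v * w) = r * v * r⁻¹ * v * (r * w * r⁻¹ * w)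
    rw [show r * (v * w) * r⁻¹ * (v * w) = r * v * r⁻¹ * ((r * w * r⁻¹) * v) * w by group,
      hVc _ (hconj r w hw) v hv]
    group
  let U : Subgroup G :=
    { carrier := {w | ∃ v ∈ V, δ v = w}
      one_mem' := ⟨1, V.one_mem, by show r * 1 * r⁻¹ * 1 = 1; group⟩
      mul_mem' := by
        rintro _ _ ⟨v, hv, rfl⟩ ⟨w, hw, rfl⟩
        exact ⟨v * w, V.mul_mem hv hw, hδmul v hv w hw⟩
      inv_mem' := by
        rintro _ ⟨v, hv, rfl⟩
        refine ⟨v, hv, (inv_eq_of_mul_eq_one_right ?_).symm⟩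
        exact hV2 _ (V.mul_mem (hconj r v hv) hv) }
  have hUmem : ∀ w, w ∈ U ↔ ∃ v ∈ V, δ v = w := fun w => Iff.rfl
  have hUV : ∀ u ∈ U, u ∈ V := by
    rintro _ ⟨v, hv, rfl⟩
    exact V.mul_mem (hconj r v hv) hv
  have hrU : ∀ u ∈ U, r * u * r⁻¹ ∈ U := by
    rintro _ ⟨v, hv, rfl⟩
    exact ⟨r * v * r⁻¹, hconj r v hv, by
      show r * (r * v * r⁻¹) * r⁻¹ * (r * v * r⁻¹) = r * (r * v * r⁻¹ * v) * r⁻¹
      group⟩
  have haU : ∀ u ∈ U, a * u * a⁻¹ ∈ U := by
    rintro _ ⟨v, hv, rfl⟩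
    refine ⟨r⁻¹ * (a * v * a⁻¹) * r, ?_, ?_⟩
    · simpa using hconj r⁻¹ _ (hconj a v hv)
    · show r * (r⁻¹ * (a * v * a⁻¹) * r) * r⁻¹ * (r⁻¹ * (a * v * a⁻¹) * r) =
        a * (r * v * r⁻¹ * v) * a⁻¹
      rw [show a * (r * v * r⁻¹ * v) * a⁻¹ = (a * (r * v * r⁻¹) * a⁻¹) * (a * v * a⁻¹) by group,
        hra v hv]
      have := hVc (a * v * a⁻¹) (hconj a v hv) (r⁻¹ * (a * v * a⁻¹) * r)
        (by simpa using hconj r⁻¹ _ (hconj a v hv))
      rw [← this]
      group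
  have hbU : ∀ b ∈ E0, ∀ u ∈ U, b * u * b⁻¹ ∈ U := by
    rintro b hb _ ⟨v, hv, rfl⟩
    refine ⟨b * v * b⁻¹, hconj b v hv, ?_⟩
    show r * (b * v * b⁻¹) * r⁻¹ * (b * v * b⁻¹) = b * (r * v * r⁻¹ * v) * b⁻¹
    rw [← hrb b hb v hv]
    group
  have hsqfix : ∀ v ∈ V, r ^ 2 * v * (r ^ 2)⁻¹ = v → r * v * r⁻¹ = v := fun v _ h => by
    obtain ⟨k, hk⟩ := exists_sq_pow hrodd
    have hc : Commute (r ^ 2) v := mul_inv_eq_iff_eq_mul.1 h
    have hc' : r * v = v * r := by
      have := (hc.pow_left k).eq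
      rwa [← hk] at this
    rw [hc', mul_inv_cancel_right]
  have hfix : ∀ u ∈ U, r * u * r⁻¹ = u → u = 1 := by
    rintro _ ⟨v, hv, rfl⟩ h
    have h2 : r ^ 2 * v * (r ^ 2)⁻¹ = v := by
      change r * (r * v * r⁻¹ * v) * r⁻¹ = r * v * r⁻¹ * v at h
      have e : r * (r * v * r⁻¹ * v) * r⁻¹ = r ^ 2 * v * (r ^ 2)⁻¹ * (r * v * r⁻¹) := by
        rw [pow_two]; group
      rw [e, hVc _ (hconj r v hv) v hv] at h
      exact mul_right_cancel h
    show r * v * r⁻¹ * v = 1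
    rw [hsqfix v hv h2, hV2 v hv]
  -- elements fixed by `a` whose images under `r` are fixed too
  have hkey : ∀ u ∈ V, a * u * a⁻¹ = u → a * (r * u * r⁻¹) * a⁻¹ = r * u * r⁻¹ →
      r * u * r⁻¹ = u := fun u hu h1 h2 => by
    refine hsqfix u hu ?_
    rw [hra u hu, h1] at h2
    calc r ^ 2 * u * (r ^ 2)⁻¹ = r * (r * u * r⁻¹) * r⁻¹ := by rw [pow_two]; group
      _ = u := by rw [← h2]; group
  -- `E₀` centralizes `U`
  have hcent : ∀ b ∈ E0, ∀ u ∈ U, b * u * b⁻¹ = u := by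
    intro b hb u hu
    have hfa : ∀ v ∈ V, a * (b * v * b⁻¹ * v) * a⁻¹ = b * v * b⁻¹ * v := fun v hv => by
      have hv' : v⁻¹ = v := inv_eq_of_mul_eq_one_right (hV2 v hv)
      have h := hcl b (hES (hE0E hb)) v (hRS (omegaZ_le hv)) a (hES haE)
      rw [commutatorElement_def, hv'] at h
      rw [← h, mul_inv_cancel_right]
    have huV := hUV u hu
    have hw : b * u * b⁻¹ * u ∈ U := U.mul_mem (hbU b hb u hu) hu
    have h2 : r * (b * u * b⁻¹ * u) * r⁻¹ =
        b * (r * u * r⁻¹) * b⁻¹ * (r * u * r⁻¹) := by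
      rw [hrb b hb u huV]; group
    have h3 : b * u * b⁻¹ * u = 1 := by
      refine hfix _ hw (hkey _ (hUV _ hw) (hfa u huV) ?_)
      rw [h2]
      exact hfa _ (hconj r u huV)
    rw [mul_eq_one_iff_eq_inv] at h3
    rw [h3, inv_eq_of_mul_eq_one_right (hV2 u huV)]
  -- the size of `U`
  set Ua : Subgroup G := U ⊓ Subgroup.centralizer {a} with hUa
  have hUaMem : ∀ u ∈ Ua, a * u * a⁻¹ = u := fun u hu => by
    rw [← Subgroup.mem_centralizer_singleton_iff.1 hu.2, mul_inv_cancel_right]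
  have hUe : IsElementaryAbelian 2 U := Local.elemAb_mono (omegaZ_elem R) hUV
  have hUle : Nat.card U ≤ Nat.card Ua ^ 2 := Local.card_le_sq_card_fixed hUe haU fun e he => by
    have := hVR e (hUV e he) (a ^ 2) (by rw [pow_two]; exact hE2 a haE)
    exact this.symm
  have hinj1 : ∀ u ∈ Ua, ∀ u' ∈ Ua, ∀ y y' : G, a * y * a⁻¹ = y → a * y' * a⁻¹ = y' →
      y * (r * u * r⁻¹) = y' * (r * u' * r⁻¹) → u = u' ∧ y = y' := by
    intro u hu u' hu' y y' hy hy' h
    have h1 : r * (u * u'⁻¹) * r⁻¹ = y⁻¹ * y' := by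
      rw [eq_inv_mul_iff_mul_eq,
        show y * (r * (u * u'⁻¹) * r⁻¹) = y * (r * u * r⁻¹) * (r * u' * r⁻¹)⁻¹ by group, h,
        mul_inv_cancel_right]
    have hw : u * u'⁻¹ ∈ Ua := Ua.mul_mem hu (Ua.inv_mem hu')
    have h2 : u * u'⁻¹ = 1 := by
      refine hfix _ hw.1 (hkey _ (hUV _ hw.1) (hUaMem _ hw) ?_)
      rw [h1, show a * (y⁻¹ * y') * a⁻¹ = (a * y * a⁻¹)⁻¹ * (a * y' * a⁻¹) by group, hy, hy']
    have h3 : u = u' := mul_inv_eq_one.1 h2
    exact ⟨h3, by rwa [h3, mul_left_inj] at h⟩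
  have hUge : Nat.card Ua ^ 2 ≤ Nat.card U := by
    rw [pow_two, ← Nat.card_prod]
    refine Nat.card_le_card_of_injective
      (fun p : Ua × Ua => (⟨(p.1 : G) * (r * p.2 * r⁻¹), U.mul_mem p.1.2.1 (hrU _ p.2.2.1)⟩ : U))
      fun p q hpq => ?_
    obtain ⟨h1, h2⟩ := hinj1 _ p.2.2 _ q.2.2 _ _ (hUaMem _ p.1.2) (hUaMem _ q.1.2)
      (congrArg Subtype.val hpq)
    exact Prod.ext (Subtype.ext h2) (Subtype.ext h1)
  set CE := V ⊓ Subgroup.centralizer (E : Set G) with hCE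
  set CE0 := V ⊓ Subgroup.centralizer (E0 : Set G) with hCE0
  have hC0 : Nat.card CE * Nat.card Ua ≤ Nat.card CE0 := by
    rw [← Nat.card_prod]
    have hmemf : ∀ p : CE × Ua, (p.1 : G) * (r * p.2 * r⁻¹) ∈ CE0 := fun p => by
      refine CE0.mul_mem ⟨p.1.2.1, Subgroup.centralizer_le (SetLike.coe_subset_coe.2 hE0E) p.1.2.2⟩
        ⟨hconj r _ (hUV _ p.2.2.1), Subgroup.mem_centralizer_iff.2 fun b hb => ?_⟩
      exact mul_inv_eq_iff_eq_mul.1 (hcent b hb _ (hrU _ p.2.2.1))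
    refine Nat.card_le_card_of_injective (fun p : CE × Ua => (⟨_, hmemf p⟩ : CE0)) fun p q hpq => ?_
    have hfy : ∀ y : CE, a * (y : G) * a⁻¹ = y := fun y => by
      rw [Subgroup.mem_centralizer_iff.1 y.2.2 a haE, mul_inv_cancel_right]
    obtain ⟨h1, h2⟩ := hinj1 _ p.2.2 _ q.2.2 _ _ (hfy p.1) (hfy q.1) (congrArg Subtype.val hpq)
    exact Prod.ext (Subtype.ext h2) (Subtype.ext h1)
  have hv0 : val E0 ≤ val E := by
    by_cases h : E0 ≤ R
    · have hE0R : E0 = R := le_antisymm h hRE0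
      refine le_trans ?_ (hbase.trans (hmax _ hok))
      show Nat.card E0 * _ ≤ _
      rw [hE0R]
      exact Nat.mul_le_mul_left _ (Subgroup.card_le_of_le inf_le_left)
    · exact hmax _ ⟨hRE0, hE0E.trans hES, fun e he => hE2 e (hE0E he), h⟩
  have hUa2 : Nat.card Ua ≤ 2 := by
    have h1 : Nat.card E0 * Nat.card CE * Nat.card Ua ≤ Nat.card E * Nat.card CE := by
      rw [mul_assoc]
      exact (Nat.mul_le_mul_left _ hC0).trans hv0
    have h2 : Nat.card E * Nat.card CE ≤ 2 * Nat.card E0 * Nat.card CE :=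
      Nat.mul_le_mul_right _ hcard
    refine le_of_mul_le_mul_left (a := Nat.card E0 * Nat.card CE) ?_
      (Nat.mul_pos Nat.card_pos Nat.card_pos)
    calc Nat.card E0 * Nat.card CE * Nat.card Ua ≤ _ := h1.trans h2
      _ = Nat.card E0 * Nat.card CE * 2 := by ring
  obtain ⟨v, hv, hrv⟩ : ∃ v ∈ V, r * v * r⁻¹ ≠ v := by
    by_contra hno
    simp only [not_exists, not_and, not_not, ne_eq] at hno
    exact hrR (mem_of_inverted R S hR2 hRS hC hcl (hES haE) hrodd har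
      fun v hv => mul_inv_eq_iff_eq_mul.1 (hno v hv))
  have hu1 : δ v ≠ 1 := fun h => hrv (by
    have h' : r * v * r⁻¹ * v = 1 := h
    rw [mul_eq_one_iff_eq_inv] at h'
    rw [h', inv_eq_of_mul_eq_one_right (hV2 v hv)])
  have hU1 : 1 < Nat.card U := by
    rcases Nat.lt_or_ge 1 (Nat.card U) with h | h
    · exact h
    · have hb : U = ⊥ := Subgroup.card_eq_one.1 (le_antisymm h Nat.card_pos)
      exact absurd (Subgroup.mem_bot.1 (hb ▸ ((hUmem _).2 ⟨v, hv, rfl⟩))) hu1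
  have hcU : Nat.card U = 4 := by
    have hpos : 0 < Nat.card Ua := Nat.card_pos
    interval_cases h : Nat.card Ua
    · omega
    · omega
  refine hS4 (involves_sfour U hcU r a hrU haU hrodd hfix ?_ fun u hu => haa u (hUV u hu))
  by_contra hno
  simp only [not_exists, not_and, not_not, ne_eq] at hno
  have : U ≤ Ua := fun u hu => ⟨hu, Subgroup.mem_centralizer_singleton_iff.2
    (mul_inv_eq_iff_eq_mul.1 (hno u hu)).symm⟩
  have := Subgroup.card_le_of_le this
  omega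

end Cfsg.Agent.SFour
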