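import Cfsg.Agent.Lib.Lead.GL2Class
import Mathlib

/-!
Restriction of characters from GL(2,q) to SL(2,q): twisting, invariant class functions, halves.
-/

set_option autoImplicit false

namespace Cfsg.Agent.Lead.SL2

open Cfsg Cfsg.Agent.Lead.GL2
open scoped ComplexConjugate Matrix

universe u

variable {F : Type u} [Field F]

/-- SL(2) inside GL(2). -/
abbrev toGL2 (s : Matrix.SpecialLinearGroup (Fin 2) F) : GL (Fin 2) F :=
  Matrix.SpecialLinearGroup.toGL s

theorem mat_toGL2 (s : Matrix.SpecialLinearGroup (Fin 2) F) :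
    mat (toGL2 s) = (s : Matrix (Fin 2) (Fin 2) F) := rfl

theorem toGL2_injective : Function.Injective (toGL2 (F := F)) := fun s t h =>
  Subtype.ext (show (s : Matrix (Fin 2) (Fin 2) F) = t from congrArg mat h)

theorem det_toGL2 (s : Matrix.SpecialLinearGroup (Fin 2) F) : (mat (toGL2 s)).det = 1 := s.2

/-- Conjugation of SL(2) by an element of GL(2). -/
def conjSL (x : GL (Fin 2) F) :
    Matrix.SpecialLinearGroup (Fin 2) F ≃* Matrix.SpecialLinearGroup (Fin 2) F where
  toFun s := ⟨mat (x * toGL2 s * x⁻¹), by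
    rw [mat, Units.val_mul, Units.val_mul, Matrix.det_units_conj]; exact s.2⟩
  invFun s := ⟨mat (x⁻¹ * toGL2 s * x⁻¹⁻¹), by
    rw [mat, Units.val_mul, Units.val_mul, Matrix.det_units_conj]; exact s.2⟩
  left_inv s := by
    refine Subtype.ext ?_
    show mat (x⁻¹ * _ * x⁻¹⁻¹) = _
    rw [show toGL2 (⟨mat (x * toGL2 s * x⁻¹), _⟩ : Matrix.SpecialLinearGroup (Fin 2) F) =
      x * toGL2 s * x⁻¹ from Units.ext rfl, show x⁻¹ * (x * toGL2 s * x⁻¹) * x⁻¹⁻¹ = toGL2 s by group]
    rfl
  right_inv s := by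
    refine Subtype.ext ?_
    show mat (x * _ * x⁻¹) = _
    rw [show toGL2 (⟨mat (x⁻¹ * toGL2 s * x⁻¹⁻¹), _⟩ : Matrix.SpecialLinearGroup (Fin 2) F) =
      x⁻¹ * toGL2 s * x⁻¹⁻¹ from Units.ext rfl, show x * (x⁻¹ * toGL2 s * x⁻¹⁻¹) * x⁻¹ = toGL2 s by group]
    rfl
  map_mul' s t := by
    refine Subtype.ext ?_
    show mat (x * toGL2 (s * t) * x⁻¹) = mat (x * toGL2 s * x⁻¹) * mat (x * toGL2 t * x⁻¹)
    rw [show toGL2 (s * t) = toGL2 s * toGL2 t from map_mul _ _ _,
      show x * (toGL2 s * toGL2 t) * x⁻¹ = (x * toGL2 s * x⁻¹) * (x * toGL2 t * x⁻¹) by group]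
    rfl

theorem toGL2_conjSL (x : GL (Fin 2) F) (s : Matrix.SpecialLinearGroup (Fin 2) F) :
    toGL2 (conjSL x s) = x * toGL2 s * x⁻¹ := Units.ext rfl

theorem conjSL_mul (x y : GL (Fin 2) F) (s : Matrix.SpecialLinearGroup (Fin 2) F) :
    conjSL (x * y) s = conjSL x (conjSL y s) :=
  toGL2_injective (by rw [toGL2_conjSL, toGL2_conjSL, toGL2_conjSL]; group)

theorem conjSL_one (s : Matrix.SpecialLinearGroup (Fin 2) F) : conjSL 1 s = s :=
  toGL2_injective (by rw [toGL2_conjSL]; group)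

theorem conjSL_toGL2 (h s : Matrix.SpecialLinearGroup (Fin 2) F) :
    conjSL (toGL2 h) s = h * s * h⁻¹ :=
  toGL2_injective (by simp [toGL2_conjSL, toGL2])

/-- Determinant as a unit. -/
abbrev udet (g : GL (Fin 2) F) : Fˣ := Matrix.GeneralLinearGroup.det g

theorem udet_up (a d : Fˣ) (x : F) : udet (up a d x) = a * d := by
  refine Units.ext ?_
  rw [udet, Matrix.GeneralLinearGroup.val_det_apply]
  simp [show ((up a d x : GL (Fin 2) F) : Matrix (Fin 2) (Fin 2) F) = _ from mat_up a d x,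
    Matrix.det_fin_two]

/-- GL(2) is `Fˣ × SL(2)` as a set. -/
noncomputable def glEquiv : Fˣ × Matrix.SpecialLinearGroup (Fin 2) F ≃ GL (Fin 2) F where
  toFun p := up p.1 1 0 * toGL2 p.2
  invFun g := (udet g, ⟨mat ((up (udet g) 1 0)⁻¹ * g), by
    have h : udet ((up (udet g) 1 0)⁻¹ * g) = 1 := by
      rw [udet, map_mul, map_inv, ← udet, ← udet, udet_up, mul_one, inv_mul_cancel]
    have := congrArg (Units.val) h
    rwa [udet, Matrix.GeneralLinearGroup.val_det_apply, Units.val_one] at this⟩)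
  left_inv := by
    rintro ⟨a, s⟩
    have h : udet (up a 1 0 * toGL2 s) = a := by
      rw [udet, map_mul, ← udet, ← udet, udet_up, mul_one, show udet (toGL2 s) = 1 from
        Units.ext (by rw [udet, Matrix.GeneralLinearGroup.val_det_apply, Units.val_one]; exact s.2),
        mul_one]
    simp only [h]
    refine Prod.ext rfl (Subtype.ext ?_)
    show mat ((up a 1 0)⁻¹ * (up a 1 0 * toGL2 s)) = _
    rw [inv_mul_cancel_left]; rfl
  right_inv g := by
    show up (udet g) 1 0 * toGL2 _ = g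
    rw [show ∀ h, toGL2 (⟨mat ((up (udet g) 1 0)⁻¹ * g), h⟩ : Matrix.SpecialLinearGroup (Fin 2) F) =
      (up (udet g) 1 0)⁻¹ * g from fun h => Units.ext rfl, mul_inv_cancel_left]

theorem mat_glEquiv_det (p : Fˣ × Matrix.SpecialLinearGroup (Fin 2) F) :
    (mat (glEquiv p)).det = (p.1 : F) := by
  show (mat (up p.1 1 0 * toGL2 p.2)).det = _
  rw [mat, Units.val_mul, Matrix.det_mul]
  simp [show ((up p.1 1 0 : GL (Fin 2) F) : Matrix (Fin 2) (Fin 2) F) = _ from mat_up p.1 1 0,
    Matrix.det_fin_two]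

theorem glEquiv_one (s : Matrix.SpecialLinearGroup (Fin 2) F) : glEquiv (1, s) = toGL2 s := by
  show up 1 1 0 * toGL2 s = _
  rw [show up (1 : Fˣ) 1 0 = (1 : GL (Fin 2) F) from by
    refine ext2 ?_ ?_ ?_ ?_ <;> simp [mat, up], one_mul]

/-- Restriction to SL(2). -/
def res (f : GL (Fin 2) F → ℂ) : Matrix.SpecialLinearGroup (Fin 2) F → ℂ := fun s => f (toGL2 s)

theorem isCharacter_res {f : GL (Fin 2) F → ℂ} (h : IsCharacter (GL (Fin 2) F) f) :
    IsCharacter (Matrix.SpecialLinearGroup (Fin 2) F) (res f) :=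
  Char.isCharacter_comp Matrix.SpecialLinearGroup.toGL h

theorem res_conj {f : GL (Fin 2) F → ℂ} (h : IsClassFunction (GL (Fin 2) F) f) (x : GL (Fin 2) F)
    (s : Matrix.SpecialLinearGroup (Fin 2) F) : res f (conjSL x s) = res f s := by
  show f (toGL2 (conjSL x s)) = _
  rw [toGL2_conjSL, h]; rfl

variable [Fintype F] [DecidableEq F]

/-- Twist by a character of the determinant. -/
noncomputable def twist (χ : GL (Fin 2) F → ℂ) (l : MulChar F ℂ) : GL (Fin 2) F → ℂ :=
  fun g => χ g * linDet l g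

theorem res_twist (χ : GL (Fin 2) F → ℂ) (l : MulChar F ℂ) : res (twist χ l) = res χ := by
  funext s
  simp [res, twist, linDet, det_toGL2]

theorem linDet_mul_conj (l : MulChar F ℂ) (g : GL (Fin 2) F) : linDet l g * conj (linDet l g) = 1 := by
  have : linDet l g = l ((udet g : Fˣ) : F) := by
    rw [linDet, udet, Matrix.GeneralLinearGroup.val_det_apply]
  rw [this, conj_mulChar, ← MulChar.mul_apply, mul_inv_cancel, MulChar.one_apply_coe]

theorem twist_irr {χ : GL (Fin 2) F → ℂ} (h : IsIrrCharacter (GL (Fin 2) F) χ) (l : MulChar F ℂ) :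
    IsIrrCharacter (GL (Fin 2) F) (twist χ l) := by
  refine Char.isIrr_of_norm_one (Char.isCharacter_mul (Char.irr_isCharacter h)
    (Char.irr_isCharacter (linDet_irr l))) ?_
  rw [← Char.irr_self h, classInner, classInner]
  congr 1
  refine Finset.sum_congr rfl fun g _ => ?_
  rw [twist, map_mul, show χ g * linDet l g * (conj (χ g) * conj (linDet l g)) =
    χ g * conj (χ g) * (linDet l g * conj (linDet l g)) by ring, linDet_mul_conj, mul_one]

theorem twist_twist (χ : GL (Fin 2) F → ℂ) (l m : MulChar F ℂ) :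
    twist (twist χ l) m = twist χ (l * m) := by
  funext g; simp [twist, linDet, MulChar.mul_apply, mul_assoc]

theorem twist_one (χ : GL (Fin 2) F → ℂ) : twist χ 1 = χ := by
  funext g
  have hdet : (mat g).det ≠ 0 := by
    rw [← Matrix.GeneralLinearGroup.val_det_apply]; exact Units.ne_zero _
  simp [twist, linDet, MulChar.one_apply (isUnit_iff_ne_zero.2 hdet)]

theorem twist_linDet (α l : MulChar F ℂ) : twist (linDet α) l = linDet (α * l) := by
  funext g; simp [twist, linDet, MulChar.mul_apply]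

theorem twist_ps (α β l : MulChar F ℂ) : twist (ps α β) l = ps (α * l) (β * l) := by
  funext g
  simp only [twist, ps_apply, linDet, add_mul, Finset.sum_mul, ite_mul, zero_mul, MulChar.mul_apply]
  congr 1
  · split_ifs with h
    · rw [Matrix.det_fin_two, h, mul_zero, sub_zero, map_mul]; ring
    · rfl
  · refine Finset.sum_congr rfl fun t _ => ?_
    split_ifs with h
    · have e : (mat g).det = (mat g 1 1 + mat g 1 0 * t) * (mat g 0 0 - mat g 1 0 * t) := by
        rw [Matrix.det_fin_two]; linear_combination -(mat g 1 0) * h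
      rw [e, map_mul]; ring
    · rfl

theorem twist_st (α l : MulChar F ℂ) : twist (st α) l = st (α * l) := by
  funext g
  have h1 := congrFun (twist_ps α α l) g
  have h2 := congrFun (twist_linDet α l) g
  simp only [twist, st, Pi.sub_apply] at h1 h2 ⊢
  rw [sub_mul, h1, h2]

variable [Fintype (MulChar F ℂ)]

theorem card_SL2 : Nat.card (GL (Fin 2) F) =
    (Fintype.card F - 1) * Nat.card (Matrix.SpecialLinearGroup (Fin 2) F) := by
  rw [← Nat.card_congr glEquiv, Nat.card_prod, Nat.card_eq_fintype_card (α := Fˣ), Fintype.card_units]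

theorem sum_conj_mulChar (a : Fˣ) :
    ∑ l : MulChar F ℂ, conj (l a) = if a = 1 then ((Fintype.card F - 1 : ℕ) : ℂ) else 0 := by
  rw [← map_sum, sum_mulChar, card_mulChar]
  split_ifs <;> simp

theorem inner_res (f h : GL (Fin 2) F → ℂ) :
    classInner (res f) (res h) = ∑ l : MulChar F ℂ, classInner f (twist h l) := by
  classical
  have hq : ((Fintype.card F - 1 : ℕ) : ℂ) ≠ 0 := by
    have := Fintype.one_lt_card (α := F)
    exact_mod_cast (by omega : Fintype.card F - 1 ≠ 0)
  simp only [classInner, twist, ← Finset.mul_sum, map_mul]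
  rw [Finset.sum_comm, ← glEquiv.sum_comp]
  simp only [← Finset.mul_sum, linDet, mat_glEquiv_det, sum_conj_mulChar, mul_ite, mul_zero]
  rw [Fintype.sum_prod_type, Finset.sum_eq_single (1 : Fˣ)]
  · simp only [if_true, glEquiv_one, res, card_SL2, Nat.cast_mul, Finset.mul_sum]
    refine Finset.sum_congr rfl fun s _ => ?_
    field_simp
  · intro a _ ha; simp [ha]
  · simp

theorem inner_res_irr {χ χ' : GL (Fin 2) F → ℂ} (h : IsIrrCharacter (GL (Fin 2) F) χ)
    (h' : IsIrrCharacter (GL (Fin 2) F) χ') :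
    classInner (res χ) (res χ') = (Nat.card {l : MulChar F ℂ // twist χ' l = χ} : ℂ) := by
  classical
  rw [inner_res, Finset.sum_congr rfl fun l _ => Char.irr_orth h (twist_irr h' l)]
  simp only [eq_comm (a := χ), Finset.sum_boole, Nat.card_eq_fintype_card, Fintype.card_subtype]

/-- Extension by zero of a GL-invariant class function of SL. -/
theorem invariant_expansion {S : Matrix.SpecialLinearGroup (Fin 2) F → ℂ}
    (hS : ∀ x s, S (conjSL x s) = S s)
    (s : Matrix.SpecialLinearGroup (Fin 2) F) :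
    ((Fintype.card F - 1 : ℕ) : ℂ) * S s =
      ∑ χ : IrrCharacter (GL (Fin 2) F), classInner S (res (χ : GL (Fin 2) F → ℂ)) *
        res (χ : GL (Fin 2) F → ℂ) s := by
  classical
  let E : GL (Fin 2) F → ℂ := fun g => if (glEquiv.symm g).1 = 1 then S (glEquiv.symm g).2 else 0
  have hE1 : ∀ t, E (toGL2 t) = S t := fun t => by
    have h0 : glEquiv.symm (toGL2 t) = (1, t) := by rw [← glEquiv_one, Equiv.symm_apply_apply]
    simp [E, h0]
  have hdet : ∀ g : GL (Fin 2) F, (glEquiv.symm g).1 = udet g := fun g => rfl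
  have hcl : IsClassFunction (GL (Fin 2) F) E := by
    intro g k
    have hd : udet (k * g * k⁻¹) = udet g := by
      rw [udet, map_mul, map_mul, map_inv, mul_right_comm, mul_inv_cancel, one_mul]
    by_cases h1 : udet g = 1
    · obtain ⟨t, rfl⟩ : ∃ t, toGL2 t = g := ⟨(glEquiv.symm g).2, by
        rw [← glEquiv_one, show (1, (glEquiv.symm g).2) = glEquiv.symm g from
          Prod.ext (by rw [hdet, h1]) rfl, Equiv.apply_symm_apply]⟩
      rw [← toGL2_conjSL, hE1, hE1, hS]
    · simp [E, hdet, hd, h1]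
  have hq : ((Fintype.card F - 1 : ℕ) : ℂ) ≠ 0 := by
    have := Fintype.one_lt_card (α := F)
    exact_mod_cast (by omega : Fintype.card F - 1 ≠ 0)
  have hin : ∀ f : GL (Fin 2) F → ℂ, ((Fintype.card F - 1 : ℕ) : ℂ) * classInner E f =
      classInner S (res f) := by
    intro f
    simp only [classInner]
    rw [← glEquiv.sum_comp, Fintype.sum_prod_type, Finset.sum_eq_single (1 : Fˣ)]
    · simp only [glEquiv_one, hE1, res, card_SL2, Nat.cast_mul, Finset.mul_sum]
      refine Finset.sum_congr rfl fun t _ => ?_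
      field_simp
    · intro a _ ha; simp [E, ha]
    · simp
  have := congrFun (Char.classFun_expansion hcl) (toGL2 s)
  rw [hE1, Finset.sum_apply] at this
  rw [this, Finset.mul_sum]
  refine Finset.sum_congr rfl fun χ _ => ?_
  rw [← hin, Pi.smul_apply, smul_eq_mul, mul_assoc]
  rfl

omit [Fintype (MulChar F ℂ)] in
theorem scalar_ne_zero {χ : GL (Fin 2) F → ℂ} (h : IsIrrCharacter (GL (Fin 2) F) χ) (a : Fˣ) :
    χ (up a a 0) ≠ 0 := by
  classical
  set z := up a a 0
  have hz : ∀ g, IsConj z g → g = z := by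
    intro g hg
    obtain ⟨c, hc⟩ := isConj_iff.1 hg
    rw [← hc, mul_inv_eq_iff_eq_mul]
    refine ext2 ?_ ?_ ?_ ?_ <;> simp [z, mat, up, Matrix.mul_apply, Fin.sum_univ_two, mul_comm]
  have hcard : Nat.card {g // IsConj z g} = 1 := by
    rw [Nat.card_eq_one_iff_unique]
    exact ⟨⟨fun a b => Subtype.ext ((hz _ a.2).trans (hz _ b.2).symm)⟩, ⟨⟨z, IsConj.refl z⟩⟩⟩
  have h2 := Char.second_orth (G := GL (Fin 2) F) z z
  rw [if_pos (IsConj.refl z), hcard, Nat.cast_one, div_one, ← Char.sum_sq_deg] at h2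
  have hle : ∀ ψ ∈ (Finset.univ : Finset (IrrCharacter (GL (Fin 2) F))),
      ‖(ψ : GL (Fin 2) F → ℂ) z‖ ^ 2 ≤ ((ψ : GL (Fin 2) F → ℂ) 1).re ^ 2 := fun ψ _ =>
    pow_le_pow_left₀ (norm_nonneg _) (Char.char_norm_le (Char.irr_isCharacter ψ.2) z) 2
  have hsum : ∑ ψ : IrrCharacter (GL (Fin 2) F), ‖(ψ : GL (Fin 2) F → ℂ) z‖ ^ 2 =
      ∑ ψ : IrrCharacter (GL (Fin 2) F), ((ψ : GL (Fin 2) F → ℂ) 1).re ^ 2 := by
    have h3 := congrArg Complex.re h2
    simp only [Complex.re_sum, Complex.mul_conj, Complex.ofReal_re] at h3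
    simp only [Complex.sq_norm]
    rw [h3]
    refine Finset.sum_congr rfl fun ψ _ => ?_
    obtain ⟨n, hn⟩ := Char.charOne_eq_natCast (Char.irr_isCharacter ψ.2)
    rw [hn]; simp [sq]
  intro h0
  have := (Finset.sum_eq_sum_iff_of_le hle).1 hsum ⟨χ, h⟩ (Finset.mem_univ _)
  simp only [h0, norm_zero] at this
  obtain ⟨n, hn⟩ := Char.charOne_eq_natCast (Char.irr_isCharacter h)
  rw [hn] at this
  simp at this
  have hn0 : n = 0 := pow_eq_zero_iff (two_ne_zero) |>.1 (by exact_mod_cast this.symm)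
  exact Char.irr_one_ne_zero h (by rw [hn, hn0, Nat.cast_zero])

omit [Fintype (MulChar F ℂ)] in
theorem sq_eq_one_of_fix {χ : GL (Fin 2) F → ℂ} (h : IsIrrCharacter (GL (Fin 2) F) χ)
    {l : MulChar F ℂ} (hl : twist χ l = χ) : l ^ 2 = 1 := by
  refine MulChar.ext fun a => ?_
  have := congrFun hl (up a a 0)
  rw [twist, linDet_up] at this
  rw [MulChar.one_apply_coe, sq, MulChar.mul_apply]
  exact mul_left_cancel₀ (scalar_ne_zero h a) (this.trans (mul_one _).symm)

theorem res_irr {χ : GL (Fin 2) F → ℂ} (h : IsIrrCharacter (GL (Fin 2) F) χ)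
    (hfree : ∀ l : MulChar F ℂ, twist χ l = χ → l = 1) :
    IsIrrCharacter (Matrix.SpecialLinearGroup (Fin 2) F) (res χ) := by
  refine Char.isIrr_of_norm_one (isCharacter_res (Char.irr_isCharacter h)) ?_
  rw [inner_res_irr h h]
  have : Nat.card {l : MulChar F ℂ // twist χ l = χ} = 1 := by
    rw [Nat.card_eq_one_iff_unique]
    exact ⟨⟨fun a b => Subtype.ext ((hfree _ a.2).trans (hfree _ b.2).symm)⟩, ⟨⟨1, twist_one χ⟩⟩⟩
  rw [this, Nat.cast_one]

omit [Fintype F] [DecidableEq F] [Fintype (MulChar F ℂ)] in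
theorem square_fix {ψ : Matrix.SpecialLinearGroup (Fin 2) F → ℂ}
    (hψ : IsClassFunction (Matrix.SpecialLinearGroup (Fin 2) F) ψ) {x : GL (Fin 2) F}
    (hx : IsSquare (udet x : F)) (s : Matrix.SpecialLinearGroup (Fin 2) F) :
    ψ (conjSL x s) = ψ s := by
  obtain ⟨r, hr⟩ := hx
  have hr0 : r ≠ 0 := by rintro rfl; exact (udet x).ne_zero (by rw [hr, mul_zero])
  set z := up (Units.mk0 r hr0) (Units.mk0 r hr0) 0
  have hz : udet (z⁻¹ * x) = 1 := by
    rw [udet, map_mul, map_inv, ← udet, ← udet, inv_mul_eq_one]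
    refine Units.ext ?_
    rw [hr, udet_up]; simp
  obtain ⟨h, hh⟩ : ∃ h, toGL2 h = z⁻¹ * x := ⟨⟨mat (z⁻¹ * x), by
    rw [← Matrix.GeneralLinearGroup.val_det_apply]
    rw [show Matrix.GeneralLinearGroup.det (z⁻¹ * x) = 1 from hz, Units.val_one]⟩, Units.ext rfl⟩
  have hcz : ∀ t, conjSL z t = t := fun t => toGL2_injective (by
    rw [toGL2_conjSL, mul_inv_eq_iff_eq_mul]
    refine ext2 ?_ ?_ ?_ ?_ <;> simp [z, mat, up, Matrix.mul_apply, Fin.sum_univ_two, mul_comm])
  rw [show x = z * toGL2 h by rw [hh, mul_inv_cancel_left], conjSL_mul, hcz, conjSL_toGL2, hψ]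

omit [Fintype (MulChar F ℂ)] in
theorem inner_comp_conj (f g : Matrix.SpecialLinearGroup (Fin 2) F → ℂ) (x : GL (Fin 2) F) :
    classInner (fun s => f (conjSL x s)) (fun s => g (conjSL x s)) = classInner f g := by
  simp only [classInner]
  congr 1
  exact Equiv.sum_comp (conjSL x).toEquiv (fun s => f s * conj (g s))

omit [Fintype (MulChar F ℂ)] in
theorem conj_irr {ψ : Matrix.SpecialLinearGroup (Fin 2) F → ℂ}
    (h : IsIrrCharacter (Matrix.SpecialLinearGroup (Fin 2) F) ψ) (x : GL (Fin 2) F) :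
    IsIrrCharacter (Matrix.SpecialLinearGroup (Fin 2) F) (fun s => ψ (conjSL x s)) :=
  Char.isIrr_of_norm_one (Char.isCharacter_comp (conjSL x).toMonoidHom (Char.irr_isCharacter h))
    (by rw [inner_comp_conj, Char.irr_self h])

/-- Every irreducible character of SL(2) occurs in some restriction. -/
theorem exists_over {ψ : Matrix.SpecialLinearGroup (Fin 2) F → ℂ}
    (h : IsIrrCharacter (Matrix.SpecialLinearGroup (Fin 2) F) ψ) :
    ∃ χ : GL (Fin 2) F → ℂ, IsIrrCharacter (GL (Fin 2) F) χ ∧ classInner ψ (res χ) ≠ 0 := by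
  classical
  by_contra hno
  push Not at hno
  have hcl := Char.isClassFunction_character (Char.irr_isCharacter h)
  let S : Matrix.SpecialLinearGroup (Fin 2) F → ℂ := ∑ a : Fˣ, fun s => ψ (conjSL (up a 1 0) s)
  have key : ∀ (y : GL (Fin 2) F) t, ψ (conjSL y t) = ψ (conjSL (up (udet y) 1 0) t) := by
    intro y t
    have hy : y = (up (udet y) 1 0) * ((up (udet y) 1 0)⁻¹ * y) := by group
    obtain ⟨h', hh'⟩ : ∃ h', toGL2 h' = (up (udet y) 1 0)⁻¹ * y :=
      ⟨(glEquiv.symm y).2, Units.ext rfl⟩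
    conv_lhs => rw [hy, ← hh', conjSL_mul, conjSL_toGL2]
    rw [map_mul, map_mul, map_inv, hcl]
  have hS : ∀ x s, S (conjSL x s) = S s := by
    intro x s
    simp only [S, Finset.sum_apply]
    rw [← Equiv.sum_comp (Equiv.mulRight (udet x)) (fun a => ψ (conjSL (up a 1 0) s))]
    refine Finset.sum_congr rfl fun a _ => ?_
    rw [← conjSL_mul, key]
    congr 2
    rw [udet, map_mul, ← udet, ← udet, udet_up, mul_one]
    rfl
  have h0 : ∀ χ : IrrCharacter (GL (Fin 2) F), classInner S (res (χ : GL (Fin 2) F → ℂ)) = 0 := by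
    intro χ
    rw [Char.classInner_sum_left]
    refine Finset.sum_eq_zero fun a _ => ?_
    rw [← hno χ χ.2, ← inner_comp_conj ψ (res (χ : GL (Fin 2) F → ℂ)) (up a 1 0)]
    congr 1
    funext s
    exact (res_conj (Char.isClassFunction_character (Char.irr_isCharacter χ.2)) _ s).symm
  have hzero : S = 0 := by
    funext s
    have := invariant_expansion hS s
    simp only [h0, zero_mul, Finset.sum_const_zero, mul_eq_zero] at this
    have hq := Fintype.one_lt_card (α := F)
    exact this.resolve_left (by exact_mod_cast (by omega : Fintype.card F - 1 ≠ 0))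
  have h1 := congrFun hzero 1
  simp only [S, Finset.sum_apply, map_one, Finset.sum_const, Finset.card_univ, nsmul_eq_mul,
    Pi.zero_apply, mul_eq_zero, Nat.cast_eq_zero, Fintype.card_ne_zero, false_or] at h1
  exact Char.irr_one_ne_zero h h1

/-- The two constituents of a non-irreducible restriction. -/
theorem halves {χ : GL (Fin 2) F → ℂ} (h : IsIrrCharacter (GL (Fin 2) F) χ)
    (h2 : Nat.card {l : MulChar F ℂ // twist χ l = χ} = 2) :
    ∃ ψ φ : Matrix.SpecialLinearGroup (Fin 2) F → ℂ,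
      IsIrrCharacter (Matrix.SpecialLinearGroup (Fin 2) F) ψ ∧
      IsIrrCharacter (Matrix.SpecialLinearGroup (Fin 2) F) φ ∧ ψ ≠ φ ∧ res χ = ψ + φ ∧
      ∀ x : GL (Fin 2) F, ¬ IsSquare (udet x : F) → ∀ s, φ s = ψ (conjSL x s) := by
  classical
  have hχ := Char.irr_isCharacter h
  obtain ⟨m, hm⟩ := Char.exists_decomposition (isCharacter_res hχ)
  have hsq : ∑ ψ, m ψ ^ 2 = 2 := by
    have hn := inner_res_irr h h
    rw [h2] at hn
    conv_lhs at hn => arg 2; rw [hm]
    rw [Char.classInner_sum_right] at hn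
    simp only [← Nat.cast_smul_eq_nsmul ℂ, Char.classInner_smul_right,
      Char.decomposition_coeff m hm, map_natCast, ← sq] at hn
    exact_mod_cast hn
  have hle : ∀ ψ, m ψ ≤ 1 := fun ψ => by
    have : m ψ ^ 2 ≤ 2 := (Finset.single_le_sum (f := fun ψ => m ψ ^ 2)
      (fun _ _ => Nat.zero_le _) (Finset.mem_univ ψ)).trans hsq.le
    nlinarith
  set T := Finset.univ.filter (fun ψ => m ψ = 1)
  have hT : ∀ ψ, m ψ = if ψ ∈ T then 1 else 0 := fun ψ => by
    have := hle ψ
    simp only [T, Finset.mem_filter, Finset.mem_univ, true_and]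
    split_ifs <;> omega
  have hT2 : T.card = 2 := by
    have h' := hsq
    rw [Finset.sum_congr rfl (g := fun ψ => if ψ ∈ T then 1 else 0)
      (fun ψ _ => by rw [hT ψ]; split_ifs <;> simp)] at h'
    simpa using h'
  obtain ⟨ψ, φ, hne, hTe⟩ := Finset.card_eq_two.1 hT2
  have hres : res χ = (ψ : Matrix.SpecialLinearGroup (Fin 2) F → ℂ) + (φ : Matrix.SpecialLinearGroup (Fin 2) F → ℂ) := by
    rw [hm, Finset.sum_congr rfl (g := fun x => if x ∈ T then (x : Matrix.SpecialLinearGroup (Fin 2) F → ℂ) else 0)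
      (fun x _ => by rw [hT x]; split_ifs <;> simp), Finset.sum_ite_mem, Finset.univ_inter, hTe,
      Finset.sum_pair hne]
  have hne' : (ψ : Matrix.SpecialLinearGroup (Fin 2) F → ℂ) ≠ (φ : Matrix.SpecialLinearGroup (Fin 2) F → ℂ) := fun e => hne (Subtype.ext e)
  have hψres : classInner (ψ : Matrix.SpecialLinearGroup (Fin 2) F → ℂ) (res χ) = 1 := by
    rw [hres, Char.classInner_add_right, Char.irr_self ψ.2, Char.irr_orth ψ.2 φ.2, if_neg hne',
      add_zero]
  have hφres : classInner (φ : Matrix.SpecialLinearGroup (Fin 2) F → ℂ) (res χ) = 1 := by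
    rw [hres, Char.classInner_add_right, Char.irr_self φ.2, Char.irr_orth φ.2 ψ.2,
      if_neg (Ne.symm hne'), zero_add]
  have hclψ := Char.isClassFunction_character (Char.irr_isCharacter ψ.2)
  obtain ⟨x0, hx0⟩ : ∃ x0 : GL (Fin 2) F, (fun s => (ψ : Matrix.SpecialLinearGroup (Fin 2) F → ℂ) (conjSL x0 s)) ≠ (ψ : Matrix.SpecialLinearGroup (Fin 2) F → ℂ) := by
    by_contra hno
    push Not at hno
    have he : (((Fintype.card F - 1 : ℕ) : ℂ) • (ψ : Matrix.SpecialLinearGroup (Fin 2) F → ℂ)) = ∑ χ' : IrrCharacter (GL (Fin 2) F),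
        classInner (ψ : Matrix.SpecialLinearGroup (Fin 2) F → ℂ) (res (χ' : GL (Fin 2) F → ℂ)) • res (χ' : GL (Fin 2) F → ℂ) := by
      funext s
      simpa [Finset.sum_apply] using invariant_expansion (fun x t => congrFun (hno x) t) s
    have h0 := congrArg (fun f => classInner f (φ : Matrix.SpecialLinearGroup (Fin 2) F → ℂ)) he
    simp only [Char.classInner_smul_left, Char.classInner_sum_left, Char.irr_orth ψ.2 φ.2,
      if_neg hne', mul_zero] at h0
    choose n1 hn1 using fun χ' : IrrCharacter (GL (Fin 2) F) => Char.classInner_natCast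
      (Char.irr_isCharacter ψ.2) (isCharacter_res (Char.irr_isCharacter χ'.2))
    choose n2 hn2 using fun χ' : IrrCharacter (GL (Fin 2) F) => Char.classInner_natCast
      (isCharacter_res (Char.irr_isCharacter χ'.2)) (Char.irr_isCharacter φ.2)
    simp only [hn1, hn2] at h0
    have h0' : ∑ χ', n1 χ' * n2 χ' = 0 := by exact_mod_cast h0.symm
    have h1 := (Finset.sum_eq_zero_iff.1 h0') ⟨χ, h⟩ (Finset.mem_univ _)
    have e1 := hn1 ⟨χ, h⟩
    have e2 := hn2 ⟨χ, h⟩
    simp only at e1 e2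
    rw [hψres] at e1
    rw [← Char.classInner_symm, hφres, map_one] at e2
    have : n1 ⟨χ, h⟩ = 1 ∧ n2 ⟨χ, h⟩ = 1 := ⟨by exact_mod_cast e1.symm, by exact_mod_cast e2.symm⟩
    rw [this.1, this.2] at h1
    norm_num at h1
  have hx0ns : ¬ IsSquare (udet x0 : F) := fun hs => hx0 (funext fun s => square_fix hclψ hs s)
  have hψ' := conj_irr ψ.2 x0
  have hconst : classInner (fun s => (ψ : Matrix.SpecialLinearGroup (Fin 2) F → ℂ) (conjSL x0 s)) (res χ) = 1 := by
    rw [← hψres, ← inner_comp_conj (ψ : Matrix.SpecialLinearGroup (Fin 2) F → ℂ) (res χ) x0]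
    congr 1
    funext s
    exact (res_conj (Char.isClassFunction_character hχ) _ s).symm
  have hφeq : (fun s => (ψ : Matrix.SpecialLinearGroup (Fin 2) F → ℂ) (conjSL x0 s)) = (φ : Matrix.SpecialLinearGroup (Fin 2) F → ℂ) := by
    rw [hres, Char.classInner_add_right, Char.irr_orth hψ' ψ.2, if_neg hx0, Char.irr_orth hψ' φ.2,
      zero_add] at hconst
    by_contra hc
    rw [if_neg hc] at hconst
    exact zero_ne_one hconst
  refine ⟨ψ, φ, ψ.2, φ.2, hne', hres, fun x hx s => ?_⟩
  have hsq2 : IsSquare (udet (x0⁻¹ * x) : F) := by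
    have h3 : (udet (x0⁻¹ * x) : F) = (udet x0 : F)⁻¹ * (udet x : F) := by
      simp [udet, map_mul, map_inv]
    rw [h3, ← quadraticChar_one_iff_isSquare (mul_ne_zero (inv_ne_zero (Units.ne_zero _))
      (Units.ne_zero _)), map_mul, ← quadraticChar_neg_one_iff_not_isSquare.2 hx |>.symm]
    rw [quadraticChar_neg_one_iff_not_isSquare.2 (by simpa [IsSquare.inv] using hx0ns :
      ¬ IsSquare (udet x0 : F)⁻¹)]
    norm_num
  rw [show x = x0 * (x0⁻¹ * x) by group, conjSL_mul,
    show (ψ : Matrix.SpecialLinearGroup (Fin 2) F → ℂ) (conjSL x0 (conjSL (x0⁻¹ * x) s)) = (φ : Matrix.SpecialLinearGroup (Fin 2) F → ℂ) (conjSL (x0⁻¹ * x) s) from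
      congrFun hφeq _, square_fix (Char.isClassFunction_character (Char.irr_isCharacter φ.2)) hsq2]

end Cfsg.Agent.Lead.SL2
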