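import Cfsg.Agent.Lib.Lead.SL2Base
import Mathlib

/-!
The irreducible characters of SL(2,q) through restriction from GL(2,q).
-/

set_option autoImplicit false

namespace Cfsg.Agent.Lead.SL2

open Cfsg Cfsg.Agent.Lead.GL2
open scoped ComplexConjugate Matrix

universe u

theorem card_of_fibers {A B : Type*} [Finite A] [Finite B] (f : A → B) (k : ℕ)
    (h : ∀ b, Nat.card {a // f a = b} = k) : Nat.card A = Nat.card B * k := by
  haveI := Fintype.ofFinite B
  rw [← Nat.card_congr (Equiv.sigmaFiberEquiv f), Nat.card_sigma, Finset.sum_congr rfl (fun b _ => h b),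
    Finset.sum_const, Finset.card_univ, smul_eq_mul, Nat.card_eq_fintype_card]

variable {F : Type u} [Field F] [Fintype F] [DecidableEq F]

/-- The quadratic character. -/
noncomputable def eta : MulChar F ℂ := (quadraticChar F).ringHomComp (Int.castRingHom ℂ)

theorem eta_sq {a : F} (ha : a ≠ 0) (h : IsSquare a) : eta a = 1 := by
  simp [eta, (quadraticChar_one_iff_isSquare ha).2 h]

theorem eta_not_sq {a : F} (h : ¬ IsSquare a) : eta a = -1 := by
  simp [eta, quadraticChar_neg_one_iff_not_isSquare.2 h]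

theorem ringChar_ne_two (hodd : Odd (Fintype.card F)) : ringChar F ≠ 2 := by
  intro h
  have := FiniteField.even_card_iff_char_two.1 h
  rw [Nat.odd_iff] at hodd
  omega

theorem exists_nonsq (hodd : Odd (Fintype.card F)) : ∃ a : Fˣ, ¬ IsSquare (a : F) := by
  obtain ⟨a, ha⟩ := FiniteField.exists_nonsquare (ringChar_ne_two hodd)
  exact ⟨Units.mk0 a (fun h => ha (h ▸ IsSquare.zero)), ha⟩

theorem eta_ne_one (hodd : Odd (Fintype.card F)) : (eta : MulChar F ℂ) ≠ 1 := by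
  obtain ⟨a, ha⟩ := exists_nonsq hodd
  intro h
  have := eta_not_sq ha
  rw [h, MulChar.one_apply_coe] at this
  norm_num at this

theorem eta_mul_self : (eta : MulChar F ℂ) * eta = 1 := by
  refine MulChar.ext fun a => ?_
  rw [MulChar.mul_apply, MulChar.one_apply_coe]
  by_cases h : IsSquare (a : F)
  · rw [eta_sq a.ne_zero h, mul_one]
  · rw [eta_not_sq h]; norm_num

theorem sq_one_cases {l : MulChar F ℂ} (hl : l ^ 2 = 1) : l = 1 ∨ l = eta := by
  have hpm : ∀ a : Fˣ, l a = 1 ∨ l a = -1 := fun a => by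
    have := congrArg (fun m : MulChar F ℂ => m (a : F)) hl
    simp only [sq, MulChar.mul_apply, MulChar.one_apply_coe] at this
    exact mul_self_eq_one_iff.1 this
  have hsq : ∀ a : Fˣ, IsSquare (a : F) → l a = 1 := by
    rintro a ⟨b, hb⟩
    have hb0 : b ≠ 0 := by rintro rfl; exact a.ne_zero (by rw [hb, mul_zero])
    rw [hb, map_mul]
    rcases hpm (Units.mk0 b hb0) with h | h <;> simp at h <;> rw [h] <;> norm_num
  by_cases hall : ∀ a : Fˣ, l a = 1
  · exact Or.inl (MulChar.ext fun a => by rw [hall a, MulChar.one_apply_coe])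
  · push Not at hall
    obtain ⟨b, hb⟩ := hall
    have hbns : ¬ IsSquare (b : F) := fun h => hb (hsq b h)
    have hb1 : l b = -1 := (hpm b).resolve_left hb
    refine Or.inr (MulChar.ext fun a => ?_)
    by_cases h : IsSquare (a : F)
    · rw [hsq a h, eta_sq a.ne_zero h]
    · rw [eta_not_sq h]
      have hab : IsSquare ((a * b : Fˣ) : F) := by
        rw [← quadraticChar_one_iff_isSquare (Units.ne_zero _), Units.val_mul, map_mul,
          quadraticChar_neg_one_iff_not_isSquare.2 h, quadraticChar_neg_one_iff_not_isSquare.2 hbns]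
        norm_num
      have := hsq _ hab
      rw [Units.val_mul, map_mul, hb1] at this
      linear_combination -this

theorem eta_eq_one_of_two (h : ringChar F = 2) : (eta : MulChar F ℂ) = 1 :=
  MulChar.ext fun a => by
    rw [MulChar.one_apply_coe, eta_sq a.ne_zero (FiniteField.isSquare_of_char_two h _)]

/-- The fixed-by-twist property. -/
def Fixed (χ : GL (Fin 2) F → ℂ) : Prop := (eta : MulChar F ℂ) ≠ 1 ∧ twist χ eta = χ

theorem free_of_not_fixed {χ : GL (Fin 2) F → ℂ} (h : IsIrrCharacter (GL (Fin 2) F) χ)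
    (hf : ¬ Fixed χ) (l : MulChar F ℂ) (hl : twist χ l = χ) : l = 1 := by
  rcases sq_one_cases (sq_eq_one_of_fix h hl) with h1 | h1
  · exact h1
  · subst h1
    by_contra hne
    exact hf ⟨hne, hl⟩

theorem stab_card_free {χ : GL (Fin 2) F → ℂ} (h : IsIrrCharacter (GL (Fin 2) F) χ) (hf : ¬ Fixed χ) :
    Nat.card {l : MulChar F ℂ // twist χ l = χ} = 1 := by
  rw [Nat.card_eq_one_iff_unique]
  exact ⟨⟨fun a b => Subtype.ext ((free_of_not_fixed h hf _ a.2).trans
    (free_of_not_fixed h hf _ b.2).symm)⟩, ⟨⟨1, twist_one χ⟩⟩⟩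

theorem stab_card_fixed {χ : GL (Fin 2) F → ℂ} (h : IsIrrCharacter (GL (Fin 2) F) χ) (hf : Fixed χ) :
    Nat.card {l : MulChar F ℂ // twist χ l = χ} = 2 := by
  refine Eq.trans ?_ (Nat.card_fin 2)
  refine (Nat.card_congr (Equiv.ofBijective
    (![⟨1, twist_one χ⟩, ⟨eta, hf.2⟩] : Fin 2 → {l : MulChar F ℂ // twist χ l = χ}) ⟨?_, ?_⟩)).symm
  · intro i j hij
    fin_cases i <;> fin_cases j <;> simp [Subtype.ext_iff, hf.1, Ne.symm hf.1] at hij ⊢
  · rintro ⟨l, hl⟩
    rcases sq_one_cases (sq_eq_one_of_fix h hl) with h1 | h1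
    · exact ⟨0, Subtype.ext h1.symm⟩
    · exact ⟨1, Subtype.ext h1.symm⟩

theorem res_irr_free [Fintype (MulChar F ℂ)] {χ : GL (Fin 2) F → ℂ}
    (h : IsIrrCharacter (GL (Fin 2) F) χ) (hf : ¬ Fixed χ) :
    IsIrrCharacter (Matrix.SpecialLinearGroup (Fin 2) F) (res χ) :=
  res_irr h (free_of_not_fixed h hf)

/-- The principal series of SL(2). -/
noncomputable def R (γ : MulChar F ℂ) : Matrix.SpecialLinearGroup (Fin 2) F → ℂ := res (ps γ 1)

theorem res_ps (α β : MulChar F ℂ) : res (ps α β) = R (α * β⁻¹) := by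
  rw [R, ← res_twist (ps (α * β⁻¹) 1) β, twist_ps, one_mul, inv_mul_cancel_right]

theorem fixed_ps_eta (hodd : Odd (Fintype.card F)) : Fixed (ps (eta : MulChar F ℂ) 1) :=
  ⟨eta_ne_one hodd, by rw [twist_ps, one_mul, eta_mul_self, ps_symm]⟩

theorem fixed_ps_iff {γ : MulChar F ℂ} (hf : Fixed (ps γ 1)) : γ = eta := by
  have h := hf.2
  rw [twist_ps, one_mul, ps_eq_iff] at h
  rcases h with ⟨-, h⟩ | ⟨-, h⟩
  · exact absurd h hf.1
  · exact h.symm

theorem R_irr [Fintype (MulChar F ℂ)] {γ : MulChar F ℂ} (hγ : γ ^ 2 ≠ 1) :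
    IsIrrCharacter (Matrix.SpecialLinearGroup (Fin 2) F) (R γ) := by
  have hne : γ ≠ 1 := by rintro rfl; exact hγ (one_pow 2)
  refine res_irr_free (ps_isIrr hne) fun hf => hγ ?_
  rw [fixed_ps_iff hf, sq, eta_mul_self]

theorem R_inner [Fintype (MulChar F ℂ)] (γ δ : MulChar F ℂ) :
    classInner (R γ) (R δ) = (if γ = δ then 1 else 0) + (if γ * δ = 1 then 1 else 0) := by
  classical
  rw [R, R, inner_res]
  simp only [twist_ps, one_mul, ps_inner, Finset.sum_add_distrib]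
  congr 1
  · rw [Finset.sum_eq_single (1 : MulChar F ℂ)]
    · simp
    · intro l _ hl; rw [if_neg]; rintro ⟨-, h⟩; exact hl h.symm
    · simp
  · rw [Finset.sum_eq_single γ]
    · by_cases h : γ * δ = 1
      · rw [if_pos ⟨rfl, by rw [mul_comm, h]⟩, if_pos h]
      · rw [if_neg (fun hh => h (by rw [mul_comm, ← hh.2])), if_neg h]
    · intro l _ hl; rw [if_neg]; rintro ⟨h, -⟩; exact hl h.symm
    · simp

theorem R_one_val (γ : MulChar F ℂ) : R γ 1 = (Fintype.card F : ℂ) + 1 := by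
  rw [R, res, toGL2, map_one, ps_one_val]

/-- The Steinberg character of SL(2). -/
noncomputable def St0 : Matrix.SpecialLinearGroup (Fin 2) F → ℂ := res (st (1 : MulChar F ℂ))

theorem res_linDet (α : MulChar F ℂ) : res (linDet α) = fun _ => 1 := by
  funext s; simp [res, linDet, det_toGL2]

theorem res_st (α : MulChar F ℂ) : res (st α) = St0 := by
  rw [St0, ← res_twist (st (1 : MulChar F ℂ)) α, twist_st, one_mul]

theorem st_not_fixed (α : MulChar F ℂ) : ¬ Fixed (st α) := by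
  rintro ⟨hne, h⟩
  rw [twist_st] at h
  exact hne (mul_eq_left.1 (st_injective h))

theorem St0_irr [Fintype (MulChar F ℂ)] :
    IsIrrCharacter (Matrix.SpecialLinearGroup (Fin 2) F) (St0 (F := F)) :=
  res_irr_free (st_irr 1) (st_not_fixed 1)

theorem St0_one_val : St0 (F := F) 1 = (Fintype.card F : ℂ) := by
  rw [St0, res, toGL2, map_one, st_one_val]

theorem twist_cusp {χ : GL (Fin 2) F → ℂ} (hc : IsCusp χ) (l : MulChar F ℂ) : IsCusp (twist χ l) := by
  intro α β
  have e : ps α β = twist (ps (α * l⁻¹) (β * l⁻¹)) l := by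
    rw [twist_ps, inv_mul_cancel_right, inv_mul_cancel_right]
  rw [e, ← hc (α * l⁻¹) (β * l⁻¹), classInner, classInner]
  congr 1
  refine Finset.sum_congr rfl fun g _ => ?_
  rw [twist, twist, map_mul, show ps (α * l⁻¹) (β * l⁻¹) g * linDet l g *
    (conj (χ g) * conj (linDet l g)) = ps (α * l⁻¹) (β * l⁻¹) g * conj (χ g) *
    (linDet l g * conj (linDet l g)) by ring, linDet_mul_conj, mul_one]

/-- `ψ, φ` are the two halves of `χ`. -/
def Halves (χ : GL (Fin 2) F → ℂ) (ψ φ : Matrix.SpecialLinearGroup (Fin 2) F → ℂ) : Prop :=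
  IsIrrCharacter (Matrix.SpecialLinearGroup (Fin 2) F) ψ ∧
  IsIrrCharacter (Matrix.SpecialLinearGroup (Fin 2) F) φ ∧ ψ ≠ φ ∧ res χ = ψ + φ ∧
  ∀ x : GL (Fin 2) F, ¬ IsSquare (udet x : F) → ∀ s, φ s = ψ (conjSL x s)

theorem Halves.symm {χ : GL (Fin 2) F → ℂ} {ψ φ : Matrix.SpecialLinearGroup (Fin 2) F → ℂ}
    (h : Halves χ ψ φ) : Halves χ φ ψ := by
  obtain ⟨h1, h2, h3, h4, h5⟩ := h
  refine ⟨h2, h1, h3.symm, by rw [h4, add_comm], fun x hx s => ?_⟩
  have hx' : ¬ IsSquare (udet x⁻¹ : F) := by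
    simpa [udet, map_inv, IsSquare.inv] using hx
  rw [h5 x⁻¹ hx', ← conjSL_mul, inv_mul_cancel, conjSL_one]

theorem Halves.one_val (hodd : Odd (Fintype.card F)) {χ : GL (Fin 2) F → ℂ}
    {ψ φ : Matrix.SpecialLinearGroup (Fin 2) F → ℂ} (h : Halves χ ψ φ) :
    φ 1 = ψ 1 ∧ 2 * ψ 1 = χ 1 := by
  obtain ⟨a, ha⟩ := exists_nonsq hodd
  have h1 : φ 1 = ψ 1 := by
    rw [h.2.2.2.2 (up a 1 0) (by rw [udet_up, mul_one]; exact ha), map_one]
  refine ⟨h1, ?_⟩
  have := congrFun h.2.2.2.1 1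
  rw [res, toGL2, map_one, Pi.add_apply, h1] at this
  rw [this]; ring

/-- The shapes of the irreducible characters of SL(2). -/
inductive Kind (ψ : Matrix.SpecialLinearGroup (Fin 2) F → ℂ) (n : ℕ) : Prop
  | one (h : ψ = fun _ => 1) (hn : n = 1)
  | st (h : ψ = St0) (hn : n = Fintype.card F)
  | prin (γ : MulChar F ℂ) (hγ : γ ^ 2 ≠ 1) (h : ψ = R γ) (hn : n = Fintype.card F + 1)
  | cusp (χ : GL (Fin 2) F → ℂ) (hχ : IsIrrCharacter (GL (Fin 2) F) χ) (hc : IsCusp χ)
      (hf : ¬ Fixed χ) (h : ψ = res χ) (hn : n + 1 = Fintype.card F)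
  | halfPs (φ : Matrix.SpecialLinearGroup (Fin 2) F → ℂ) (hodd : Odd (Fintype.card F))
      (h : Halves (ps eta 1) ψ φ) (hn : 2 * n = Fintype.card F + 1)
  | halfCusp (χ : GL (Fin 2) F → ℂ) (φ : Matrix.SpecialLinearGroup (Fin 2) F → ℂ)
      (hχ : IsIrrCharacter (GL (Fin 2) F) χ) (hc : IsCusp χ) (hf : Fixed χ)
      (hodd : Odd (Fintype.card F)) (h : Halves χ ψ φ) (hn : 2 * n + 1 = Fintype.card F)

theorem Fixed.odd {χ : GL (Fin 2) F → ℂ} (hf : Fixed χ) : Odd (Fintype.card F) := by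
  rw [Nat.odd_iff]
  by_contra h
  exact hf.1 (eta_eq_one_of_two (FiniteField.even_card_iff_char_two.2 (by omega)))

/-- A constituent of `res χ` is the restriction or one of the halves. -/
theorem constituent [Fintype (MulChar F ℂ)] {ψ : Matrix.SpecialLinearGroup (Fin 2) F → ℂ}
    (hψ : IsIrrCharacter (Matrix.SpecialLinearGroup (Fin 2) F) ψ) {χ : GL (Fin 2) F → ℂ}
    (hχ : IsIrrCharacter (GL (Fin 2) F) χ) (h : classInner ψ (res χ) ≠ 0) :
    (¬ Fixed χ ∧ ψ = res χ) ∨ (Fixed χ ∧ ∃ φ, Halves χ ψ φ) := by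
  by_cases hf : Fixed χ
  · refine Or.inr ⟨hf, ?_⟩
    obtain ⟨a, b, hab⟩ : ∃ a b, Halves χ a b := halves hχ (stab_card_fixed hχ hf)
    rw [hab.2.2.2.1, Char.classInner_add_right, Char.irr_orth hψ hab.1, Char.irr_orth hψ hab.2.1] at h
    by_cases h1 : ψ = a
    · exact ⟨b, h1 ▸ hab⟩
    by_cases h2 : ψ = b
    · exact ⟨a, h2 ▸ hab.symm⟩
    simp [h1, h2] at h
  · refine Or.inl ⟨hf, ?_⟩
    rw [Char.irr_orth hψ (res_irr_free hχ hf)] at h
    by_contra h1
    simp [h1] at h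

theorem kind [Fintype (MulChar F ℂ)] {ψ : Matrix.SpecialLinearGroup (Fin 2) F → ℂ}
    (hψ : IsIrrCharacter (Matrix.SpecialLinearGroup (Fin 2) F) ψ) :
    ∃ n : ℕ, ψ 1 = n ∧ Kind ψ n := by
  obtain ⟨χ, hχ, h⟩ := exists_over hψ
  rcases classify hχ with ⟨α, rfl⟩ | ⟨α, rfl⟩ | ⟨α, β, hne, rfl⟩ | ⟨hc, hd, -⟩
  · have h1 : IsIrrCharacter (Matrix.SpecialLinearGroup (Fin 2) F) (fun _ => (1 : ℂ)) :=
      Char.isIrrCharacter_one
    rw [res_linDet, Char.irr_orth hψ h1] at h
    have : ψ = fun _ => 1 := by by_contra hh; simp [hh] at h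
    exact ⟨1, by simp [this], Kind.one this rfl⟩
  · rw [res_st, Char.irr_orth hψ St0_irr] at h
    have : ψ = St0 := by by_contra hh; simp [hh] at h
    exact ⟨_, by rw [this, St0_one_val], Kind.st this rfl⟩
  · rw [res_ps] at h
    set γ := α * β⁻¹ with hγ
    have hγ1 : γ ≠ 1 := by rwa [hγ, Ne, mul_inv_eq_one]
    rcases constituent hψ (ps_isIrr hγ1) h with ⟨hf, h1⟩ | ⟨hf, φ, h1⟩
    · refine ⟨Fintype.card F + 1, by rw [h1]; exact_mod_cast R_one_val γ, Kind.prin γ ?_ h1 rfl⟩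
      intro h2
      rcases sq_one_cases h2 with h3 | h3
      · exact hγ1 h3
      · have he : (eta : MulChar F ℂ) ≠ 1 := fun he => hγ1 (h3.trans he)
        exact hf ⟨he, by rw [h3, twist_ps, one_mul, eta_mul_self, ps_symm]⟩
    · rw [fixed_ps_iff hf] at h1
      have hodd := hf.odd
      obtain ⟨k, hk⟩ := hodd
      have hv := (h1.one_val hf.odd).2
      rw [ps_one_val] at hv
      refine ⟨k + 1, ?_, Kind.halfPs φ hf.odd h1 (by omega)⟩
      rw [hk] at hv
      push_cast at hv ⊢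
      linear_combination hv / 2
  · rcases constituent hψ hχ h with ⟨hf, h1⟩ | ⟨hf, φ, h1⟩
    · have hq := Fintype.one_lt_card (α := F)
      exact ⟨Fintype.card F - 1, by rw [h1, res, toGL2, map_one, hd], Kind.cusp χ hχ hc hf h1 (by omega)⟩
    · obtain ⟨k, hk⟩ := hf.odd
      have hv := (h1.one_val hf.odd).2
      rw [hd, hk, Nat.add_sub_cancel] at hv
      refine ⟨k, ?_, Kind.halfCusp χ φ hχ hc hf hf.odd h1 (by omega)⟩
      push_cast at hv ⊢
      linear_combination hv / 2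

/-- Twist fibres. -/
theorem fibre_card [Fintype (MulChar F ℂ)] {χ : GL (Fin 2) F → ℂ}
    (hχ : IsIrrCharacter (GL (Fin 2) F) χ) :
    Nat.card {χ' : IrrCharacter (GL (Fin 2) F) // res (χ' : GL (Fin 2) F → ℂ) = res χ} *
      Nat.card {l : MulChar F ℂ // twist χ l = χ} = Fintype.card F - 1 := by
  rw [← card_mulChar (F := F), ← Nat.card_eq_fintype_card]
  refine (card_of_fibers (fun l : MulChar F ℂ => (⟨⟨twist χ l, twist_irr hχ l⟩, res_twist χ l⟩ :
    {χ' : IrrCharacter (GL (Fin 2) F) // res (χ' : GL (Fin 2) F → ℂ) = res χ})) _ ?_).symm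
  rintro ⟨⟨χ', hχ'⟩, hr⟩
  obtain ⟨m, hm⟩ : ∃ m, twist χ m = χ' := by
    by_contra hno
    push Not at hno
    have h1 := inner_res_irr hχ' hχ
    haveI : IsEmpty {l : MulChar F ℂ // twist χ l = χ'} := ⟨fun l => hno l l.2⟩
    rw [Nat.card_of_isEmpty, Nat.cast_zero, hr, inner_res_irr hχ hχ, Nat.cast_eq_zero,
      Nat.card_eq_zero] at h1
    rcases h1 with h1 | h1
    · exact h1.false ⟨1, twist_one χ⟩
    · exact h1.not_finite inferInstance
  refine Nat.card_congr
    { toFun := fun l => ⟨l.1 * m⁻¹, ?_⟩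
      invFun := fun l => ⟨l.1 * m, ?_⟩
      left_inv := fun l => Subtype.ext (inv_mul_cancel_right _ _)
      right_inv := fun l => Subtype.ext (mul_inv_cancel_right _ _) }
  · have := congrArg (fun t : {χ' : IrrCharacter (GL (Fin 2) F) //
      res (χ' : GL (Fin 2) F → ℂ) = res χ} => (t.1 : GL (Fin 2) F → ℂ)) l.2
    simp only at this
    rw [← twist_twist, this, ← hm, twist_twist, mul_inv_cancel, twist_one]
  · refine Subtype.ext (Subtype.ext ?_)
    show twist χ (l.1 * m) = χ'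
    rw [← twist_twist, l.2, hm]

end Cfsg.Agent.Lead.SL2
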