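import Cfsg.Agent.Lib.Lead.SL2Values
import Mathlib

/-!
The numbers of irreducible characters of SL(2,q) of each degree.
-/

set_option autoImplicit false

namespace Cfsg.Agent.Lead.SL2

open Cfsg Cfsg.Agent.Lead.GL2
open scoped ComplexConjugate Matrix

universe u

variable {F : Type u} [Field F] [Fintype F] [DecidableEq F]

theorem Halves.eq_or {χ : GL (Fin 2) F → ℂ} {a b ψ φ : Matrix.SpecialLinearGroup (Fin 2) F → ℂ}
    (h : Halves χ a b) (h' : Halves χ ψ φ) : ψ = a ∨ ψ = b := by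
  classical
  have e : classInner ψ (res χ) = 1 := by
    rw [h'.2.2.2.1, Char.classInner_add_right, Char.irr_self h'.1, Char.irr_orth h'.1 h'.2.1,
      if_neg h'.2.2.1, add_zero]
  rw [h.2.2.2.1, Char.classInner_add_right, Char.irr_orth h'.1 h.1, Char.irr_orth h'.1 h.2.1] at e
  by_contra hno
  push Not at hno
  rw [if_neg hno.1, if_neg hno.2, add_zero] at e
  exact zero_ne_one e

variable [Fintype (MulChar F ℂ)]

theorem exists_halves_ps (hodd : Odd (Fintype.card F)) :
    ∃ a b, Halves (ps (eta : MulChar F ℂ) 1) a b :=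
  halves (ps_isIrr (eta_ne_one hodd)) (stab_card_fixed (ps_isIrr (eta_ne_one hodd)) (fixed_ps_eta hodd))

/-- Restrictions of the free cuspidal characters. -/
abbrev FreeCuspSL (F : Type u) [Field F] [Fintype F] [DecidableEq F] : Type u :=
  {ψ : IrrCharacter (Matrix.SpecialLinearGroup (Fin 2) F) //
    ∃ χ, IsIrrCharacter (GL (Fin 2) F) χ ∧ IsCusp χ ∧ ¬ Fixed χ ∧
      (ψ : Matrix.SpecialLinearGroup (Fin 2) F → ℂ) = res χ}

theorem card_free_mul :
    Nat.card {c : Cusp F // ¬ Fixed (c.1 : GL (Fin 2) F → ℂ)} =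
      Nat.card (FreeCuspSL F) * (Fintype.card F - 1) := by
  refine card_of_fibers (fun c => (⟨⟨res (c.1.1 : GL (Fin 2) F → ℂ), res_irr_free c.1.1.2 c.2⟩,
    c.1.1, c.1.1.2, c.1.2, c.2, rfl⟩ : FreeCuspSL F)) _ ?_
  rintro ⟨ψ, χ, hχ, hc, hf, hψ⟩
  have h := fibre_card hχ
  rw [stab_card_free hχ hf, mul_one] at h
  rw [← h]
  refine Nat.card_congr
    { toFun := fun c => ⟨c.1.1.1, ?_⟩
      invFun := fun χ' => ⟨⟨⟨χ'.1, ?_⟩, ?_⟩, ?_⟩
      left_inv := fun c => rfl
      right_inv := fun c => rfl }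
  · have := congrArg (fun t : FreeCuspSL F => (t.1 : Matrix.SpecialLinearGroup (Fin 2) F → ℂ)) c.2
    simp only at this
    rw [this, hψ]
  · obtain ⟨m, hm⟩ : ∃ m, twist χ m = (χ'.1 : GL (Fin 2) F → ℂ) := by
      by_contra hno
      push Not at hno
      haveI : IsEmpty {l : MulChar F ℂ // twist χ l = (χ'.1 : GL (Fin 2) F → ℂ)} := ⟨fun l => hno l l.2⟩
      have h1 := inner_res_irr χ'.1.2 hχ
      rw [χ'.2, Char.irr_self (res_irr_free hχ hf), Nat.card_of_isEmpty, Nat.cast_zero] at h1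
      exact one_ne_zero h1
    rw [← hm]; exact twist_cusp hc m
  · intro hfix
    apply hf
    refine ⟨hfix.1, ?_⟩
    have h1 := inner_res_irr χ'.1.2 χ'.1.2
    rw [χ'.2, Char.irr_self (res_irr_free hχ hf), stab_card_fixed χ'.1.2 hfix] at h1
    norm_num at h1
  · exact Subtype.ext (Subtype.ext (χ'.2.trans hψ.symm))

theorem exists_fixed_cusp (hodd : Odd (Fintype.card F)) :
    ∃ c : Cusp F, Fixed (c.1 : GL (Fin 2) F → ℂ) := by
  by_contra hno
  push Not at hno
  have h1 := card_free_mul (F := F)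
  have h2 := (cusp_count (F := F)).2
  rw [Nat.card_congr (Equiv.subtypeUnivEquiv (fun c => hno c))] at h1
  rw [h1] at h2
  have hq := Fintype.one_lt_card (α := F)
  have h3 : Nat.card (FreeCuspSL F) * 2 = Fintype.card F :=
    Nat.eq_of_mul_eq_mul_right (by omega : 0 < Fintype.card F - 1) (by linarith)
  rw [Nat.odd_iff] at hodd
  omega

theorem cusp_halves_unique (hodd : Odd (Fintype.card F)) {χ χ' : GL (Fin 2) F → ℂ}
    (hχ : IsIrrCharacter (GL (Fin 2) F) χ) (hχ' : IsIrrCharacter (GL (Fin 2) F) χ')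
    (hc : IsCusp χ) (hc' : IsCusp χ')
    {a b ψ φ : Matrix.SpecialLinearGroup (Fin 2) F → ℂ} (h : Halves χ a b) (h' : Halves χ' ψ φ) :
    ψ = a ∨ ψ = b := by
  have e := fixed_cusp_unique hodd hχ hχ' hc hc' h h'
  have h2 : Halves χ ψ φ := ⟨h'.1, h'.2.1, h'.2.2.1, e ▸ h'.2.2.2.1, h'.2.2.2.2⟩
  exact h.eq_or h2

theorem card_fixed_cusp (hodd : Odd (Fintype.card F)) :
    Nat.card {c : Cusp F // Fixed (c.1 : GL (Fin 2) F → ℂ)} * 2 = Fintype.card F - 1 := by
  obtain ⟨c0, hc0⟩ := exists_fixed_cusp hodd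
  have h := fibre_card c0.1.2
  rw [stab_card_fixed c0.1.2 hc0] at h
  rw [← h]
  congr 1
  obtain ⟨a, b, hab⟩ : ∃ a b, Halves (c0.1 : GL (Fin 2) F → ℂ) a b :=
    halves c0.1.2 (stab_card_fixed c0.1.2 hc0)
  refine Nat.card_congr
    { toFun := fun c => ⟨c.1.1, ?_⟩
      invFun := fun χ' => ⟨⟨χ'.1, ?_⟩, ?_⟩
      left_inv := fun c => rfl
      right_inv := fun c => rfl }
  · obtain ⟨x, y, hxy⟩ : ∃ x y, Halves (c.1.1 : GL (Fin 2) F → ℂ) x y :=
      halves c.1.1.2 (stab_card_fixed c.1.1.2 c.2)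
    exact fixed_cusp_unique hodd c0.1.2 c.1.1.2 c0.2 c.1.2 hab hxy
  · obtain ⟨m, hm⟩ : ∃ m, twist (c0.1 : GL (Fin 2) F → ℂ) m = (χ'.1 : GL (Fin 2) F → ℂ) := by
      by_contra hno
      push Not at hno
      haveI : IsEmpty {l : MulChar F ℂ // twist (c0.1 : GL (Fin 2) F → ℂ) l = (χ'.1 : GL (Fin 2) F → ℂ)} :=
        ⟨fun l => hno l l.2⟩
      have h1 := inner_res_irr χ'.1.2 c0.1.2
      rw [χ'.2, inner_res_irr c0.1.2 c0.1.2, stab_card_fixed c0.1.2 hc0, Nat.card_of_isEmpty] at h1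
      norm_num at h1
    rw [← hm]; exact twist_cusp c0.2 m
  · by_contra hfix
    have h1 := inner_res_irr χ'.1.2 χ'.1.2
    rw [χ'.2, inner_res_irr c0.1.2 c0.1.2, stab_card_fixed c0.1.2 hc0, stab_card_free χ'.1.2 hfix] at h1
    norm_num at h1

theorem card_freeCusp_odd (hodd : Odd (Fintype.card F)) :
    Nat.card (FreeCuspSL F) = (Fintype.card F - 1) / 2 := by
  classical
  have h1 := card_free_mul (F := F)
  have h2 := (cusp_count (F := F)).2
  have h3 := card_fixed_cusp hodd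
  rw [← Nat.card_congr (Equiv.sumCompl (fun c : Cusp F => Fixed (c.1 : GL (Fin 2) F → ℂ))),
    Nat.card_sum, h1] at h2
  obtain ⟨k, hk⟩ := hodd
  have hk0 : 0 < k := by have := Fintype.one_lt_card (α := F); omega
  simp only [hk, Nat.add_sub_cancel] at h2 h3 ⊢
  refine Eq.trans ?_ (Nat.mul_div_cancel_left k (by norm_num : 0 < 2)).symm
  have h5 : Nat.card (FreeCuspSL F) * (4 * k) = k * (4 * k) := by nlinarith
  exact Nat.eq_of_mul_eq_mul_right (by positivity) h5

theorem card_freeCusp_even (h2 : ringChar F = 2) :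
    Nat.card (FreeCuspSL F) = Fintype.card F / 2 := by
  have h1 := card_free_mul (F := F)
  rw [Nat.card_congr (Equiv.subtypeUnivEquiv (fun c : Cusp F =>
    show ¬ Fixed (c.1 : GL (Fin 2) F → ℂ) from fun hf => hf.1 (eta_eq_one_of_two h2)))] at h1
  have h3 := (cusp_count (F := F)).2
  rw [h1] at h3
  have hq := Fintype.one_lt_card (α := F)
  have h4 : Nat.card (FreeCuspSL F) * 2 = Fintype.card F :=
    Nat.eq_of_mul_eq_mul_right (by omega : 0 < Fintype.card F - 1) (by linarith)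
  omega

/-- The irreducible principal series of SL(2). -/
abbrev PrinSL (F : Type u) [Field F] [Fintype F] [DecidableEq F] : Type u :=
  {ψ : IrrCharacter (Matrix.SpecialLinearGroup (Fin 2) F) //
    ∃ γ : MulChar F ℂ, γ ^ 2 ≠ 1 ∧ (ψ : Matrix.SpecialLinearGroup (Fin 2) F → ℂ) = R γ}

/-- `γ` gives `R γ`. -/
noncomputable def prinMap (γ : {γ : MulChar F ℂ // γ ^ 2 ≠ 1}) : PrinSL F :=
  ⟨⟨R γ.1, R_irr γ.2⟩, γ.1, γ.2, rfl⟩

theorem prinMap_val (γ : {γ : MulChar F ℂ // γ ^ 2 ≠ 1}) :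
    ((prinMap γ).1 : Matrix.SpecialLinearGroup (Fin 2) F → ℂ) = R γ.1 := rfl

theorem card_prin_mul : Nat.card {γ : MulChar F ℂ // γ ^ 2 ≠ 1} = Nat.card (PrinSL F) * 2 := by
  classical
  refine card_of_fibers prinMap 2 ?_
  rintro ⟨ψ, δ, hδ, hψ⟩
  have hne : δ⁻¹ ≠ δ := fun e => hδ (by rw [sq]; nth_rw 1 [← e]; exact inv_mul_cancel δ)
  have hinv : δ⁻¹ ^ 2 ≠ 1 := by rw [inv_pow]; exact inv_ne_one.2 hδ
  have hsymm : R δ⁻¹ = R δ := by
    refine sub_eq_zero.1 (Char.classInner_self_eq_zero ?_)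
    simp only [Char.classInner_sub_left, Char.classInner_sub_right, R_inner]
    have hd : δ * δ ≠ 1 := by rw [← sq]; exact hδ
    have hd' : δ⁻¹ * δ⁻¹ ≠ 1 := by rw [← sq]; exact hinv
    simp [hne, hne.symm, hd, hd']
  have key : ∀ γ : MulChar F ℂ, γ ^ 2 ≠ 1 → (R γ = ψ.1 ↔ γ ∈ ({δ, δ⁻¹} : Finset (MulChar F ℂ))) := by
    intro γ hγ
    rw [hψ, Finset.mem_insert, Finset.mem_singleton]
    constructor
    · intro e1
      have e2 := congrArg (fun f => classInner f (R δ)) e1
      simp only [R_inner] at e2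
      by_cases h1 : γ = δ
      · exact Or.inl h1
      by_cases h2 : γ * δ = 1
      · exact Or.inr (eq_inv_of_mul_eq_one_left h2)
      rw [if_neg h1, if_neg h2, if_pos trivial, if_neg (by rw [← sq]; exact hδ)] at e2
      norm_num at e2
    · rintro (rfl | rfl)
      · rfl
      · exact hsymm
  refine Eq.trans (Nat.card_congr
    { toFun := fun x => (⟨x.1.1, (key x.1.1 x.1.2).1 ((prinMap_val x.1).symm.trans (congrArg (fun t : PrinSL F => t.1.1) x.2))⟩ :
        {γ : MulChar F ℂ // γ ∈ ({δ, δ⁻¹} : Finset (MulChar F ℂ))})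
      invFun := fun x => ⟨⟨x.1, by
          rcases Finset.mem_insert.1 x.2 with h | h
          · rw [h]; exact hδ
          · rw [Finset.mem_singleton.1 h]; exact hinv⟩,
        Subtype.ext (Subtype.ext ((key x.1 (by
          rcases Finset.mem_insert.1 x.2 with h | h
          · rw [h]; exact hδ
          · rw [Finset.mem_singleton.1 h]; exact hinv)).2 x.2))⟩
      left_inv := fun x => rfl
      right_inv := fun x => rfl }) ?_
  rw [Nat.card_eq_fintype_card, Fintype.card_coe, Finset.card_pair hne.symm]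

theorem card_prin_odd (hodd : Odd (Fintype.card F)) :
    Nat.card (PrinSL F) = (Fintype.card F - 3) / 2 := by
  classical
  have h := card_prin_mul (F := F)
  have hs : Finset.univ.filter (fun γ : MulChar F ℂ => γ ^ 2 ≠ 1) = Finset.univ \ {1, eta} := by
    ext γ
    simp only [Finset.mem_filter, Finset.mem_univ, true_and, Finset.mem_sdiff, Finset.mem_insert,
      Finset.mem_singleton]
    constructor
    · rintro h (rfl | rfl)
      · exact h (one_pow 2)
      · exact h (by rw [sq, eta_mul_self])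
    · intro h h2
      exact h (sq_one_cases h2)
  rw [Nat.card_eq_fintype_card, Fintype.card_subtype, hs, Finset.card_sdiff,
    Finset.inter_univ, Finset.card_pair (Ne.symm (eta_ne_one hodd)), Finset.card_univ, card_mulChar] at h
  omega

theorem card_prin_even (h2 : ringChar F = 2) :
    Nat.card (PrinSL F) = (Fintype.card F - 2) / 2 := by
  classical
  have h := card_prin_mul (F := F)
  have hs : Finset.univ.filter (fun γ : MulChar F ℂ => γ ^ 2 ≠ 1) = Finset.univ \ {1} := by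
    ext γ
    simp only [Finset.mem_filter, Finset.mem_univ, true_and, Finset.mem_sdiff, Finset.mem_singleton]
    constructor
    · rintro h rfl; exact h (one_pow 2)
    · intro h h'
      rcases sq_one_cases h' with h3 | h3
      · exact h h3
      · exact h (h3.trans (eta_eq_one_of_two h2))
  rw [Nat.card_eq_fintype_card, Fintype.card_subtype, hs, Finset.card_sdiff,
    Finset.inter_univ, Finset.card_singleton, Finset.card_univ, card_mulChar] at h
  omega

end Cfsg.Agent.Lead.SL2
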