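import Mathlib
import Cfsg.Agent.S2299
import Cfsg.Agent.Lib.Lead.McKayTools
import Cfsg.Agent.Lib.Small.SL2.Sylow
import Cfsg.Agent.Lib.Small.SL2.Borel

/-!
Characters of degree prime to `ℓ` of `SL₂(q)` and of its Sylow normalisers, `q` odd.
-/

set_option autoImplicit false
set_option linter.unusedSectionVars false

namespace Cfsg.Agent.Lead.SL2McKay

open Cfsg Cfsg.Agent.Char Cfsg.Agent.Lead.DegCount Cfsg.Agent.Small.SL2C Matrix
open scoped commutatorElement

variable {F : Type*} [Field F] [Fintype F]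

local notation "M2" => Matrix (Fin 2) (Fin 2) F
local notation "SL2" => Matrix.SpecialLinearGroup (Fin 2) F

/-! ### The special linear group -/

theorem deg_mem (hodd : Odd (Fintype.card F)) (χ : IrrCharacter SL2) :
    deg (χ : SL2 → ℂ) = 1 ∨ deg (χ : SL2 → ℂ) = Fintype.card F ∨
      deg (χ : SL2 → ℂ) = Fintype.card F + 1 ∨ deg (χ : SL2 → ℂ) = Fintype.card F - 1 ∨
      deg (χ : SL2 → ℂ) = (Fintype.card F + 1) / 2 ∨
      deg (χ : SL2 → ℂ) = (Fintype.card F - 1) / 2 := by
  have h := (S2299.result hodd).1 _ χ.2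
  have h1 : 1 ≤ Fintype.card F := Fintype.card_pos
  rw [char_one_eq_deg (irr_isCharacter χ.2)] at h
  rw [← Nat.cast_one, ← Nat.cast_add, ← Nat.cast_sub h1] at h
  simpa only [Nat.cast_inj] using h

theorem dc_SL2 (hodd : Odd (Fintype.card F)) (h5 : 5 ≤ Fintype.card F) (P : ℕ → Prop)
    [DecidablePred P] :
    dc SL2 P = (if P 1 then 1 else 0) + (if P (Fintype.card F) then 1 else 0) +
      (if P (Fintype.card F + 1) then (Fintype.card F - 3) / 2 else 0) +
      (if P (Fintype.card F - 1) then (Fintype.card F - 1) / 2 else 0) +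
      (if P ((Fintype.card F + 1) / 2) then 2 else 0) +
      (if P ((Fintype.card F - 1) / 2) then 2 else 0) := by
  classical
  obtain ⟨q, hq⟩ : ∃ q, q = Fintype.card F := ⟨_, rfl⟩
  obtain ⟨hm1, hmq, hmp, hmm, hmhp, hmhm⟩ := (S2299.result hodd).2 h5
  have ho := Nat.odd_iff.mp hodd
  rw [← hq] at hmq hmp hmm hmhp hmhm ho h5 ⊢
  have hfib : ∀ m : ℕ, (Finset.univ.filter fun χ : IrrCharacter SL2 =>
      P (deg (χ : SL2 → ℂ)) ∧ deg (χ : SL2 → ℂ) = m).card =
      if P m then Nat.card {χ : IrrCharacter SL2 // (χ : SL2 → ℂ) 1 = (m : ℂ)} else 0 := by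
    intro m
    split_ifs with hP
    · rw [Nat.card_eq_fintype_card, Fintype.card_subtype]
      refine congrArg Finset.card (Finset.filter_congr fun χ _ => ?_)
      rw [char_one_eq_deg (irr_isCharacter χ.2), Nat.cast_inj]
      exact ⟨fun h => h.2, fun h => ⟨h.symm ▸ hP, h⟩⟩
    · rw [Finset.card_eq_zero, Finset.filter_eq_empty_iff]
      rintro χ _ ⟨h1, h2⟩
      exact hP (h2 ▸ h1)
  rw [dc, Nat.card_eq_fintype_card, Fintype.card_subtype,
    Finset.card_eq_sum_card_fiberwise (f := fun χ : IrrCharacter SL2 => deg (χ : SL2 → ℂ))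
      (t := {1, q, q + 1, q - 1, (q + 1) / 2, (q - 1) / 2}) (fun χ _ => by
        have := deg_mem hodd χ
        rw [← hq] at this
        simpa using this)]
  simp only [Finset.filter_filter]
  rw [Finset.sum_insert (by simp; omega), Finset.sum_insert (by simp; omega),
    Finset.sum_insert (by simp; omega), Finset.sum_insert (by simp; omega),
    Finset.sum_insert (by simp; omega), Finset.sum_singleton]
  simp only [hfib]
  rw [Nat.cast_one, hm1, hmq, Nat.cast_add, Nat.cast_one, hmp, Nat.cast_sub (by omega),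
    Nat.cast_one, hmm, hmhp, hmhm]
  omega

/-! ### The Borel subgroup -/

theorem borel_all (h2 : (2 : F) ≠ 0) {ℓ : ℕ} (hℓ : ¬ ℓ ∣ Fintype.card F - 1) :
    dc (borelSL F) (fun d => ¬ ℓ ∣ d) = Fintype.card F + 3 := by
  classical
  rw [← card_classes_borel h2]
  refine dc_of_forall fun χ hdvd => hℓ (hdvd.trans ?_)
  let π : borelSL F →* F :=
    { toFun := fun b => b.1.1 0 0
      map_one' := by simp
      map_mul' := fun a b => by
        simp [Matrix.mul_apply, Fin.sum_univ_two, mem_borelSL.mp b.2] }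
  obtain ⟨K, hK⟩ : ∃ K, K = π.toHomUnits.ker := ⟨_, rfl⟩
  have : K.Normal := hK ▸ MonoidHom.normal_ker _
  have hidx : K.index ∣ Fintype.card F - 1 := by
    rw [hK, Subgroup.index_ker, ← Nat.card_eq_fintype_card, ← Nat.card_units]
    exact Subgroup.card_subgroup_dvd_card _
  refine (deg_dvd_index_abelian_normal χ.2 K fun a b => ?_).trans hidx
  have key : ∀ u : K, u.1.1.1 0 0 = 1 ∧ u.1.1.1 1 1 = 1 ∧ u.1.1.1 1 0 = 0 := fun u => by
    have h0 : u.1.1.1 0 0 = 1 := by
      have h := u.2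
      simp only [hK, MonoidHom.mem_ker] at h
      exact congrArg Units.val h
    have h10 := mem_borelSL.mp u.1.2
    have hd := u.1.1.2
    rw [Matrix.det_fin_two, h0, h10] at hd
    exact ⟨h0, by simpa using hd, h10⟩
  obtain ⟨a0, a1, a2⟩ := key a
  obtain ⟨b0, b1, b2⟩ := key b
  apply Subtype.ext; apply Subtype.ext; apply Subtype.ext
  show a.1.1.1 * b.1.1.1 = b.1.1.1 * a.1.1.1
  ext i j
  fin_cases i <;> fin_cases j <;>
    simp [Matrix.mul_apply, Fin.sum_univ_two, a0, a1, a2, b0, b1, b2, add_comm]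

/-- The Sylow normaliser in the defining characteristic is a Borel subgroup. -/
theorem normalizer_defining (ℓ : ℕ) [Fact ℓ.Prime] (hℓ : ℓ ∣ Fintype.card F) (S : Sylow ℓ SL2) :
    Nonempty (borelSL F ≃* Subgroup.normalizer ((S : Subgroup SL2) : Set SL2)) := by
  classical
  have hp : ℓ.Prime := Fact.out
  obtain ⟨p, hchar⟩ := CharP.exists F
  have : Fact p.Prime := ⟨CharP.char_is_prime F p⟩
  obtain ⟨n, -, hq⟩ := FiniteField.card F p
  obtain rfl : ℓ = p := by
    rw [hq] at hℓ
    exact (Nat.prime_dvd_prime_iff_eq hp Fact.out).mp (hp.dvd_of_dvd_pow hℓ)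
  let U : Subgroup SL2 :=
    { carrier := {g | g.1 1 0 = 0 ∧ g.1 0 0 = 1 ∧ g.1 1 1 = 1}
      one_mem' := by simp
      mul_mem' := fun {a b} ha hb => by
        simp only [Set.mem_ofPred_eq, val_mul'] at ha hb ⊢
        simp [Matrix.mul_apply, Fin.sum_univ_two, ha.1, ha.2.1, ha.2.2, hb.1, hb.2.1, hb.2.2]
      inv_mem' := fun {a} ha => by
        simp only [Set.mem_ofPred_eq, Matrix.SpecialLinearGroup.coe_inv,
          Matrix.adjugate_fin_two] at ha ⊢
        simp [ha.1, ha.2.1, ha.2.2] }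
  have memU : ∀ g : SL2, g ∈ U ↔ (g.1 1 0 = 0 ∧ g.1 0 0 = 1 ∧ g.1 1 1 = 1) := fun g => Iff.rfl
  have hU : Nat.card U = Fintype.card F := by
    rw [← Nat.card_eq_fintype_card]
    refine Nat.card_congr
      { toFun := fun u => u.1.1 0 1
        invFun := fun x => ⟨⟨!![1, x; 0, 1], by simp [Matrix.det_fin_two]⟩,
          (memU _).mpr (by simp)⟩
        left_inv := fun u => by
          obtain ⟨h10, h00, h11⟩ := (memU _).mp u.2
          apply Subtype.ext; apply Subtype.ext
          ext i j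
          fin_cases i <;> fin_cases j <;> simp [h10, h00, h11]
        right_inv := fun x => by simp }
  have hUp : IsPGroup ℓ U := IsPGroup.of_card (hU.trans hq)
  have hUi : ¬ ℓ ∣ U.index := by
    intro h
    have h1 := U.card_mul_index
    rw [hU, q_mul_sq] at h1
    rw [Nat.eq_of_mul_eq_mul_left Fintype.card_pos h1] at h
    have hqd : ℓ ∣ Fintype.card F := hq ▸ dvd_pow_self ℓ n.ne_zero
    have := Fintype.one_lt_card (α := F)
    rcases hp.dvd_mul.mp h with h | h
    · have h5 := Nat.dvd_sub hqd h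
      rw [show Fintype.card F - (Fintype.card F - 1) = 1 by omega] at h5
      exact hp.one_lt.ne' (Nat.dvd_one.mp h5)
    · have h5 := Nat.dvd_sub h hqd
      rw [show Fintype.card F + 1 - Fintype.card F = 1 by omega] at h5
      exact hp.one_lt.ne' (Nat.dvd_one.mp h5)
  have hN : Subgroup.normalizer (U : Set SL2) = borelSL F := by
    ext g
    rw [mem_borelSL]
    constructor
    · intro hg
      obtain ⟨u, hu'⟩ : ∃ u : SL2, u.1 = !![1, 1; 0, 1] :=
        ⟨⟨!![1, 1; 0, 1], by simp [Matrix.det_fin_two]⟩, rfl⟩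
      have hu : u ∈ U := (memU _).mpr (by simp [hu'])
      have h := ((memU _).mp ((Subgroup.mem_normalizer_iff.mp hg _).mp hu)).1
      rw [val_mul', val_mul', Matrix.SpecialLinearGroup.coe_inv, hu'] at h
      simp [Matrix.adjugate_fin_two, Matrix.mul_apply, Fin.sum_univ_two] at h
      have hd := g.2
      rw [Matrix.det_fin_two] at hd
      exact mul_self_eq_zero.mp (by linear_combination -h)
    · intro hg
      refine Subgroup.mem_normalizer_fintype fun u hu => ?_
      obtain ⟨h10, h00, h11⟩ := (memU _).mp hu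
      have hd := g.2
      rw [Matrix.det_fin_two, hg, mul_zero, sub_zero] at hd
      refine (memU _).mpr ?_
      simp [val_mul', Matrix.SpecialLinearGroup.coe_inv, Matrix.adjugate_fin_two, Matrix.mul_apply,
        Fin.sum_univ_two, hg, h10, h00, h11]
      exact ⟨by linear_combination hd, by linear_combination hd⟩
  obtain ⟨T, hT⟩ : ∃ T : Sylow ℓ SL2, (T : Subgroup SL2) = U := ⟨hUp.toSylow hUi, rfl⟩
  obtain ⟨c, hc⟩ := MulAction.exists_smul_eq SL2 T S
  have hmap : (Subgroup.normalizer ((T : Subgroup SL2) : Set SL2)).map (MulAut.conj c).toMonoidHom =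
      Subgroup.normalizer ((S : Subgroup SL2) : Set SL2) := by
    rw [Subgroup.map_equiv_normalizer_eq, ← hc]
    congr 1
  exact ⟨(MulEquiv.subgroupCongr (by rw [hT, hN])).trans
    (((MulAut.conj c).subgroupMap _).trans (MulEquiv.subgroupCongr hmap))⟩

/-! ### Odd cross characteristic -/

theorem torus_all (h2 : (2 : F) ≠ 0) {ℓ : ℕ} (hp : ℓ.Prime) (hℓ : ℓ ≠ 2) {g : SL2}
    (ht : g.1.trace * g.1.trace ≠ 4) :
    2 * dc (Subgroup.normalizer (tor g : Set SL2)) (fun d => ¬ ℓ ∣ d) = sol g.1.trace 1 + 6 := by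
  rw [← classes_normalizer h2 ht, dc_of_forall]
  intro χ hdvd
  have hidx := (card_normalizer ht).2
  have := Subgroup.normal_of_index_eq_two hidx
  have h := deg_dvd_index_abelian_normal χ.2 ((tor g).subgroupOf _)
    (fun a b => Subtype.ext (Subtype.ext (tor_comm (not_isSc_of_trace ht) _ a.2 _ b.2)))
  rw [hidx] at h
  exact hℓ ((Nat.prime_dvd_prime_iff_eq hp Nat.prime_two).mp (hdvd.trans h))

/-! ### The prime two -/

theorem two_big (h2 : (2 : F) ≠ 0) (S : Sylow 2 SL2)
    (h8 : Fintype.card F % 8 = 1 ∨ Fintype.card F % 8 = 7) :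
    dc (Subgroup.normalizer ((S : Subgroup SL2) : Set SL2)) (fun d => ¬ 2 ∣ d) = 4 := by
  classical
  rw [dc_congr (MulEquiv.subgroupCongr ((sylow_two h2 S).2.1 h8))]
  obtain ⟨g, k, ht, hk, hS, hSk, ⟨x, hxS, hxt, hxo⟩, ⟨s, hsS, hst⟩, -⟩ := sylow_two_setup h2 S
  have hg := not_isSc_of_trace ht
  obtain ⟨A, hA⟩ : ∃ A, A = (tor g).subgroupOf (S : Subgroup SL2) := ⟨_, rfl⟩
  have hab : ∀ a ∈ A, ∀ b ∈ A, a * b = b * a := fun a ha b hb =>
    Subtype.ext (tor_comm hg _ (hA ▸ ha : a ∈ (tor g).subgroupOf _) _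
      (hA ▸ hb : b ∈ (tor g).subgroupOf _))
  have hcardS : Nat.card (S : Subgroup SL2) = 2 ^ (k + 1) := hSk
  have hZ : Subgroup.zpowers (⟨x, hxS⟩ : (S : Subgroup SL2)) ≤ A := by
    rw [Subgroup.zpowers_le, hA]
    exact hxt
  have hidx : A.index = 2 := by
    have hz : (Subgroup.zpowers (⟨x, hxS⟩ : (S : Subgroup SL2))).index = 2 := by
      have e := Subgroup.card_mul_index (Subgroup.zpowers (⟨x, hxS⟩ : (S : Subgroup SL2)))
      rw [Nat.card_zpowers, Subgroup.orderOf_mk, hxo, hcardS, pow_succ] at e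
      exact Nat.eq_of_mul_eq_mul_left (show 0 < 2 ^ k by positivity) e
    have hdvd : A.index ∣ (Subgroup.zpowers (⟨x, hxS⟩ : (S : Subgroup SL2))).index :=
      Subgroup.index_dvd_of_le hZ
    rw [hz] at hdvd
    refine ((Nat.dvd_prime Nat.prime_two).mp hdvd).resolve_left ?_
    intro h
    have := (Subgroup.index_eq_one.mp h) ▸ Subgroup.mem_top (⟨s, hsS⟩ : (S : Subgroup SL2))
    exact hst (hA ▸ this : (⟨s, hsS⟩ : (S : Subgroup SL2)) ∈ (tor g).subgroupOf _)
  have hcardA : Nat.card A = 2 ^ k := by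
    have e := A.card_mul_index
    rw [hidx, hcardS, pow_succ] at e
    exact Nat.eq_of_mul_eq_mul_right two_pos e
  have hinv : ∀ b ∉ A, ∀ a ∈ A, b * a = a⁻¹ * b := fun b hb a ha =>
    Subtype.ext (inverts hg ((normalizer_cases ht (hS b.2)).resolve_left fun h => hb (hA ▸ h))
      (hA ▸ ha : a ∈ (tor g).subgroupOf _))
  have hroots : Nat.card {a : (S : Subgroup SL2) // a ∈ A ∧ a * a = 1} = 2 := by
    obtain ⟨z, hz⟩ : ∃ z, z = (⟨x, hxS⟩ : (S : Subgroup SL2)) ^ 2 ^ (k - 1) := ⟨_, rfl⟩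
    have hzA : z ∈ A := hz ▸ pow_mem (hZ (Subgroup.mem_zpowers _)) _
    have hz2 : z * z = 1 := by
      rw [hz, ← pow_add, ← mul_two, ← pow_succ, show k - 1 + 1 = k by omega, ← hxo,
        ← Subgroup.orderOf_mk x hxS, pow_orderOf_eq_one]
    have hz1 : z ≠ 1 := fun h => by
      have e : orderOf (⟨x, hxS⟩ : (S : Subgroup SL2)) ∣ 2 ^ (k - 1) :=
        orderOf_dvd_of_pow_eq_one (hz ▸ h)
      rw [Subgroup.orderOf_mk, hxo, Nat.pow_dvd_pow_iff_le_right (by norm_num)] at e
      omega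
    have hsq : ∀ a : (S : Subgroup SL2), a * a = 1 → a.1.1 = 1 ∨ a.1.1 = -1 := fun a h =>
      sq_one_cases h2 (congrArg Subtype.val h)
    have hzv : z.1.1 = -1 :=
      (hsq z hz2).resolve_left fun h => hz1 (Subtype.ext (Subtype.ext h))
    rw [Nat.card_eq_two_iff]
    refine ⟨⟨1, one_mem _, one_mul 1⟩, ⟨z, hzA, hz2⟩,
      fun h => hz1 (congrArg Subtype.val h).symm, ?_⟩
    rw [Set.eq_univ_iff_forall]
    rintro ⟨a, ha, ha2⟩
    simp only [Set.mem_insert_iff, Set.mem_singleton_iff, Subtype.mk.injEq]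
    rcases hsq a ha2 with h | h
    · exact Or.inl (Subtype.ext (Subtype.ext h))
    · exact Or.inr (Subtype.ext (Subtype.ext (h.trans hzv.symm)))
  have hK := classes_of_inverting A hidx hab hinv hroots
  rw [hcardA] at hK
  have := Subgroup.normal_of_index_eq_two hidx
  have hdeg : ∀ χ : IrrCharacter (S : Subgroup SL2),
      deg (χ : ↥(S : Subgroup SL2) → ℂ) = 1 ∨ deg (χ : ↥(S : Subgroup SL2) → ℂ) = 2 := fun χ => by
    have h := deg_dvd_index_abelian_normal χ.2 A (fun a b => Subtype.ext (hab _ a.2 _ b.2))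
    rw [hidx] at h
    exact (Nat.dvd_prime Nat.prime_two).mp h
  haveI := Fintype.ofFinite (S : Subgroup SL2)
  obtain ⟨L, hL⟩ : ∃ L, L = dc (S : Subgroup SL2) (fun d => ¬ 2 ∣ d) := ⟨_, rfl⟩
  rw [← hL]
  rw [dc, Nat.card_eq_fintype_card, Fintype.card_subtype] at hL
  have e := sum_deg_sq (S : Subgroup SL2)
  rw [hcardS, Finset.sum_congr rfl (g := fun χ : IrrCharacter (S : Subgroup SL2) =>
      if ¬ 2 ∣ deg (χ : ↥(S : Subgroup SL2) → ℂ) then 1 else 4) (fun χ _ => by
        rcases hdeg χ with h | h <;> simp [h]),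
    Finset.sum_ite, Finset.sum_const, Finset.sum_const, smul_eq_mul, smul_eq_mul] at e
  have e' := Finset.card_filter_add_card_filter_not
    (s := (Finset.univ : Finset (IrrCharacter (S : Subgroup SL2))))
    (fun χ => ¬ 2 ∣ deg (χ : ↥(S : Subgroup SL2) → ℂ))
  rw [Finset.card_univ, ← Nat.card_eq_fintype_card, Char.card_irr] at e'
  rw [pow_succ] at e
  omega

theorem two_small (h2 : (2 : F) ≠ 0) (S : Sylow 2 SL2)
    (h8 : Fintype.card F % 8 = 3 ∨ Fintype.card F % 8 = 5) :
    Nat.card (Subgroup.normalizer ((S : Subgroup SL2) : Set SL2)) = 24 ∧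
      dc (Subgroup.normalizer ((S : Subgroup SL2) : Set SL2)) (fun d => ¬ 2 ∣ d) = 4 ∧
      dc (Subgroup.normalizer ((S : Subgroup SL2) : Set SL2)) (fun d => d = 3) = 1 := by
  classical
  obtain ⟨g, k, ht, hk, hS, hSk, ⟨x, hxS, hxt, hxo⟩, ⟨s, hsS, hst⟩, hiff⟩ := sylow_two_setup h2 S
  obtain rfl : k = 2 := by
    by_contra hk'
    have := hiff.mp (by omega)
    omega
  obtain ⟨hCS, -, hcardN⟩ := sylow_two h2 S
  have hN24 : Nat.card (Subgroup.normalizer ((S : Subgroup SL2) : Set SL2)) = 24 := by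
    rw [hcardN h8, hSk]; rfl
  refine ⟨hN24, ?_⟩
  obtain ⟨N, hN⟩ : ∃ N, N = Subgroup.normalizer ((S : Subgroup SL2) : Set SL2) := ⟨_, rfl⟩
  rw [← hN] at hN24 ⊢
  have hle : (S : Subgroup SL2) ≤ N := hN ▸ Subgroup.le_normalizer
  have : ((S : Subgroup SL2).subgroupOf N).Normal := by
    subst hN
    exact Subgroup.normal_in_normalizer
  have hS8 : Nat.card ((S : Subgroup SL2).subgroupOf N) = 8 := by
    rw [Nat.card_congr (Subgroup.subgroupOfEquivOfLe hle).toEquiv]
    exact hSk
  have hSi : ((S : Subgroup SL2).subgroupOf N).index = 3 := by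
    have e := ((S : Subgroup SL2).subgroupOf N).card_mul_index
    rw [hS8, hN24] at e
    omega
  -- the central involution
  obtain ⟨x', hx'⟩ : ∃ x' : N, x' = ⟨x, hle hxS⟩ := ⟨_, rfl⟩
  obtain ⟨s', hs'⟩ : ∃ s' : N, s' = ⟨s, hle hsS⟩ := ⟨_, rfl⟩
  have hxo' : orderOf x' = 4 := by rw [hx', Subgroup.orderOf_mk, hxo]; rfl
  obtain ⟨z, hz⟩ : ∃ z, z = x' * x' := ⟨_, rfl⟩
  have hz2 : z * z = 1 := by
    rw [hz, show x' * x' * (x' * x') = x' ^ 4 by simp [pow_succ, mul_assoc], ← hxo', pow_orderOf_eq_one]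
  have hz1 : z ≠ 1 := fun h => by
    have := Nat.le_of_dvd two_pos (orderOf_dvd_of_pow_eq_one (n := 2)
      (show x' ^ 2 = 1 by rw [pow_two, ← hz, h]))
    omega
  have hzv : z.1.1 = -1 :=
    (sq_one_cases h2 (congrArg Subtype.val hz2)).resolve_left fun h =>
      hz1 (Subtype.ext (Subtype.ext h))
  have hzc : z ∈ Subgroup.center N := Subgroup.mem_center_iff.mpr fun a => Subtype.ext
    (Subgroup.mem_center_iff.mp (Small.SL2C.mem_center_iff.mpr ⟨-1, by rw [hzv, neg_one_smul]⟩) a.1)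
  have hzcomm : z ∈ commutator N := by
    have e : z = ⁅s', x'⁆ := by
      have hi : s' * x' = x'⁻¹ * s' := by
        rw [hs', hx']
        exact Subtype.ext (inverts (not_isSc_of_trace ht)
          ((normalizer_cases ht (hS hsS)).resolve_left hst) hxt)
      rw [commutatorElement_def, hi, mul_inv_cancel_right, ← _root_.mul_inv_rev, ← hz]
      exact eq_inv_of_mul_eq_one_left hz2
    rw [e, commutator_def]
    exact Subgroup.commutator_mem_commutator (Subgroup.mem_top _) (Subgroup.mem_top _)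
  have hsub : commutator N ≤ (S : Subgroup SL2).subgroupOf N := by
    rw [commutator_def, Subgroup.commutator_le]
    intro a _ b _
    have : IsCyclic (N ⧸ (S : Subgroup SL2).subgroupOf N) :=
      isCyclic_of_prime_card (p := 3) (hp := ⟨Nat.prime_three⟩) hSi
    rw [← QuotientGroup.eq_one_iff, ← QuotientGroup.mk'_apply, map_commutatorElement,
      commutatorElement_eq_one_iff_mul_comm]
    exact (IsCyclic.isMulCommutative (α := N ⧸ (S : Subgroup SL2).subgroupOf N)).is_comm.comm _ _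
  have heq : commutator N = (S : Subgroup SL2).subgroupOf N := by
    refine Subgroup.eq_of_le_of_card_ge hsub ?_
    rw [hS8]
    by_contra hsmall
    have h4 : Nat.card (commutator N) ≤ 4 := by
      have hd := Subgroup.card_dvd_of_le hsub
      rw [hS8] at hd
      obtain ⟨j, hj, hje⟩ := (Nat.dvd_prime_pow Nat.prime_two).mp (show _ ∣ 2 ^ 3 from hd)
      interval_cases j <;> omega
    obtain ⟨y, hy⟩ := exists_prime_orderOf_dvd_card' (G := N) (hp := ⟨Nat.prime_three⟩) 3
      (by rw [hN24]; norm_num)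
    have hy3 : y * y * y = 1 := by
      rw [show y * y * y = y ^ 3 by simp [pow_succ], ← hy, pow_orderOf_eq_one]
    have hfix : ∀ n ∈ commutator N, y * n * y⁻¹ = n := by
      intro n hn
      by_contra hne
      have hconj : ∀ m, m ∈ commutator N → y * m * y⁻¹ ∈ commutator N := fun m hm =>
        (inferInstance : (commutator N).Normal).conj_mem m hm y
      obtain ⟨φ, hφ⟩ : ∃ φ : N → N, φ = fun m => y * m * y⁻¹ := ⟨_, rfl⟩
      have hφi : Function.Injective φ := fun a b h => by
        simp only [hφ] at h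
        exact mul_left_cancel (mul_right_cancel h)
      have h3 : φ (φ (φ n)) = n := by
        simp only [hφ]
        calc y * (y * (y * n * y⁻¹) * y⁻¹) * y⁻¹ = (y * y * y) * n * (y * y * y)⁻¹ := by group
          _ = n := by rw [hy3, inv_one, one_mul, mul_one]
      have f1 : φ 1 = 1 := by simp [hφ]
      have fz : φ z = z := by
        simp only [hφ]
        rw [Subgroup.mem_center_iff.mp hzc y, mul_inv_cancel_right]
      have a1 : φ n ≠ n := by simpa [hφ] using hne
      have a2 : φ (φ n) ≠ φ n := fun h => a1 (hφi h)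
      have a3 : φ (φ n) ≠ n := fun h => a1 ((congrArg φ h).symm.trans h3)
      have n1 : n ≠ 1 := fun h => a1 (by rw [h, f1])
      have nz : n ≠ z := fun h => a1 (by rw [h, fz])
      have b1 : φ n ≠ 1 := fun h => n1 (hφi (h.trans f1.symm))
      have bz : φ n ≠ z := fun h => nz (hφi (h.trans fz.symm))
      have c1 : φ (φ n) ≠ 1 := fun h => b1 (hφi (h.trans f1.symm))
      have cz : φ (φ n) ≠ z := fun h => bz (hφi (h.trans fz.symm))
      have hsub5 : ({1, z, n, φ n, φ (φ n)} : Finset N) ⊆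
          Finset.univ.filter (· ∈ commutator N) := by
        intro m hm
        simp only [Finset.mem_insert, Finset.mem_singleton] at hm
        simp only [Finset.mem_filter, Finset.mem_univ, true_and]
        rcases hm with rfl | rfl | rfl | rfl | rfl
        · exact one_mem _
        · exact hzcomm
        · exact hn
        · simp only [hφ]; exact hconj _ hn
        · simp only [hφ]; exact hconj _ (hconj _ hn)
      have h5 := Finset.card_le_card hsub5
      rw [← Fintype.card_subtype, ← Nat.card_eq_fintype_card,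
        Finset.card_insert_of_notMem (by simp [Ne.symm hz1, Ne.symm n1, Ne.symm b1, Ne.symm c1]),
        Finset.card_insert_of_notMem (by simp [Ne.symm nz, Ne.symm bz, Ne.symm cz]),
        Finset.card_insert_of_notMem (by simp [Ne.symm a1, Ne.symm a3]),
        Finset.card_pair (Ne.symm a2)] at h5
      omega
    have hycent : (y : SL2) ∈ Subgroup.centralizer ((S : Subgroup SL2) : Set SL2) := by
      refine Subgroup.mem_centralizer_iff.mpr fun a ha => ?_
      obtain ⟨b, hb⟩ : ∃ b : N, b = ⟨a, hle ha⟩ := ⟨_, rfl⟩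
      obtain ⟨c, hc⟩ : ∃ c, c = ⁅y, b⁆ := ⟨_, rfl⟩
      have hcN : c ∈ commutator N := by
        rw [hc, commutator_def]
        exact Subgroup.commutator_mem_commutator (Subgroup.mem_top _) (Subgroup.mem_top _)
      have hcfix := hfix c hcN
      have e1 : y * b * y⁻¹ = c * b := by rw [hc, commutatorElement_def]; group
      have e2 : y * (c * b) * y⁻¹ = c * (c * b) := by
        rw [show y * (c * b) * y⁻¹ = (y * c * y⁻¹) * (y * b * y⁻¹) by group, hcfix, e1]
      have e3 : y * (c * (c * b)) * y⁻¹ = c * (c * (c * b)) := by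
        rw [show y * (c * (c * b)) * y⁻¹ = (y * c * y⁻¹) * (y * (c * b) * y⁻¹) by group, hcfix, e2]
      have e4 : c * (c * (c * b)) = b := by
        rw [← e3, ← e2, ← e1,
          show y * (y * (y * b * y⁻¹) * y⁻¹) * y⁻¹ = (y * y * y) * b * (y * y * y)⁻¹ by group,
          hy3, inv_one, one_mul, mul_one]
      have hc3 : c ^ 3 = 1 := by
        have : c * c * c * b = 1 * b := by rw [one_mul, mul_assoc, mul_assoc, e4]
        rw [← mul_right_cancel this]
        simp [pow_succ]
      have hc8 : c ^ 8 = 1 := by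
        have h := pow_card_eq_one' (x := (⟨c, hsub hcN⟩ : (S : Subgroup SL2).subgroupOf N))
        rw [hS8] at h
        exact congrArg Subtype.val h
      have hc1 : c = 1 := by
        calc c = (c ^ 3) ^ 3 * (c ^ 8)⁻¹ := by group
          _ = 1 := by rw [hc3, hc8]; group
      rw [hc, commutatorElement_eq_one_iff_mul_comm, hb] at hc1
      exact (congrArg Subtype.val hc1).symm
    rw [hCS, Small.SL2C.mem_center_iff] at hycent
    have hy2 : (y : SL2) ^ 2 = 1 := by
      apply Subtype.ext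
      rcases isSc_SL hycent with e | e <;> simp [pow_two, val_mul', e]
    have := Nat.le_of_dvd two_pos (orderOf_dvd_of_pow_eq_one hy2)
    rw [Subgroup.orderOf_coe, hy] at this
    omega
  exact degrees_twentyfour hN24 hzc hz2 hz1 (heq ▸ hSi) hzcomm

theorem three_SL2 (hodd : Odd (Fintype.card F)) (hq : Fintype.card F = 3) :
    dc SL2 (fun d => ¬ 3 ∣ d) = 6 := by
  classical
  have h2 : (2 : F) ≠ 0 := not_two_dvd_iff.mp hodd.not_two_dvd_nat
  obtain ⟨S⟩ : Nonempty (Sylow 2 SL2) := inferInstance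
  obtain ⟨h24, -, h3⟩ := two_small h2 S (Or.inl (by rw [hq]))
  have htop : Subgroup.normalizer ((S : Subgroup SL2) : Set SL2) = ⊤ :=
    Subgroup.eq_top_of_card_eq _ (by rw [h24, q_mul_sq, hq])
  rw [dc_congr ((MulEquiv.subgroupCongr htop).trans Subgroup.topEquiv)] at h3
  haveI := Fintype.ofFinite (IrrCharacter SL2)
  have hK : Nat.card (IrrCharacter SL2) = 7 := by
    rw [Char.card_irr, card_classes_odd h2, hq]
  rw [dc, Nat.card_eq_fintype_card, Fintype.card_subtype] at h3 ⊢
  have hcongr : ∀ χ : IrrCharacter SL2, ¬ 3 ∣ deg (χ : SL2 → ℂ) ↔ ¬ deg (χ : SL2 → ℂ) = 3 := by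
    intro χ
    have := deg_mem hodd χ
    have hpos := deg_pos χ.2
    rw [hq] at this
    omega
  rw [Finset.filter_congr (fun χ _ => hcongr χ)]
  have e := Finset.card_filter_add_card_filter_not
    (s := (Finset.univ : Finset (IrrCharacter SL2))) (fun χ => deg (χ : SL2 → ℂ) = 3)
  rw [h3, Finset.card_univ, ← Nat.card_eq_fintype_card, hK] at e
  omega

/-! ### The McKay equality -/

theorem main (hodd : Odd (Fintype.card F)) (ℓ : ℕ) [Fact ℓ.Prime] (S : Sylow ℓ SL2) :
    dc SL2 (fun d => ¬ ℓ ∣ d) =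
      dc (Subgroup.normalizer ((S : Subgroup SL2) : Set SL2)) (fun d => ¬ ℓ ∣ d) := by
  classical
  have hp : ℓ.Prime := Fact.out
  have h2 : (2 : F) ≠ 0 := not_two_dvd_iff.mp hodd.not_two_dvd_nat
  have ho := Nat.odd_iff.mp hodd
  have hq1 := Fintype.one_lt_card (α := F)
  have htop : Subgroup.normalizer ((S : Subgroup SL2) : Set SL2) = ⊤ →
      dc SL2 (fun d => ¬ ℓ ∣ d) =
        dc (Subgroup.normalizer ((S : Subgroup SL2) : Set SL2)) (fun d => ¬ ℓ ∣ d) := fun h =>
    (dc_congr ((MulEquiv.subgroupCongr h).trans Subgroup.topEquiv) _).symm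
  by_cases hG : ℓ ∣ Nat.card SL2
  swap
  · refine htop ?_
    have hbot : (S : Subgroup SL2) = ⊥ := by
      rw [← Subgroup.card_eq_one]
      obtain ⟨j, hj⟩ := IsPGroup.iff_card.mp S.2
      rcases j with _ | j
      · simpa using hj
      · exact absurd ((hj ▸ dvd_pow_self ℓ (Nat.succ_ne_zero j)).trans
          (Subgroup.card_subgroup_dvd_card _)) hG
    rw [hbot]
    exact Subgroup.normalizer_eq_top_iff.mpr inferInstance
  by_cases hℓ : ℓ = 2
  · subst hℓ
    have hcases : (Fintype.card F % 8 = 1 ∨ Fintype.card F % 8 = 7) ∨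
        (Fintype.card F % 8 = 3 ∨ Fintype.card F % 8 = 5) := by omega
    have hG4 : 5 ≤ Fintype.card F → dc SL2 (fun d => ¬ 2 ∣ d) = 4 := fun h5 => by
      rw [dc_SL2 hodd h5]
      split_ifs <;> omega
    rcases hcases with h8 | h8
    · rw [two_big h2 S h8, hG4 (by omega)]
    · obtain ⟨h24, h4, -⟩ := two_small h2 S h8
      by_cases h3 : Fintype.card F = 3
      · exact htop (Subgroup.eq_top_of_card_eq _ (by rw [h24, q_mul_sq, h3]))
      · rw [h4, hG4 (by omega)]
  have hℓ3 : 3 ≤ ℓ := by have := hp.two_le; omega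
  have sub1 : ℓ ∣ Fintype.card F → ℓ ∣ Fintype.card F - 1 → False := fun h h' => by
    have h5 := Nat.dvd_sub h h'
    rw [show Fintype.card F - (Fintype.card F - 1) = 1 by omega] at h5
    exact hp.one_lt.ne' (Nat.dvd_one.mp h5)
  have sub2 : ℓ ∣ Fintype.card F → ℓ ∣ Fintype.card F + 1 → False := fun h h' => by
    have h5 := Nat.dvd_sub h' h
    rw [show Fintype.card F + 1 - Fintype.card F = 1 by omega] at h5
    exact hp.one_lt.ne' (Nat.dvd_one.mp h5)
  have sub3 : ℓ ∣ Fintype.card F - 1 → ℓ ∣ Fintype.card F + 1 → False := fun h h' => by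
    have h5 := Nat.dvd_sub h' h
    rw [show Fintype.card F + 1 - (Fintype.card F - 1) = 2 by omega] at h5
    have := Nat.le_of_dvd two_pos h5
    omega
  obtain ⟨m, hm⟩ : ∃ m, Fintype.card F = 2 * m + 1 := ⟨Fintype.card F / 2, by omega⟩
  have half : ∀ a, ℓ ∣ 2 * a ↔ ℓ ∣ a := fun a =>
    ⟨fun h => (hp.dvd_mul.mp h).resolve_left fun h => by
      have := Nat.le_of_dvd two_pos h; omega, fun h => dvd_mul_of_dvd_right h 2⟩
  have hm1 : ℓ ∣ Fintype.card F - 1 ↔ ℓ ∣ (Fintype.card F - 1) / 2 := by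
    rw [show (Fintype.card F - 1) / 2 = m by omega, show Fintype.card F - 1 = 2 * m by omega, half]
  have hp1 : ℓ ∣ Fintype.card F + 1 ↔ ℓ ∣ (Fintype.card F + 1) / 2 := by
    rw [show (Fintype.card F + 1) / 2 = m + 1 by omega,
      show Fintype.card F + 1 = 2 * (m + 1) by omega, half]
  have h1 : ¬ ℓ ∣ 1 := hp.not_dvd_one
  rw [q_mul_sq] at hG
  rcases hp.dvd_mul.mp hG with hd | hd
  · obtain ⟨e⟩ := normalizer_defining ℓ hd S
    rw [← dc_congr e, borel_all h2 (sub1 hd)]
    by_cases h3 : Fintype.card F = 3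
    · obtain rfl : ℓ = 3 := (Nat.prime_dvd_prime_iff_eq hp Nat.prime_three).mp (h3 ▸ hd)
      rw [three_SL2 hodd h3, h3]
    · rw [dc_SL2 hodd (by omega), if_pos h1, if_neg (not_not.mpr hd),
        if_pos fun h => sub2 hd h, if_pos fun h => sub1 hd h,
        if_pos fun h => sub2 hd (hp1.mpr h), if_pos fun h => sub1 hd (hm1.mpr h)]
      omega
  rcases hp.dvd_mul.mp hd with hd | hd
  · obtain ⟨g, ht, hsol, -, hN⟩ := sylow_torus ℓ hℓ (Or.inl hd) S
    have hK := torus_all h2 hp hℓ ht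
    rw [dc_congr (MulEquiv.subgroupCongr hN)]
    have h5 : 5 ≤ Fintype.card F := by
      have := Nat.le_of_dvd (by omega) hd; omega
    have hs : sol g.1.trace 1 = Fintype.card F - 1 :=
      (sol_eq ht).elim (fun h => h.2) fun h => absurd (h.2 ▸ hsol) (sub3 hd)
    rw [dc_SL2 hodd h5, if_pos h1, if_pos fun h => sub1 h hd, if_pos fun h => sub3 hd h,
      if_neg (not_not.mpr hd), if_pos fun h => sub3 hd (hp1.mpr h),
      if_neg (not_not.mpr (hm1.mp hd))]
    omega
  · obtain ⟨g, ht, hsol, -, hN⟩ := sylow_torus ℓ hℓ (Or.inr hd) S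
    have hK := torus_all h2 hp hℓ ht
    rw [dc_congr (MulEquiv.subgroupCongr hN)]
    have h5 : 5 ≤ Fintype.card F := by
      have := Nat.le_of_dvd (by omega) (hp1.mp hd)
      omega
    have hs : sol g.1.trace 1 = Fintype.card F + 1 :=
      (sol_eq ht).elim (fun h => absurd (h.2 ▸ hsol) fun h' => sub3 h' hd) fun h => h.2
    rw [dc_SL2 hodd h5, if_pos h1, if_pos fun h => sub2 h hd, if_neg (not_not.mpr hd),
      if_pos fun h => sub3 h hd, if_neg (not_not.mpr (hp1.mp hd)),
      if_pos fun h => sub3 (hm1.mpr h) hd]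
    omega

end Cfsg.Agent.Lead.SL2McKay
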