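import Mathlib

/-!
Abstract core for short presentations of two-dimensional special linear groups:
a group on three generators satisfying the relations is no bigger than the target.
-/

set_option autoImplicit false

namespace Cfsg.Agent.Lead.SL2Pres

open Subgroup

variable {G : Type*} [Group G]

/-- The `k`-th conjugate of `u` by `x`. -/
def cj (x u : G) (k : ℕ) : G := x ^ k * u * (x ^ k)⁻¹

theorem cj_zero (x u : G) : cj x u 0 = u := by simp [cj]

theorem cj_succ (x u : G) (k : ℕ) : x * cj x u k * x⁻¹ = cj x u (k + 1) := by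
  simp only [cj, pow_succ']; group

/-- The subgroup generated by the first `e` conjugates. -/
def spanCj (x u : G) (e : ℕ) : Subgroup G := closure ((fun k => cj x u k) '' Set.Iio e)

theorem cj_mem_span (x u : G) {k e : ℕ} (hk : k < e) : cj x u k ∈ spanCj x u e :=
  subset_closure ⟨k, hk, rfl⟩

theorem map_cj {H : Type*} [Group H] (f : G →* H) (x u : G) (k : ℕ) :
    f (cj x u k) = cj (f x) (f u) k := by simp [cj]

theorem map_spanCj {H : Type*} [Group H] (f : G →* H) (x u : G) (e : ℕ) :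
    (spanCj x u e).map f = spanCj (f x) (f u) e := by
  rw [spanCj, MonoidHom.map_closure, spanCj, Set.image_image]
  simp only [map_cj]

/-- Neumann's lemma. -/
theorem neumann {x y u : G} (hxy : Commute x y) (h1 : Commute u (cj x u 1))
    (hy : y * u * y⁻¹ = u * cj x u 1) : ∀ n, Commute u (cj x u n) := by
  intro n
  induction n using Nat.strong_induction_on with
  | _ n ih =>
    rcases n with _ | _ | m
    · rw [cj_zero]
    · exact h1
    · -- n = m + 2
      have hc : ∀ k, y * cj x u k * y⁻¹ = cj x u k * cj x u (k + 1) := by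
        intro k
        have hk : Commute (x ^ k) y := hxy.pow_left k
        calc y * cj x u k * y⁻¹ = (y * x ^ k) * u * (y * x ^ k)⁻¹ := by simp only [cj]; group
          _ = (x ^ k * y) * u * (x ^ k * y)⁻¹ := by rw [hk.eq]
          _ = x ^ k * (y * u * y⁻¹) * (x ^ k)⁻¹ := by group
          _ = x ^ k * (u * cj x u 1) * (x ^ k)⁻¹ := by rw [hy]
          _ = cj x u k * cj x u (k + 1) := by
              simp only [cj, pow_add, pow_one]; group
      have hsh : ∀ a b, Commute u (cj x u b) → Commute (cj x u a) (cj x u (a + b)) := by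
        intro a b h
        have h' := h.map (MulAut.conj (x ^ a)).toMonoidHom
        simp only [MulEquiv.coe_toMonoidHom, MulAut.conj_apply] at h'
        have e1 : x ^ a * cj x u b * (x ^ a)⁻¹ = cj x u (a + b) := by
          simp only [cj, pow_add]; group
        rw [e1] at h'
        exact h'
      have h0 : Commute u (cj x u (m + 1)) := ih _ (by omega)
      have hP := h0.map (MulAut.conj y).toMonoidHom
      simp only [MulEquiv.coe_toMonoidHom, MulAut.conj_apply] at hP
      rw [hy, hc (m + 1)] at hP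
      -- u₁ commutes with both factors
      have a1 : Commute (cj x u 1) (cj x u (m + 1)) := by
        have := hsh 1 m (ih _ (by omega)); rwa [Nat.add_comm 1 m] at this
      have a2 : Commute (cj x u 1) (cj x u (m + 1 + 1)) := by
        have := hsh 1 (m + 1) (ih _ (by omega)); rwa [Nat.add_comm 1 (m + 1)] at this
      have a3 : Commute (cj x u 1) (cj x u (m + 1) * cj x u (m + 1 + 1)) := a1.mul_right a2
      have a4 : Commute u (cj x u (m + 1) * cj x u (m + 1 + 1)) := by
        have := hP.mul_left a3.inv_left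
        simpa [mul_assoc] using this
      have a5 := h0.inv_right.mul_right a4
      simpa [mul_assoc] using a5

/-- If `u` commutes with all its conjugates, any two conjugates commute. -/
theorem commute_cj {x u : G} (h : ∀ n, Commute u (cj x u n)) (i j : ℕ) :
    Commute (cj x u i) (cj x u j) := by
  have key : ∀ a b, Commute (cj x u a) (cj x u (a + b)) := by
    intro a b
    have h' := (h b).map (MulAut.conj (x ^ a)).toMonoidHom
    simp only [MulEquiv.coe_toMonoidHom, MulAut.conj_apply] at h'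
    have e1 : x ^ a * cj x u b * (x ^ a)⁻¹ = cj x u (a + b) := by
      simp only [cj, pow_add]; group
    rw [e1] at h'
    exact h'
  rcases le_total i j with hij | hij
  · obtain ⟨b, rfl⟩ := Nat.exists_eq_add_of_le hij; exact key i b
  · obtain ⟨b, rfl⟩ := Nat.exists_eq_add_of_le hij; exact (key j b).symm

theorem commute_closure {S : Set G} (h : ∀ a ∈ S, ∀ b ∈ S, Commute a b) {v w : G}
    (hv : v ∈ closure S) (hw : w ∈ closure S) : Commute v w := by
  refine closure_induction (p := fun v _ => Commute v w) ?_ (Commute.one_left w)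
    (fun _ _ _ _ h1 h2 => h1.mul_left h2) (fun _ _ h1 => h1.inv_left) hv
  intro a ha
  exact closure_induction (p := fun w _ => Commute a w) (fun b hb => h a ha b hb)
    (Commute.one_right a) (fun _ _ _ _ h1 h2 => h1.mul_right h2) (fun _ _ h1 => h1.inv_right) hw

/-- A word lying in the span, fixed by `x` and `y`, is trivial once `y v y⁻¹ = v * x v x⁻¹`. -/
theorem eq_one_of_fixed {x y u c : G} (hxy : Commute x y) (h : ∀ n, Commute u (cj x u n))
    (hy : y * u * y⁻¹ = u * cj x u 1) (hc : c ∈ closure (Set.range (cj x u)))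
    (hcx : Commute x c) (hcy : Commute y c) : c = 1 := by
  have comm : ∀ a ∈ Set.range (cj x u), ∀ b ∈ Set.range (cj x u), Commute a b := by
    rintro a ⟨i, rfl⟩ b ⟨j, rfl⟩; exact commute_cj h i j
  have hxmem : ∀ v ∈ closure (Set.range (cj x u)),
      x * v * x⁻¹ ∈ closure (Set.range (cj x u)) := by
    intro v hv
    refine closure_induction (p := fun v _ => x * v * x⁻¹ ∈ closure (Set.range (cj x u)))
      ?_ ?_ ?_ ?_ hv
    · rintro a ⟨i, rfl⟩; rw [cj_succ]; exact subset_closure ⟨i + 1, rfl⟩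
    · simpa using one_mem _
    · intro a b _ _ ha hb; simpa [mul_assoc] using mul_mem ha hb
    · intro a _ ha; simpa [mul_assoc] using inv_mem ha
  have key : y * c * y⁻¹ = c * (x * c * x⁻¹) := by
    refine closure_induction (p := fun v _ => y * v * y⁻¹ = v * (x * v * x⁻¹)) ?_ ?_ ?_ ?_ hc
    · rintro a ⟨k, rfl⟩
      have hk : Commute (x ^ k) y := hxy.pow_left k
      rw [cj_succ]
      calc y * cj x u k * y⁻¹ = (y * x ^ k) * u * (y * x ^ k)⁻¹ := by simp only [cj]; group
        _ = (x ^ k * y) * u * (x ^ k * y)⁻¹ := by rw [hk.eq]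
        _ = x ^ k * (y * u * y⁻¹) * (x ^ k)⁻¹ := by group
        _ = x ^ k * (u * cj x u 1) * (x ^ k)⁻¹ := by rw [hy]
        _ = cj x u k * cj x u (k + 1) := by simp only [cj, pow_add, pow_one]; group
    · simp
    · intro a b ha hb pa pb
      have hab : Commute (x * a * x⁻¹) b := commute_closure comm (hxmem a ha) hb
      calc y * (a * b) * y⁻¹ = (y * a * y⁻¹) * (y * b * y⁻¹) := by group
        _ = a * ((x * a * x⁻¹) * b) * (x * b * x⁻¹) := by rw [pa, pb]; group
        _ = a * b * (x * (a * b) * x⁻¹) := by rw [hab.eq]; group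
    · intro a ha pa
      have hab : Commute a⁻¹ (x * a * x⁻¹)⁻¹ :=
        (commute_closure comm ha (hxmem a ha)).inv_inv
      calc y * a⁻¹ * y⁻¹ = (y * a * y⁻¹)⁻¹ := by group
        _ = (x * a * x⁻¹)⁻¹ * a⁻¹ := by rw [pa, mul_inv_rev]
        _ = a⁻¹ * (x * a * x⁻¹)⁻¹ := hab.eq.symm
        _ = a⁻¹ * (x * a⁻¹ * x⁻¹) := by group
  rw [hcy.eq, mul_inv_cancel_right, hcx.eq, mul_inv_cancel_right] at key
  exact (mul_left_cancel (key.symm.trans (mul_one c).symm))

/-- An abelian subgroup generated by `e` elements of order dividing `p` has at most `p ^ e`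
elements. -/
theorem finite_span {x u : G} {p : ℕ} (hp : 0 < p) (hpow : u ^ p = 1) :
    ∀ e, (∀ i < e, ∀ j < e, Commute (cj x u i) (cj x u j)) →
      Finite (spanCj x u e) ∧ Nat.card (spanCj x u e) ≤ p ^ e := by
  intro e
  induction e with
  | zero =>
    intro _
    have h0 : spanCj x u 0 = ⊥ := by
      rw [spanCj, Subgroup.closure_eq_bot_iff]; intro a ha; obtain ⟨k, hk, -⟩ := ha
      exact absurd hk (by simp)
    rw [h0]; exact ⟨inferInstance, by simp⟩
  | succ e ih =>
    intro hc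
    obtain ⟨hf, hcard⟩ := ih fun i hi j hj => hc i (by omega) j (by omega)
    set w := cj x u e with hw
    have hwp : w ^ p = 1 := by rw [hw, cj, conj_pow, hpow]; simp
    have hwc : ∀ a ∈ spanCj x u e, Commute a w := by
      intro a ha
      refine closure_induction (p := fun a _ => Commute a w) ?_ (Commute.one_left w)
        (fun _ _ _ _ h1 h2 => h1.mul_left h2) (fun _ _ h1 => h1.inv_left) ha
      rintro b ⟨k, hk, rfl⟩
      exact hc k (Nat.lt_succ_of_lt hk) e (Nat.lt_succ_self e)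
    let mk : spanCj x u e × Fin p → G := fun q => (q.1 : G) * w ^ (q.2 : ℕ)
    have hmk : ∀ (a : G) (_ : a ∈ spanCj x u e) (n : ℕ), ∃ q, mk q = a * w ^ n := by
      intro a ha n
      refine ⟨(⟨a, ha⟩, ⟨n % p, Nat.mod_lt _ hp⟩), ?_⟩
      simp only [mk]
      conv_rhs => rw [← Nat.mod_add_div n p, pow_add, pow_mul, hwp, one_pow, mul_one]
    let T : Subgroup G :=
      { carrier := Set.range mk
        one_mem' := ⟨(1, ⟨0, hp⟩), by simp [mk]⟩
        mul_mem' := by
          rintro _ _ ⟨⟨a, i⟩, rfl⟩ ⟨⟨b, j⟩, rfl⟩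
          obtain ⟨q, hq⟩ := hmk ((a : G) * b) (mul_mem a.2 b.2) ((i : ℕ) + j)
          refine ⟨q, hq.trans ?_⟩
          have := ((hwc b b.2).pow_right (i : ℕ)).eq
          simp only [mk, pow_add]
          calc (a : G) * b * (w ^ (i : ℕ) * w ^ (j : ℕ))
              = (a : G) * ((b : G) * w ^ (i : ℕ)) * w ^ (j : ℕ) := by group
            _ = _ := by rw [this]; group
        inv_mem' := by
          rintro _ ⟨⟨a, i⟩, rfl⟩
          obtain ⟨q, hq⟩ := hmk (a : G)⁻¹ (inv_mem a.2) (p - (i : ℕ))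
          refine ⟨q, hq.trans ?_⟩
          simp only [mk]
          have h1 : w ^ (p - (i : ℕ)) = (w ^ (i : ℕ))⁻¹ := by
            rw [eq_inv_iff_mul_eq_one, ← pow_add, Nat.sub_add_cancel i.2.le, hwp]
          rw [h1, mul_inv_rev]
          exact (((hwc a a.2).pow_right (i : ℕ)).inv_inv).eq }
    have hle : spanCj x u (e + 1) ≤ T := by
      rw [spanCj, closure_le]
      rintro b ⟨k, hk, rfl⟩
      rcases Nat.lt_succ_iff_lt_or_eq.mp hk with hk | rfl
      · exact ⟨(⟨_, cj_mem_span x u hk⟩, ⟨0, hp⟩), by simp [mk]⟩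
      · obtain ⟨q, hq⟩ := hmk 1 (one_mem _) 1
        exact ⟨q, by rw [hq, one_mul, pow_one]⟩
    haveI : Finite T := (Set.finite_range mk).to_subtype
    refine ⟨Finite.of_injective _ (Subgroup.inclusion_injective hle), ?_⟩
    calc Nat.card (spanCj x u (e + 1))
        ≤ Nat.card T := Nat.card_le_card_of_injective _ (Subgroup.inclusion_injective hle)
      _ ≤ Nat.card (spanCj x u e × Fin p) :=
          Nat.card_le_card_of_surjective (Set.rangeFactorization mk)
            Set.rangeFactorization_surjective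
      _ = Nat.card (spanCj x u e) * p := by rw [Nat.card_prod, Nat.card_fin]
      _ ≤ p ^ (e + 1) := by rw [pow_succ]; exact Nat.mul_le_mul_right p hcard

/-- Data over a target group. -/
structure Frame (F Q : Type*) [Field F] [Group Q] where
  ν : F → Q
  ν_add : ∀ a b, ν (a + b) = ν a * ν b
  ν_inj : Function.Injective ν
  hq : Q
  μ : F
  hq_conj : ∀ a, hq * ν a * hq⁻¹ = ν (μ * a)

variable {F Q : Type*} [Field F] [Group Q] (D : Frame F Q)

theorem Frame.hq_pow_conj (k : ℕ) (a : F) :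
    D.hq ^ k * D.ν a * (D.hq ^ k)⁻¹ = D.ν (D.μ ^ k * a) := by
  induction k with
  | zero => simp
  | succ k ih =>
    calc D.hq ^ (k + 1) * D.ν a * (D.hq ^ (k + 1))⁻¹
        = D.hq * (D.hq ^ k * D.ν a * (D.hq ^ k)⁻¹) * D.hq⁻¹ := by rw [pow_succ']; group
      _ = D.ν (D.μ ^ (k + 1) * a) := by rw [ih, D.hq_conj, pow_succ']; ring_nf

theorem Frame.ν_zero : D.ν 0 = 1 := by
  have h := D.ν_add 0 0
  rw [add_zero] at h
  exact (mul_left_cancel (h.symm.trans (mul_one _).symm))

theorem Frame.ν_neg (a : F) : D.ν (-a) = (D.ν a)⁻¹ := by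
  rw [eq_inv_iff_mul_eq_one, ← D.ν_add, neg_add_cancel, D.ν_zero]

/-- Every element of the translation group is the image of an element of the span. -/
theorem Frame.exists_word {x u : G} (f : G →* Q) (i : ℕ) (hx : f x = D.hq ^ i)
    (hu : f u = D.ν 1) {e : ℕ}
    (hbasis : AddSubgroup.closure ((fun k => (D.μ ^ i) ^ k) '' Set.Iio e) = ⊤) (c : F) :
    ∃ v ∈ spanCj x u e, f v = D.ν c := by
  have hc : c ∈ AddSubgroup.closure ((fun k => (D.μ ^ i) ^ k) '' Set.Iio e) :=
    hbasis ▸ AddSubgroup.mem_top c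
  refine AddSubgroup.closure_induction (p := fun c _ => ∃ v ∈ spanCj x u e, f v = D.ν c)
    ?_ ?_ ?_ ?_ hc
  · rintro a ⟨k, hk, rfl⟩
    refine ⟨_, cj_mem_span x u hk, ?_⟩
    rw [map_cj, cj, hx, hu, ← pow_mul, D.hq_pow_conj, mul_one]
    dsimp only
    rw [← pow_mul]
  · exact ⟨1, one_mem _, by rw [map_one, D.ν_zero]⟩
  · rintro a b - - ⟨v, hv, hfv⟩ ⟨w, hw, hfw⟩
    exact ⟨v * w, mul_mem hv hw, by rw [map_mul, hfv, hfw, D.ν_add]⟩
  · rintro a - ⟨v, hv, hfv⟩
    exact ⟨v⁻¹, inv_mem hv, by rw [map_inv, hfv, D.ν_neg]⟩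

/-- The main bound. -/
theorem bijective_of_relations {u h t x : G} (f : G →* Q) (p e N i : ℕ) (η : F)
    (hgen : closure ({u, h, t} : Set G) = ⊤)
    (hfh : f h = D.hq) (hfu : f u = D.ν 1) (hx : x = h ^ i)
    (hp : 0 < p) (hF : Nat.card F = p ^ e)
    (hpow : u ^ p = 1)
    (hcomm : ∀ a < e, ∀ b < e, Commute (cj x u a) (cj x u b))
    (hspan : cj x u e ∈ spanCj x u e)
    (hh : h * u * h⁻¹ ∈ spanCj x u e)
    (hbasis : AddSubgroup.closure ((fun k => (D.μ ^ i) ^ k) '' Set.Iio e) = ⊤)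
    (hN : h ^ N = 1) (hNpos : 0 < N)
    (htt : ∃ j : ℕ, t * t = h ^ j) (hth : t * h * t⁻¹ = h⁻¹)
    (horbit : ∀ c : F, c ≠ 0 → ∃ k : ℕ, c = D.μ ^ k ∨ c = D.μ ^ k * η)
    (hst : ∀ c : F, c = 1 ∨ c = η → ∃ v ∈ spanCj x u e, f v = D.ν c ∧
      ∃ a ∈ spanCj x u e, ∃ b ∈ spanCj x u e, ∃ k : ℕ, t * v * t = a * h ^ k * t * b)
    (hsurj : Function.Surjective f)
    (hQ : Nat.card Q = p ^ e * N * (p ^ e + 1)) : Function.Bijective f := by
  haveI : Finite F := Nat.finite_of_card_ne_zero (by rw [hF]; positivity)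
  set W := spanCj x u e with hW
  obtain ⟨hWfin, hWcard⟩ := finite_span hp hpow e hcomm
  have hfx : f x = D.hq ^ i := by rw [hx, map_pow, hfh]
  -- invariance under `x`
  have hxW : ∀ v ∈ W, x * v * x⁻¹ ∈ W := by
    intro v hv
    refine closure_induction (p := fun v _ => x * v * x⁻¹ ∈ W) ?_ ?_ ?_ ?_ hv
    · rintro a ⟨k, hk, rfl⟩
      rw [cj_succ]
      rcases Nat.lt_or_eq_of_le (show k + 1 ≤ e from hk) with h' | h'
      · exact cj_mem_span x u h'
      · rw [h']; exact hspan
    · simpa using one_mem W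
    · intro a b _ _ ha hb; simpa [mul_assoc] using mul_mem ha hb
    · intro a _ ha; simpa [mul_assoc] using inv_mem ha
  have hxkW : ∀ (k : ℕ) (v : G), v ∈ W → x ^ k * v * (x ^ k)⁻¹ ∈ W := by
    intro k
    induction k with
    | zero => intro v hv; simpa using hv
    | succ k ih =>
      intro v hv
      have := hxW _ (ih v hv)
      rw [pow_succ']; simpa [mul_assoc] using this
  -- invariance under `h`
  have hhW : ∀ v ∈ W, h * v * h⁻¹ ∈ W := by
    intro v hv
    refine closure_induction (p := fun v _ => h * v * h⁻¹ ∈ W) ?_ ?_ ?_ ?_ hv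
    · rintro a ⟨k, -, rfl⟩
      have hk : Commute h (x ^ k) := by rw [hx]; exact ((Commute.refl h).pow_right i).pow_right k
      have : h * cj x u k * h⁻¹ = x ^ k * (h * u * h⁻¹) * (x ^ k)⁻¹ := by
        calc h * cj x u k * h⁻¹ = (h * x ^ k) * u * (h * x ^ k)⁻¹ := by simp only [cj]; group
          _ = (x ^ k * h) * u * (x ^ k * h)⁻¹ := by rw [hk.eq]
          _ = _ := by group
      rw [this]; exact hxkW k _ hh
    · simpa using one_mem W
    · intro a b _ _ ha hb; simpa [mul_assoc] using mul_mem ha hb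
    · intro a _ ha; simpa [mul_assoc] using inv_mem ha
  have hhkW : ∀ (k : ℕ) (v : G), v ∈ W → h ^ k * v * (h ^ k)⁻¹ ∈ W := by
    intro k
    induction k with
    | zero => intro v hv; simpa using hv
    | succ k ih =>
      intro v hv
      have := hhW _ (ih v hv)
      rw [pow_succ']; simpa [mul_assoc] using this
  -- the parametrisation of `W`
  choose φ hφW hφ using D.exists_word f i hfx hfu hbasis
  have hbij : Function.Bijective (fun c => (⟨φ c, hφW c⟩ : W)) := by
    have hinj : Function.Injective (fun c => (⟨φ c, hφW c⟩ : W)) := by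
      intro a b hab
      have := congrArg (fun v : W => f v.1) hab
      simp only [hφ] at this
      exact D.ν_inj this
    haveI : Finite W := hWfin
    have hle : Nat.card W ≤ Nat.card F := hF ▸ hWcard
    have := Nat.card_le_card_of_injective _ hinj
    exact (Nat.bijective_iff_injective_and_card _).mpr ⟨hinj, le_antisymm this hle⟩
  have huniq : ∀ v ∈ W, ∀ c, f v = D.ν c → v = φ c := by
    intro v hv c hvc
    obtain ⟨d, hd⟩ := hbij.2 ⟨v, hv⟩
    have hd' : φ d = v := congrArg Subtype.val hd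
    have : d = c := D.ν_inj (by rw [← hφ d, hd', hvc])
    rw [← this, hd']
  have hrep : ∀ v ∈ W, ∃ c, v = φ c := fun v hv => by
    obtain ⟨d, hd⟩ := hbij.2 ⟨v, hv⟩; exact ⟨d, (congrArg Subtype.val hd).symm⟩
  have hφadd : ∀ a b, φ a * φ b = φ (a + b) := fun a b =>
    huniq _ (mul_mem (hφW a) (hφW b)) _ (by rw [map_mul, hφ, hφ, D.ν_add])
  have hφzero : φ 0 = 1 := (huniq 1 (one_mem W) 0 (by rw [map_one, D.ν_zero])).symm
  have hφh : ∀ (k : ℕ) (c : F), h ^ k * φ c = φ (D.μ ^ k * c) * h ^ k := by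
    intro k c
    have : h ^ k * φ c * (h ^ k)⁻¹ = φ (D.μ ^ k * c) :=
      huniq _ (hhkW k _ (hφW c)) _ (by
        simp only [map_mul, map_inv, map_pow, hφ, hfh, D.hq_pow_conj])
    rw [← this]; group
  -- powers of `h` and `t`
  have hhinv : ∀ k : ℕ, ∃ l : ℕ, (h ^ k)⁻¹ = h ^ l := by
    intro k
    refine ⟨(N - 1) * k, ?_⟩
    rw [inv_eq_iff_mul_eq_one, ← pow_add]
    have : k + (N - 1) * k = N * k := by
      obtain ⟨M, rfl⟩ := Nat.exists_eq_add_of_le hNpos
      simp [add_mul]
    rw [this, pow_mul, hN, one_pow]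
  have hth' : ∀ k : ℕ, t * h ^ k = (h ^ k)⁻¹ * t := by
    intro k
    have h1 : t * h ^ k * t⁻¹ = (h ^ k)⁻¹ := by
      rw [← conj_pow, hth, inv_pow]
    rw [← h1]; group
  have hmod : ∀ k : ℕ, h ^ k = h ^ (k % N) := fun k => by
    conv_lhs => rw [← Nat.mod_add_div k N, pow_add, pow_mul, hN, one_pow, mul_one]
  let P : (F × Fin N) ⊕ (F × Fin N × F) → G :=
    Sum.elim (fun q => φ q.1 * h ^ (q.2 : ℕ))
      (fun q => φ q.1 * h ^ (q.2.1 : ℕ) * t * φ q.2.2)
  have hP1 : ∀ (a : F) (k : ℕ), φ a * h ^ k ∈ Set.range P := fun a k =>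
    ⟨Sum.inl (a, ⟨k % N, Nat.mod_lt _ hNpos⟩), by simp [P, ← hmod]⟩
  have hP2 : ∀ (a : F) (k : ℕ) (b : F), φ a * h ^ k * t * φ b ∈ Set.range P := fun a k b =>
    ⟨Sum.inr (a, ⟨k % N, Nat.mod_lt _ hNpos⟩, b), by simp [P, ← hmod]⟩
  -- left multiplication by the translations
  have hLφ : ∀ (a : F) (g : G), g ∈ Set.range P → φ a * g ∈ Set.range P := by
    rintro a _ ⟨(⟨b, k⟩ | ⟨b, k, c⟩), rfl⟩
    · simp only [P, Sum.elim_inl, ← mul_assoc, hφadd]; exact hP1 _ _
    · simp only [P, Sum.elim_inr, ← mul_assoc, hφadd]; exact hP2 _ _ _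
  have hLh : ∀ (l : ℕ) (g : G), g ∈ Set.range P → h ^ l * g ∈ Set.range P := by
    rintro l _ ⟨(⟨b, k⟩ | ⟨b, k, c⟩), rfl⟩
    · simp only [P, Sum.elim_inl, ← mul_assoc, hφh]
      rw [mul_assoc (φ _), ← pow_add]; exact hP1 _ _
    · simp only [P, Sum.elim_inr, ← mul_assoc, hφh]
      rw [mul_assoc (φ _) (h ^ l), ← pow_add]; exact hP2 _ _ _
  -- the Steinberg relation everywhere
  have hsteer : ∀ c : F, c ≠ 0 → ∃ (a b : F) (k : ℕ), t * φ c * t = φ a * h ^ k * t * φ b := by
    intro c hc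
    obtain ⟨k, hk⟩ := horbit c hc
    obtain ⟨c0, hc0, rfl⟩ : ∃ c0, (c0 = 1 ∨ c0 = η) ∧ c = D.μ ^ k * c0 := by
      rcases hk with hk | hk
      · exact ⟨1, Or.inl rfl, by rw [hk, mul_one]⟩
      · exact ⟨η, Or.inr rfl, hk⟩
    obtain ⟨v, hv, hvc, a, ha, b, hb, l, heq⟩ := hst c0 hc0
    obtain ⟨a', rfl⟩ := hrep a ha
    obtain ⟨b', rfl⟩ := hrep b hb
    rw [huniq v hv c0 hvc] at heq
    obtain ⟨l', hl'⟩ := hhinv k
    have h1 : φ (D.μ ^ k * c0) = h ^ k * φ c0 * (h ^ k)⁻¹ := by rw [hφh]; group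
    have h2 : (h ^ k)⁻¹ * t = t * h ^ k := (hth' k).symm
    have h2' : t * (h ^ l') = h ^ k * t := by rw [hth', ← hl', inv_inv]
    refine ⟨D.μ ^ l' * a', D.μ ^ l' * b', l' + l + l', ?_⟩
    rw [h1, hl']
    calc t * (h ^ k * φ c0 * h ^ l') * t = (t * h ^ k) * φ c0 * (h ^ l' * t) := by group
      _ = (h ^ l' * t) * φ c0 * (t * h ^ k) := by rw [← hl', h2]
      _ = h ^ l' * (t * φ c0 * t) * h ^ k := by group
      _ = h ^ l' * φ a' * h ^ l * t * φ b' * h ^ k := by rw [heq]; group
      _ = φ (D.μ ^ l' * a') * h ^ l' * h ^ l * t * (φ b' * h ^ k) := by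
          rw [hφh]; group
      _ = φ (D.μ ^ l' * a') * h ^ l' * h ^ l * t * (h ^ k * φ (D.μ ^ l' * b')) := by
          congr 1
          have h3 : h ^ l' * φ b' = φ (D.μ ^ l' * b') * h ^ l' := hφh _ _
          have h4 : h ^ k * h ^ l' = 1 := by rw [← hl']; group
          calc φ b' * h ^ k = h ^ k * (h ^ l' * φ b') * h ^ k := by rw [← mul_assoc (h ^ k), h4, one_mul]
            _ = h ^ k * φ (D.μ ^ l' * b') * (h ^ l' * h ^ k) := by rw [h3]; group
            _ = h ^ k * φ (D.μ ^ l' * b') := by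
                rw [← hl', inv_mul_cancel, mul_one]
      _ = φ (D.μ ^ l' * a') * h ^ l' * h ^ l * (t * h ^ k) * φ (D.μ ^ l' * b') := by group
      _ = φ (D.μ ^ l' * a') * h ^ (l' + l + l') * t * φ (D.μ ^ l' * b') := by
          rw [hth', hl', pow_add, pow_add]; group
  have hLt : ∀ (g : G), g ∈ Set.range P → t * g ∈ Set.range P := by
    rintro _ ⟨(⟨b, k⟩ | ⟨b, k, c⟩), rfl⟩
    · simp only [P, Sum.elim_inl]
      obtain ⟨l, hl⟩ := hhinv (k : ℕ)
      have h1 : φ b * h ^ (k : ℕ) = h ^ (k : ℕ) * φ (D.μ ^ l * b) := by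
        have h3 : h ^ l * φ b = φ (D.μ ^ l * b) * h ^ l := hφh _ _
        rw [← hl] at h3
        calc φ b * h ^ (k : ℕ) = h ^ (k : ℕ) * ((h ^ (k : ℕ))⁻¹ * φ b) * h ^ (k : ℕ) := by group
          _ = _ := by rw [h3]; group
      rw [h1, ← mul_assoc, hth', hl]
      have := hP2 0 l (D.μ ^ l * b)
      rwa [hφzero, one_mul] at this
    · simp only [P, Sum.elim_inr]
      obtain ⟨l, hl⟩ := hhinv (k : ℕ)
      have h1 : t * (φ b * h ^ (k : ℕ) * t * φ c) = t * φ b * t * (h ^ l * φ c) := by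
        calc t * (φ b * h ^ (k : ℕ) * t * φ c) = t * φ b * (h ^ (k : ℕ) * t) * φ c := by group
          _ = t * φ b * (t * h ^ l) * φ c := by rw [hth', ← hl, inv_inv]
          _ = _ := by group
      rw [h1]
      by_cases hb : b = 0
      · obtain ⟨j, hj⟩ := htt
        rw [hb, hφzero, mul_one, hj, ← mul_assoc, ← pow_add, hφh]
        exact hP1 _ _
      · obtain ⟨a', b', m, hm⟩ := hsteer b hb
        obtain ⟨l2, hl2⟩ := hhinv l
        have h5 : φ b' * h ^ l = h ^ l * φ (D.μ ^ l2 * b') := by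
          have h3 : h ^ l2 * φ b' = φ (D.μ ^ l2 * b') * h ^ l2 := hφh _ _
          rw [← hl2] at h3
          calc φ b' * h ^ l = h ^ l * ((h ^ l)⁻¹ * φ b') * h ^ l := by group
            _ = _ := by rw [h3]; group
        have h6 : t * φ b * t * (h ^ l * φ c) =
            φ a' * h ^ (m + l2) * t * φ (D.μ ^ l2 * b' + c) := by
          rw [hm, ← hφadd, pow_add]
          calc φ a' * h ^ m * t * φ b' * (h ^ l * φ c)
              = φ a' * h ^ m * t * (φ b' * h ^ l) * φ c := by group
            _ = φ a' * h ^ m * (t * h ^ l) * φ (D.μ ^ l2 * b') * φ c := by rw [h5]; group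
            _ = _ := by rw [hth', hl2]; group
        rw [h6]; exact hP2 _ _ _
  have hφu : u = φ 1 := by
    have he : 0 < e := by
      rcases Nat.eq_zero_or_pos e with rfl | he
      · have := Finite.one_lt_card (α := F); rw [hF] at this; simp at this
      · exact he
    exact huniq u (by simpa [cj_zero] using cj_mem_span x u he) 1 hfu
  have hall : ∀ g : G, g ∈ Set.range P := by
    intro g
    have hg : g ∈ closure ({u, h, t} : Set G) := hgen ▸ mem_top g
    refine closure_induction_left (p := fun g _ => g ∈ Set.range P) ?_ ?_ ?_ hg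
    · have := hP1 0 0; simpa [hφzero] using this
    · intro a ha y _ hy
      rcases ha with h' | h' | h'
      · rw [h', hφu]; exact hLφ _ _ hy
      · rw [h']; simpa using hLh 1 _ hy
      · rw [show a = t from h']; exact hLt _ hy
    · intro a ha y _ hy
      rcases ha with h' | h' | h'
      · rw [h']
        obtain ⟨c, hc⟩ := hrep u⁻¹ (inv_mem (by rw [hφu]; exact hφW 1))
        rw [hc]; exact hLφ _ _ hy
      · rw [h']
        obtain ⟨l, hl⟩ := hhinv 1
        rw [pow_one] at hl; rw [hl]; exact hLh _ _ hy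
      · rw [show a = t from h']
        obtain ⟨j, hj⟩ := htt
        obtain ⟨l, hl⟩ := hhinv j
        have : t⁻¹ = t * h ^ l := by
          rw [← hl, ← hj]; group
        rw [this, mul_assoc]; exact hLt _ (hLh _ _ hy)
  have hPs : Function.Surjective P := hall
  haveI : Finite G := Finite.of_surjective P hPs
  have hGcard : Nat.card G ≤ Nat.card Q := by
    refine (Nat.card_le_card_of_surjective P hPs).trans_eq ?_
    rw [Nat.card_sum, Nat.card_prod, Nat.card_prod, Nat.card_prod, Nat.card_fin, hF, hQ]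
    ring
  haveI : Finite Q := Finite.of_surjective f hsurj
  exact (Nat.bijective_iff_surjective_and_card _).mpr
    ⟨hsurj, le_antisymm hGcard (Nat.card_le_card_of_surjective f hsurj)⟩

end Cfsg.Agent.Lead.SL2Pres
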