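import Mathlib
import Cfsg.Agent.Lib.Lead.SL2PresCore
import Cfsg.Agent.Lib.Lead.GLBasic
import Cfsg.Agent.Lib.Small.SL2.Classes

/-!
Matrices and field lemmas for the short presentations of two-dimensional special linear groups.
-/

set_option autoImplicit false

namespace Cfsg.Agent.Lead.SL2Pres

open Matrix Subgroup

variable {F : Type*} [Field F]

/-- Upper unitriangular element. -/
def un (c : F) : SpecialLinearGroup (Fin 2) F := ⟨!![1, c; 0, 1], by simp [Matrix.det_fin_two]⟩

/-- Diagonal element. -/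
def dg (l : Fˣ) : SpecialLinearGroup (Fin 2) F :=
  ⟨!![(l : F), 0; 0, ((l⁻¹ : Fˣ) : F)], by simp [Matrix.det_fin_two]⟩

/-- The Weyl element. -/
def tw : SpecialLinearGroup (Fin 2) F := ⟨!![0, 1; -1, 0], by simp [Matrix.det_fin_two]⟩

/-- Lower unitriangular element. -/
def ln (c : F) : SpecialLinearGroup (Fin 2) F := ⟨!![1, 0; c, 1], by simp [Matrix.det_fin_two]⟩

theorem un_add (a b : F) : un (a + b) = un a * un b := by
  apply Matrix.SpecialLinearGroup.ext
  intro i j
  simp only [Matrix.SpecialLinearGroup.coe_mul]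
  fin_cases i <;> fin_cases j <;> simp [un, Matrix.mul_apply, Fin.sum_univ_two] <;> ring

theorem dg_mul (l m : Fˣ) : dg (l * m) = dg l * dg m := by
  apply Matrix.SpecialLinearGroup.ext
  intro i j
  simp only [Matrix.SpecialLinearGroup.coe_mul]
  fin_cases i <;> fin_cases j <;> simp [dg, Matrix.mul_apply, Fin.sum_univ_two] <;> ring

theorem dg_one : dg (1 : Fˣ) = 1 := by
  apply Matrix.SpecialLinearGroup.ext
  intro i j
  fin_cases i <;> fin_cases j <;> simp [dg]

theorem dg_pow (l : Fˣ) (n : ℕ) : dg (l ^ n) = dg l ^ n := by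
  induction n with
  | zero => simp [dg_one]
  | succ n ih => rw [pow_succ, pow_succ, dg_mul, ih]

theorem dg_un (l : Fˣ) (c : F) : dg l * un c = un ((l : F) ^ 2 * c) * dg l := by
  apply Matrix.SpecialLinearGroup.ext
  intro i j
  simp only [Matrix.SpecialLinearGroup.coe_mul]
  fin_cases i <;> fin_cases j <;> simp [un, dg, Matrix.mul_apply, Fin.sum_univ_two] <;> field_simp

theorem tw_dg (l : Fˣ) : tw * dg l = dg l⁻¹ * tw := by
  apply Matrix.SpecialLinearGroup.ext
  intro i j
  simp only [Matrix.SpecialLinearGroup.coe_mul]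
  fin_cases i <;> fin_cases j <;> simp [tw, dg, Matrix.mul_apply, Fin.sum_univ_two]

theorem tw_tw : (tw : SpecialLinearGroup (Fin 2) F) * tw = dg (-1) := by
  apply Matrix.SpecialLinearGroup.ext
  intro i j
  simp only [Matrix.SpecialLinearGroup.coe_mul]
  fin_cases i <;> fin_cases j <;> simp [tw, dg, Matrix.mul_apply, Fin.sum_univ_two]

theorem tw_un_tw (c : Fˣ) : tw * un (c : F) * tw =
    un (-(c : F)⁻¹) * dg (-c⁻¹) * tw * un (-(c : F)⁻¹) := by
  have hc : (c : F) ≠ 0 := c.ne_zero
  apply Matrix.SpecialLinearGroup.ext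
  intro i j
  simp only [Matrix.SpecialLinearGroup.coe_mul]
  fin_cases i <;> fin_cases j <;>
    simp [tw, un, dg, Matrix.mul_apply, Fin.sum_univ_two] <;> field_simp <;> ring

/-- Bruhat form of an element. -/
theorem exists_bruhat (M : SpecialLinearGroup (Fin 2) F) :
    (∃ (x : F) (l : Fˣ), M = un x * dg l) ∨
      ∃ (x : F) (l : Fˣ) (y : F), M = un x * dg l * tw * un y := by
  have hdet : M.1 0 0 * M.1 1 1 - M.1 0 1 * M.1 1 0 = 1 := by
    have := M.2; rwa [Matrix.det_fin_two] at this
  by_cases hc : M.1 1 0 = 0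
  · have ha : M.1 0 0 ≠ 0 := by
      intro h; rw [h, hc] at hdet; simp at hdet
    refine Or.inl ⟨M.1 0 0 * M.1 0 1, Units.mk0 _ ha, ?_⟩
    have hd : M.1 1 1 = (M.1 0 0)⁻¹ := by
      rw [hc] at hdet; field_simp; linear_combination hdet
    apply Matrix.SpecialLinearGroup.ext
    intro i j
    simp only [Matrix.SpecialLinearGroup.coe_mul]
    fin_cases i <;> fin_cases j <;>
      simp [un, dg, Matrix.mul_apply, Fin.sum_univ_two, hc, hd] <;> field_simp
  · refine Or.inr ⟨M.1 0 0 / M.1 1 0, Units.mk0 (-(M.1 1 0)⁻¹) (by simpa using hc),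
      M.1 1 1 / M.1 1 0, ?_⟩
    apply Matrix.SpecialLinearGroup.ext
    intro i j
    simp only [Matrix.SpecialLinearGroup.coe_mul]
    fin_cases i <;> fin_cases j <;>
      simp [un, dg, tw, Matrix.mul_apply, Fin.sum_univ_two] <;> field_simp <;>
      (first | linear_combination hdet | linear_combination -hdet)

theorem un_injective : Function.Injective (un : F → SpecialLinearGroup (Fin 2) F) := by
  intro a b h
  simpa [un] using congrArg (fun M : SpecialLinearGroup (Fin 2) F => M.1 0 1) h

theorem eq_zero_of_un_mem_center {a : F}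
    (h : un a ∈ center (SpecialLinearGroup (Fin 2) F)) : a = 0 := by
  have h1 := congrArg (fun M : SpecialLinearGroup (Fin 2) F => M.1 0 0)
    (Subgroup.mem_center_iff.mp h tw)
  simp only [Matrix.SpecialLinearGroup.coe_mul] at h1
  simp [un, tw, Matrix.mul_apply, Fin.sum_univ_two] at h1
  exact h1

/-- The braid element in terms of the two root elements, characteristic two. -/
theorem braid [CharP F 2] : un (1 : F) * ln 1 * un 1 = ln 1 * un 1 * ln 1 ∧
    (un (1 : F) * ln 1 * un 1 = tw) := by
  have h2 : (1 : F) + 1 = 0 := CharTwo.add_self_eq_zero 1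
  have hn : (-1 : F) = 1 := CharTwo.neg_eq 1
  constructor <;>
    (apply Matrix.SpecialLinearGroup.ext; intro i j; simp only [Matrix.SpecialLinearGroup.coe_mul]; fin_cases i <;> fin_cases j <;>
      simp [un, ln, tw, Matrix.mul_apply, Fin.sum_univ_two, h2, hn])

variable [Fintype F]

theorem card_field (p e : ℕ) [CharP F p] (he : Fintype.card F = p ^ e) : Nat.card F = p ^ e := by
  rw [Nat.card_eq_fintype_card, he]

/-- A field element lying in no proper subfield spans the field with its powers. -/
theorem basis_of_generic (p e : ℕ) [Fact p.Prime] [CharP F p] (hF : Nat.card F = p ^ e) (a : F)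
    (hgen : ∀ d, 0 < d → d ∣ e → d < e → a ^ (p ^ d) ≠ a) :
    AddSubgroup.closure ((fun k => a ^ k) '' Set.Iio e) = ⊤ := by
  letI := ZMod.algebra F p
  have hint : IsIntegral (ZMod p) a := IsIntegral.of_finite _ _
  have hfr : Module.finrank (ZMod p) F = e := by
    have h := Module.natCard_eq_pow_finrank (K := ZMod p) (V := F)
    rw [hF, Nat.card_zmod] at h
    exact (Nat.pow_right_injective (Fact.out : p.Prime).two_le h).symm
  set d := (minpoly (ZMod p) a).natDegree with hd
  let L := IntermediateField.adjoin (ZMod p) ({a} : Set F)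
  have hL : Module.finrank (ZMod p) L = d := IntermediateField.adjoin.finrank hint
  have hdvd : d ∣ e := ⟨Module.finrank L F, by
    rw [← hL, Module.finrank_mul_finrank, hfr]⟩
  have hde : d = e := by
    by_contra hne
    have hdpos : 0 < d := minpoly.natDegree_pos hint
    have hepos : 0 < e := by
      have := Module.finrank_pos (R := ZMod p) (M := F); omega
    refine hgen d hdpos hdvd (lt_of_le_of_ne (Nat.le_of_dvd hepos hdvd) hne) ?_
    haveI : Fintype L := Fintype.ofFinite L
    have hcard : Fintype.card L = p ^ d := by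
      rw [← Nat.card_eq_fintype_card, Module.natCard_eq_pow_finrank (K := ZMod p), Nat.card_zmod, hL]
    have h := FiniteField.pow_card (⟨a, IntermediateField.mem_adjoin_simple_self _ a⟩ : L)
    rw [hcard] at h
    simpa using congrArg Subtype.val h
  have hli := linearIndependent_pow (K := ZMod p) a
  have hspan := hli.span_eq_top_of_card_eq_finrank' (by rw [Fintype.card_fin, hfr, ← hd, hde])
  rw [eq_top_iff]
  intro c _
  have hc : c ∈ Submodule.span (ZMod p) (Set.range fun k : Fin (minpoly (ZMod p) a).natDegree =>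
      a ^ (k : ℕ)) := hspan ▸ Submodule.mem_top
  obtain ⟨r, rfl⟩ := (Submodule.mem_span_range_iff_exists_fun (ZMod p)).mp hc
  refine sum_mem fun k _ => ?_
  have hk : a ^ (k : ℕ) ∈ AddSubgroup.closure ((fun k => a ^ k) '' Set.Iio e) :=
    AddSubgroup.subset_closure ⟨k, by
      have := k.2
      simp only [Set.mem_Iio]
      omega, rfl⟩
  rw [show r k • a ^ (k : ℕ) = (r k).val • a ^ (k : ℕ) by
    rw [← Nat.cast_smul_eq_nsmul (ZMod p) (r k).val, ZMod.natCast_zmod_val]]
  exact AddSubgroup.nsmul_mem _ hk _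

/-- Sum of the small powers. -/
theorem two_mul_sum_pow {p : ℕ} (hp : 3 ≤ p) : ∀ m, 2 * ∑ d ∈ Finset.range m, p ^ (d + 1) ≤ p ^ (m + 1) := by
  intro m
  induction m with
  | zero => simp
  | succ m ih =>
    rw [Finset.sum_range_succ, mul_add]
    calc 2 * ∑ d ∈ Finset.range m, p ^ (d + 1) + 2 * p ^ (m + 1)
        ≤ 3 * p ^ (m + 1) := by omega
      _ ≤ p * p ^ (m + 1) := Nat.mul_le_mul_right _ hp
      _ = p ^ (m + 1 + 1) := by ring

/-- In a big field of odd characteristic there are consecutive squares outside all subfields. -/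
theorem exists_consecutive_squares (p e : ℕ) [Fact p.Prime] [CharP F p] (hp : 3 ≤ p)
    (hF : Nat.card F = p ^ e) (he : 3 ≤ e) :
    ∃ x y : Fˣ, (y : F) ^ 2 = (x : F) ^ 2 + 1 ∧
      ∀ d, 0 < d → d ∣ e → d < e → ((x : F) ^ 2) ^ (p ^ d) ≠ (x : F) ^ 2 := by
  classical
  open Polynomial in
  have h2 : (2 : F) ≠ 0 := Ring.two_ne_zero (by rw [ringChar.eq F p]; omega)
  let bad : Finset F := (Finset.range (e / 2)).biUnion fun d =>
    (Polynomial.X ^ (p ^ (d + 1)) - Polynomial.X : Polynomial F).roots.toFinset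
  have hbadmem : ∀ a : F, ∀ d, 0 < d → d ≤ e / 2 → a ^ (p ^ d) = a → a ∈ bad := by
    intro a d hd hde ha
    refine Finset.mem_biUnion.mpr ⟨d - 1, Finset.mem_range.mpr (by omega), ?_⟩
    rw [Multiset.mem_toFinset, show d - 1 + 1 = d by omega,
      Polynomial.mem_roots (FiniteField.X_pow_card_sub_X_ne_zero F
        (Nat.one_lt_pow hd.ne' (by omega)))]
    simp [ha]
  have hbad : bad.card ≤ ∑ d ∈ Finset.range (e / 2), p ^ (d + 1) := by
    refine Finset.card_biUnion_le.trans (Finset.sum_le_sum fun d _ => ?_)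
    refine (Multiset.toFinset_card_le _).trans ((Polynomial.card_roots' _).trans ?_)
    rw [FiniteField.X_pow_card_sub_X_natDegree_eq F (Nat.one_lt_pow (by omega) (by omega))]
  let A : Fˣ → F := fun s => (((s : F)⁻¹ - s) / 2) ^ 2
  have hfib : ∀ a ∈ (Finset.univ.image A), (Finset.univ.filter fun s => A s = a).card ≤ 4 := by
    intro a _
    let P : Polynomial F := Polynomial.X ^ 4 - Polynomial.C (2 + 4 * a) * Polynomial.X ^ 2 + 1
    have hP : P ≠ 0 := fun h => by
      have := congrArg (Polynomial.eval 0) h; simp [P] at this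
    have hdeg : P.natDegree ≤ 4 := by simp only [P]; compute_degree
    calc (Finset.univ.filter fun s => A s = a).card
        = ((Finset.univ.filter fun s => A s = a).map ⟨Units.val, Units.val_injective⟩).card :=
          (Finset.card_map _).symm
      _ ≤ P.roots.toFinset.card := by
          refine Finset.card_le_card fun s hs => ?_
          obtain ⟨s, hs', rfl⟩ := Finset.mem_map.mp hs
          rw [Finset.mem_filter] at hs'
          rw [Multiset.mem_toFinset, Polynomial.mem_roots hP]
          have hsne : (s : F) ≠ 0 := s.ne_zero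
          have hA : (((s : F)⁻¹ - s) / 2) ^ 2 = a := hs'.2
          simp only [P, Polynomial.IsRoot.def, Polynomial.eval_add, Polynomial.eval_sub,
            Polynomial.eval_mul, Polynomial.eval_pow, Polynomial.eval_X, Polynomial.eval_C,
            Polynomial.eval_one, Function.Embedding.coeFn_mk]
          rw [← hA]
          field_simp
          ring
      _ ≤ 4 := (Multiset.toFinset_card_le _).trans ((Polynomial.card_roots' _).trans hdeg)
  have hex : ∃ s : Fˣ, A s ∉ bad := by
    by_contra hall
    push_neg at hall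
    have h1 := Finset.card_le_mul_card_image Finset.univ 4 hfib
    have h3 : (Finset.univ.image A).card ≤ bad.card :=
      Finset.card_le_card fun a ha => by
        obtain ⟨s, -, rfl⟩ := Finset.mem_image.mp ha; exact hall s
    rw [Finset.card_univ, Fintype.card_units, ← Nat.card_eq_fintype_card, hF] at h1
    have h4 := two_mul_sum_pow hp (e / 2)
    have h5 : p ^ (e / 2 + 1) ≤ p ^ (e - 1) := Nat.pow_le_pow_right (by omega) (by omega)
    have h6 : p ^ e = p * p ^ (e - 1) := by
      rw [← pow_succ']; congr 1; omega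
    have h7 : 3 * p ^ (e - 1) ≤ p * p ^ (e - 1) := Nat.mul_le_mul_right _ hp
    have h8 : 3 ≤ p ^ (e - 1) := le_trans hp (Nat.le_self_pow (by omega) p)
    omega
  obtain ⟨s, hs⟩ := hex
  have hsne : (s : F) ≠ 0 := s.ne_zero
  set x : F := ((s : F)⁻¹ - s) / 2 with hx
  set y : F := ((s : F)⁻¹ + s) / 2 with hy
  have hxy : y ^ 2 = x ^ 2 + 1 := by rw [hx, hy]; field_simp; ring
  have hpne : ∀ d : ℕ, p ^ d ≠ 0 := fun d => pow_ne_zero _ (by omega)
  have hxne : x ≠ 0 := fun h => hs (hbadmem _ 1 one_pos (by omega) (by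
    show (x ^ 2) ^ p ^ 1 = x ^ 2
    rw [h]; simp; omega))
  have hyne : y ≠ 0 := fun h => hs (hbadmem _ 1 one_pos (by omega) (by
    show (x ^ 2) ^ p ^ 1 = x ^ 2
    have h' : x ^ 2 = -1 := by rw [h] at hxy; linear_combination -hxy
    rw [h', pow_one]
    exact ((Fact.out : p.Prime).odd_of_ne_two (by omega)).neg_one_pow))
  refine ⟨Units.mk0 x hxne, Units.mk0 y hyne, hxy, fun d hd hde hlt ha => hs (hbadmem _ d hd ?_ ha)⟩
  obtain ⟨k, hk⟩ := hde
  have : 2 ≤ k := by
    by_contra hk'
    interval_cases k <;> simp_all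
  rw [hk, Nat.le_div_iff_mul_le (by norm_num)]
  exact Nat.mul_le_mul_left d this

end Cfsg.Agent.Lead.SL2Pres
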