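import Mathlib
import Cfsg.Agent.Lib.Lead.SL2PresModel

/-!
The presentations on three generators: common part and odd characteristic.
-/

set_option autoImplicit false

namespace Cfsg.Agent.Lead.SL2Pres

open Matrix Subgroup

variable {F : Type*} [Field F] {Q : Type*} [Group Q]

/-- The frame of a quotient of the special linear group. -/
def frame (π : Matrix.SpecialLinearGroup (Fin 2) F →* Q)
    (hinj : Function.Injective fun c => π (un c)) (ζ : Fˣ) : Frame F Q where
  ν c := π (un c)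
  ν_add a b := by rw [un_add, map_mul]
  ν_inj := hinj
  hq := π (dg ζ)
  μ := (ζ : F) ^ 2
  hq_conj a := by rw [← map_mul, ← map_inv, ← map_mul, dg_un, mul_inv_cancel_right]

theorem mk_rel {rels : Finset (FreeGroup (Fin 3))} {a b : FreeGroup (Fin 3)}
    (h : a * b⁻¹ ∈ rels) :
    PresentedGroup.mk (↑rels : Set (FreeGroup (Fin 3))) a = PresentedGroup.mk ↑rels b := by
  have h1 := PresentedGroup.one_of_mem (rels := (↑rels : Set (FreeGroup (Fin 3)))) (Finset.mem_coe.mpr h)
  rwa [map_mul, map_inv, mul_inv_eq_one] at h1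

theorem mk_one_rel {rels : Finset (FreeGroup (Fin 3))} {a : FreeGroup (Fin 3)}
    (h : a ∈ rels) : PresentedGroup.mk (↑rels : Set (FreeGroup (Fin 3))) a = 1 :=
  PresentedGroup.one_of_mem (Finset.mem_coe.mpr h)

theorem toGroup_mk {rels : Set (FreeGroup (Fin 3))} {g : Fin 3 → Q}
    (h : ∀ r ∈ rels, FreeGroup.lift g r = 1) (w : FreeGroup (Fin 3)) :
    PresentedGroup.toGroup h (PresentedGroup.mk rels w) = FreeGroup.lift g w := rfl

theorem zpow_surjective [Finite F] {ζ : Fˣ} (hζ : ∀ z : Fˣ, z ∈ Subgroup.zpowers ζ) (z : Fˣ) :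
    ∃ n : ℕ, z = ζ ^ n := by
  obtain ⟨n, hn⟩ := mem_powers_iff_mem_zpowers.mpr (hζ z)
  exact ⟨n, hn.symm⟩

theorem surjective_of_gens (π : Matrix.SpecialLinearGroup (Fin 2) F →* Q)
    (hπ : Function.Surjective π) [Finite F] (ζ : Fˣ) (hζ : ∀ z : Fˣ, z ∈ Subgroup.zpowers ζ)
    (K : Subgroup Q) (hu : ∀ c, π (un c) ∈ K) (hh : π (dg ζ) ∈ K) (ht : π tw ∈ K) : K = ⊤ := by
  rw [eq_top_iff]
  intro y _
  obtain ⟨M, rfl⟩ := hπ y
  have hd : ∀ l, π (dg l) ∈ K := by
    intro l
    obtain ⟨n, rfl⟩ := zpow_surjective hζ l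
    rw [dg_pow, map_pow]; exact pow_mem hh n
  rcases exists_bruhat M with ⟨x, l, rfl⟩ | ⟨x, l, y, rfl⟩
  · rw [map_mul]; exact mul_mem (hu x) (hd l)
  · rw [map_mul, map_mul, map_mul]; exact mul_mem (mul_mem (mul_mem (hu x) (hd l)) ht) (hu y)

theorem mk_cj (rels : Set (FreeGroup (Fin 3))) (x u : FreeGroup (Fin 3)) (k : ℕ) :
    PresentedGroup.mk rels (cj x u k) = cj (PresentedGroup.mk rels x) (PresentedGroup.mk rels u) k :=
  map_cj _ _ _ _

theorem mem_span_mk (rels : Set (FreeGroup (Fin 3))) {x u w : FreeGroup (Fin 3)} {e : ℕ}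
    (hw : w ∈ spanCj x u e) :
    PresentedGroup.mk rels w ∈
      spanCj (PresentedGroup.mk rels x) (PresentedGroup.mk rels u) e := by
  rw [← map_spanCj]; exact ⟨w, hw, rfl⟩

open scoped Classical in
set_option maxHeartbeats 1000000 in
/-- Odd characteristic. -/
theorem odd_case [Fintype F] (p e : ℕ) [Fact p.Prime] [CharP F p] (hp : 3 ≤ p)
    (hF : Nat.card F = p ^ e) (π : Matrix.SpecialLinearGroup (Fin 2) F →* Q)
    (hπ : Function.Surjective π) (hinj : Function.Injective fun c => π (un c))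
    (ζ : Fˣ) (hζ : ∀ z : Fˣ, z ∈ Subgroup.zpowers ζ) (N : ℕ) (hNpos : 0 < N)
    (hN : π (dg ζ) ^ N = 1) (hQ : Nat.card Q = p ^ e * N * (p ^ e + 1)) :
    ∃ rels : Finset (FreeGroup (Fin 3)), rels.card ≤ 9 ∧
      Nonempty (PresentedGroup (↑rels : Set (FreeGroup (Fin 3))) ≃* Q) := by
  let D := frame π hinj ζ
  have hepos : 0 < e := by
    rcases Nat.eq_zero_or_pos e with rfl | he
    · have := Finite.one_lt_card (α := F); rw [hF] at this; simp at this
    · exact he
  have hμ : (ζ : F) ^ 2 = D.μ := rfl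
  have horbit : ∀ c : F, c ≠ 0 → ∃ k : ℕ, c = D.μ ^ k ∨ c = D.μ ^ k * (ζ : F) := by
    intro c hc
    obtain ⟨n, hn⟩ := zpow_surjective hζ (Units.mk0 c hc)
    have hn' : c = (ζ : F) ^ n := by simpa using congrArg Units.val hn
    refine ⟨n / 2, ?_⟩
    rw [← hμ, ← pow_mul, hn']
    rcases Nat.even_or_odd n with ⟨k, hk⟩ | ⟨k, hk⟩
    · left; congr 1; omega
    · right; rw [← pow_succ]; congr 1; omega
  have hμgen : ∀ d, 0 < d → d ∣ e → d < e → D.μ ^ (p ^ d) ≠ D.μ := by
    intro d hd _ hlt h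
    have hord : orderOf ζ = p ^ e - 1 := by
      rw [orderOf_eq_card_of_forall_mem_zpowers hζ, Nat.card_units, hF]
    have h1 : ζ ^ (2 * (p ^ d - 1)) = 1 := by
      apply Units.ext
      have hne : D.μ ≠ 0 := by rw [← hμ]; exact pow_ne_zero _ ζ.ne_zero
      have h2 : D.μ ^ (p ^ d - 1) = 1 := by
        apply mul_right_cancel₀ hne
        rw [one_mul, ← pow_succ, Nat.sub_add_cancel (Nat.one_le_pow _ _ (by omega)), h]
      rw [Units.val_pow_eq_pow_val, pow_mul, Units.val_one]
      exact h2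
    have h3 := orderOf_dvd_of_pow_eq_one h1
    rw [hord] at h3
    have h4 : p ^ (d + 1) ≤ p ^ e := Nat.pow_le_pow_right (by omega) hlt
    have h5 : 3 * p ^ d ≤ p ^ (d + 1) := by rw [pow_succ']; exact Nat.mul_le_mul_right _ hp
    have h6 : 1 < p ^ d := Nat.one_lt_pow hd.ne' (by omega)
    have := Nat.le_of_dvd (by omega) h3
    omega
  let U : FreeGroup (Fin 3) := FreeGroup.of 0
  let H : FreeGroup (Fin 3) := FreeGroup.of 1
  let T : FreeGroup (Fin 3) := FreeGroup.of 2
  let g : Fin 3 → Q := ![π (un 1), π (dg ζ), π tw]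
  have hgU : FreeGroup.lift g U = D.ν 1 := by simp [g, U]; rfl
  have hgH : FreeGroup.lift g H = D.hq := by simp [g, H]; rfl
  have hgT : FreeGroup.lift g T = π tw := by simp [g, T]
  obtain ⟨n2, hn2⟩ := zpow_surjective hζ (-1)
  have hm1 : π tw * π tw = D.hq ^ n2 := by
    show π tw * π tw = π (dg ζ) ^ n2
    rw [← map_mul, tw_tw, hn2, dg_pow, map_pow]
  have hconj : π tw * D.hq * (π tw)⁻¹ = D.hq⁻¹ := by
    show π tw * π (dg ζ) * (π tw)⁻¹ = (π (dg ζ))⁻¹
    rw [← map_mul, tw_dg, map_mul, mul_inv_cancel_right, ← map_inv]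
    congr 1
    rw [eq_inv_iff_mul_eq_one, ← dg_mul, inv_mul_cancel, dg_one]
  -- the Steinberg words
  have steer : ∀ (i e' : ℕ),
      AddSubgroup.closure ((fun k => (D.μ ^ i) ^ k) '' Set.Iio e') = ⊤ → ∀ c : Fˣ,
      ∃ (wc wa : FreeGroup (Fin 3)) (l : ℕ), wc ∈ spanCj (H ^ i) U e' ∧ wa ∈ spanCj (H ^ i) U e' ∧
        FreeGroup.lift g wc = D.ν c ∧
        FreeGroup.lift g (T * wc * T * (wa * H ^ l * T * wa)⁻¹) = 1 := by
    intro i e' hb c
    have hx : FreeGroup.lift g (H ^ i) = D.hq ^ i := by rw [map_pow, hgH]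
    obtain ⟨wc, hwc, hfc⟩ := D.exists_word (FreeGroup.lift g) i hx hgU hb (c : F)
    obtain ⟨wa, hwa, hfa⟩ := D.exists_word (FreeGroup.lift g) i hx hgU hb (-(c : F)⁻¹)
    obtain ⟨l, hl⟩ := zpow_surjective hζ (-c⁻¹)
    refine ⟨wc, wa, l, hwc, hwa, hfc, ?_⟩
    rw [map_mul, map_inv, mul_inv_eq_one]
    simp only [map_mul, map_pow, hfc, hfa, hgT, hgH]
    show π tw * π (un (c : F)) * π tw = π (un (-(c : F)⁻¹)) * π (dg ζ) ^ l * π tw * π (un (-(c : F)⁻¹))
    rw [← map_pow, ← dg_pow, ← hl]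
    simp only [← map_mul, tw_un_tw]
  have hgen : ∀ rels : Set (FreeGroup (Fin 3)), closure
      ({PresentedGroup.mk rels U, PresentedGroup.mk rels H, PresentedGroup.mk rels T} :
        Set (PresentedGroup rels)) = ⊤ := by
    intro rels
    rw [eq_top_iff, ← PresentedGroup.closure_range_of rels, closure_le]
    rintro _ ⟨k, rfl⟩
    refine subset_closure ?_
    fin_cases k
    · exact Or.inl rfl
    · exact Or.inr (Or.inl rfl)
    · exact Or.inr (Or.inr rfl)
  have hsurj : ∀ (i e' : ℕ),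
      AddSubgroup.closure ((fun k => (D.μ ^ i) ^ k) '' Set.Iio e') = ⊤ →
      ∀ (rels : Set (FreeGroup (Fin 3))) (h : ∀ r ∈ rels, FreeGroup.lift g r = 1),
      Function.Surjective (PresentedGroup.toGroup h) := by
    intro i e' hb rels h
    rw [← MonoidHom.range_eq_top]
    refine surjective_of_gens π hπ ζ hζ _ (fun c => ?_) ?_ ?_
    · obtain ⟨w, -, hw⟩ := D.exists_word (FreeGroup.lift g) i (by rw [map_pow, hgH] :
        FreeGroup.lift g (H ^ i) = D.hq ^ i) hgU hb c
      exact ⟨PresentedGroup.mk rels w, (toGroup_mk h w).trans hw⟩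
    · exact ⟨PresentedGroup.mk rels H, (toGroup_mk h H).trans hgH⟩
    · exact ⟨PresentedGroup.mk rels T, (toGroup_mk h T).trans hgT⟩
  by_cases he : e ≤ 2
  · -- small degree: the generator of the torus already works
    have hb : AddSubgroup.closure ((fun k => (D.μ ^ 1) ^ k) '' Set.Iio e) = ⊤ := by
      rw [pow_one]; exact basis_of_generic p e hF _ hμgen
    obtain ⟨w, hw, hfw⟩ := D.exists_word (FreeGroup.lift g) 1
      (by rw [map_pow, hgH] : FreeGroup.lift g (H ^ 1) = D.hq ^ 1) hgU hb (D.μ ^ e)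
    obtain ⟨wc, wa, l, hwc, hwa, hfc, hst1⟩ := steer 1 e hb 1
    obtain ⟨wc', wa', l', hwc', hwa', hfc', hst2⟩ := steer 1 e hb ζ
    let rels : Finset (FreeGroup (Fin 3)) :=
      {U ^ p, U * cj (H ^ 1) U 1 * (cj (H ^ 1) U 1 * U)⁻¹, cj (H ^ 1) U e * w⁻¹, H ^ N,
        T * T * (H ^ n2)⁻¹, T * H * T⁻¹ * H, T * wc * T * (wa * H ^ l * T * wa)⁻¹,
        T * wc' * T * (wa' * H ^ l' * T * wa')⁻¹}
    have hrels : ∀ r ∈ (↑rels : Set (FreeGroup (Fin 3))), FreeGroup.lift g r = 1 := by
      intro r hr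
      simp only [rels, Finset.coe_insert, Finset.coe_singleton, Set.mem_insert_iff,
        Set.mem_singleton_iff] at hr
      rcases hr with rfl | rfl | rfl | rfl | rfl | rfl | rfl | rfl
      · rw [map_pow, hgU]
        show π (un 1) ^ p = 1
        have : ∀ n : ℕ, π (un (1 : F)) ^ n = π (un (n : F)) := by
          intro n
          induction n with
          | zero => rw [pow_zero, Nat.cast_zero]; exact D.ν_zero.symm
          | succ n ih => rw [pow_succ, ih, ← map_mul, ← un_add]; simp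
        rw [this, CharP.cast_eq_zero]; exact D.ν_zero
      · rw [map_mul, map_inv, mul_inv_eq_one]
        simp only [map_mul, map_inv, map_cj, map_pow, hgU, hgH, pow_one, cj, D.hq_conj, ← D.ν_add]
        rw [add_comm]
      · rw [map_mul, map_inv, mul_inv_eq_one, hfw, map_cj, map_pow, hgH, hgU, pow_one, cj,
          D.hq_pow_conj, mul_one]
      · rw [map_pow, hgH]; exact hN
      · rw [map_mul, map_inv, mul_inv_eq_one, map_mul, map_pow, hgT, hgH, hm1]
      · simp only [map_mul, map_inv, hgT, hgH, hconj, inv_mul_cancel]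
      · exact hst1
      · exact hst2
    have hcard : rels.card ≤ 9 := by
      simp only [rels]
      repeat refine (Finset.card_insert_le _ _).trans (Nat.succ_le_succ ?_)
      simp
    refine ⟨rels, hcard, ?_⟩
    set m := PresentedGroup.mk (↑rels : Set (FreeGroup (Fin 3))) with hm
    have hmx : ∀ k, m (cj (H ^ 1) U k) = cj (m H ^ 1) (m U) k := fun k => by
      rw [hm, mk_cj, map_pow]
    have h1c : Commute (m U) (cj (m H ^ 1) (m U) 1) := by
      have : m (U * cj (H ^ 1) U 1) = m (cj (H ^ 1) U 1 * U) := mk_rel (by simp [rels])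
      rw [map_mul, map_mul, hmx] at this
      exact this
    have hspan : cj (m H ^ 1) (m U) e ∈ spanCj (m H ^ 1) (m U) e := by
      rw [← hmx, hm, mk_rel (show cj (H ^ 1) U e * w⁻¹ ∈ rels by simp [rels]), ← map_pow]
      exact mem_span_mk _ hw
    refine ⟨MulEquiv.ofBijective _ (bijective_of_relations D (u := m U) (h := m H) (t := m T)
      (x := m H ^ 1) (PresentedGroup.toGroup hrels) p e N 1 (ζ : F) (hgen _)
      ((toGroup_mk hrels H).trans hgH) ((toGroup_mk hrels U).trans hgU) rfl (by omega) hF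
      ?_ ?_ hspan ?_ hb ?_ hNpos ?_ ?_ horbit ?_ (hsurj 1 e hb _ hrels) hQ)⟩
    · rw [← map_pow]; exact mk_one_rel (by simp [rels])
    · intro a ha b hb'
      have : a ≤ 1 ∧ b ≤ 1 := by omega
      obtain ⟨ha1, hb1⟩ := this
      interval_cases a <;> interval_cases b <;>
        first
          | exact Commute.refl _
          | (rw [cj_zero]; exact h1c)
          | (rw [cj_zero]; exact h1c.symm)
    · have h' : m H * m U * (m H)⁻¹ = cj (m H ^ 1) (m U) 1 := by simp [cj]
      rw [h']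
      rcases Nat.lt_or_eq_of_le (show 1 ≤ e from hepos) with h'' | h''
      · exact cj_mem_span _ _ h''
      · subst h''; exact hspan
    · rw [← map_pow]; exact mk_one_rel (by simp [rels])
    · exact ⟨n2, by rw [← map_mul, ← map_pow]; exact mk_rel (by simp [rels])⟩
    · rw [eq_inv_iff_mul_eq_one, ← map_inv, ← map_mul, ← map_mul, ← map_mul]
      exact mk_one_rel (by simp [rels])
    · have hin : ∀ {w : FreeGroup (Fin 3)}, w ∈ spanCj (H ^ 1) U e →
          m w ∈ spanCj (m H ^ 1) (m U) e := fun hw => by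
        rw [← map_pow]; exact mem_span_mk _ hw
      rintro c (rfl | rfl)
      · refine ⟨m wc, hin hwc, (toGroup_mk hrels wc).trans (by simpa using hfc),
          m wa, hin hwa, m wa, hin hwa, l, ?_⟩
        simp only [← map_mul, ← map_pow]; exact mk_rel (by simp [rels])
      · refine ⟨m wc', hin hwc', (toGroup_mk hrels wc').trans hfc',
          m wa', hin hwa', m wa', hin hwa', l', ?_⟩
        simp only [← map_mul, ← map_pow]; exact mk_rel (by simp [rels])
  · -- degree at least three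
    obtain ⟨x, y, hxy, hxgen⟩ := exists_consecutive_squares p e hp hF (by omega)
    obtain ⟨i, hi⟩ := zpow_surjective hζ x
    obtain ⟨j, hj⟩ := zpow_surjective hζ y
    have hμi : D.μ ^ i = (x : F) ^ 2 := by
      rw [← hμ, ← pow_mul, mul_comm, pow_mul, hi, Units.val_pow_eq_pow_val]
    have hμj : D.μ ^ j = (y : F) ^ 2 := by
      rw [← hμ, ← pow_mul, mul_comm, pow_mul, hj, Units.val_pow_eq_pow_val]
    have hb : AddSubgroup.closure ((fun k => (D.μ ^ i) ^ k) '' Set.Iio e) = ⊤ := by
      rw [hμi]; exact basis_of_generic p e hF _ hxgen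
    have hgX : FreeGroup.lift g (H ^ i) = D.hq ^ i := by rw [map_pow, hgH]
    obtain ⟨w, hw, hfw⟩ := D.exists_word (FreeGroup.lift g) i hgX hgU hb (D.μ ^ (i * e))
    obtain ⟨w5, hw5, hfw5⟩ := D.exists_word (FreeGroup.lift g) i hgX hgU hb D.μ
    obtain ⟨wc, wa, l, hwc, hwa, hfc, hst1⟩ := steer i e hb 1
    obtain ⟨wc', wa', l', hwc', hwa', hfc', hst2⟩ := steer i e hb ζ
    let rels : Finset (FreeGroup (Fin 3)) :=
      insert (U ^ p) {U * cj (H ^ i) U 1 * (cj (H ^ i) U 1 * U)⁻¹,
        H ^ j * U * (H ^ j)⁻¹ * (U * cj (H ^ i) U 1)⁻¹,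
        cj (H ^ i) U e * w⁻¹ * (H ^ N)⁻¹, H * U * H⁻¹ * w5⁻¹,
        T * T * (H ^ n2)⁻¹, T * H * T⁻¹ * H, T * wc * T * (wa * H ^ l * T * wa)⁻¹,
        T * wc' * T * (wa' * H ^ l' * T * wa')⁻¹}
    have hrels : ∀ r ∈ (↑rels : Set (FreeGroup (Fin 3))), FreeGroup.lift g r = 1 := by
      intro r hr
      simp only [rels, Finset.coe_insert, Finset.coe_singleton, Set.mem_insert_iff,
        Set.mem_singleton_iff] at hr
      rcases hr with rfl | rfl | rfl | rfl | rfl | rfl | rfl | rfl | rfl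
      · rw [map_pow, hgU]
        show π (un 1) ^ p = 1
        have : ∀ n : ℕ, π (un (1 : F)) ^ n = π (un (n : F)) := by
          intro n
          induction n with
          | zero => rw [pow_zero, Nat.cast_zero]; exact D.ν_zero.symm
          | succ n ih => rw [pow_succ, ih, ← map_mul, ← un_add]; simp
        rw [this, CharP.cast_eq_zero]; exact D.ν_zero
      · rw [map_mul, map_inv, mul_inv_eq_one]
        simp only [map_mul, map_inv, map_cj, map_pow, hgU, hgH, cj, pow_one, D.hq_pow_conj, ← D.ν_add]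
        rw [add_comm]
      · rw [map_mul, map_inv, mul_inv_eq_one]
        simp only [map_mul, map_inv, map_cj, map_pow, hgU, hgH, cj, pow_one, D.hq_pow_conj,
          ← D.ν_add, mul_one, hμi, hμj, hxy]
        rw [add_comm]
      · rw [map_mul, map_inv, mul_inv_eq_one, map_mul, map_inv, hfw, map_cj, map_pow, hgH, hgU,
          cj, ← pow_mul, D.hq_pow_conj, mul_one, mul_inv_cancel, map_pow, hgH]
        exact hN.symm
      · simp only [map_mul, map_inv, hgH, hgU, hfw5, D.hq_conj, mul_one, mul_inv_cancel]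
      · rw [map_mul, map_inv, mul_inv_eq_one, map_mul, map_pow, hgT, hgH, hm1]
      · simp only [map_mul, map_inv, hgT, hgH, hconj, inv_mul_cancel]
      · exact hst1
      · exact hst2
    have hcard : rels.card ≤ 9 := by
      simp only [rels]
      repeat refine (Finset.card_insert_le _ _).trans (Nat.succ_le_succ ?_)
      simp
    refine ⟨rels, hcard, ?_⟩
    set m := PresentedGroup.mk (↑rels : Set (FreeGroup (Fin 3))) with hm
    have hmx : ∀ k, m (cj (H ^ i) U k) = cj (m H ^ i) (m U) k := fun k => by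
      rw [hm, mk_cj, map_pow]
    have hin : ∀ {w : FreeGroup (Fin 3)}, w ∈ spanCj (H ^ i) U e →
        m w ∈ spanCj (m H ^ i) (m U) e := fun hw => by
      rw [← map_pow]; exact mem_span_mk _ hw
    have h1c : Commute (m U) (cj (m H ^ i) (m U) 1) := by
      have : m (U * cj (H ^ i) U 1) = m (cj (H ^ i) U 1 * U) := mk_rel (by simp [rels])
      rw [map_mul, map_mul, hmx] at this
      exact this
    have hy : m H ^ j * m U * (m H ^ j)⁻¹ = m U * cj (m H ^ i) (m U) 1 := by
      rw [← hmx]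
      simp only [← map_pow, ← map_inv, ← map_mul]
      exact mk_rel (by simp [rels])
    have hxy' : Commute (m H ^ i) (m H ^ j) := Commute.pow_pow_self _ _ _
    have hall := neumann hxy' h1c hy
    have hspanN : cj (m H ^ i) (m U) e * (m w)⁻¹ = m H ^ N := by
      rw [← hmx, ← map_inv, ← map_mul, ← map_pow]; exact mk_rel (by simp [rels])
    have hwall : m w ∈ closure (Set.range (cj (m H ^ i) (m U))) :=
      Subgroup.closure_mono (by rintro _ ⟨k, -, rfl⟩; exact ⟨k, rfl⟩) (hin hw)
    have hN1 : m H ^ N = 1 := by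
      refine eq_one_of_fixed hxy' hall hy ?_ (Commute.pow_pow_self _ _ _) (Commute.pow_pow_self _ _ _)
      rw [← hspanN]
      exact mul_mem (subset_closure ⟨e, rfl⟩) (inv_mem hwall)
    have hspan : cj (m H ^ i) (m U) e ∈ spanCj (m H ^ i) (m U) e := by
      rw [hN1, mul_inv_eq_one] at hspanN
      rw [hspanN]; exact hin hw
    refine ⟨MulEquiv.ofBijective _ (bijective_of_relations D (u := m U) (h := m H) (t := m T)
      (x := m H ^ i) (PresentedGroup.toGroup hrels) p e N i (ζ : F) (hgen _)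
      ((toGroup_mk hrels H).trans hgH) ((toGroup_mk hrels U).trans hgU) rfl (by omega) hF
      ?_ (fun a _ b _ => commute_cj hall a b) hspan ?_ hb hN1 hNpos ?_ ?_ horbit ?_
      (hsurj i e hb _ hrels) hQ)⟩
    · rw [← map_pow]; exact mk_one_rel (by simp [rels])
    · rw [← map_inv, ← map_mul, ← map_mul, mk_rel (show H * U * H⁻¹ * w5⁻¹ ∈ rels by simp [rels])]
      exact hin hw5
    · exact ⟨n2, by rw [← map_mul, ← map_pow]; exact mk_rel (by simp [rels])⟩
    · rw [eq_inv_iff_mul_eq_one, ← map_inv, ← map_mul, ← map_mul, ← map_mul]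
      exact mk_one_rel (by simp [rels])
    · rintro c (rfl | rfl)
      · refine ⟨m wc, hin hwc, (toGroup_mk hrels wc).trans (by simpa using hfc),
          m wa, hin hwa, m wa, hin hwa, l, ?_⟩
        simp only [← map_mul, ← map_pow]; exact mk_rel (by simp [rels])
      · refine ⟨m wc', hin hwc', (toGroup_mk hrels wc').trans hfc',
          m wa', hin hwa', m wa', hin hwa', l', ?_⟩
        simp only [← map_mul, ← map_pow]; exact mk_rel (by simp [rels])

end Cfsg.Agent.Lead.SL2Pres
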