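import Mathlib
import Cfsg.Agent.Lib.Lead.SL2PresOdd

/-!
The presentations on three generators with five relations in characteristic two.
-/

set_option autoImplicit false

namespace Cfsg.Agent.Lead.SL2Pres

open Matrix Subgroup

variable {F : Type*} [Field F] {Q : Type*} [Group Q]

/-- Consequences of the braid relation between two involutions. -/
theorem braid_consequences {G : Type*} [Group G] {u v : G} (hu : u * u = 1)
    (hb : u * v * u = v * u * v) :
    (u * v * u) * (u * v * u) = 1 ∧
      (u * v * u) * u * (u * v * u) = u * (u * v * u) * u ∧ u⁻¹ * (u * v * u) * u⁻¹ = v := by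
  have hvc : v = (u * v) * u * (u * v)⁻¹ := by
    rw [eq_mul_inv_iff_mul_eq, hb]; group
  have hv : v * v = 1 := by
    rw [hvc]
    calc (u * v) * u * (u * v)⁻¹ * ((u * v) * u * (u * v)⁻¹)
        = (u * v) * (u * u) * (u * v)⁻¹ := by group
      _ = 1 := by rw [hu, mul_one, mul_inv_cancel]
  refine ⟨?_, ?_, by group⟩
  · calc (u * v * u) * (u * v * u) = u * v * (u * u) * v * u := by group
      _ = u * (v * v) * u := by rw [hu]; group
      _ = 1 := by rw [hv, mul_one, hu]
  · calc (u * v * u) * u * (u * v * u) = u * v * (u * u) * u * v * u := by group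
      _ = u * (v * u * v) * u := by rw [hu]; group
      _ = u * (u * v * u) * u := by rw [hb]

open scoped Classical in
set_option maxHeartbeats 1000000 in
/-- Characteristic two. -/
theorem even_case [Fintype F] [CharP F 2] (e : ℕ)
    (hF : Nat.card F = 2 ^ e) (π : Matrix.SpecialLinearGroup (Fin 2) F →* Q)
    (hπ : Function.Surjective π) (hinj : Function.Injective fun c => π (un c))
    (hQ : Nat.card Q = 2 ^ e * (2 ^ e - 1) * (2 ^ e + 1)) :
    ∃ rels : Finset (FreeGroup (Fin 3)), rels.card ≤ 5 ∧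
      Nonempty (PresentedGroup (↑rels : Set (FreeGroup (Fin 3))) ≃* Q) := by
  haveI : Fact (Nat.Prime 2) := ⟨Nat.prime_two⟩
  obtain ⟨ζ, hζ⟩ := IsCyclic.exists_generator (α := Fˣ)
  let D := frame π hinj ζ
  have hepos : 0 < e := by
    rcases Nat.eq_zero_or_pos e with rfl | he
    · have := Finite.one_lt_card (α := F); rw [hF] at this; simp at this
    · exact he
  have hμ : (ζ : F) ^ 2 = D.μ := rfl
  set N := 2 ^ e - 1 with hNdef
  have h2e : 2 ≤ 2 ^ e := Nat.le_self_pow hepos.ne' 2
  have hζN : ζ ^ N = 1 := by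
    have := pow_card_eq_one' (x := ζ)
    rwa [Nat.card_units, hF] at this
  have hNodd : Odd N := by
    obtain ⟨k, rfl⟩ := Nat.exists_eq_add_of_le hepos
    exact ⟨2 ^ k - 1, by rw [hNdef, pow_add]; have := Nat.one_le_two_pow (n := k); omega⟩
  have hall : ∀ c : F, c ≠ 0 → ∃ k : ℕ, c = D.μ ^ k := by
    intro c hc
    obtain ⟨n, hn⟩ := zpow_surjective hζ (Units.mk0 c hc)
    have hn' : c = (ζ : F) ^ n := by simpa using congrArg Units.val hn
    rcases Nat.even_or_odd n with ⟨k, hk⟩ | hodd
    · exact ⟨k, by rw [← hμ, ← pow_mul, hn']; congr 1; omega⟩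
    · obtain ⟨k, hk⟩ := Odd.add_odd hodd hNodd
      refine ⟨k, ?_⟩
      rw [← hμ, ← pow_mul, show 2 * k = n + N by omega, pow_add, hn']
      have : (ζ : F) ^ N = 1 := by rw [← Units.val_pow_eq_pow_val, hζN, Units.val_one]
      rw [this, mul_one]
  have hμgen : ∀ d, 0 < d → d ∣ e → d < e → D.μ ^ (2 ^ d) ≠ D.μ := by
    intro d hd _ hlt h
    have hord : orderOf ζ = N := by
      rw [orderOf_eq_card_of_forall_mem_zpowers hζ, Nat.card_units, hF]
    have h1 : ζ ^ (2 * (2 ^ d - 1)) = 1 := by
      apply Units.ext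
      have hne : D.μ ≠ 0 := by rw [← hμ]; exact pow_ne_zero _ ζ.ne_zero
      have h2 : D.μ ^ (2 ^ d - 1) = 1 := by
        apply mul_right_cancel₀ hne
        rw [one_mul, ← pow_succ, Nat.sub_add_cancel Nat.one_le_two_pow, h]
      rw [Units.val_pow_eq_pow_val, pow_mul, Units.val_one]
      exact h2
    have h3 := orderOf_dvd_of_pow_eq_one h1
    rw [hord] at h3
    have h3' : N ∣ 2 ^ d - 1 := hNodd.coprime_two_right.dvd_of_dvd_mul_left h3
    have h4 : 2 ^ (d + 1) ≤ 2 ^ e := Nat.pow_le_pow_right (by omega) hlt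
    have h5 : 2 * 2 ^ d ≤ 2 ^ (d + 1) := by rw [pow_succ']
    have h6 : 1 < 2 ^ d := Nat.one_lt_pow hd.ne' (by omega)
    have := Nat.le_of_dvd (by omega) h3'
    omega
  have hb : AddSubgroup.closure ((fun k => (D.μ ^ 1) ^ k) '' Set.Iio e) = ⊤ := by
    rw [pow_one]; exact basis_of_generic 2 e hF _ hμgen
  let U : FreeGroup (Fin 3) := FreeGroup.of 0
  let V : FreeGroup (Fin 3) := FreeGroup.of 1
  let H : FreeGroup (Fin 3) := FreeGroup.of 2
  let T : FreeGroup (Fin 3) := U * V * U
  let g : Fin 3 → Q := ![π (un 1), π (ln 1), π (dg ζ)]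
  have hgU : FreeGroup.lift g U = D.ν 1 := by simp [g, U]; rfl
  have hgV : FreeGroup.lift g V = π (ln 1) := by simp [g, V]
  have hgH : FreeGroup.lift g H = D.hq := by simp [g, H]; rfl
  have hgT : FreeGroup.lift g T = π tw := by
    show FreeGroup.lift g (U * V * U) = π tw
    rw [map_mul, map_mul, hgU, hgV]
    show π (un 1) * π (ln 1) * π (un 1) = π tw
    rw [← map_mul, ← map_mul, braid.2]
  have hgX : FreeGroup.lift g (H ^ 1) = D.hq ^ 1 := by rw [map_pow, hgH]
  have hN : D.hq ^ N = 1 := by
    show π (dg ζ) ^ N = 1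
    rw [← map_pow, ← dg_pow, hζN, dg_one, map_one]
  have hconj : π tw * D.hq * (π tw)⁻¹ = D.hq⁻¹ := by
    show π tw * π (dg ζ) * (π tw)⁻¹ = (π (dg ζ))⁻¹
    rw [← map_mul, tw_dg, map_mul, mul_inv_cancel_right, ← map_inv]
    congr 1
    rw [eq_inv_iff_mul_eq_one, ← dg_mul, inv_mul_cancel, dg_one]
  have h11 : (1 : F) + 1 = 0 := CharTwo.add_self_eq_zero 1
  have hUU : D.ν 1 * D.ν 1 = 1 := by rw [← D.ν_add, h11, D.ν_zero]
  have hbraid : D.ν 1 * π (ln 1) * D.ν 1 = π (ln 1) * D.ν 1 * π (ln 1) := by
    show π (un 1) * π (ln 1) * π (un 1) = π (ln 1) * π (un 1) * π (ln 1)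
    simp only [← map_mul, braid.1]
  have hgen : ∀ rels : Finset (FreeGroup (Fin 3)), U * U ∈ rels →
      U * V * U * (V * U * V)⁻¹ ∈ rels → closure
      ({PresentedGroup.mk (↑rels : Set _) U, PresentedGroup.mk ↑rels H,
        PresentedGroup.mk ↑rels T} : Set (PresentedGroup (↑rels : Set (FreeGroup (Fin 3))))) = ⊤ := by
    intro rels h1 h2
    set m := PresentedGroup.mk (↑rels : Set (FreeGroup (Fin 3)))
    have hu : m U * m U = 1 := by rw [← map_mul]; exact mk_one_rel h1
    have hb' : m U * m V * m U = m V * m U * m V := by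
      simp only [← map_mul]; exact mk_rel h2
    have hV : m V ∈ closure ({m U, m H, m T} : Set _) := by
      rw [← (braid_consequences hu hb').2.2, ← map_mul, ← map_mul]
      exact mul_mem (mul_mem (inv_mem (subset_closure (Or.inl rfl)))
        (subset_closure (Or.inr (Or.inr rfl)))) (inv_mem (subset_closure (Or.inl rfl)))
    rw [eq_top_iff, ← PresentedGroup.closure_range_of (↑rels : Set (FreeGroup (Fin 3))), closure_le]
    rintro _ ⟨k, rfl⟩
    fin_cases k
    · exact subset_closure (Or.inl rfl)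
    · exact hV
    · exact subset_closure (Or.inr (Or.inl rfl))
  have hsurj : ∀ (rels : Set (FreeGroup (Fin 3))) (h : ∀ r ∈ rels, FreeGroup.lift g r = 1),
      Function.Surjective (PresentedGroup.toGroup h) := by
    intro rels h
    rw [← MonoidHom.range_eq_top]
    refine surjective_of_gens π hπ ζ hζ _ (fun c => ?_) ?_ ?_
    · obtain ⟨w, -, hw⟩ := D.exists_word (FreeGroup.lift g) 1 hgX hgU hb c
      exact ⟨PresentedGroup.mk rels w, (toGroup_mk h w).trans hw⟩
    · exact ⟨PresentedGroup.mk rels H, (toGroup_mk h H).trans hgH⟩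
    · exact ⟨PresentedGroup.mk rels T, (toGroup_mk h T).trans hgT⟩
  have horbit : ∀ c : F, c ≠ 0 → ∃ k : ℕ, c = D.μ ^ k ∨ c = D.μ ^ k * 1 := fun c hc => by
    obtain ⟨k, hk⟩ := hall c hc; exact ⟨k, Or.inl hk⟩
  rcases Nat.lt_or_eq_of_le (show 1 ≤ e from hepos) with he | he
  · -- proper extension of the prime field
    have hne1 : D.μ + 1 ≠ 0 := by
      intro h
      refine hμgen 1 one_pos (one_dvd e) he ?_
      rw [show D.μ = 1 from by
        have h' := CharTwo.neg_eq (1 : F)
        linear_combination h + h']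
      exact one_pow _
    obtain ⟨j, hj⟩ := hall _ hne1
    obtain ⟨w, hw, hfw⟩ := D.exists_word (FreeGroup.lift g) 1 hgX hgU hb (D.μ ^ e)
    let rels : Finset (FreeGroup (Fin 3)) :=
      {U * U, U * V * U * (V * U * V)⁻¹, T * H * T⁻¹ * H,
        H ^ j * U * (H ^ j)⁻¹ * (U * cj (H ^ 1) U 1)⁻¹, cj (H ^ 1) U e * w⁻¹ * (H ^ N)⁻¹}
    have hrels : ∀ r ∈ (↑rels : Set (FreeGroup (Fin 3))), FreeGroup.lift g r = 1 := by
      intro r hr
      simp only [rels, Finset.coe_insert, Finset.coe_singleton, Set.mem_insert_iff,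
        Set.mem_singleton_iff] at hr
      rcases hr with rfl | rfl | rfl | rfl | rfl
      · rw [map_mul, hgU, hUU]
      · rw [map_mul, map_inv, mul_inv_eq_one]
        simp only [map_mul, hgU, hgV, hbraid]
      · simp only [map_mul, map_inv, hgT, hgH, hconj, inv_mul_cancel]
      · rw [map_mul, map_inv, mul_inv_eq_one]
        simp only [map_mul, map_inv, map_cj, map_pow, hgU, hgH, cj, pow_one, D.hq_pow_conj,
          D.hq_conj, ← D.ν_add, mul_one, ← hj]
        rw [add_comm]
      · rw [map_mul, map_inv, mul_inv_eq_one, map_mul, map_inv, hfw, map_cj, map_pow, hgH, hgU,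
          cj, pow_one, D.hq_pow_conj, mul_one, mul_inv_cancel, map_pow, hgH]
        exact hN.symm
    have hcard : rels.card ≤ 5 := by
      simp only [rels]
      repeat refine (Finset.card_insert_le _ _).trans (Nat.succ_le_succ ?_)
      simp
    refine ⟨rels, hcard, ?_⟩
    set m := PresentedGroup.mk (↑rels : Set (FreeGroup (Fin 3))) with hm
    have hmx : ∀ k, m (cj (H ^ 1) U k) = cj (m H ^ 1) (m U) k := fun k => by
      rw [hm, mk_cj, map_pow]
    have hu : m U * m U = 1 := by rw [← map_mul]; exact mk_one_rel (by simp [rels])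
    have hbr : m U * m V * m U = m V * m U * m V := by
      simp only [← map_mul]; exact mk_rel (by simp [rels])
    obtain ⟨htt, htut, -⟩ := braid_consequences hu hbr
    have hmT : m T = m U * m V * m U := by rw [map_mul, map_mul]
    rw [← hmT] at htt htut
    have hin : ∀ {w : FreeGroup (Fin 3)}, w ∈ spanCj (H ^ 1) U e →
        m w ∈ spanCj (m H ^ 1) (m U) e := fun hw => by
      rw [← map_pow]; exact mem_span_mk _ hw
    have hy : m H ^ j * m U * (m H ^ j)⁻¹ = m U * cj (m H ^ 1) (m U) 1 := by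
      rw [← hmx]
      simp only [← map_pow, ← map_inv, ← map_mul]
      exact mk_rel (by simp [rels])
    have h1c : Commute (m U) (cj (m H ^ 1) (m U) 1) := by
      have h1 : (m U * cj (m H ^ 1) (m U) 1) * (m U * cj (m H ^ 1) (m U) 1) = 1 := by
        rw [← hy]
        calc m H ^ j * m U * (m H ^ j)⁻¹ * (m H ^ j * m U * (m H ^ j)⁻¹)
            = m H ^ j * (m U * m U) * (m H ^ j)⁻¹ := by group
          _ = 1 := by rw [hu, mul_one, mul_inv_cancel]
      have h3 : cj (m H ^ 1) (m U) 1 * cj (m H ^ 1) (m U) 1 = 1 := by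
        simp only [cj, pow_one]
        calc m H * m U * (m H)⁻¹ * (m H * m U * (m H)⁻¹) = m H * (m U * m U) * (m H)⁻¹ := by group
          _ = 1 := by rw [hu, mul_one, mul_inv_cancel]
      show m U * cj (m H ^ 1) (m U) 1 = cj (m H ^ 1) (m U) 1 * m U
      rw [eq_inv_of_mul_eq_one_left h1, _root_.mul_inv_rev, inv_eq_of_mul_eq_one_right h3,
        inv_eq_of_mul_eq_one_right hu]
    have hxy' : Commute (m H ^ 1) (m H ^ j) := Commute.pow_pow_self _ _ _
    have hallc := neumann hxy' h1c hy
    have hspanN : cj (m H ^ 1) (m U) e * (m w)⁻¹ = m H ^ N := by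
      rw [← hmx, ← map_inv, ← map_mul, ← map_pow]; exact mk_rel (by simp [rels])
    have hwall : m w ∈ closure (Set.range (cj (m H ^ 1) (m U))) :=
      Subgroup.closure_mono (by rintro _ ⟨k, -, rfl⟩; exact ⟨k, rfl⟩) (hin hw)
    have hN1 : m H ^ N = 1 := by
      refine eq_one_of_fixed hxy' hallc hy ?_ (Commute.pow_pow_self _ _ _) (Commute.pow_pow_self _ _ _)
      rw [← hspanN]
      exact mul_mem (subset_closure ⟨e, rfl⟩) (inv_mem hwall)
    have hspan : cj (m H ^ 1) (m U) e ∈ spanCj (m H ^ 1) (m U) e := by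
      rw [hN1, mul_inv_eq_one] at hspanN
      rw [hspanN]; exact hin hw
    refine ⟨MulEquiv.ofBijective _ (bijective_of_relations D (u := m U) (h := m H) (t := m T)
      (x := m H ^ 1) (PresentedGroup.toGroup hrels) 2 e N 1 1
      (hgen rels (by simp [rels]) (by simp [rels]))
      ((toGroup_mk hrels H).trans hgH) ((toGroup_mk hrels U).trans hgU) rfl (by omega) hF
      (by rw [pow_two]; exact hu) (fun a _ b _ => commute_cj hallc a b) hspan ?_ hb hN1 (by omega)
      ⟨0, by rw [htt, pow_zero]⟩ ?_ horbit ?_ (hsurj _ hrels) hQ)⟩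
    · have : m H * m U * (m H)⁻¹ = cj (m H ^ 1) (m U) 1 := by simp [cj]
      rw [this]; exact cj_mem_span _ _ he
    · rw [eq_inv_iff_mul_eq_one, ← map_inv, ← map_mul, ← map_mul, ← map_mul]
      exact mk_one_rel (by simp [rels])
    · rintro c hc
      have hc1 : c = 1 := hc.elim id id
      subst hc1
      have hU : m U ∈ spanCj (m H ^ 1) (m U) e := by
        have h := cj_mem_span (m H ^ 1) (m U) (show 0 < e by omega)
        rw [cj_zero] at h
        exact h
      exact ⟨m U, hU, (toGroup_mk hrels U).trans hgU, m U, hU, m U, hU, 0, by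
        rw [htut, pow_zero, mul_one]⟩
  · -- the field with two elements
    subst he
    have hN' : N = 1 := by simp [hNdef]
    let rels : Finset (FreeGroup (Fin 3)) := {U * U, U * V * U * (V * U * V)⁻¹, H}
    have hH1 : D.hq = 1 := by rw [← pow_one D.hq, ← hN', hN]
    have hrels : ∀ r ∈ (↑rels : Set (FreeGroup (Fin 3))), FreeGroup.lift g r = 1 := by
      intro r hr
      simp only [rels, Finset.coe_insert, Finset.coe_singleton, Set.mem_insert_iff,
        Set.mem_singleton_iff] at hr
      rcases hr with rfl | rfl | rfl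
      · rw [map_mul, hgU, hUU]
      · rw [map_mul, map_inv, mul_inv_eq_one]
        simp only [map_mul, hgU, hgV, hbraid]
      · rw [hgH, hH1]
    have hcard : rels.card ≤ 5 := by
      refine le_trans ?_ (show 3 ≤ 5 by norm_num)
      simp only [rels]
      repeat refine (Finset.card_insert_le _ _).trans (Nat.succ_le_succ ?_)
      simp
    refine ⟨rels, hcard, ?_⟩
    set m := PresentedGroup.mk (↑rels : Set (FreeGroup (Fin 3))) with hm
    have hu : m U * m U = 1 := by rw [← map_mul]; exact mk_one_rel (by simp [rels])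
    have hbr : m U * m V * m U = m V * m U * m V := by
      simp only [← map_mul]; exact mk_rel (by simp [rels])
    obtain ⟨htt, htut, -⟩ := braid_consequences hu hbr
    have hmT : m T = m U * m V * m U := by rw [map_mul, map_mul]
    rw [← hmT] at htt htut
    have hh : m H = 1 := mk_one_rel (by simp [rels])
    have hU : m U ∈ spanCj (m H ^ 1) (m U) 1 := by
      have h := cj_mem_span (m H ^ 1) (m U) (show 0 < 1 from one_pos)
      rw [cj_zero] at h
      exact h
    refine ⟨MulEquiv.ofBijective _ (bijective_of_relations D (u := m U) (h := m H) (t := m T)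
      (x := m H ^ 1) (PresentedGroup.toGroup hrels) 2 1 N 1 1
      (hgen rels (by simp [rels]) (by simp [rels]))
      ((toGroup_mk hrels H).trans hgH) ((toGroup_mk hrels U).trans hgU) rfl (by omega) hF
      (by rw [pow_two]; exact hu) ?_ ?_ ?_ hb (by rw [hh, one_pow]) (by omega)
      ⟨0, by rw [htt, pow_zero]⟩ (by simp [hh]) horbit ?_ (hsurj _ hrels) hQ)⟩
    · intro a ha b hb'
      obtain rfl : a = 0 := by omega
      obtain rfl : b = 0 := by omega
      exact Commute.refl _
    · simpa [cj, hh] using hU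
    · simpa [hh] using hU
    · rintro c hc
      have hc1 : c = 1 := hc.elim id id
      subst hc1
      exact ⟨m U, hU, (toGroup_mk hrels U).trans hgU, m U, hU, m U, hU, 0, by
        rw [htut, pow_zero, mul_one]⟩

end Cfsg.Agent.Lead.SL2Pres
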