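import Cfsg.Agent.Lib.Lead.SL2Ind
import Cfsg.Agent.Lib.Small.SL2.ClassSize
import Cfsg.Agent.Lib.Small.SL2.Torus
import Cfsg.Agent.Lib.Char.Exceptional
import Cfsg.Agent.Lib.Char.Coherence
import Cfsg.Agent.Lib.Char.Linear
import Mathlib

/-!
The discrete series of SL(2,q), q odd, through induction from a non-split torus.
-/

set_option autoImplicit false
set_option linter.unusedSectionVars false

namespace Cfsg.Agent.Lead.SL2T

open Cfsg Cfsg.Agent.Lead.GL2 Cfsg.Agent.Lead.SL2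
open Cfsg.Agent.Small.SL2C (IsSc roots sol tor)
open scoped ComplexConjugate Matrix

universe u

variable {F : Type u} [Field F] [Fintype F] [DecidableEq F]

local notation "S2" => Matrix.SpecialLinearGroup (Fin 2) F
local notation "q" => Fintype.card F

theorem q_three_le (hodd : Odd q) : 3 ≤ q := by
  have := Fintype.one_lt_card (α := F)
  rw [Nat.odd_iff] at hodd
  omega

theorem sc_cases {g : S2} (h : IsSc g.1) : g = 1 ∨ g = zSL := by
  rcases Small.SL2C.isSc_SL h with h | h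
  · exact Or.inl (Subtype.ext h)
  · exact Or.inr (Subtype.ext h)

theorem one_ne_zSL (hodd : Odd q) : (1 : S2) ≠ zSL := fun h => by
  have := congrArg (fun g : S2 => (g : Matrix (Fin 2) (Fin 2) F) 0 0) h
  simp [zSL] at this
  exact two_ne_zero' hodd (by linear_combination this)

theorem isSc_one : IsSc ((1 : S2) : Matrix (Fin 2) (Fin 2) F) := ⟨1, by simp⟩

theorem isSc_zSL : IsSc ((zSL : S2) : Matrix (Fin 2) (Fin 2) F) := ⟨-1, by simp [zSL]⟩

theorem mem_center_iff' {g : S2} : g ∈ Subgroup.center S2 ↔ IsSc g.1 :=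
  Small.SL2C.mem_center_iff

theorem noEigen_of_roots {g : S2} (ht : g.1.trace * g.1.trace ≠ 4) (hr : roots g.1.trace 1 = 0)
    (c : F) (v : Fin 2 → F) (hv : v ≠ 0) :
    (g : Matrix (Fin 2) (Fin 2) F).mulVec v ≠ c • v := fun h => by
  rw [Small.SL2C.roots_two_of_trace hv h ht] at hr
  exact absurd hr two_ne_zero

theorem roots_of_noEigen {g : S2}
    (h : ∀ (c : F) (v : Fin 2 → F), v ≠ 0 → (g : Matrix (Fin 2) (Fin 2) F).mulVec v ≠ c • v) :
    roots g.1.trace 1 = 0 := by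
  by_contra hne
  obtain ⟨v, c, hv, e⟩ := Small.SL2C.exists_eigen_of_roots hne
  exact h c v hv e

theorem trace_eq (g : S2) : g.1.trace =
    (g : Matrix (Fin 2) (Fin 2) F) 0 0 + (g : Matrix (Fin 2) (Fin 2) F) 1 1 := Matrix.trace_fin_two _

/-- A non-split torus. -/
structure Tor (C : Subgroup S2) : Prop where
  cyc : IsCyclic C
  card : Nat.card C = q + 1

variable {C : Subgroup (Matrix.SpecialLinearGroup (Fin 2) F)}

theorem Tor.comm (hC : Tor C) {a b : S2} (ha : a ∈ C) (hb : b ∈ C) : a * b = b * a := by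
  haveI := hC.cyc
  exact congrArg Subtype.val (IsCyclic.commGroup.mul_comm (⟨a, ha⟩ : C) ⟨b, hb⟩)

theorem Tor.zSL_mem (hodd : Odd q) (hC : Tor C) : (zSL : S2) ∈ C := by
  classical
  haveI : Fact (Nat.Prime 2) := ⟨Nat.prime_two⟩
  haveI : Fintype C := Fintype.ofFinite _
  obtain ⟨x, hx⟩ := exists_prime_orderOf_dvd_card (G := C) 2 (by
    rw [← Nat.card_eq_fintype_card, hC.card]; rw [Nat.odd_iff] at hodd; omega)
  have h1 : (x : S2) * x = 1 := by
    rw [← Subgroup.coe_mul, ← pow_two]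
    have hx2 : x ^ 2 = 1 := orderOf_dvd_iff_pow_eq_one.1 hx.dvd
    rw [hx2, OneMemClass.coe_one]
  rcases sc_cases (g := (x : S2)) (by
    rcases Small.SL2C.sq_one_cases (two_ne_zero' hodd) h1 with h | h
    · exact ⟨1, by rw [h, one_smul]⟩
    · exact ⟨-1, by rw [h, neg_one_smul]⟩) with h | h
  · have : x = 1 := Subtype.ext h
    rw [this, orderOf_one] at hx
    exact absurd hx (by norm_num)
  · exact h ▸ x.2

/-- Non-central elements of a non-split torus are elliptic with that torus as centraliser. -/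
theorem Tor.spec (hodd : Odd q) (hC : Tor C) {c : S2} (hc : c ∈ C) (hns : ¬ IsSc c.1) :
    c.1.trace * c.1.trace ≠ 4 ∧ roots c.1.trace 1 = 0 ∧ tor c = C := by
  have hle : C ≤ tor c := fun x hx => Subgroup.mem_centralizer_singleton_iff.2 (hC.comm hx hc)
  have hd := Subgroup.card_dvd_of_le hle
  rw [hC.card, Small.SL2C.card_centralizer c hns] at hd
  have h3 := q_three_le hodd
  have ht : c.1.trace * c.1.trace ≠ 4 := by
    intro h4
    rw [Small.SL2C.sol_parab h4, Small.SL2C.card_sq_one_odd (two_ne_zero' hodd)] at hd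
    have hco : Nat.Coprime (q + 1) q := by simp
    have := Nat.le_of_dvd (by norm_num) (hco.dvd_of_dvd_mul_left hd)
    omega
  rcases Small.SL2C.sol_eq ht with ⟨-, h⟩ | ⟨hr, h⟩
  · rw [h] at hd
    have := Nat.le_of_dvd (by omega) hd
    omega
  · refine ⟨ht, hr, (Subgroup.eq_of_le_of_card_ge hle ?_).symm⟩
    rw [Small.SL2C.card_centralizer c hns, h, hC.card]

theorem Tor.tor_of (hodd : Odd q) {g : S2}
    (hg : ∀ (c : F) (v : Fin 2 → F), v ≠ 0 → (g : Matrix (Fin 2) (Fin 2) F).mulVec v ≠ c • v) :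
    Tor (tor g) ∧ ¬ IsSc g.1 := by
  have ht : g.1.trace * g.1.trace ≠ 4 := fun h => noEigen_trace (two_ne_zero' hodd) hg (by
    rw [← trace_eq, sq]; exact h)
  have hns := Small.SL2C.not_isSc_of_trace ht
  refine ⟨⟨Small.SL2C.isCyclic_centralizer ht, ?_⟩, hns⟩
  rw [Small.SL2C.card_centralizer g hns]
  rcases Small.SL2C.sol_eq ht with ⟨h2, -⟩ | ⟨-, h⟩
  · rw [roots_of_noEigen hg] at h2; omega
  · exact h

theorem trace_conj_eq (x g : S2) : (x⁻¹ * g * x).1.trace = g.1.trace :=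
  (Small.SL2C.trace_conj (isConj_iff.2 ⟨x⁻¹, by rw [inv_inv]⟩)).symm

theorem conj_not_sc (x : S2) {g : S2} (hg : ¬ IsSc g.1) : ¬ IsSc (x⁻¹ * g * x).1 := fun h => by
  have e := Small.SL2C.isSc_conj (g := x⁻¹ * g * x) (h := g) (isConj_iff.2 ⟨x, by group⟩) h
  exact hg (e ▸ h)

/-- Within the centraliser of a semisimple element, the trace determines up to inversion. -/
theorem eq_or_inv {c y : S2} (h2 : (2 : F) ≠ 0) (ht : c.1.trace * c.1.trace ≠ 4) (hy : y ∈ tor c)
    (he : y.1.trace = c.1.trace) : y = c ∨ y = c⁻¹ := by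
  obtain ⟨a, b, h, hd⟩ := Small.SL2C.exists_of_mem_tor (Small.SL2C.not_isSc_of_trace ht) hy
  rw [h, Small.SL2C.comb_trace] at he
  have h1 : (b - 1) * (b + 1) * (c.1.trace * c.1.trace - 4) = 0 := by
    linear_combination (2 * a + b * c.1.trace + c.1.trace) * he - 4 * hd
  rcases mul_eq_zero.1 ((mul_eq_zero.1 h1).resolve_right (sub_ne_zero.2 ht)) with hb | hb
  · refine Or.inl (Subtype.ext ?_)
    have hb' : b = 1 := by linear_combination hb
    have ha : a = 0 := by
      subst hb'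
      exact (mul_eq_zero.1 (show (2 : F) * a = 0 by linear_combination he)).resolve_left h2
    rw [h, hb', ha, Small.SL2C.comb, zero_smul, one_smul, zero_add]
  · refine Or.inr (Subtype.ext ?_)
    have hb' : b = -1 := by linear_combination hb
    have ha : a = c.1.trace := by
      subst hb'
      refine mul_left_cancel₀ h2 ?_
      linear_combination he
    rw [Small.SL2C.inv_val, h, hb', ha, Small.SL2C.comb, neg_one_smul, sub_eq_add_neg]

/-- Linear characters as functions. -/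
abbrev fn {H : Type u} [Group H] (θ : H →* ℂˣ) : H → ℂ := fun c => (θ c : ℂ)

theorem conj_fn {H : Type u} [Group H] [Finite H] (θ : H →* ℂˣ) (c : H) :
    conj (fn θ c) = fn θ c⁻¹ :=
  (Char.char_inv (χ := fn θ) (Char.isCharacter_linear θ) c).symm

/-- The character induced from the torus. -/
noncomputable def ind (θ : C →* ℂˣ) : S2 → ℂ := indFun C (fn θ)

theorem ind_isClass (θ : C →* ℂˣ) : IsClassFunction S2 (ind θ) := Char.isClassFunction_indFun _ _

theorem card_SL_q : Nat.card S2 = q * (q ^ 2 - 1) := Small.SL2C.card_SL2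

theorem Tor.index (hC : Tor C) : (C.index : ℂ) = (q : ℂ) * ((q : ℂ) - 1) := by
  have h := C.card_mul_index
  rw [hC.card, card_SL_q] at h
  obtain ⟨n, hn⟩ : ∃ n, q = n + 1 := ⟨q - 1, by have := Fintype.one_lt_card (α := F); omega⟩
  rw [hn] at h ⊢
  have e : (n + 1) ^ 2 - 1 = n * (n + 2) := by
    have : (n + 1) ^ 2 = n * (n + 2) + 1 := by ring
    omega
  rw [e] at h
  have : C.index = (n + 1) * n := by
    refine Nat.eq_of_mul_eq_mul_left (show 0 < n + 1 + 1 by omega) (h.trans ?_)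
    ring
  rw [this]; push_cast; ring

theorem ind_one (hC : Tor C) (θ : C →* ℂˣ) : ind θ 1 = (q : ℂ) * ((q : ℂ) - 1) := by
  rw [ind, Char.indFun_one, hC.index, fn, map_one, Units.val_one, mul_one]

theorem ind_zSL (hC : Tor C) (θ : C →* ℂˣ) (hz : (zSL : S2) ∈ C) :
    ind θ zSL = (q : ℂ) * ((q : ℂ) - 1) * fn θ ⟨zSL, hz⟩ := by
  haveI : Fintype C := Fintype.ofFinite _
  rw [ind, indFun]
  have hx : ∀ x : S2, x⁻¹ * zSL * x = zSL := fun x => by
    rw [mul_assoc, ← zSL_comm x, ← mul_assoc, inv_mul_cancel, one_mul]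
  simp only [hx, Char.extendByZero_mem _ _ hz, Finset.sum_const, Finset.card_univ, nsmul_eq_mul]
  rw [← hC.index, ← Nat.card_eq_fintype_card, ← C.card_mul_index]
  have h0 : (Nat.card C : ℂ) ≠ 0 := Nat.cast_ne_zero.2 Nat.card_pos.ne'
  push_cast
  field_simp

theorem ind_outside (hodd : Odd q) (hC : Tor C) (θ : C →* ℂˣ) {g : S2} (hg : ¬ IsSc g.1)
    (h : g.1.trace * g.1.trace = 4 ∨ roots g.1.trace 1 ≠ 0) : ind θ g = 0 := by
  rw [ind, indFun, Finset.sum_eq_zero, mul_zero]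
  intro x _
  refine Char.extendByZero_not_mem _ _ fun hm => ?_
  obtain ⟨h4, hr, -⟩ := hC.spec hodd hm (conj_not_sc x hg)
  rw [trace_conj_eq] at h4 hr
  exact h.elim h4 (fun h' => h' hr)

theorem ind_mem (hodd : Odd q) (hC : Tor C) (θ : C →* ℂˣ) (c : C) (hns : ¬ IsSc c.1.1) :
    ind θ c.1 = fn θ c + fn θ c⁻¹ := by
  classical
  obtain ⟨ht, hr, htor⟩ := hC.spec hodd c.2 hns
  haveI : Fintype C := Fintype.ofFinite _
  have hinv : (c.1)⁻¹ ≠ c.1 := Small.SL2C.inv_ne_self ht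
  have hne : ∀ x : S2, x⁻¹ * c.1 * x = c.1 → x⁻¹ * c.1 * x ≠ c.1⁻¹ := fun x h => by
    rw [h]; exact hinv.symm
  have key : ∀ x : S2, extendByZero C (fn θ) (x⁻¹ * c.1 * x) =
      (if x⁻¹ * c.1 * x = c.1 then fn θ c else 0) + (if x⁻¹ * c.1 * x = c.1⁻¹ then fn θ c⁻¹ else 0) := by
    intro x
    by_cases hm : x⁻¹ * c.1 * x ∈ C
    · rw [Char.extendByZero_mem _ _ hm]
      rcases eq_or_inv (two_ne_zero' hodd) ht (htor.symm.le hm) (trace_conj_eq x c.1) with e | e
      · rw [if_pos e, if_neg (hne x e), add_zero]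
        exact congrArg (fn θ) (Subtype.ext e)
      · rw [if_neg (fun e' => hne x e' e), if_pos e, zero_add]
        exact congrArg (fn θ) (Subtype.ext e)
    · have h1 : x⁻¹ * c.1 * x ≠ c.1 := fun e => hm (by rw [e]; exact c.2)
      have h2 : x⁻¹ * c.1 * x ≠ c.1⁻¹ := fun e => hm (by rw [e]; exact C.inv_mem c.2)
      rw [Char.extendByZero_not_mem _ _ hm, if_neg h1, if_neg h2, add_zero]
  have hcnt1 : (Finset.univ.filter fun x : S2 => x⁻¹ * c.1 * x = c.1).card = Nat.card C := by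
    rw [← Fintype.card_subtype, ← Nat.card_eq_fintype_card]
    refine Nat.card_congr (Equiv.subtypeEquivRight fun x => ?_)
    rw [show x ∈ C ↔ x ∈ tor c.1 by rw [htor], Subgroup.mem_centralizer_singleton_iff]
    constructor
    · intro h; rw [← inv_mul_cancel_left x (x * c.1)]
      conv_lhs => rw [← h]
      group
    · intro h; rw [mul_assoc, ← h, inv_mul_cancel_left]
  obtain ⟨s, hs⟩ := Small.SL2C.exists_inverter ht
  have hcnt2 : (Finset.univ.filter fun x : S2 => x⁻¹ * c.1 * x = c.1⁻¹).card = Nat.card C := by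
    rw [← hcnt1]
    refine Finset.card_equiv (Equiv.mulRight s) fun x => ?_
    simp only [Finset.mem_filter, Finset.mem_univ, true_and, Equiv.coe_mulRight]
    have hs' : s⁻¹ * c.1⁻¹ * s = c.1 := by rw [mul_assoc, ← hs, inv_mul_cancel_left]
    constructor
    · intro h; rw [show (x * s)⁻¹ * c.1 * (x * s) = s⁻¹ * (x⁻¹ * c.1 * x) * s by group, h, hs']
    · intro h
      rw [show x⁻¹ * c.1 * x = s * ((x * s)⁻¹ * c.1 * (x * s)) * s⁻¹ by group, h, hs,
        mul_inv_cancel_right]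
  rw [ind, indFun, Finset.sum_congr rfl (fun x _ => key x), Finset.sum_add_distrib, Finset.sum_ite,
    Finset.sum_ite, Finset.sum_const_zero, Finset.sum_const_zero, add_zero, add_zero,
    Finset.sum_const, Finset.sum_const, hcnt1, hcnt2, nsmul_eq_mul, nsmul_eq_mul]
  have h0 : (Nat.card C : ℂ) ≠ 0 := Nat.cast_ne_zero.2 Nat.card_pos.ne'
  field_simp

/-- `St ⊗ R γ - R γ`. -/
noncomputable def X (γ : MulChar F ℂ) : S2 → ℂ := fun g => St0 g * R γ g - R γ g

theorem St0_uSL {x : F} (hx : x ≠ 0) (z : Bool) :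
    St0 ((if z then zSL else 1) * uSL x : S2) = 0 := by
  have : toGL2 ((if z then zSL else 1) * uSL x : S2) =
      up (if z then -1 else 1) (if z then -1 else 1) ((if z then -1 else 1) * x) := by
    cases z
    · simp [toGL2_uSL]
    · simp only [if_true]
      rw [toGL2, map_mul, ← toGL2, ← toGL2, toGL2_zSL, toGL2_uSL]
      refine ext2 ?_ ?_ ?_ ?_ <;> simp [mat, up, Matrix.mul_apply, Fin.sum_univ_two]
  simp only [St0, res, this, st, Pi.sub_apply, ps_borel, linDet_up, MulChar.one_apply_coe]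
  cases z <;> simp [hx]

theorem R_uSL (γ : MulChar F ℂ) {x : F} (hx : x ≠ 0) (z : Bool) :
    R γ ((if z then zSL else 1) * uSL x : S2) = if z then γ (-1 : F) else 1 := by
  have : toGL2 ((if z then zSL else 1) * uSL x : S2) =
      up (if z then -1 else 1) (if z then -1 else 1) ((if z then -1 else 1) * x) := by
    cases z
    · simp [toGL2_uSL]
    · simp only [if_true]
      rw [toGL2, map_mul, ← toGL2, ← toGL2, toGL2_zSL, toGL2_uSL]
      refine ext2 ?_ ?_ ?_ ?_ <;> simp [mat, up, Matrix.mul_apply, Fin.sum_univ_two]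
  simp only [R, res, this, ps_borel]
  cases z <;> simp [hx, MulChar.one_apply isUnit_one.neg]

theorem R_zSL (γ : MulChar F ℂ) : R γ (zSL : S2) = γ (-1 : F) * ((q : ℂ) + 1) := by
  rw [R, res, toGL2_zSL, ps_borel]
  simp [MulChar.one_apply isUnit_one.neg]
  ring

theorem St0_zSL : St0 (zSL : S2) = (q : ℂ) := by
  simp only [St0, res, toGL2_zSL, st, Pi.sub_apply, ps_borel, linDet_up]
  simp [MulChar.one_apply isUnit_one.neg]

theorem X_one (γ : MulChar F ℂ) : X γ (1 : S2) = (q : ℂ) ^ 2 - 1 := by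
  rw [X, R_one_val, St0_one_val]; ring

theorem X_zSL (γ : MulChar F ℂ) : X γ (zSL : S2) = γ (-1 : F) * ((q : ℂ) ^ 2 - 1) := by
  rw [X, R_zSL, St0_zSL]; ring

theorem X_uSL (γ : MulChar F ℂ) {x : F} (hx : x ≠ 0) : X γ (uSL x : S2) = -1 := by
  have h1 := St0_uSL (F := F) hx false
  have h2 := R_uSL γ hx false
  simp only [Bool.false_eq_true, if_false, one_mul] at h1 h2
  rw [X, h1, h2]; ring

theorem X_zuSL (γ : MulChar F ℂ) {x : F} (hx : x ≠ 0) : X γ (zSL * uSL x : S2) = -γ (-1 : F) := by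
  have h1 := St0_uSL (F := F) hx true
  have h2 := R_uSL γ hx true
  simp only [if_true] at h1 h2
  rw [X, h1, h2]; ring

theorem St0_conj (P : GL (Fin 2) F) (s : S2) : St0 (conjSL P s) = St0 s := by
  refine res_conj ?_ P s
  intro a b
  simp only [st, Pi.sub_apply, Char.isClassFunction_character (isCharacter_ps 1 1) a b]
  congr 1
  simp only [linDet]
  rw [mat, Units.val_mul, Units.val_mul, Matrix.det_units_conj]

theorem R_conj (γ : MulChar F ℂ) (P : GL (Fin 2) F) (s : S2) : R γ (conjSL P s) = R γ s :=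
  res_conj (Char.isClassFunction_character (isCharacter_ps _ _)) P s

theorem X_conj (γ : MulChar F ℂ) (P : GL (Fin 2) F) (s : S2) : X γ (conjSL P s) = X γ s := by
  rw [X, X, St0_conj, R_conj]

theorem X_off (hodd : Odd q) (γ : MulChar F ℂ) (g : S2)
    (h : ((g : Matrix (Fin 2) (Fin 2) F) 0 0 + (g : Matrix (Fin 2) (Fin 2) F) 1 1) ^ 2 ≠ 4) :
    X γ g = 0 := by
  have ht : g.1.trace * g.1.trace ≠ 4 := by rwa [trace_eq, ← sq]
  by_cases hr : roots g.1.trace 1 = 0
  · have hR : R γ g = 0 := ps_elliptic _ _ (noEigen_toGL2 (noEigen_of_roots ht hr))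
    rw [X, hR]; ring
  · obtain ⟨k, hk⟩ : ∃ k : F, k * k + g.1.trace * k + 1 = 0 := by
      obtain ⟨⟨k, hk⟩⟩ := (Nat.card_ne_zero.1 hr).1
      exact ⟨k, hk⟩
    have hk0 : k ≠ 0 := by rintro rfl; simp at hk
    obtain ⟨d, hd⟩ : ∃ d : S2, (d : Matrix (Fin 2) (Fin 2) F) = !![-k, 0; 0, -k⁻¹] :=
      ⟨⟨!![-k, 0; 0, -k⁻¹], by simp [Matrix.det_fin_two, hk0]⟩, rfl⟩
    have htd : d.1.trace = g.1.trace := by
      rw [show d.1 = !![-k, 0; 0, -k⁻¹] from hd, Matrix.trace_fin_two]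
      simp
      field_simp
      linear_combination -hk
    obtain ⟨s, hs⟩ := isConj_iff.1 (Small.SL2C.isConj_of_trace
      (Small.SL2C.not_isSc_of_trace (g := d) (by rwa [htd])) (Small.SL2C.not_isSc_of_trace ht) htd
      (Or.inr (by rwa [htd])))
    have e : g = conjSL (toGL2 s) d := toGL2_injective (by
      rw [toGL2_conjSL, ← hs, toGL2, map_mul, map_mul, map_inv])
    obtain ⟨a, ha, hda⟩ := toGL2_diag (g := d) (by rw [hd]; simp) (by rw [hd]; simp)
    have ha2 : (a : F) ^ 2 ≠ 1 := by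
      intro hh
      rw [hd] at ha
      simp at ha
      rw [ha] at hh
      apply ht
      have h1 : g.1.trace * k = -2 := by linear_combination hk - hh
      have : (g.1.trace * g.1.trace - 4) * (k * k) = 0 := by
        linear_combination (g.1.trace * k - 2) * h1 - 4 * hh
      exact sub_eq_zero.1 ((mul_eq_zero.1 this).resolve_right (mul_ne_zero hk0 hk0))
    rw [e, X_conj, X]
    have hst : St0 d = 1 := by
      simp only [St0, res, hda, st, Pi.sub_apply, ps_diag _ _ _ _ (diag_ne ha2), linDet_up,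
        MulChar.one_apply_coe]
      norm_num
    rw [hst]; ring

/-- Inner product against a function supported on elements with trace `±2`. -/
theorem inner_supp (hodd : Odd q) {f k : S2 → ℂ}
    (hf : ∀ g : S2, ((g : Matrix (Fin 2) (Fin 2) F) 0 0 + (g : Matrix (Fin 2) (Fin 2) F) 1 1) ^ 2 ≠ 4 →
      f g = 0)
    (hfc : ∀ (P : GL (Fin 2) F) (s : S2), f (conjSL P s) = f s)
    (hkc : ∀ (P : GL (Fin 2) F) (s : S2), k (conjSL P s) = k s) :
    classInner f k * ((q : ℂ) * ((q : ℂ) ^ 2 - 1)) = f 1 * conj (k 1) + f zSL * conj (k zSL) +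
      ((q : ℂ) ^ 2 - 1) * (f (uSL 1) * conj (k (uSL 1)) +
        f (zSL * uSL 1) * conj (k (zSL * uSL 1))) := by
  have hcu : ((uPlus F).card : ℂ) = (q : ℂ) ^ 2 - 1 := by
    rw [eq_sub_iff_add_eq]; exact_mod_cast card_uPlus (F := F)
  rw [classInner, sum_split hodd _ (fun g hg => by rw [hf g hg, zero_mul]),
    Finset.sum_congr rfl (g := fun _ => f (uSL 1) * conj (k (uSL 1)) +
        f (zSL * uSL 1) * conj (k (zSL * uSL 1))), Finset.sum_const, nsmul_eq_mul, hcu, card_SL2_val]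
  · push_cast
    rw [hcu]
    have hq : (q : ℂ) ≠ 0 := by simp
    have hq1 : (q : ℂ) ^ 2 - 1 ≠ 0 := by
      rw [← hcu]
      have := card_uPlus (F := F)
      have := q_three_le hodd
      exact_mod_cast (by nlinarith : (uPlus F).card ≠ 0)
    field_simp
  · intro g hg
    obtain ⟨P, rfl⟩ := uPlus_conj hg
    rw [show zSL * conjSL P (uSL 1) = conjSL P (zSL * uSL 1) by rw [map_mul, conjSL_zSL], hfc, hkc,
      hfc, hkc]

theorem conj_gamma (γ : MulChar F ℂ) : conj (γ (-1 : F)) = γ (-1 : F) ∧ γ (-1 : F) * γ (-1 : F) = 1 := by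
  have h : γ (-1 : F) * γ (-1 : F) = 1 := by rw [← map_mul, neg_mul_neg, one_mul, map_one]
  refine ⟨?_, h⟩
  rcases mul_self_eq_one_iff.1 h with h' | h' <;> rw [h'] <;> simp

theorem inner_X_X (hodd : Odd q) (γ : MulChar F ℂ) : classInner (X γ) (X (γ) : S2 → ℂ) = 2 * (q : ℂ) := by
  obtain ⟨h1, h2⟩ := conj_gamma γ
  have h := inner_supp hodd (X_off hodd γ) (X_conj γ) (X_conj γ)
  rw [X_one, X_zSL, X_uSL γ one_ne_zero, X_zuSL γ one_ne_zero] at h
  simp only [map_mul, map_neg, map_sub, map_pow, map_natCast, map_one, h1] at h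
  have hq : (q : ℂ) * ((q : ℂ) ^ 2 - 1) ≠ 0 := by
    have h3 := q_three_le hodd
    refine mul_ne_zero (by simp) (sub_ne_zero.2 ?_)
    exact_mod_cast (by nlinarith : q ^ 2 ≠ 1)
  refine mul_right_cancel₀ hq ?_
  linear_combination h + ((q : ℂ) ^ 2 - 1) ^ 2 * h2 + ((q : ℂ) ^ 2 - 1) * h2

theorem inner_X_one (hodd : Odd q) (γ : MulChar F ℂ) (hγ : γ (-1 : F) = 1) :
    classInner (X γ) (fun _ : S2 => (1 : ℂ)) = 0 := by
  have h := inner_supp hodd (k := fun _ : S2 => (1 : ℂ)) (X_off hodd γ) (X_conj γ) (fun _ _ => rfl)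
  rw [X_one, X_zSL, X_uSL γ one_ne_zero, X_zuSL γ one_ne_zero, hγ] at h
  simp only [map_one] at h
  have hq : (q : ℂ) * ((q : ℂ) ^ 2 - 1) ≠ 0 := by
    have h3 := q_three_le hodd
    refine mul_ne_zero (by simp) (sub_ne_zero.2 ?_)
    exact_mod_cast (by nlinarith : q ^ 2 ≠ 1)
  refine mul_right_cancel₀ hq ?_
  linear_combination h

theorem inner_X_St0 (hodd : Odd q) (γ : MulChar F ℂ) (hγ : γ (-1 : F) = 1) :
    classInner (X γ) (St0 : S2 → ℂ) = 2 := by
  have h := inner_supp hodd (X_off hodd γ) (X_conj γ) St0_conj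
  have h1 := St0_uSL (F := F) (one_ne_zero (α := F)) false
  have h2 := St0_uSL (F := F) (one_ne_zero (α := F)) true
  simp only [Bool.false_eq_true, if_false, one_mul, if_true] at h1 h2
  rw [X_one, X_zSL, X_uSL γ one_ne_zero, X_zuSL γ one_ne_zero, hγ, St0_one_val, St0_zSL, h1, h2] at h
  simp only [map_natCast, map_zero] at h
  have hq : (q : ℂ) * ((q : ℂ) ^ 2 - 1) ≠ 0 := by
    have h3 := q_three_le hodd
    refine mul_ne_zero (by simp) (sub_ne_zero.2 ?_)
    exact_mod_cast (by nlinarith : q ^ 2 ≠ 1)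
  refine mul_right_cancel₀ hq ?_
  linear_combination h

theorem inner_X_cusp (hodd : Odd q) (γ : MulChar F ℂ) {χ : GL (Fin 2) F → ℂ}
    (hχ : IsIrrCharacter (GL (Fin 2) F) χ) (hc : IsCusp χ) (ω : ℂ)
    (hω : ∀ g : S2, res χ (zSL * g) = ω * res χ g) (hωc : conj ω = ω) :
    classInner (X γ) (res χ) = 1 + γ (-1 : F) * ω := by
  have h := inner_supp hodd (X_off hodd γ) (X_conj γ)
    (fun P s => res_conj (Char.isClassFunction_character (Char.irr_isCharacter hχ)) P s)
  have h1 : res χ (1 : S2) = ((q - 1 : ℕ) : ℂ) := by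
    rw [res, toGL2, map_one, (cusp_values hχ hc).1]
  have hu : res χ (uSL 1 : S2) = -1 := by rw [res, toGL2_uSL, (cusp_values hχ hc).2]
  have hz : res χ (zSL : S2) = ω * ((q - 1 : ℕ) : ℂ) := by
    rw [← h1, ← hω, mul_one]
  rw [X_one, X_zSL, X_uSL γ one_ne_zero, X_zuSL γ one_ne_zero, h1, hz, hω, hu,
    Nat.cast_sub Fintype.card_pos] at h
  simp only [map_mul, map_neg, map_sub, map_natCast, map_one, hωc, Nat.cast_one] at h
  have hq : (q : ℂ) * ((q : ℂ) ^ 2 - 1) ≠ 0 := by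
    have h3 := q_three_le hodd
    refine mul_ne_zero (by simp) (sub_ne_zero.2 ?_)
    exact_mod_cast (by nlinarith : q ^ 2 ≠ 1)
  refine mul_right_cancel₀ hq ?_
  linear_combination h

/-- A sum over the torus of a function with prescribed values off the centre. -/
theorem sum_torus [Fintype C] (hodd : Odd q) (hz : (zSL : S2) ∈ C) (f g : C → ℂ)
    (h : ∀ c : C, ¬ IsSc c.1.1 → f c = g c) :
    ∑ c, f c = ∑ c, g c + (f 1 - g 1) + (f ⟨zSL, hz⟩ - g ⟨zSL, hz⟩) := by
  classical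
  rw [add_assoc, ← sub_eq_iff_eq_add', ← Finset.sum_sub_distrib, Fintype.sum_eq_add (1 : C) ⟨zSL, hz⟩
    (fun e => one_ne_zSL hodd (congrArg Subtype.val e))]
  rintro c ⟨h1, h2⟩
  refine sub_eq_zero.2 (h c fun hs => ?_)
  rcases sc_cases hs with e | e
  · exact h1 (Subtype.ext e)
  · exact h2 (Subtype.ext e)

theorem fn_one (θ : C →* ℂˣ) : fn θ 1 = 1 := by simp

theorem fn_z (θ : C →* ℂˣ) (hz : (zSL : S2) ∈ C) :
    fn θ ⟨zSL, hz⟩ * fn θ ⟨zSL, hz⟩ = 1 ∧ fn θ (⟨zSL, hz⟩ : C)⁻¹ = fn θ ⟨zSL, hz⟩ := by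
  have e : (⟨zSL, hz⟩ : C) * ⟨zSL, hz⟩ = 1 := Subtype.ext zSL_sq
  refine ⟨?_, by rw [inv_eq_of_mul_eq_one_right e]⟩
  rw [← fn_one θ, ← e]
  exact (by rw [← Units.val_mul, ← map_mul] : (θ ⟨zSL, hz⟩ : ℂ) * θ ⟨zSL, hz⟩ = _)

theorem inner_fn_X [Fintype C] (hodd : Odd q) (hC : Tor C) (θ : C →* ℂˣ) (γ : MulChar F ℂ)
    (hz : (zSL : S2) ∈ C) (hγ : γ (-1 : F) = fn θ ⟨zSL, hz⟩) :
    classInner (fn θ) (fun c : C => X γ c.1) = 2 * ((q : ℂ) - 1) := by
  rw [classInner, sum_torus hodd hz _ (fun _ => 0) (fun c hc => ?_)]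
  · rw [Finset.sum_const_zero, hC.card]
    simp only [fn_one, OneMemClass.coe_one, X_one, X_zSL, map_mul, map_sub,
      map_pow, map_natCast, map_one, (conj_gamma γ).1]
    rw [hγ]
    have h0 : ((q : ℂ) + 1) ≠ 0 := by exact_mod_cast (Nat.succ_ne_zero q)
    push_cast
    field_simp
    linear_combination ((q : ℂ) ^ 2 - 1) * (fn_z θ hz).1
  · show fn θ c * conj (X γ c.1) = 0
    rw [X_off hodd γ c.1 (by rw [← trace_eq, sq]; exact (hC.spec hodd c.2 hc).1), map_zero, mul_zero]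

theorem inner_fn_ind [Fintype C] (hodd : Odd q) (hC : Tor C) (θ : C →* ℂˣ) (hz : (zSL : S2) ∈ C) :
    classInner (fn θ) (fun c : C => ind θ c.1) * ((q : ℂ) + 1) =
      2 * (q : ℂ) * ((q : ℂ) - 1) + ((q : ℂ) + 1) - 4 + ∑ c, fn (θ ^ 2) c := by
  rw [classInner, sum_torus hodd hz _ (fun c => 1 + fn (θ ^ 2) c) (fun c hc => ?_)]
  · rw [Finset.sum_add_distrib, Finset.sum_const, Finset.card_univ,
      ← Nat.card_eq_fintype_card (α := C), hC.card]
    have hsq : fn (θ ^ 2) ⟨zSL, hz⟩ = 1 := by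
      show (((θ ^ 2) ⟨zSL, hz⟩ : ℂˣ) : ℂ) = 1
      rw [MonoidHom.pow_apply, Units.val_pow_eq_pow_val, sq]
      exact (fn_z θ hz).1
    simp only [fn_one, OneMemClass.coe_one, ind_one hC, ind_zSL hC θ hz, map_mul, map_sub,
      map_natCast, map_one, conj_fn, (fn_z θ hz).2, hsq, nsmul_eq_mul, mul_one]
    have h0 : ((q : ℂ) + 1) ≠ 0 := by exact_mod_cast (Nat.succ_ne_zero q)
    push_cast
    field_simp
    linear_combination (q : ℂ) * ((q : ℂ) - 1) * (fn_z θ hz).1
  · show fn θ c * conj (ind θ c.1) = _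
    rw [ind_mem hodd hC θ c hc, map_add, conj_fn, conj_fn, inv_inv]
    simp only [fn, MonoidHom.pow_apply, Units.val_pow_eq_pow_val, map_inv]
    have := Units.mul_inv (θ c)
    linear_combination this

/-- The class function of the discrete series. -/
noncomputable def phi (γ : MulChar F ℂ) (θ : C →* ℂˣ) : S2 → ℂ := X γ - ind θ

theorem phi_gen [Fintype (MulChar F ℂ)] (γ : MulChar F ℂ) (θ : C →* ℂˣ) : IsGeneralizedCharacter S2 (phi γ θ) := by
  refine ⟨fun g => St0 g * R γ g, R γ + ind θ, ?_, ?_, ?_⟩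
  · exact Char.isCharacter_mul (Char.irr_isCharacter St0_irr) (isCharacter_res (isCharacter_ps _ _))
  · exact Char.isCharacter_add (isCharacter_res (isCharacter_ps _ _))
      (Char.isCharacter_indFun _ (Char.isCharacter_linear θ))
  · funext g; simp only [phi, X, Pi.sub_apply, Pi.add_apply]; ring

theorem phi_one (hC : Tor C) (γ : MulChar F ℂ) (θ : C →* ℂˣ) : phi γ θ 1 = (q : ℂ) - 1 := by
  rw [phi, Pi.sub_apply, X_one, ind_one hC]; ring

theorem phi_norm [Fintype C] (hodd : Odd q) (hC : Tor C) (θ : C →* ℂˣ) (γ : MulChar F ℂ)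
    (hz : (zSL : S2) ∈ C) (hγ : γ (-1 : F) = fn θ ⟨zSL, hz⟩) :
    classInner (phi γ θ) (phi γ θ) * ((q : ℂ) + 1) = ((q : ℂ) + 1) + ∑ c, fn (θ ^ 2) c := by
  have hX : IsClassFunction S2 (X γ) := fun a b => by
    rw [show b * a * b⁻¹ = conjSL (toGL2 b) a from toGL2_injective (by
      rw [toGL2_conjSL, toGL2, map_mul, map_mul, map_inv]), X_conj]
  have h1 : classInner (ind θ) (X γ) = 2 * ((q : ℂ) - 1) := by
    rw [ind, Char.frobenius _ _ hX]; exact inner_fn_X hodd hC θ γ hz hγ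
  have h2 : classInner (X γ) (ind θ) = 2 * ((q : ℂ) - 1) := by
    rw [← Char.classInner_symm, h1]; simp only [map_mul, map_sub, map_natCast, map_one, map_ofNat]
  have h3 : classInner (ind θ) (ind θ) = classInner (fn θ) (fun c : C => ind θ c.1) := by
    nth_rw 1 [ind]; rw [Char.frobenius _ _ (ind_isClass θ)]
  rw [phi, Char.classInner_sub_left, Char.classInner_sub_right, Char.classInner_sub_right,
    inner_X_X hodd, h1, h2, h3]
  linear_combination inner_fn_ind hodd hC θ hz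

theorem exists_gamma (hodd : Odd q) {e : ℂ} (he : e * e = 1) :
    ∃ γ : MulChar F ℂ, γ (-1 : F) = e := by
  rcases mul_self_eq_one_iff.1 he with h | h
  · exact ⟨1, by rw [h, MulChar.one_apply isUnit_one.neg]⟩
  · obtain ⟨γ, hγ⟩ := MulChar.exists_apply_ne_one_of_hasEnoughRootsOfUnity F ℂ
      (a := (-1 : F)) (fun hh => two_ne_zero' hodd (by linear_combination -hh))
    exact ⟨γ, by rw [h]; exact (mul_self_eq_one_iff.1 (conj_gamma γ).2).resolve_left hγ⟩

theorem sum_fn [Fintype C] (θ : C →* ℂˣ) [Decidable (θ = 1)] :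
    ∑ c, fn θ c = if θ = 1 then (Fintype.card C : ℂ) else 0 := by
  split_ifs with h
  · subst h; simp only [fn, MonoidHom.one_apply, Units.val_one, Finset.sum_const, Finset.card_univ, nsmul_one]
  · refine sum_hom_units_eq_zero ((Units.coeHom ℂ).comp θ) fun e => h ?_
    ext c
    exact DFunLike.congr_fun e c

/-- The irreducible discrete series character attached to `θ`. -/
theorem phi_irr [Fintype (MulChar F ℂ)] (hodd : Odd q) (hC : Tor C) (θ : C →* ℂˣ) (hθ : ∃ c, θ c ^ 2 ≠ 1)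
    (γ : MulChar F ℂ) (hz : (zSL : S2) ∈ C) (hγ : γ (-1 : F) = fn θ ⟨zSL, hz⟩) :
    IsIrrCharacter S2 (phi γ θ) := by
  classical
  haveI : Fintype C := Fintype.ofFinite _
  have hne : θ ^ 2 ≠ 1 := fun h => by
    obtain ⟨c, hc⟩ := hθ
    exact hc (DFunLike.congr_fun h c)
  have hn : classInner (phi γ θ) (phi γ θ) = 1 := by
    have := phi_norm hodd hC θ γ hz hγ
    rw [sum_fn, if_neg hne, add_zero] at this
    exact mul_right_cancel₀ (by exact_mod_cast Nat.succ_ne_zero q) (this.trans (one_mul _).symm)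
  obtain ⟨e, χ, he, hχ⟩ := Char.exists_sign_of_norm_one (phi_gen γ θ) hn
  rcases he with rfl | rfl
  · rw [hχ, Int.cast_one, one_smul]; exact χ.2
  · exfalso
    obtain ⟨n, hn1⟩ := Char.charOne_eq_natCast (Char.irr_isCharacter χ.2)
    have h1 := congrFun hχ 1
    rw [phi_one hC, Pi.smul_apply, hn1, smul_eq_mul] at h1
    have h2 := congrArg Complex.re h1
    simp at h2
    have h3 : (3 : ℝ) ≤ q := by exact_mod_cast q_three_le hodd
    have h4 : (0 : ℝ) ≤ n := Nat.cast_nonneg n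
    linarith

theorem phi_mem (hodd : Odd q) (hC : Tor C) (γ : MulChar F ℂ) (θ : C →* ℂˣ) (c : C)
    (hc : ¬ IsSc c.1.1) : phi γ θ c.1 = -(fn θ c + fn θ c⁻¹) := by
  rw [phi, Pi.sub_apply, ind_mem hodd hC θ c hc,
    X_off hodd γ c.1 (by rw [← trace_eq, sq]; exact (hC.spec hodd c.2 hc).1), zero_sub]

theorem phi_zSL (hC : Tor C) (γ : MulChar F ℂ) (θ : C →* ℂˣ) (hz : (zSL : S2) ∈ C)
    (hγ : γ (-1 : F) = fn θ ⟨zSL, hz⟩) : phi γ θ zSL = ((q : ℂ) - 1) * fn θ ⟨zSL, hz⟩ := by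
  rw [phi, Pi.sub_apply, X_zSL, ind_zSL hC θ hz, hγ]; ring

theorem phi_split (hodd : Odd q) (hC : Tor C) (γ : MulChar F ℂ) (θ : C →* ℂˣ) {g : S2}
    (ht : g.1.trace * g.1.trace ≠ 4) (hr : roots g.1.trace 1 ≠ 0) : phi γ θ g = 0 := by
  rw [phi, Pi.sub_apply, X_off hodd γ g (by rw [← trace_eq, sq]; exact ht),
    ind_outside hodd hC θ (Small.SL2C.not_isSc_of_trace ht) (Or.inr hr), sub_zero]

theorem phi_uSL (hodd : Odd q) (hC : Tor C) (γ : MulChar F ℂ) (θ : C →* ℂˣ) {x : F} (hx : x ≠ 0) :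
    phi γ θ (uSL x : S2) = -1 := by
  rw [phi, Pi.sub_apply, X_uSL γ hx, ind_outside hodd hC θ
    (Small.SL2C.not_isSc_of_01 (by simp [uSL, hx])) (Or.inl ?_), sub_zero]
  simp [uSL, Matrix.trace_fin_two]
  norm_num

end Cfsg.Agent.Lead.SL2T
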