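import Cfsg.Agent.Lib.Lead.SL2Torus
import Mathlib

/-!
The discrete series exhausts the characters of degree `q - 1`; the values of the small cuspidal halves.
-/

set_option autoImplicit false
set_option linter.unusedSectionVars false

namespace Cfsg.Agent.Lead.SL2T

open Cfsg Cfsg.Agent.Lead.GL2 Cfsg.Agent.Lead.SL2
open Cfsg.Agent.Small.SL2C (IsSc roots sol tor)
open scoped ComplexConjugate Matrix

universe u

variable {F : Type u} [Field F] [Fintype F] [DecidableEq F] [Fintype (MulChar F ℂ)]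

local notation "S2" => Matrix.SpecialLinearGroup (Fin 2) F
local notation "q" => Fintype.card F

variable {C : Subgroup (Matrix.SpecialLinearGroup (Fin 2) F)}

/-- A generator with its properties. -/
theorem exists_gen (hodd : Odd q) (hC : Tor C) (hz : (zSL : S2) ∈ C) :
    ∃ g0 : C, (∀ c : C, c ∈ Subgroup.zpowers g0) ∧ orderOf g0 = q + 1 ∧ ¬ IsSc g0.1.1 ∧
      g0 ^ ((q + 1) / 2) = ⟨zSL, hz⟩ := by
  haveI := hC.cyc
  obtain ⟨g0, hg⟩ := IsCyclic.exists_generator (α := C)
  have ho : orderOf g0 = q + 1 := by rw [orderOf_eq_card_of_forall_mem_zpowers hg, hC.card]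
  have h3 := q_three_le hodd
  have hh : (q + 1) / 2 * 2 = q + 1 := by rw [Nat.odd_iff] at hodd; omega
  refine ⟨g0, hg, ho, fun hs => ?_, ?_⟩
  · have h1 : g0 ^ 2 = 1 := by
      refine Subtype.ext ?_
      rw [Subgroup.coe_pow, sq]
      rcases sc_cases hs with e | e <;> rw [e]
      · rw [one_mul]; rfl
      · exact zSL_sq
    have := Nat.le_of_dvd (by norm_num) (ho ▸ orderOf_dvd_of_pow_eq_one h1)
    omega
  · have hne : g0 ^ ((q + 1) / 2) ≠ 1 := pow_ne_one_of_lt_orderOf (by omega) (by omega)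
    have hsq : ((g0 ^ ((q + 1) / 2) : C) : S2) * (g0 ^ ((q + 1) / 2) : C) = 1 := by
      rw [← Subgroup.coe_mul, ← sq, ← pow_mul, hh, ← ho, pow_orderOf_eq_one, Subgroup.coe_one]
    rcases sc_cases (g := ((g0 ^ ((q + 1) / 2) : C) : S2)) (by
      rcases Small.SL2C.sq_one_cases (two_ne_zero' hodd) hsq with h | h
      · exact ⟨1, by rw [h, one_smul]⟩
      · exact ⟨-1, by rw [h, neg_one_smul]⟩) with h | h
    · exact absurd (Subtype.ext h) hne
    · exact Subtype.ext h

theorem sq_one_of_sq_eq {θ : C →* ℂˣ} (h : θ ^ 2 = 1) {g0 : C} : fn θ g0 = 1 ∨ fn θ g0 = -1 := by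
  refine mul_self_eq_one_iff.1 ?_
  have h1 := congrArg (fun φ : C →* ℂˣ => (φ g0 : ℂ)) h
  simp only [MonoidHom.pow_apply, Units.val_pow_eq_pow_val, MonoidHom.one_apply, Units.val_one, sq] at h1
  exact h1

/-- The quadratic character of the torus. -/
theorem exists_eta (hodd : Odd q) (hC : Tor C) (hz : (zSL : S2) ∈ C) :
    ∃ η : C →* ℂˣ, (∀ θ : C →* ℂˣ, θ ^ 2 = 1 → θ = 1 ∨ θ = η) ∧
      (∀ c : C, (c ^ ((q + 1) / 2) = 1 → fn η c = 1) ∧ (c ^ ((q + 1) / 2) ≠ 1 → fn η c = -1)) ∧
      fn η ⟨zSL, hz⟩ = (-1 : ℂ) ^ ((q + 1) / 2) ∧ η ^ 2 = 1 := by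
  obtain ⟨g0, hg, ho, -, hgz⟩ := exists_gen hodd hC hz
  have hord : orderOf (-1 : ℂˣ) ∣ orderOf g0 := by
    refine (orderOf_dvd_of_pow_eq_one (by simp : (-1 : ℂˣ) ^ 2 = 1)).trans ?_
    rw [ho]; rw [Nat.odd_iff] at hodd; omega
  set η := monoidHomOfForallMemZpowers hg hord with hη
  have h0 : η g0 = -1 := monoidHomOfForallMemZpowers_apply_gen hg hord
  refine ⟨η, fun θ hθ => ?_, fun c => ?_, ?_, ?_⟩
  · rcases sq_one_of_sq_eq hθ (g0 := g0) with h | h
    · exact Or.inl ((MonoidHom.eq_iff_eq_on_generator hg θ 1).2 (Units.ext (by simpa [fn] using h)))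
    · exact Or.inr ((MonoidHom.eq_iff_eq_on_generator hg θ η).2 (Units.ext (by simpa [fn, h0] using h)))
  · obtain ⟨k, hk⟩ := (IsOfFinOrder.mem_powers_iff_mem_zpowers (isOfFinOrder_of_finite g0)).2 (hg c)
    simp only at hk
    subst hk
    have hηk : fn η (g0 ^ k) = (-1 : ℂ) ^ k := by simp [fn, h0]
    have hp : (g0 ^ k) ^ ((q + 1) / 2) = (⟨zSL, hz⟩ : C) ^ k := by
      rw [← pow_mul, mul_comm, pow_mul, hgz]
    have hz2 : (⟨zSL, hz⟩ : C) ^ 2 = 1 := Subtype.ext (by rw [Subgroup.coe_pow, sq]; exact zSL_sq)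
    rw [hp, hηk]
    rcases Nat.even_or_odd k with ⟨j, rfl⟩ | ⟨j, rfl⟩
    · refine ⟨fun _ => Even.neg_one_pow ⟨j, rfl⟩, fun h => absurd ?_ h⟩
      rw [← two_mul, pow_mul, hz2, one_pow]
    · refine ⟨fun h => absurd ?_ (one_ne_zSL hodd), fun _ => Odd.neg_one_pow ⟨j, rfl⟩⟩
      rw [pow_succ, pow_mul, hz2, one_pow, one_mul] at h
      exact (congrArg Subtype.val h).symm
  · rw [← hgz]; simp [fn, h0]
  · refine (MonoidHom.eq_iff_eq_on_generator hg _ _).2 ?_
    rw [MonoidHom.pow_apply, h0]; simp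

theorem card_homs (hC : Tor C) : Nat.card (C →* ℂˣ) = q + 1 := by
  rw [Char.card_hom_units, show commutator C = ⊥ from ?_, Subgroup.index_bot, hC.card]
  rw [commutator_def, Subgroup.commutator_eq_bot_iff_le_centralizer]
  intro a _ b _
  exact Subtype.ext (hC.comm b.2 a.2)

/-- Every irreducible character of degree `q - 1` is a discrete series character. -/
theorem exists_theta (hodd : Odd q) (h4 : 4 ≤ q) (hC : Tor C) {χ : S2 → ℂ}
    (hχ : IsIrrCharacter S2 χ) (hd : χ 1 = (q : ℂ) - 1) :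
    ∃ (θ : C →* ℂˣ) (γ : MulChar F ℂ), (∃ c, θ c ^ 2 ≠ 1) ∧ χ = phi γ θ := by
  classical
  have hz := hC.zSL_mem hodd
  haveI : Fintype C := Fintype.ofFinite _
  haveI : Fintype (C →* ℂˣ) := Fintype.ofFinite _
  haveI : Fintype (FreeCuspSL F) := Fintype.ofFinite _
  obtain ⟨g0, hg, -, hns, -⟩ := exists_gen hodd hC hz
  obtain ⟨η, hη, -⟩ := exists_eta hodd hC hz
  choose γ hγ using fun θ : C →* ℂˣ => exists_gamma (F := F) hodd (fn_z θ hz).1
  have hex : ∀ θ : {θ : C →* ℂˣ // θ ^ 2 ≠ 1}, ∃ c, θ.1 c ^ 2 ≠ 1 := fun θ => by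
    by_contra hh
    push Not at hh
    exact θ.2 (MonoidHom.ext hh)
  have hirr := fun θ : {θ : C →* ℂˣ // θ ^ 2 ≠ 1} => phi_irr hodd hC θ.1 (hex θ) (γ θ.1) hz (hγ θ.1)
  let f : {θ : C →* ℂˣ // θ ^ 2 ≠ 1} → FreeCuspSL F := fun θ =>
    ⟨⟨phi (γ θ.1) θ.1, hirr θ⟩, (deg_free h4 (hirr θ)).1 (phi_one hC _ _)⟩
  have hcard : q - 1 ≤ (Finset.univ : Finset {θ : C →* ℂˣ // θ ^ 2 ≠ 1}).card := by
    rw [Finset.card_univ, Fintype.card_subtype]
    have h1 : (Finset.univ.filter fun θ : C →* ℂˣ => ¬ θ ^ 2 ≠ 1).card ≤ 2 := by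
      refine (Finset.card_le_card (t := {1, η}) fun θ h => ?_).trans Finset.card_le_two
      simp only [Finset.mem_filter, Finset.mem_univ, true_and, not_not] at h
      simp only [Finset.mem_insert, Finset.mem_singleton]
      exact hη θ h
    have h2 := Finset.card_filter_add_card_filter_not (s := (Finset.univ : Finset (C →* ℂˣ)))
      (fun θ => θ ^ 2 ≠ 1)
    rw [Finset.card_univ, ← Nat.card_eq_fintype_card, card_homs hC] at h2
    omega
  have hfib : ∀ b ∈ (Finset.univ : Finset {θ : C →* ℂˣ // θ ^ 2 ≠ 1}).image f,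
      (Finset.univ.filter fun θ => f θ = b).card ≤ 2 := by
    intro b hb
    obtain ⟨θ, -, rfl⟩ := Finset.mem_image.1 hb
    have hinv : θ.1⁻¹ ^ 2 ≠ 1 := fun hh => θ.2 (MonoidHom.ext fun c => by
      have h' := DFunLike.congr_fun hh c
      simp only [MonoidHom.pow_apply, MonoidHom.inv_apply, MonoidHom.one_apply, inv_pow, inv_eq_one] at h'
      exact h')
    refine (Finset.card_le_card (t := {θ, ⟨θ.1⁻¹, hinv⟩}) fun θ' h => ?_).trans Finset.card_le_two
    simp only [Finset.mem_filter, Finset.mem_univ, true_and] at h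
    simp only [Finset.mem_insert, Finset.mem_singleton]
    have h1 := congrFun (congrArg (fun t : FreeCuspSL F => (t.1 : S2 → ℂ)) h) g0.1
    simp only [f, phi_mem hodd hC _ _ g0 hns, neg_inj, fn, map_inv, Units.val_inv_eq_inv_val] at h1
    have ha : (θ'.1 g0 : ℂ) ≠ 0 := Units.ne_zero _
    have hb : (θ.1 g0 : ℂ) ≠ 0 := Units.ne_zero _
    have h2 : ((θ'.1 g0 : ℂ) - θ.1 g0) * ((θ'.1 g0 : ℂ) * θ.1 g0 - 1) = 0 := by
      field_simp at h1
      linear_combination h1
    rcases mul_eq_zero.1 h2 with h3 | h3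
    · exact Or.inl (Subtype.ext ((MonoidHom.eq_iff_eq_on_generator hg _ _).2 (Units.ext (sub_eq_zero.1 h3))))
    · refine Or.inr (Subtype.ext ((MonoidHom.eq_iff_eq_on_generator hg _ _).2 (Units.ext ?_)))
      simp only [MonoidHom.inv_apply, Units.val_inv_eq_inv_val]
      exact eq_inv_of_mul_eq_one_left (sub_eq_zero.1 h3)
  have hle := (hcard.trans (Finset.card_le_mul_card_image _ 2 hfib))
  have hfree := card_freeCusp_odd (F := F) hodd
  rw [Nat.card_eq_fintype_card] at hfree
  have himg : (Finset.univ : Finset {θ : C →* ℂˣ // θ ^ 2 ≠ 1}).image f = Finset.univ := by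
    refine Finset.eq_univ_of_card _ (le_antisymm (Finset.card_le_univ _) ?_)
    rw [hfree]; omega
  have hmem : (⟨⟨χ, hχ⟩, (deg_free h4 hχ).1 hd⟩ : FreeCuspSL F) ∈
      (Finset.univ : Finset {θ : C →* ℂˣ // θ ^ 2 ≠ 1}).image f := himg ▸ Finset.mem_univ _
  obtain ⟨θ, -, hθ⟩ := Finset.mem_image.1 hmem
  exact ⟨θ.1, γ θ.1, hex θ, (congrArg (fun t : FreeCuspSL F => (t.1 : S2 → ℂ)) hθ).symm⟩

/-- The central character of the halves of a fixed cuspidal character. -/
theorem omega_cusp (hodd : Odd q) {χ : GL (Fin 2) F → ℂ} {c d : S2 → ℂ}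
    (h1 : IsIrrCharacter (GL (Fin 2) F) χ) (hc1 : IsCusp χ) (h2 : Halves χ c d) :
    c zSL / c 1 = -eta (-1 : F) := by
  obtain ⟨a, b, h0⟩ := exists_halves_ps (F := F) hodd
  have hq : (q : ℂ) ≠ 0 := by simp
  have hne1 : res χ ≠ res (ps eta 1) := by
    intro e
    have hq2 := Fintype.one_lt_card (α := F)
    have e1 := congrFun e 1
    rw [res, res, toGL2, map_one, (cusp_values h1 hc1).1, ps_one_val, Nat.cast_sub hq2.le,
      Nat.cast_one] at e1
    have : (2 : ℂ) = 0 := by linear_combination -e1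
    norm_num at this
  have hz := inner_diff hodd h0 h2
  rw [inner_halves_zero (ps_isIrr (eta_ne_one hodd)) h1 h0 h2 hne1, zero_mul, omega_ps hodd h0] at hz
  have hnz : (a - b) (uSL 1) * conj ((c - d) (uSL 1)) ≠ 0 := by
    intro hh
    rcases mul_eq_zero.1 hh with hh | hh
    · have := h0.diff_norm hodd
      rw [hh, zero_mul] at this
      exact hq this.symm
    · have := h2.diff_norm hodd
      rw [hh, mul_zero] at this
      exact hq this.symm
  have h3 := (mul_eq_zero.1 hz.symm).resolve_right hnz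
  have he : eta (-1 : F) * eta (-1 : F) = 1 := by
    rw [← MulChar.mul_apply, eta_mul_self, MulChar.one_apply isUnit_one.neg]
  linear_combination eta (-1 : F) * h3 - (c zSL / c 1) * he

theorem St0_elliptic {g : S2}
    (hg : ∀ (c : F) (v : Fin 2 → F), v ≠ 0 → (g : Matrix (Fin 2) (Fin 2) F).mulVec v ≠ c • v) :
    St0 g = -1 := by
  simp only [St0, res, st, Pi.sub_apply, ps_elliptic _ _ (noEigen_toGL2 hg), linDet, det_toGL2, map_one]
  norm_num

/-- `phi 1 1 = St0 - 1`. -/
theorem phi_trivial (hodd : Odd q) (h4 : 4 ≤ q) (hC : Tor C) :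
    phi (1 : MulChar F ℂ) (1 : C →* ℂˣ) = (St0 : S2 → ℂ) - fun _ => 1 := by
  classical
  haveI : Fintype C := Fintype.ofFinite _
  have hz := hC.zSL_mem hodd
  have hγ : (1 : MulChar F ℂ) (-1 : F) = fn (1 : C →* ℂˣ) ⟨zSL, hz⟩ := by
    rw [MulChar.one_apply isUnit_one.neg]; simp [fn]
  have h0 : ((q : ℂ) + 1) ≠ 0 := by exact_mod_cast (Nat.succ_ne_zero q)
  have h1 := phi_norm hodd hC 1 1 hz hγ
  rw [sum_fn, if_pos (MonoidHom.ext fun c => by simp), ← Nat.card_eq_fintype_card (α := C), hC.card] at h1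
  have hn : classInner (phi (1 : MulChar F ℂ) (1 : C →* ℂˣ)) (phi (1 : MulChar F ℂ) (1 : C →* ℂˣ)) = 2 :=
    mul_right_cancel₀ h0 (by rw [h1]; push_cast; ring)
  have hone : IsIrrCharacter S2 (fun _ => (1 : ℂ)) := Char.isIrrCharacter_one
  have hne : (St0 : S2 → ℂ) ≠ fun _ => 1 := fun e => by
    have := congrFun e 1
    rw [St0_one_val, Nat.cast_eq_one] at this
    omega
  have ha : classInner (phi (1 : MulChar F ℂ) (1 : C →* ℂˣ)) (fun _ => (1 : ℂ)) = -1 := by
    rw [phi, Char.classInner_sub_left, inner_X_one hodd 1 (by rw [MulChar.one_apply isUnit_one.neg]),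
      ind, Char.frobenius _ _ (Char.isClassFunction_character (Char.irr_isCharacter hone))]
    simp only [classInner, fn, MonoidHom.one_apply, Units.val_one, map_one, mul_one, Finset.sum_const,
      Finset.card_univ, nsmul_one, ← Nat.card_eq_fintype_card]
    rw [inv_mul_cancel₀ (Nat.cast_ne_zero.2 Nat.card_pos.ne'), zero_sub]
  have hb : classInner (phi (1 : MulChar F ℂ) (1 : C →* ℂˣ)) St0 = 1 := by
    rw [phi, Char.classInner_sub_left, inner_X_St0 hodd 1 (by rw [MulChar.one_apply isUnit_one.neg]),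
      ind, Char.frobenius _ _ (Char.isClassFunction_character (Char.irr_isCharacter St0_irr))]
    simp only [classInner, fn, MonoidHom.one_apply, Units.val_one, one_mul]
    rw [sum_torus hodd hz _ (fun _ => -1) (fun c hc => ?_)]
    · simp only [Finset.sum_const, Finset.card_univ, ← Nat.card_eq_fintype_card, hC.card,
        OneMemClass.coe_one, St0_one_val, St0_zSL, map_natCast, nsmul_eq_mul]
      push_cast
      field_simp
      ring
    · obtain ⟨ht, hr, -⟩ := hC.spec hodd c.2 hc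
      rw [St0_elliptic (noEigen_of_roots ht hr), map_neg, map_one]
  refine sub_eq_zero.1 (Char.classInner_self_eq_zero ?_)
  simp only [Char.classInner_sub_left, Char.classInner_sub_right, hn, ha, hb, Char.irr_self St0_irr,
    Char.irr_self hone, Char.irr_orth St0_irr hone, Char.irr_orth hone St0_irr, if_neg hne,
    if_neg hne.symm]
  rw [← Char.classInner_symm (phi 1 (1 : C →* ℂˣ)) St0, hb,
    ← Char.classInner_symm (phi 1 (1 : C →* ℂˣ)) (fun _ => (1 : ℂ)), ha]
  simp only [map_one, map_neg]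
  norm_num

/-- Values of a fixed cuspidal character on a non-split torus. -/
theorem res_fixed_cusp (hodd : Odd q) (hq : 5 ≤ q) (hC : Tor C) (hz : (zSL : S2) ∈ C) (η : C →* ℂˣ)
    (hη : ∀ θ : C →* ℂˣ, θ ^ 2 = 1 → θ = 1 ∨ θ = η)
    (hηz : fn η ⟨zSL, hz⟩ = (-1 : ℂ) ^ ((q + 1) / 2)) (hη2 : η ^ 2 = 1)
    {χ : GL (Fin 2) F → ℂ} {ψ φ : S2 → ℂ} (hχ : IsIrrCharacter (GL (Fin 2) F) χ) (hc : IsCusp χ)
    (h : Halves χ ψ φ) (c : C) (hns : ¬ IsSc c.1.1) : res χ c.1 = -2 * fn η c := by
  classical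
  haveI : Fintype C := Fintype.ofFinite _
  haveI : Fintype (C →* ℂˣ) := Fintype.ofFinite _
  have h0 : ((q : ℂ) + 1) ≠ 0 := by exact_mod_cast (Nat.succ_ne_zero q)
  set ω : ℂ := fn η ⟨zSL, hz⟩ with hω
  have hωψ : ψ zSL / ψ 1 = ω := by
    rw [omega_cusp hodd hχ hc h, eta_neg_one hodd, hηz]
    obtain ⟨k, hk⟩ := hodd
    rw [show (q + 1) / 2 = k + 1 by omega, show (q - 1) / 2 = k by omega, pow_succ]
    ring
  have hωmul : ∀ g : S2, res χ (zSL * g) = ω * res χ g := fun g => by
    rw [h.2.2.2.1]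
    simp only [Pi.add_apply]
    rw [central_mul h.1, central_mul h.2.1, (h.diff_central hodd).1, (h.one_val hodd).1, hωψ]
    ring
  have hconjη : ∀ d : C, conj (fn η d) = fn η d := fun d => by
    rcases sq_one_of_sq_eq hη2 (g0 := d) with e | e <;> rw [e] <;> simp
  have hd1 : ψ 1 = (((q - 1) / 2 : ℕ) : ℂ) := half_minus_val hodd hχ hc h
  have hd2 : φ 1 = (((q - 1) / 2 : ℕ) : ℂ) := by rw [(h.one_val hodd).1, hd1]
  -- the multiplicities
  have key : ∀ θ : C →* ℂˣ, θ ≠ η →
      classInner (fn θ) (fun d : C => res χ d.1) = 1 + fn θ ⟨zSL, hz⟩ * ω := by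
    intro θ hθ
    obtain ⟨γ, hγ⟩ := exists_gamma (F := F) hodd (fn_z θ hz).1
    have hcl : IsClassFunction S2 (res χ) :=
      Char.isClassFunction_character (isCharacter_res (Char.irr_isCharacter hχ))
    have hzero : ∀ γ' : MulChar F ℂ, γ' (-1 : F) = fn θ ⟨zSL, hz⟩ → (θ = 1 → γ' = 1) →
        classInner (phi γ' θ) (res χ) = 0 := by
      intro γ' hγ' h1
      rw [h.2.2.2.1, Char.classInner_add_right]
      by_cases hsq : θ ^ 2 = 1
      · obtain rfl := (hη θ hsq).resolve_right hθ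
        obtain rfl := h1 rfl
        rw [phi_trivial hodd (by omega) hC]
        have hone : IsIrrCharacter S2 (fun _ => (1 : ℂ)) := Char.isIrrCharacter_one
        simp only [Char.classInner_sub_left, Char.irr_orth St0_irr h.1, Char.irr_orth St0_irr h.2.1,
          Char.irr_orth hone h.1, Char.irr_orth hone h.2.1]
        have ho := Nat.odd_iff.1 hodd
        have hst : ∀ τ : S2 → ℂ, τ 1 = (((q - 1) / 2 : ℕ) : ℂ) → (St0 : S2 → ℂ) ≠ τ := fun τ hτ e => by
          have e1 := congrFun e 1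
          rw [St0_one_val, hτ, Nat.cast_inj] at e1
          omega
        have hon : ∀ τ : S2 → ℂ, τ 1 = (((q - 1) / 2 : ℕ) : ℂ) → (fun _ : S2 => (1 : ℂ)) ≠ τ := fun τ hτ e => by
          have e1 := congrFun e 1
          rw [hτ, eq_comm, Nat.cast_eq_one] at e1
          omega
        rw [if_neg (hst ψ hd1), if_neg (hst φ hd2), if_neg (hon ψ hd1), if_neg (hon φ hd2)]
        norm_num
      · have hirr := phi_irr hodd hC θ (by
          by_contra hh
          push Not at hh
          exact hsq (MonoidHom.ext hh)) γ' hz hγ'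
        have ho := Nat.odd_iff.1 hodd
        rw [Char.irr_orth hirr h.1, Char.irr_orth hirr h.2.1, if_neg, if_neg, add_zero] <;>
          (intro e
           have e1 := congrFun e 1
           simp only [phi_one hC, hd1, hd2] at e1
           rw [← Nat.cast_one, ← Nat.cast_sub (by omega), Nat.cast_inj] at e1
           omega)
    have hγ1 : θ = 1 → (1 : MulChar F ℂ) (-1 : F) = fn θ ⟨zSL, hz⟩ := fun e => by
      rw [e, MulChar.one_apply isUnit_one.neg]; simp [fn]
    by_cases h1 : θ = 1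
    · have := hzero 1 (hγ1 h1) (fun _ => rfl)
      rw [phi, Char.classInner_sub_left, ind, Char.frobenius _ _ hcl,
        inner_X_cusp hodd 1 hχ hc ω hωmul (hconjη _), hγ1 h1] at this
      linear_combination -this
    · have := hzero γ hγ (fun e => absurd e h1)
      rw [phi, Char.classInner_sub_left, ind, Char.frobenius _ _ hcl,
        inner_X_cusp hodd γ hχ hc ω hωmul (hconjη _), hγ] at this
      linear_combination -this
  -- the difference with the candidate
  set D : C → ℂ := fun d => res χ d.1 - (-2 * fn η d +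
    ((q : ℂ) + 1) * ((if d = 1 then 1 else 0) + ω * (if d = ⟨zSL, hz⟩ then 1 else 0))) with hD
  have hres1 : res χ (1 : S2) = (q : ℂ) - 1 := by
    rw [res, toGL2, map_one, (cusp_values hχ hc).1, Nat.cast_sub (by omega), Nat.cast_one]
  have hne1 : (1 : C) ≠ ⟨zSL, hz⟩ := fun e => one_ne_zSL hodd (congrArg Subtype.val e)
  have hD1 : D 1 = 0 := by
    simp only [hD, OneMemClass.coe_one, hres1, fn_one, if_pos, if_neg hne1]
    ring
  have hDθ : ∀ θ : C →* ℂˣ, θ ≠ η → classInner (fn θ) D = 0 := by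
    intro θ hθ
    have hk := key θ hθ
    simp only [classInner, hC.card] at hk ⊢
    have e : ∀ d : C, fn θ d * conj (D d) = fn θ d * conj (res χ d.1) + 2 * fn (θ * η) d -
        ((q : ℂ) + 1) * ((if d = 1 then fn θ d else 0) + ω * (if d = ⟨zSL, hz⟩ then fn θ d else 0)) := by
      intro d
      simp only [hD, map_sub, map_add, map_mul, map_neg, map_ofNat, map_natCast, map_one, hconjη,
        hω, apply_ite conj, map_zero, fn, MonoidHom.mul_apply, Units.val_mul]
      split_ifs <;> ring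
    rw [Finset.sum_congr rfl fun d _ => e d, Finset.sum_sub_distrib, Finset.sum_add_distrib,
      ← Finset.mul_sum, ← Finset.mul_sum, Finset.sum_add_distrib, ← Finset.mul_sum,
      Finset.sum_ite_eq', Finset.sum_ite_eq', if_pos (Finset.mem_univ _),
      if_pos (Finset.mem_univ _), sum_fn, if_neg ?_, fn_one]
    · push_cast at hk ⊢
      field_simp at hk ⊢
      linear_combination hk
    · intro hh
      refine hθ ?_
      refine MonoidHom.ext fun d => ?_
      have h1 := DFunLike.congr_fun hh d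
      have h2 := DFunLike.congr_fun hη2 d
      simp only [MonoidHom.mul_apply, MonoidHom.pow_apply, MonoidHom.one_apply, sq] at h1 h2
      exact mul_right_cancel (h1.trans h2.symm)
  have hclD : IsClassFunction C D := fun a b => by
    rw [show b * a * b⁻¹ = a by
      rw [Subtype.ext_iff, Subgroup.coe_mul, Subgroup.coe_mul, Subgroup.coe_inv, hC.comm b.2 a.2,
        mul_inv_cancel_right]]
  have hlin : ∀ χ' : IrrCharacter C, (χ' : C → ℂ) 1 = 1 :=
    Char.forall_linear_iff_comm.1 fun a b => Subtype.ext (hC.comm a.2 b.2)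
  let e : (C →* ℂˣ) ≃ IrrCharacter C := Char.linearEquiv.trans (Equiv.subtypeUnivEquiv hlin)
  have hexp := Char.classFun_expansion hclD
  have hDη : ∀ d : C, D d = classInner D (fn η) * fn η d := by
    intro d
    have h1 := congrFun hexp d
    rw [← e.sum_comp, Finset.sum_apply, Finset.sum_eq_single η] at h1
    · exact h1
    · intro θ _ hθ
      rw [Pi.smul_apply]
      show classInner D (fn θ) • fn θ d = 0
      rw [← Char.classInner_symm (fn θ) D, hDθ θ hθ, map_zero, zero_smul]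
    · intro hh; exact absurd (Finset.mem_univ _) hh
  have hb : classInner D (fn η) = 0 := by
    have := hDη 1
    rw [hD1, fn_one, mul_one] at this
    exact this.symm
  have hne : c ≠ 1 ∧ c ≠ ⟨zSL, hz⟩ := by
    constructor <;> rintro rfl
    · exact hns isSc_one
    · exact hns isSc_zSL
  have := hDη c
  rw [hb, zero_mul] at this
  simp only [hD, if_neg hne.1, if_neg hne.2] at this
  linear_combination this

end Cfsg.Agent.Lead.SL2T
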