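import Cfsg.Agent.Lib.Lead.SL2Class
import Mathlib

/-!
Values of the irreducible characters of SL(2,q).
-/

set_option autoImplicit false

namespace Cfsg.Agent.Lead.SL2

open Cfsg Cfsg.Agent.Lead.GL2
open scoped ComplexConjugate Matrix

universe u

variable {F : Type u} [Field F]

/-- The upper unipotent element of SL(2). -/
def uSL (x : F) : Matrix.SpecialLinearGroup (Fin 2) F :=
  ⟨!![1, x; 0, 1], by simp [Matrix.det_fin_two]⟩

theorem toGL2_uSL (x : F) : toGL2 (uSL x) = up 1 1 x :=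
  ext2 rfl rfl rfl rfl

theorem toGL2_diag {g : Matrix.SpecialLinearGroup (Fin 2) F}
    (h01 : (g : Matrix (Fin 2) (Fin 2) F) 0 1 = 0) (h10 : (g : Matrix (Fin 2) (Fin 2) F) 1 0 = 0) :
    ∃ a : Fˣ, (a : F) = (g : Matrix (Fin 2) (Fin 2) F) 0 0 ∧ toGL2 g = up a a⁻¹ 0 := by
  have hdet : (g : Matrix (Fin 2) (Fin 2) F).det = 1 := g.2
  rw [Matrix.det_fin_two, h01, zero_mul, sub_zero] at hdet
  have ha : (g : Matrix (Fin 2) (Fin 2) F) 0 0 ≠ 0 := left_ne_zero_of_mul (hdet ▸ one_ne_zero)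
  refine ⟨Units.mk0 _ ha, rfl, ext2 ?_ ?_ ?_ ?_⟩
  · simp [mat, up, toGL2]
  · simp [mat, up, toGL2, h01]
  · simp [mat, up, toGL2, h10]
  · simp only [mat, up, toGL2, Units.val_inv_eq_inv_val]
    simp
    field_simp
    linear_combination hdet

theorem noEigen_toGL2 {g : Matrix.SpecialLinearGroup (Fin 2) F}
    (h : ∀ (c : F) (v : Fin 2 → F), v ≠ 0 → (g : Matrix (Fin 2) (Fin 2) F).mulVec v ≠ c • v) :
    NoEigen (toGL2 g) := h

theorem noEigen_trace (h2 : (2 : F) ≠ 0) {g : Matrix.SpecialLinearGroup (Fin 2) F}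
    (h : ∀ (c : F) (v : Fin 2 → F), v ≠ 0 → (g : Matrix (Fin 2) (Fin 2) F).mulVec v ≠ c • v) :
    ((g : Matrix (Fin 2) (Fin 2) F) 0 0 + (g : Matrix (Fin 2) (Fin 2) F) 1 1) ^ 2 ≠ 4 := by
  intro ht
  set M := (g : Matrix (Fin 2) (Fin 2) F) with hM
  set c := (M 0 0 + M 1 1) / 2 with hc
  have hdet : M 0 0 * M 1 1 - M 0 1 * M 1 0 = 1 := by
    rw [← Matrix.det_fin_two]; exact g.2
  have h0 : (M - c • (1 : Matrix (Fin 2) (Fin 2) F)).det = 0 := by
    rw [Matrix.det_fin_two]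
    simp [hc]
    field_simp
    linear_combination 4 * hdet - ht
  obtain ⟨v, hv, hv'⟩ := Matrix.exists_mulVec_eq_zero_iff.2 h0
  refine h c v hv ?_
  rw [Matrix.sub_mulVec, Matrix.smul_mulVec, Matrix.one_mulVec, sub_eq_zero] at hv'
  exact hv'

variable [Fintype F] [DecidableEq F]

theorem two_ne_zero' (hodd : Odd (Fintype.card F)) : (2 : F) ≠ 0 :=
  Ring.two_ne_zero (ringChar_ne_two hodd)

/-- An element commuting with `g` of non-square determinant. -/
theorem exists_comm_nonsq (hodd : Odd (Fintype.card F)) (g : Matrix.SpecialLinearGroup (Fin 2) F)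
    (h : ((g : Matrix (Fin 2) (Fin 2) F) 0 0 + (g : Matrix (Fin 2) (Fin 2) F) 1 1) ^ 2 ≠ 4) :
    ∃ x : GL (Fin 2) F, ¬ IsSquare (udet x : F) ∧ conjSL x g = g := by
  have h2 := two_ne_zero' hodd
  obtain ⟨ν, hν⟩ := exists_nonsq hodd
  set M := (g : Matrix (Fin 2) (Fin 2) F) with hM
  have hdet : M 0 0 * M 1 1 - M 0 1 * M 1 0 = 1 := by
    rw [← Matrix.det_fin_two]; exact g.2
  set τ := M 0 0 + M 1 1 with hτ
  have h4 : (4 : F) ≠ 0 := by
    rw [show (4 : F) = 2 * 2 by norm_num]; exact mul_ne_zero h2 h2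
  have hk : 1 - τ ^ 2 / 4 ≠ 0 := by
    intro hk
    apply h
    field_simp at hk
    linear_combination -hk
  obtain ⟨u, t, hut⟩ := FiniteField.exists_root_sum_quadratic
    (f := Polynomial.X ^ 2 + Polynomial.C (-(ν : F)))
    (g := Polynomial.C (1 - τ ^ 2 / 4) * Polynomial.X ^ 2)
    (Polynomial.degree_X_pow_add_C (by norm_num) _) (Polynomial.degree_C_mul_X_pow 2 hk)
    (by rwa [Nat.odd_iff] at hodd)
  simp at hut
  set s := u - τ * t / 2 with hs
  have hd : (s • (1 : Matrix (Fin 2) (Fin 2) F) + t • M).det = ν := by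
    rw [Matrix.det_fin_two]
    simp [hs]
    field_simp at hut ⊢
    rw [hτ] at hut ⊢
    linear_combination hut + (4 * t ^ 2) * hdet
  let x : GL (Fin 2) F := Matrix.GeneralLinearGroup.mkOfDetNeZero (s • 1 + t • M)
    (by rw [hd]; exact ν.ne_zero)
  refine ⟨x, ?_, toGL2_injective ?_⟩
  · rw [udet, Matrix.GeneralLinearGroup.val_det_apply]
    show ¬ IsSquare ((s • (1 : Matrix (Fin 2) (Fin 2) F) + t • M).det)
    rw [hd]; exact hν
  · rw [toGL2_conjSL, mul_inv_eq_iff_eq_mul]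
    refine Units.ext ?_
    show (s • (1 : Matrix (Fin 2) (Fin 2) F) + t • M) * M = M * (s • 1 + t • M)
    simp [add_mul, mul_add]

theorem Halves.value_eq_half {χ : GL (Fin 2) F → ℂ}
    {ψ φ : Matrix.SpecialLinearGroup (Fin 2) F → ℂ} (h : Halves χ ψ φ)
    {g : Matrix.SpecialLinearGroup (Fin 2) F} {x : GL (Fin 2) F}
    (hx : ¬ IsSquare (udet x : F)) (hg : conjSL x g = g) :
    φ g = ψ g ∧ 2 * ψ g = χ (toGL2 g) := by
  have h1 : φ g = ψ g := by rw [h.2.2.2.2 x hx, hg]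
  refine ⟨h1, ?_⟩
  have := congrFun h.2.2.2.1 g
  rw [res, Pi.add_apply, h1] at this
  rw [this]; ring

theorem Halves.at_diag (hodd : Odd (Fintype.card F)) {χ : GL (Fin 2) F → ℂ}
    {ψ φ : Matrix.SpecialLinearGroup (Fin 2) F → ℂ} (h : Halves χ ψ φ)
    {g : Matrix.SpecialLinearGroup (Fin 2) F} {a : Fˣ} (hg : toGL2 g = up a a⁻¹ 0) :
    2 * ψ g = χ (up a a⁻¹ 0) := by
  obtain ⟨b, hb⟩ := exists_nonsq hodd
  rw [← hg]
  refine (h.value_eq_half (x := up b 1 0) (by rw [udet_up, mul_one]; exact hb)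
    (toGL2_injective ?_)).2
  rw [toGL2_conjSL, hg, mul_inv_eq_iff_eq_mul]
  refine ext2 ?_ ?_ ?_ ?_ <;> simp [mat, up, Matrix.mul_apply, Fin.sum_univ_two, mul_comm]

theorem Halves.at_elliptic (hodd : Odd (Fintype.card F)) {χ : GL (Fin 2) F → ℂ}
    {ψ φ : Matrix.SpecialLinearGroup (Fin 2) F → ℂ} (h : Halves χ ψ φ)
    {g : Matrix.SpecialLinearGroup (Fin 2) F}
    (hg : ∀ (c : F) (v : Fin 2 → F), v ≠ 0 → (g : Matrix (Fin 2) (Fin 2) F).mulVec v ≠ c • v) :
    2 * ψ g = χ (toGL2 g) := by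
  obtain ⟨x, hx, hxg⟩ := exists_comm_nonsq hodd g (noEigen_trace (two_ne_zero' hodd) hg)
  exact (h.value_eq_half hx hxg).2

theorem diag_ne {a : Fˣ} (h : (a : F) ^ 2 ≠ 1) : (a : F) ≠ ((a⁻¹ : Fˣ) : F) := by
  intro e
  apply h
  rw [sq]
  calc (a : F) * a = (a : F) * ((a⁻¹ : Fˣ) : F) := by rw [← e]
    _ = 1 := Units.mul_inv a

/-- The sum over the upper unipotent group. -/
noncomputable def uSum (f : Matrix.SpecialLinearGroup (Fin 2) F → ℂ) : ℂ := ∑ x : F, f (uSL x)

theorem uSum_res {χ : GL (Fin 2) F → ℂ} (hχ : IsCharacter (GL (Fin 2) F) χ) :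
    uSum (res χ) = χ 1 + ((Fintype.card F - 1 : ℕ) : ℂ) * χ (up 1 1 1) := by
  rw [uSum, Fintype.sum_eq_add_sum_compl (0 : F)]
  rw [Finset.sum_congr rfl (g := fun _ => χ (up 1 1 1)) (fun x hx => by
    simp at hx
    rw [res, toGL2_uSL]
    exact char_up_scale hχ 1 (Units.mk0 x hx))]
  simp [res, toGL2_uSL, up_one, Finset.card_compl]

theorem Halves.uSum_eq (hodd : Odd (Fintype.card F)) {χ : GL (Fin 2) F → ℂ}
    {ψ φ : Matrix.SpecialLinearGroup (Fin 2) F → ℂ} (h : Halves χ ψ φ) :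
    2 * uSum ψ = uSum (res χ) := by
  obtain ⟨b, hb⟩ := exists_nonsq hodd
  have e : ∀ x : F, φ (uSL x) = ψ (uSL ((b : F) * x)) := fun x => by
    rw [h.2.2.2.2 (up b 1 0) (by rw [udet_up, mul_one]; exact hb)]
    congr 1
    refine toGL2_injective ?_
    rw [toGL2_conjSL, toGL2_uSL, toGL2_uSL, mul_inv_eq_iff_eq_mul]
    refine ext2 ?_ ?_ ?_ ?_ <;> simp [mat, up, Matrix.mul_apply, Fin.sum_univ_two]
  have hφ : uSum φ = uSum ψ := by
    rw [uSum, uSum, Finset.sum_congr rfl (fun x _ => e x)]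
    exact Equiv.sum_comp (Equiv.mulLeft₀ (b : F) b.ne_zero) (fun x => ψ (uSL x))
  rw [two_mul]
  conv_lhs => arg 2; rw [← hφ]
  rw [h.2.2.2.1, uSum, uSum, uSum, ← Finset.sum_add_distrib]
  rfl

/-- The central involution. -/
def zSL : Matrix.SpecialLinearGroup (Fin 2) F := ⟨-1, by simp [Matrix.det_neg]⟩

omit [Fintype F] [DecidableEq F] in
theorem mat_zSL_mul (g : Matrix.SpecialLinearGroup (Fin 2) F) :
    ((zSL * g : Matrix.SpecialLinearGroup (Fin 2) F) : Matrix (Fin 2) (Fin 2) F) =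
      -(g : Matrix (Fin 2) (Fin 2) F) := by
  show (-1 : Matrix (Fin 2) (Fin 2) F) * (g : Matrix (Fin 2) (Fin 2) F) = _
  simp

omit [Fintype F] [DecidableEq F] in
theorem zSL_comm (g : Matrix.SpecialLinearGroup (Fin 2) F) : g * zSL = zSL * g :=
  Subtype.ext (by
    show (g : Matrix (Fin 2) (Fin 2) F) * (-1) = (-1) * (g : Matrix (Fin 2) (Fin 2) F)
    simp)

omit [Fintype F] [DecidableEq F] in
theorem zSL_sq : (zSL : Matrix.SpecialLinearGroup (Fin 2) F) * zSL = 1 :=
  Subtype.ext (by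
    show (-1 : Matrix (Fin 2) (Fin 2) F) * (-1) = 1
    simp)

omit [Fintype F] [DecidableEq F] in
theorem toGL2_zSL : toGL2 (zSL : Matrix.SpecialLinearGroup (Fin 2) F) = up (-1) (-1) 0 := by
  refine ext2 ?_ ?_ ?_ ?_ <;> (show (-1 : Matrix (Fin 2) (Fin 2) F) _ _ = _) <;> simp [mat, up]

omit [Fintype F] [DecidableEq F] in
theorem conjSL_zSL (x : GL (Fin 2) F) : conjSL x zSL = zSL := by
  refine toGL2_injective ?_
  rw [toGL2_conjSL, toGL2_zSL, mul_inv_eq_iff_eq_mul]
  refine ext2 ?_ ?_ ?_ ?_ <;> simp [mat, up, Matrix.mul_apply, Fin.sum_univ_two]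

theorem central_mul_gen {G : Type u} [Group G] [Fintype G] {χ : G → ℂ} (hχ : IsIrrCharacter G χ)
    {z : G} (hz : ∀ c : G, c * z = z * c) (g : G) : χ (z * g) = χ z / χ 1 * χ g := by
  classical
  obtain ⟨n, ρ, hρ, rfl⟩ := hχ
  haveI := hρ
  have hz' : ∀ y, IsConj z y → y = z := fun y hy => by
    obtain ⟨c, rfl⟩ := isConj_iff.1 hy
    rw [hz c, mul_inv_cancel_right]
  have hs := Char.classSum_eq_omega ρ z
  rw [Finset.sum_eq_single z (fun b hb hne => absurd (hz' b (Finset.mem_filter.1 hb).2) hne)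
    (fun hn => absurd (Finset.mem_filter.2 ⟨Finset.mem_univ _, IsConj.refl _⟩) hn)] at hs
  have hcard : Nat.card {y : G // IsConj z y} = 1 := by
    rw [Nat.card_eq_one_iff_unique]
    exact ⟨⟨fun a b => Subtype.ext ((hz' _ a.2).trans (hz' _ b.2).symm)⟩, ⟨⟨z, IsConj.refl _⟩⟩⟩
  rw [Char.omega, hcard, Nat.cast_one, one_mul] at hs
  rw [show ρ.character (z * g) = LinearMap.trace ℂ _ (ρ (z * g)) from rfl, map_mul, hs,
    smul_mul_assoc, ← Module.End.one_eq_id, one_mul, map_smul, smul_eq_mul]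
  rfl

theorem central_mul {ψ : Matrix.SpecialLinearGroup (Fin 2) F → ℂ}
    (hψ : IsIrrCharacter (Matrix.SpecialLinearGroup (Fin 2) F) ψ)
    (g : Matrix.SpecialLinearGroup (Fin 2) F) : ψ (zSL * g) = ψ zSL / ψ 1 * ψ g :=
  central_mul_gen hψ (fun c => zSL_comm c) g

/-- Nontrivial unipotent elements. -/
noncomputable def uPlus (F : Type u) [Field F] [Fintype F] [DecidableEq F] :
    Finset (Matrix.SpecialLinearGroup (Fin 2) F) :=
  Finset.univ.filter fun g => (g : Matrix (Fin 2) (Fin 2) F) 0 0 +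
    (g : Matrix (Fin 2) (Fin 2) F) 1 1 = 2 ∧ g ≠ 1

theorem uPlus_conj {g : Matrix.SpecialLinearGroup (Fin 2) F} (hg : g ∈ uPlus F) :
    ∃ P : GL (Fin 2) F, g = conjSL P (uSL 1) := by
  simp only [uPlus, Finset.mem_filter, Finset.mem_univ, true_and] at hg
  obtain ⟨ht, hne⟩ := hg
  set M := (g : Matrix (Fin 2) (Fin 2) F) with hM
  have hdet : M 0 0 * M 1 1 - M 0 1 * M 1 0 = 1 := by
    rw [← Matrix.det_fin_two]; exact g.2
  have key : ∀ P : GL (Fin 2) F, M * mat P = mat P * !![1, 1; 0, 1] → g = conjSL P (uSL 1) := by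
    intro P hP
    refine toGL2_injective ?_
    rw [toGL2_conjSL, eq_mul_inv_iff_mul_eq, toGL2_uSL]
    exact Units.ext hP
  by_cases hb : M 0 1 = 0
  · have h00 : M 0 0 = 1 := by
      have hsq : (M 0 0 - 1) ^ 2 = 0 := by
        linear_combination (-(1 : F)) * hdet + (M 0 0) * ht - (M 1 0) * hb
      linear_combination pow_eq_zero_iff (two_ne_zero) |>.1 hsq
    have h11 : M 1 1 = 1 := by linear_combination ht - h00
    have h10 : M 1 0 ≠ 0 := by
      intro h10
      refine hne (Subtype.ext (Matrix.ext fun i j => ?_))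
      fin_cases i <;> fin_cases j <;> simp [← hM, h00, h11, hb, h10]
    refine ⟨Matrix.GeneralLinearGroup.mkOfDetNeZero !![0, 1; M 1 0, 0]
      (by simp [Matrix.det_fin_two, h10]), key _ ?_⟩
    ext i j
    fin_cases i <;> fin_cases j <;> simp [mat, Matrix.mul_apply, Fin.sum_univ_two, h00, h11, hb]
  · refine ⟨Matrix.GeneralLinearGroup.mkOfDetNeZero !![M 0 1, 0; M 1 1 - 1, 1]
      (by simp [Matrix.det_fin_two, hb]), key _ ?_⟩
    ext i j
    fin_cases i <;> fin_cases j <;> simp [mat, Matrix.mul_apply, Fin.sum_univ_two]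
    · linear_combination (M 0 1) * ht
    · linear_combination (-(1 : F)) * hdet + (M 1 1) * ht - ht + ht - (0 : F) * hdet

/-- A unipotent matrix with non-zero upper right entry. -/
def uMatA (p : Fˣ × F) : Matrix (Fin 2) (Fin 2) F :=
  !![p.2, (p.1 : F); -(p.2 - 1) ^ 2 * ((p.1⁻¹ : Fˣ) : F), 2 - p.2]

/-- A lower unitriangular matrix. -/
def uMatB (c : F) : Matrix (Fin 2) (Fin 2) F := !![1, 0; c, 1]

omit [Fintype F] [DecidableEq F] in
theorem det_uMatA (p : Fˣ × F) : (uMatA p).det = 1 := by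
  rw [uMatA, Matrix.det_fin_two]
  simp
  field_simp
  ring

omit [Fintype F] [DecidableEq F] in
theorem det_uMatB (c : F) : (uMatB c).det = 1 := by simp [uMatB, Matrix.det_fin_two]

theorem card_uPlus : (uPlus F).card + 1 = Fintype.card F ^ 2 := by
  have h1 : (1 : Matrix.SpecialLinearGroup (Fin 2) F) ∈ Finset.univ.filter
      (fun g : Matrix.SpecialLinearGroup (Fin 2) F => (g : Matrix (Fin 2) (Fin 2) F) 0 0 +
        (g : Matrix (Fin 2) (Fin 2) F) 1 1 = 2) := by simp; norm_num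
  have e : uPlus F = (Finset.univ.filter (fun g : Matrix.SpecialLinearGroup (Fin 2) F =>
      (g : Matrix (Fin 2) (Fin 2) F) 0 0 + (g : Matrix (Fin 2) (Fin 2) F) 1 1 = 2)).erase 1 := by
    ext g; simp [uPlus, and_comm]
  rw [e, Finset.card_erase_add_one h1]
  obtain ⟨f, hf1, hf2⟩ : ∃ f : (Fˣ × F) ⊕ F → Matrix.SpecialLinearGroup (Fin 2) F,
      (∀ p, ((f (Sum.inl p)) : Matrix (Fin 2) (Fin 2) F) = uMatA p) ∧
      (∀ c, ((f (Sum.inr c)) : Matrix (Fin 2) (Fin 2) F) = uMatB c) :=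
    ⟨Sum.elim (fun p => ⟨uMatA p, det_uMatA p⟩) (fun c => ⟨uMatB c, det_uMatB c⟩),
      fun _ => rfl, fun _ => rfl⟩
  simp only [uMatA, uMatB] at hf1 hf2
  have hf : Function.Injective f := by
    rintro (p | c) (r | d) h <;>
      have h00 := congrArg (fun g : Matrix.SpecialLinearGroup (Fin 2) F =>
        (g : Matrix (Fin 2) (Fin 2) F) 0 0) h <;>
      have h01 := congrArg (fun g : Matrix.SpecialLinearGroup (Fin 2) F =>
        (g : Matrix (Fin 2) (Fin 2) F) 0 1) h <;>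
      have h10 := congrArg (fun g : Matrix.SpecialLinearGroup (Fin 2) F =>
        (g : Matrix (Fin 2) (Fin 2) F) 1 0) h <;>
      simp [hf1, hf2] at h00 h01 h10
    all_goals first
      | exact congrArg Sum.inl (Prod.ext (Units.ext h01) h00)
      | exact congrArg Sum.inr h10
      | exact absurd h01 (Units.ne_zero _)
      | exact absurd h01.symm (Units.ne_zero _)
  have hcard : (Finset.univ.image f).card = Fintype.card F ^ 2 := by
    rw [Finset.card_image_of_injective _ hf, Finset.card_univ, Fintype.card_sum, Fintype.card_prod,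
      Fintype.card_units, sq]
    obtain ⟨n, hn⟩ : ∃ n, Fintype.card F = n + 1 :=
      ⟨Fintype.card F - 1, by have := Fintype.one_lt_card (α := F); omega⟩
    rw [hn, Nat.add_sub_cancel]; ring
  rw [← hcard]
  refine congrArg Finset.card (Finset.ext fun g => ?_)
  simp only [Finset.mem_filter, Finset.mem_univ, true_and, Finset.mem_image]
  constructor
  · intro ht
    set M := (g : Matrix (Fin 2) (Fin 2) F) with hM
    have hdet : M 0 0 * M 1 1 - M 0 1 * M 1 0 = 1 := by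
      rw [← Matrix.det_fin_two]; exact g.2
    by_cases hb : M 0 1 = 0
    · have hsq : (M 0 0 - 1) ^ 2 = 0 := by
        linear_combination (-(1 : F)) * hdet + (M 0 0) * ht - (M 1 0) * hb
      have h00 : M 0 0 = 1 := by linear_combination pow_eq_zero_iff (two_ne_zero) |>.1 hsq
      refine ⟨Sum.inr (M 1 0), Subtype.ext (Matrix.ext fun i j => ?_)⟩
      fin_cases i <;> fin_cases j <;> simp [hf2, ← hM, h00, hb]
      linear_combination h00 - ht
    · refine ⟨Sum.inl (Units.mk0 _ hb, M 0 0), Subtype.ext (Matrix.ext fun i j => ?_)⟩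
      fin_cases i <;> fin_cases j <;> simp [hf1, ← hM]
      · field_simp
        linear_combination hdet - (M 0 0) * ht
      · linear_combination -ht
  · rintro ⟨(p | c), rfl⟩ <;> simp [hf1, hf2] <;> norm_num

/-- The nontrivial unipotent and anti-unipotent elements and the rest. -/
theorem sum_split (hodd : Odd (Fintype.card F)) (f : Matrix.SpecialLinearGroup (Fin 2) F → ℂ)
    (hf : ∀ g : Matrix.SpecialLinearGroup (Fin 2) F,
      ((g : Matrix (Fin 2) (Fin 2) F) 0 0 + (g : Matrix (Fin 2) (Fin 2) F) 1 1) ^ 2 ≠ 4 → f g = 0) :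
    ∑ g, f g = f 1 + f zSL + ∑ g ∈ uPlus F, (f g + f (zSL * g)) := by
  classical
  have h2 := two_ne_zero' hodd
  set A := insert (1 : Matrix.SpecialLinearGroup (Fin 2) F) (uPlus F) with hA
  have hmem : ∀ g, g ∈ A ↔ (g : Matrix (Fin 2) (Fin 2) F) 0 0 + (g : Matrix (Fin 2) (Fin 2) F) 1 1 = 2 := by
    intro g
    simp only [hA, uPlus, Finset.mem_insert, Finset.mem_filter, Finset.mem_univ, true_and]
    constructor
    · rintro (rfl | h)
      · simp; norm_num
      · exact h.1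
    · intro h; tauto
  have hdisj : Disjoint A (A.image (zSL * ·)) := by
    rw [Finset.disjoint_left]
    intro g hg hg'
    obtain ⟨k, hk, rfl⟩ := Finset.mem_image.1 hg'
    rw [hmem] at hg hk
    rw [mat_zSL_mul] at hg
    simp only [Matrix.neg_apply] at hg
    have h22 : (2 : F) * 2 = 0 := by linear_combination -hg - hk
    exact h2 (mul_self_eq_zero.1 h22)
  rw [← Finset.sum_subset (Finset.subset_univ (A ∪ A.image (zSL * ·))) (fun g _ hg => hf g (by
    intro h4
    apply hg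
    have : ((g : Matrix (Fin 2) (Fin 2) F) 0 0 + (g : Matrix (Fin 2) (Fin 2) F) 1 1 - 2) *
        ((g : Matrix (Fin 2) (Fin 2) F) 0 0 + (g : Matrix (Fin 2) (Fin 2) F) 1 1 + 2) = 0 := by
      linear_combination h4
    rcases mul_eq_zero.1 this with h | h
    · exact Finset.mem_union_left _ ((hmem g).2 (sub_eq_zero.1 h))
    · refine Finset.mem_union_right _ (Finset.mem_image.2 ⟨zSL * g, (hmem _).2 ?_, ?_⟩)
      · rw [mat_zSL_mul]; simp only [Matrix.neg_apply]; linear_combination -h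
      · rw [← mul_assoc, zSL_sq, one_mul])), Finset.sum_union hdisj,
    Finset.sum_image (fun a _ b _ h => mul_left_cancel h)]
  have h1 : (1 : Matrix.SpecialLinearGroup (Fin 2) F) ∉ uPlus F := by simp [uPlus]
  rw [hA, Finset.sum_insert h1, Finset.sum_insert h1, mul_one, Finset.sum_add_distrib]
  ring

theorem card_SL2_val :
    Nat.card (Matrix.SpecialLinearGroup (Fin 2) F) = (uPlus F).card * Fintype.card F := by
  haveI : Fintype (MulChar F ℂ) := Fintype.ofFinite _
  have h := card_SL2 (F := F)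
  rw [card_GL2] at h
  have hu := card_uPlus (F := F)
  obtain ⟨n, hn⟩ : ∃ n, Fintype.card F = n + 1 :=
    ⟨Fintype.card F - 1, by have := Fintype.one_lt_card (α := F); omega⟩
  have hn0 : 0 < n := by have := Fintype.one_lt_card (α := F); omega
  rw [hn, Nat.add_sub_cancel] at h
  rw [hn] at hu ⊢
  refine Nat.eq_of_mul_eq_mul_left hn0 (h.symm.trans ?_)
  have : (uPlus F).card = n * (n + 2) := by nlinarith
  rw [this]; ring

/-- `ψ - φ`. -/
theorem Halves.diff_zero (hodd : Odd (Fintype.card F)) {χ : GL (Fin 2) F → ℂ}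
    {ψ φ : Matrix.SpecialLinearGroup (Fin 2) F → ℂ} (h : Halves χ ψ φ)
    (g : Matrix.SpecialLinearGroup (Fin 2) F)
    (hg : ((g : Matrix (Fin 2) (Fin 2) F) 0 0 + (g : Matrix (Fin 2) (Fin 2) F) 1 1) ^ 2 ≠ 4) :
    (ψ - φ) g = 0 := by
  obtain ⟨x, hx, hxg⟩ := exists_comm_nonsq hodd g hg
  rw [Pi.sub_apply, (h.value_eq_half hx hxg).1, sub_self]

theorem Halves.diff_central (hodd : Odd (Fintype.card F)) {χ : GL (Fin 2) F → ℂ}
    {ψ φ : Matrix.SpecialLinearGroup (Fin 2) F → ℂ} (h : Halves χ ψ φ) :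
    φ zSL = ψ zSL ∧ ∀ g, (ψ - φ) (zSL * g) = ψ zSL / ψ 1 * (ψ - φ) g := by
  obtain ⟨b, hb⟩ := exists_nonsq hodd
  have hz : φ zSL = ψ zSL :=
    (h.value_eq_half (x := up b 1 0) (by rw [udet_up, mul_one]; exact hb) (conjSL_zSL _)).1
  refine ⟨hz, fun g => ?_⟩
  rw [Pi.sub_apply, Pi.sub_apply, central_mul h.1, central_mul h.2.1, hz, (h.one_val hodd).1]
  ring

theorem omega_sq {ψ : Matrix.SpecialLinearGroup (Fin 2) F → ℂ}
    (hψ : IsIrrCharacter (Matrix.SpecialLinearGroup (Fin 2) F) ψ) :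
    ψ zSL / ψ 1 * (ψ zSL / ψ 1) = 1 ∧ conj (ψ zSL / ψ 1) = ψ zSL / ψ 1 := by
  have h0 := Char.irr_one_ne_zero hψ
  have h := central_mul hψ zSL
  rw [zSL_sq] at h
  refine ⟨by field_simp at h ⊢; linear_combination -h, ?_⟩
  have hinv : ψ zSL⁻¹ = ψ zSL := by rw [inv_eq_of_mul_eq_one_right zSL_sq]
  rw [Char.char_inv (Char.irr_isCharacter hψ)] at hinv
  rw [map_div₀, hinv, Char.conj_char_one (Char.irr_isCharacter hψ)]

theorem Halves.diff_uPlus {χ : GL (Fin 2) F → ℂ}
    {ψ φ : Matrix.SpecialLinearGroup (Fin 2) F → ℂ} (h : Halves χ ψ φ) (P : GL (Fin 2) F)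
    (g : Matrix.SpecialLinearGroup (Fin 2) F) :
    (ψ - φ) (conjSL P g) = eta (udet P : F) * (ψ - φ) g := by
  by_cases hP : IsSquare (udet P : F)
  · rw [eta_sq (Units.ne_zero _) hP, one_mul, Pi.sub_apply, Pi.sub_apply,
      square_fix (Char.isClassFunction_character (Char.irr_isCharacter h.1)) hP,
      square_fix (Char.isClassFunction_character (Char.irr_isCharacter h.2.1)) hP]
  · rw [eta_not_sq hP, Pi.sub_apply, Pi.sub_apply, ← h.2.2.2.2 P hP, ← h.symm.2.2.2.2 P hP]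
    ring

/-- The inner product of two differences of halves. -/
theorem inner_diff (hodd : Odd (Fintype.card F)) {χ χ' : GL (Fin 2) F → ℂ}
    {ψ φ ψ' φ' : Matrix.SpecialLinearGroup (Fin 2) F → ℂ}
    (h : Halves χ ψ φ) (h' : Halves χ' ψ' φ') :
    classInner (ψ - φ) (ψ' - φ') * (Fintype.card F : ℂ) =
      (1 + ψ zSL / ψ 1 * (ψ' zSL / ψ' 1)) * ((ψ - φ) (uSL 1) * conj ((ψ' - φ') (uSL 1))) := by
  have h1 : (ψ - φ) 1 = 0 := by rw [Pi.sub_apply, (h.one_val hodd).1, sub_self]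
  have hz : (ψ - φ) zSL = 0 := by rw [Pi.sub_apply, (h.diff_central hodd).1, sub_self]
  rw [classInner, sum_split hodd _ (fun g hg => by rw [h.diff_zero hodd g hg, zero_mul]), h1, hz,
    zero_mul, zero_mul, zero_add, zero_add,
    Finset.sum_congr rfl (g := fun _ => (1 + ψ zSL / ψ 1 * (ψ' zSL / ψ' 1)) *
      ((ψ - φ) (uSL 1) * conj ((ψ' - φ') (uSL 1)))), Finset.sum_const, nsmul_eq_mul, card_SL2_val]
  · have hq : (Fintype.card F : ℂ) ≠ 0 := by simp
    have hc : ((uPlus F).card : ℂ) ≠ 0 := by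
      have := card_uPlus (F := F)
      have hq2 := Fintype.one_lt_card (α := F)
      exact_mod_cast (by nlinarith : (uPlus F).card ≠ 0)
    push_cast
    field_simp
  · intro g hg
    obtain ⟨P, rfl⟩ := uPlus_conj hg
    rw [(h.diff_central hodd).2, (h'.diff_central hodd).2, h.diff_uPlus, h'.diff_uPlus]
    simp only [map_mul, (omega_sq h'.1).2]
    have he : eta (udet P : F) * conj (eta (udet P : F)) = 1 := by
      rw [conj_mulChar, ← MulChar.mul_apply, mul_inv_cancel, MulChar.one_apply_coe]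
    linear_combination (1 + ψ zSL / ψ 1 * (ψ' zSL / ψ' 1)) *
      ((ψ - φ) (uSL 1) * conj ((ψ' - φ') (uSL 1))) * he

theorem Halves.diff_norm (hodd : Odd (Fintype.card F)) {χ : GL (Fin 2) F → ℂ}
    {ψ φ : Matrix.SpecialLinearGroup (Fin 2) F → ℂ} (h : Halves χ ψ φ) :
    (ψ - φ) (uSL 1) * conj ((ψ - φ) (uSL 1)) = (Fintype.card F : ℂ) := by
  have := inner_diff hodd h h
  rw [(omega_sq h.1).1, Char.classInner_sub_left, Char.classInner_sub_right,
    Char.classInner_sub_right, Char.irr_self h.1, Char.irr_self h.2.1, Char.irr_orth h.1 h.2.1,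
    Char.irr_orth h.2.1 h.1, if_neg h.2.2.1, if_neg (Ne.symm h.2.2.1)] at this
  linear_combination -this / 2

theorem Halves.diff_sq (hodd : Odd (Fintype.card F)) {χ : GL (Fin 2) F → ℂ}
    {ψ φ : Matrix.SpecialLinearGroup (Fin 2) F → ℂ} (h : Halves χ ψ φ) :
    (ψ - φ) (uSL 1) ^ 2 = eta (-1 : F) * (Fintype.card F : ℂ) := by
  have hc : conj ((ψ - φ) (uSL 1)) = eta (-1 : F) * (ψ - φ) (uSL 1) := by
    rw [Pi.sub_apply, map_sub, ← Char.char_inv (Char.irr_isCharacter h.1),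
      ← Char.char_inv (Char.irr_isCharacter h.2.1),
      show (uSL (1 : F))⁻¹ = conjSL (up (-1) 1 0) (uSL 1) from ?_,
      ← Pi.sub_apply, h.diff_uPlus, udet_up, mul_one, Units.val_neg, Units.val_one, Pi.sub_apply]
    refine (toGL2_injective ?_).symm
    rw [toGL2_conjSL, show toGL2 (uSL (1 : F))⁻¹ = (toGL2 (uSL 1))⁻¹ from map_inv _ _,
      toGL2_uSL, mul_inv_eq_iff_eq_mul, eq_inv_mul_iff_mul_eq]
    refine ext2 ?_ ?_ ?_ ?_ <;> simp [mat, up, Matrix.mul_apply, Fin.sum_univ_two]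
  have hn := h.diff_norm hodd
  rw [hc] at hn
  have he : eta (-1 : F) * eta (-1 : F) = 1 := by
    rw [← MulChar.mul_apply, eta_mul_self, MulChar.one_apply isUnit_one.neg]
  linear_combination eta (-1 : F) * hn - ((ψ - φ) (uSL 1)) ^ 2 * he

theorem eta_neg_one (hodd : Odd (Fintype.card F)) :
    (eta : MulChar F ℂ) (-1 : F) = (-1 : ℂ) ^ ((Fintype.card F - 1) / 2) := by
  obtain ⟨k, hk⟩ := hodd
  rcases Nat.even_or_odd k with ⟨j, hj⟩ | ⟨j, hj⟩
  · rw [eta_sq (neg_ne_zero.2 one_ne_zero) (FiniteField.isSquare_neg_one_iff.2 (by omega))]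
    exact ((Nat.even_iff.2 (by omega) : Even ((Fintype.card F - 1) / 2))).neg_one_pow.symm
  · rw [eta_not_sq (fun hh => FiniteField.isSquare_neg_one_iff.1 hh (by omega))]
    exact ((Nat.odd_iff.2 (by omega) : Odd ((Fintype.card F - 1) / 2))).neg_one_pow.symm

theorem omega_ps (hodd : Odd (Fintype.card F)) {ψ φ : Matrix.SpecialLinearGroup (Fin 2) F → ℂ}
    (h : Halves (ps eta 1) ψ φ) : ψ zSL / ψ 1 = eta (-1 : F) := by
  have h1 := (h.one_val hodd).2
  obtain ⟨b, hb⟩ := exists_nonsq hodd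
  have hz := (h.value_eq_half (x := up b 1 0) (by rw [udet_up, mul_one]; exact hb) (conjSL_zSL _)).2
  have he := toGL2_zSL (F := F)
  rw [he, ps_borel] at hz
  rw [ps_one_val] at h1
  simp only [sub_self, zero_mul, add_zero, if_true, Finset.sum_const, Finset.card_univ,
    nsmul_eq_mul, Units.val_neg, Units.val_one, MulChar.one_apply isUnit_one.neg, mul_one,
    one_mul] at hz
  rw [div_eq_iff (Char.irr_one_ne_zero h.1)]
  linear_combination hz / 2 - eta (-1 : F) * h1 / 2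

theorem inner_halves_zero {χ χ' : GL (Fin 2) F → ℂ} [Fintype (MulChar F ℂ)]
    (hχ : IsIrrCharacter (GL (Fin 2) F) χ) (hχ' : IsIrrCharacter (GL (Fin 2) F) χ')
    {ψ φ ψ' φ' : Matrix.SpecialLinearGroup (Fin 2) F → ℂ}
    (h : Halves χ ψ φ) (h' : Halves χ' ψ' φ') (hne : res χ' ≠ res χ) :
    classInner (ψ - φ) (ψ' - φ') = 0 := by
  classical
  have h0 : classInner (res χ) (res χ') = 0 := by
    rw [inner_res_irr hχ hχ']
    haveI : IsEmpty {l : MulChar F ℂ // twist χ' l = χ} :=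
      ⟨fun l => hne (by rw [← l.2, res_twist])⟩
    simp
  rw [h.2.2.2.1, h'.2.2.2.1] at h0
  simp only [Char.classInner_add_left, Char.classInner_add_right] at h0
  simp only [Char.classInner_sub_left, Char.classInner_sub_right]
  obtain ⟨a, ha⟩ := Char.classInner_natCast (Char.irr_isCharacter h.1) (Char.irr_isCharacter h'.1)
  obtain ⟨b, hb⟩ := Char.classInner_natCast (Char.irr_isCharacter h.1) (Char.irr_isCharacter h'.2.1)
  obtain ⟨c, hc⟩ := Char.classInner_natCast (Char.irr_isCharacter h.2.1) (Char.irr_isCharacter h'.1)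
  obtain ⟨d, hd⟩ := Char.classInner_natCast (Char.irr_isCharacter h.2.1) (Char.irr_isCharacter h'.2.1)
  rw [ha, hb, hc, hd] at h0 ⊢
  have hall : a + c + (b + d) = 0 ∨ a + b + (c + d) = 0 := by
    first
      | exact Or.inl (by exact_mod_cast h0)
      | exact Or.inr (by exact_mod_cast h0)
  have : a = 0 ∧ b = 0 ∧ c = 0 ∧ d = 0 := by omega
  simp [this.1, this.2.1, this.2.2.1, this.2.2.2]

/-- All fixed cuspidal characters restrict alike. -/
theorem fixed_cusp_unique (hodd : Odd (Fintype.card F)) [Fintype (MulChar F ℂ)]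
    {χ χ' : GL (Fin 2) F → ℂ} (hχ : IsIrrCharacter (GL (Fin 2) F) χ)
    (hχ' : IsIrrCharacter (GL (Fin 2) F) χ') (hc : IsCusp χ) (hc' : IsCusp χ')
    {ψ φ ψ' φ' : Matrix.SpecialLinearGroup (Fin 2) F → ℂ}
    (h : Halves χ ψ φ) (h' : Halves χ' ψ' φ') : res χ' = res χ := by
  classical
  by_contra hne
  obtain ⟨a, b, h0⟩ : ∃ a b, Halves (ps eta 1) a b :=
    halves (ps_isIrr (eta_ne_one hodd)) (stab_card_fixed (ps_isIrr (eta_ne_one hodd)) (fixed_ps_eta hodd))
  have hq : (Fintype.card F : ℂ) ≠ 0 := by simp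
  have key : ∀ {χ₁ : GL (Fin 2) F → ℂ} {c d : Matrix.SpecialLinearGroup (Fin 2) F → ℂ},
      IsIrrCharacter (GL (Fin 2) F) χ₁ → IsCusp χ₁ → Halves χ₁ c d →
      c zSL / c 1 = -eta (-1 : F) := by
    intro χ₁ c d h1 hc1 h2
    have hne1 : res χ₁ ≠ res (ps eta 1) := by
      intro e
      have hq2 := Fintype.one_lt_card (α := F)
      have e1 := congrFun e 1
      rw [res, res, toGL2, map_one, (cusp_values h1 hc1).1, ps_one_val, Nat.cast_sub hq2.le,
        Nat.cast_one] at e1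
      have : (2 : ℂ) = 0 := by linear_combination -e1
      norm_num at this
    have hz := inner_diff hodd h0 h2
    rw [inner_halves_zero (ps_isIrr (eta_ne_one hodd)) h1 h0 h2 hne1, zero_mul, omega_ps hodd h0] at hz
    have hnz : (a - b) (uSL 1) * conj ((c - d) (uSL 1)) ≠ 0 := by
      intro hh
      rcases mul_eq_zero.1 hh with hh | hh
      · have := h0.diff_norm hodd
        rw [hh, zero_mul] at this
        exact hq this.symm
      · have := h2.diff_norm hodd
        rw [hh, mul_zero] at this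
        exact hq this.symm
    have h3 := (mul_eq_zero.1 hz.symm).resolve_right hnz
    have he : eta (-1 : F) * eta (-1 : F) = 1 := by
      rw [← MulChar.mul_apply, eta_mul_self, MulChar.one_apply isUnit_one.neg]
    linear_combination eta (-1 : F) * h3 - (c zSL / c 1) * he
  have hz := inner_diff hodd h h'
  rw [inner_halves_zero hχ hχ' h h' hne, zero_mul, key hχ hc h, key hχ' hc' h'] at hz
  have he : eta (-1 : F) * eta (-1 : F) = 1 := by
    rw [← MulChar.mul_apply, eta_mul_self, MulChar.one_apply isUnit_one.neg]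
  rw [show (1 : ℂ) + -eta (-1 : F) * -eta (-1 : F) = 2 by linear_combination he] at hz
  rcases mul_eq_zero.1 hz.symm with hh | hh
  · norm_num at hh
  · rcases mul_eq_zero.1 hh with hh | hh
    · have := h.diff_norm hodd
      rw [hh, zero_mul] at this
      exact hq this.symm
    · have := h'.diff_norm hodd
      rw [hh, mul_zero] at this
      exact hq this.symm

end Cfsg.Agent.Lead.SL2
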