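import Mathlib

/-!
Element orders in a semidirect product of an abelian group of prime exponent by a group acting
on it.
-/

set_option autoImplicit false

namespace Cfsg.Agent.SemiSpec

variable (H : Type*) (V : Type*) [Group H] [AddCommGroup V] [DistribMulAction H V]

/-- The action as automorphisms of the multiplicative group. -/
def autHom : H →* MulAut (Multiplicative V) where
  toFun h := AddEquiv.toMultiplicative (DistribMulAction.toAddEquiv V h)
  map_one' := MulEquiv.ext fun m => congrArg Multiplicative.ofAdd (one_smul H m.toAdd)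
  map_mul' g h := MulEquiv.ext fun m => congrArg Multiplicative.ofAdd (mul_smul g h m.toAdd)

/-- The semidirect product. -/
abbrev Semi : Type _ := Multiplicative V ⋊[autHom H V] H

variable {H V}

/-- The element with the given components. -/
def el (v : V) (h : H) : Semi H V := ⟨Multiplicative.ofAdd v, h⟩

theorem pow_spec (x : Semi H V) (m : ℕ) :
    (x ^ m).right = x.right ^ m ∧
      (x ^ m).left.toAdd = ∑ i ∈ Finset.range m, (x.right ^ i) • x.left.toAdd := by
  induction m with
  | zero => simp
  | succ m ih =>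
    rw [pow_succ, SemidirectProduct.mul_right, SemidirectProduct.mul_left, ih.1, ← pow_succ,
      Finset.sum_range_succ, ← ih.2]
    exact ⟨rfl, rfl⟩

theorem pow_eq_one_iff_sum (x : Semi H V) (m : ℕ) :
    x ^ m = 1 ↔ x.right ^ m = 1 ∧ ∑ i ∈ Finset.range m, (x.right ^ i) • x.left.toAdd = 0 := by
  rw [SemidirectProduct.ext_iff, SemidirectProduct.one_left, SemidirectProduct.one_right,
    (pow_spec x m).1, ← toAdd_eq_zero (x := (x ^ m).left), (pow_spec x m).2, and_comm]

theorem sum_period (h : H) (v : V) (d : ℕ) (hd : h ^ d = 1) (j : ℕ) :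
    ∑ i ∈ Finset.range (j * d), (h ^ i) • v = j • ∑ i ∈ Finset.range d, (h ^ i) • v := by
  induction j with
  | zero => simp
  | succ j ih =>
    rw [Nat.succ_mul, Finset.sum_range_add, ih, succ_nsmul]
    congr 1
    refine Finset.sum_congr rfl fun i _ => ?_
    rw [pow_add, mul_comm j d, pow_mul, hd, one_pow, one_mul]

theorem smul_sum_fixed (h : H) (v : V) (d : ℕ) (hd : h ^ d = 1) :
    h • (∑ i ∈ Finset.range d, (h ^ i) • v) = ∑ i ∈ Finset.range d, (h ^ i) • v := by
  rw [Finset.smul_sum]
  simp only [← mul_smul, ← pow_succ']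
  have e1 := Finset.sum_range_succ (fun i => (h ^ i) • v) d
  have e2 := Finset.sum_range_succ' (fun i => (h ^ i) • v) d
  rw [e1] at e2
  simp only [hd, pow_zero] at e2
  exact (add_right_cancel e2).symm

theorem orderOf_right_dvd (x : Semi H V) : orderOf x.right ∣ orderOf x :=
  orderOf_map_dvd (SemidirectProduct.rightHom : Semi H V →* H) x

/-- Without fixed vectors the order is that of the image. -/
theorem orderOf_eq_of_fpf (x : Semi H V)
    (hfix : ∀ v : V, x.right • v = v → v = 0) : orderOf x = orderOf x.right := by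
  refine Nat.dvd_antisymm (orderOf_dvd_of_pow_eq_one ?_) (orderOf_right_dvd x)
  exact (pow_eq_one_iff_sum x _).2 ⟨pow_orderOf_eq_one _,
    hfix _ (smul_sum_fixed _ _ _ (pow_orderOf_eq_one _))⟩

/-- In exponent `r` the order is that of the image, possibly times `r`. -/
theorem orderOf_dvd_mul {r : ℕ} (hr : ∀ v : V, r • v = 0) (x : Semi H V) :
    orderOf x ∣ r * orderOf x.right := by
  refine orderOf_dvd_of_pow_eq_one ((pow_eq_one_iff_sum x _).2 ⟨?_, ?_⟩)
  · rw [mul_comm, pow_mul, pow_orderOf_eq_one, one_pow]
  · rw [sum_period _ _ _ (pow_orderOf_eq_one _), hr]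

/-- An element of order `r * n` from a vector with nonzero norm. -/
theorem orderOf_el {r : ℕ} (hr : r.Prime) (hexp : ∀ v : V, r • v = 0) (v : V) (h : H)
    (hN : ∑ i ∈ Finset.range (orderOf h), (h ^ i) • v ≠ 0) :
    orderOf (el v h) = r * orderOf h := by
  have h1 : orderOf h ∣ orderOf (el v h) := orderOf_right_dvd (el v h)
  have h2 : orderOf (el v h) ∣ r * orderOf h := orderOf_dvd_mul hexp (el v h)
  obtain ⟨c, hc⟩ := h1
  have h0 : 0 < orderOf h := by
    rcases Nat.eq_zero_or_pos (orderOf h) with h0 | h0
    · rw [h0, Finset.range_zero, Finset.sum_empty] at hN; exact absurd rfl hN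
    · exact h0
  rw [hc, mul_comm r] at h2
  rcases (Nat.dvd_prime hr).1 (Nat.dvd_of_mul_dvd_mul_left h0 h2) with rfl | rfl
  · rw [mul_one] at hc
    exact absurd (((pow_eq_one_iff_sum (el v h) (orderOf h)).1
      (by rw [← hc]; exact pow_orderOf_eq_one _)).2) hN
  · rw [hc, mul_comm]

theorem orderOf_el_one {r : ℕ} (hr : r.Prime) (hexp : ∀ v : V, r • v = 0) (v : V) (hv : v ≠ 0) :
    orderOf (el v (1 : H)) = r := by
  rw [orderOf_el hr hexp v 1 (by simpa using hv), orderOf_one, mul_one]

theorem orderOf_el_zero (h : H) : orderOf (el (0 : V) h) = orderOf h :=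
  orderOf_injective (SemidirectProduct.inr : H →* Semi H V) SemidirectProduct.inr_injective h

variable (H V)

/-- The normal copy of `V`. -/
abbrev base : Subgroup (Semi H V) :=
  (SemidirectProduct.inl : Multiplicative V →* Semi H V).range

theorem base_normal : (base H V).Normal := by
  rw [base, SemidirectProduct.range_inl_eq_ker_rightHom]
  exact MonoidHom.normal_ker _

theorem base_ne_bot [Nontrivial V] : base H V ≠ ⊥ := by
  obtain ⟨v, hv⟩ := exists_ne (0 : V)
  intro h
  have : SemidirectProduct.inl (Multiplicative.ofAdd v) ∈ base H V := ⟨_, rfl⟩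
  rw [h, Subgroup.mem_bot] at this
  exact hv (Multiplicative.ofAdd.injective (SemidirectProduct.inl_injective
    (this.trans (map_one (SemidirectProduct.inl : Multiplicative V →* Semi H V)).symm)))

theorem base_pow {r : ℕ} (hexp : ∀ v : V, r • v = 0) : ∀ x ∈ base H V, x ^ r = 1 := by
  rintro x ⟨m, rfl⟩
  rw [← map_pow, show m ^ r = 1 from congrArg Multiplicative.ofAdd (hexp m.toAdd), map_one]

theorem finite_semi [Finite H] [Finite V] : Finite (Semi H V) :=
  Finite.of_equiv _ SemidirectProduct.equivProd.symm

end Cfsg.Agent.SemiSpec
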