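import Cfsg.Prelude.Def_GeometricClasses
import Cfsg.Agent.Lib.Small.Semisimple

/-!
# Prime power roots of scalars in the normaliser of a Singer cycle

For `n` prime, the non-scalar elements `h` of the normaliser of a field subalgebra of dimension `n` of the
`n × n` matrices with `h ^ n` scalar are exactly those with minimal polynomial of degree `n`, up to conjugation.
-/

set_option autoImplicit false
set_option linter.style.haveILetI false

namespace Cfsg.Agent.Lead.SingerElusive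

open Matrix Polynomial Cfsg.Geo

universe u

variable {F : Type u} [Field F] {n : ℕ}

theorem ev_bijective (hn : 0 < n) {K : Subalgebra F (Matrix (Fin n) (Fin n) F)} (hK : IsFieldSubalgebra n K)
    {v₀ : Fin n → F} (hv : v₀ ≠ 0) :
    Function.Bijective (fun k : K => (k : Matrix (Fin n) (Fin n) F) *ᵥ v₀) := by
  let ev : K →ₗ[F] (Fin n → F) :=
    { toFun := fun k => (k : Matrix (Fin n) (Fin n) F) *ᵥ v₀
      map_add' := fun a b => by simp [Matrix.add_mulVec]
      map_smul' := fun a b => by simp [Matrix.smul_mulVec] }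
  have hinj : Function.Injective ev := by
    rw [injective_iff_map_eq_zero]
    intro k hk
    by_contra h0
    obtain ⟨y, hy, hky⟩ := hK.inv k k.2 (fun e => h0 (Subtype.ext e))
    apply hv
    calc v₀ = (1 : Matrix (Fin n) (Fin n) F) *ᵥ v₀ := (Matrix.one_mulVec v₀).symm
      _ = y *ᵥ ((k : Matrix (Fin n) (Fin n) F) *ᵥ v₀) := by
        rw [Matrix.mulVec_mulVec, ← hK.comm _ k.2 y hy, hky]
      _ = 0 := by
        rw [show (k : Matrix (Fin n) (Fin n) F) *ᵥ v₀ = 0 from hk, Matrix.mulVec_zero]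
  refine ⟨hinj, ?_⟩
  haveI : FiniteDimensional F K := Module.finite_of_finrank_pos (by rw [hK.finrank_eq]; exact hn)
  exact (LinearMap.injective_iff_surjective_of_finrank_eq_finrank (by
    rw [hK.finrank_eq, Module.finrank_fin_fun])).mp hinj

theorem mem_of_commute (hn : 0 < n) {K : Subalgebra F (Matrix (Fin n) (Fin n) F)} (hK : IsFieldSubalgebra n K)
    {M : Matrix (Fin n) (Fin n) F} (h : ∀ k ∈ K, M * k = k * M) : M ∈ K := by
  haveI : Nonempty (Fin n) := ⟨⟨0, hn⟩⟩
  obtain ⟨v₀, hv⟩ := exists_ne (0 : Fin n → F)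
  obtain ⟨k, hk⟩ := (ev_bijective hn hK hv).2 (M *ᵥ v₀)
  simp only at hk
  have : M = k := by
    refine Matrix.toLin'.injective (LinearMap.ext fun v => ?_)
    obtain ⟨k', hk'⟩ := (ev_bijective hn hK hv).2 v
    simp only at hk'
    rw [Matrix.toLin'_apply, Matrix.toLin'_apply, ← hk', Matrix.mulVec_mulVec, h _ k'.2, ← Matrix.mulVec_mulVec,
      ← hk, Matrix.mulVec_mulVec, Matrix.mulVec_mulVec, hK.comm _ k'.2 _ k.2]
  exact this ▸ k.2

/-- The invertible matrices lying in a field subalgebra. -/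
def unitsIn {K : Subalgebra F (Matrix (Fin n) (Fin n) F)} (hK : IsFieldSubalgebra n K) : Subgroup (GL (Fin n) F) where
  carrier := {g | (g : Matrix (Fin n) (Fin n) F) ∈ K}
  mul_mem' {a b} ha hb := by
    show ((a * b : GL (Fin n) F) : Matrix (Fin n) (Fin n) F) ∈ K
    rw [Units.val_mul]; exact K.mul_mem ha hb
  one_mem' := by
    show ((1 : GL (Fin n) F) : Matrix (Fin n) (Fin n) F) ∈ K
    rw [Units.val_one]; exact K.one_mem
  inv_mem' {a} ha := by
    show ((a⁻¹ : GL (Fin n) F) : Matrix (Fin n) (Fin n) F) ∈ K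
    rcases Nat.eq_zero_or_pos n with rfl | hn
    · convert K.one_mem
      exact Subsingleton.elim _ _
    haveI : Nonempty (Fin n) := ⟨⟨0, hn⟩⟩
    obtain ⟨y, hy, hay⟩ := hK.inv _ ha a.ne_zero
    rwa [Units.inv_eq_of_mul_eq_one_right hay]

theorem natDegree_minpoly_le {M : Matrix (Fin n) (Fin n) F} {m : ℕ} (hm : 0 < m) {c : F}
    (hc : M ^ m = c • (1 : Matrix (Fin n) (Fin n) F)) : minpoly F M ∣ X ^ m - C c ∧ (minpoly F M).natDegree ≤ m := by
  have h0 : aeval M (X ^ m - C c) = 0 := by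
    rw [map_sub, map_pow, aeval_X, aeval_C, hc, Algebra.algebraMap_eq_smul_one, sub_self]
  refine ⟨minpoly.dvd F M h0, ?_⟩
  exact (natDegree_le_of_dvd (minpoly.dvd F M h0) (X_pow_sub_C_ne_zero hm c)).trans natDegree_X_pow_sub_C.le

theorem natDegree_of_mem_normalizer (hn : n.Prime) {K : Subalgebra F (Matrix (Fin n) (Fin n) F)}
    (hK : IsFieldSubalgebra n K) {h : GL (Fin n) F} (hN : h ∈ subalgebraNormalizer K)
    (hns : ∀ z : F, (h : Matrix (Fin n) (Fin n) F) ≠ z • (1 : Matrix (Fin n) (Fin n) F)) {c : F}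
    (hc : (h : Matrix (Fin n) (Fin n) F) ^ n = c • (1 : Matrix (Fin n) (Fin n) F)) :
    (minpoly F (h : Matrix (Fin n) (Fin n) F)).natDegree = n := by
  classical
  haveI : Nonempty (Fin n) := ⟨⟨0, hn.pos⟩⟩
  letI : CommRing K := { K.toRing with mul_comm := fun a b => Subtype.ext (hK.comm a a.2 b b.2) }
  haveI : Nontrivial K := ⟨⟨0, 1, fun e => zero_ne_one (congrArg Subtype.val e)⟩⟩
  haveI : NoZeroDivisors K := ⟨fun {a b} hab => by
    by_contra hne
    push Not at hne
    obtain ⟨y, hy, hay⟩ := hK.inv a a.2 (fun e => hne.1 (Subtype.ext e))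
    apply hne.2
    apply Subtype.ext
    calc (b : Matrix (Fin n) (Fin n) F) = y * (a : Matrix (Fin n) (Fin n) F) * b := by
          rw [← hK.comm a a.2 y hy, hay, Matrix.one_mul]
      _ = 0 := by rw [Matrix.mul_assoc, show (a : Matrix (Fin n) (Fin n) F) * b = 0 from congrArg Subtype.val hab,
          Matrix.mul_zero]⟩
  haveI : IsDomain K := NoZeroDivisors.to_isDomain _
  haveI : FiniteDimensional F K := Module.finite_of_finrank_pos (by rw [hK.finrank_eq]; exact hn.pos)
  by_cases hmem : (h : Matrix (Fin n) (Fin n) F) ∈ K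
  · obtain ⟨x, hx⟩ : ∃ x : K, (x : Matrix (Fin n) (Fin n) F) = h := ⟨⟨_, hmem⟩, rfl⟩
    have he : minpoly F (h : Matrix (Fin n) (Fin n) F) = minpoly F x := by
      rw [← hx]; exact minpoly.algHom_eq K.val Subtype.val_injective x
    rw [he]
    have hfld : IsField K :=
      { exists_pair_ne := ⟨0, 1, fun e => zero_ne_one (congrArg Subtype.val e)⟩
        mul_comm := mul_comm
        mul_inv_cancel := fun {a} ha => by
          obtain ⟨y, hy, hay⟩ := hK.inv a a.2 (fun e => ha (Subtype.ext e))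
          exact ⟨⟨y, hy⟩, Subtype.ext hay⟩ }
    letI : Field K := hfld.toField
    have hint : IsIntegral F x := Algebra.IsIntegral.isIntegral _
    have hdd : (minpoly F x).natDegree ∣ n := by
      have := minpoly.degree_dvd hint
      rwa [hK.finrank_eq] at this
    rcases (Nat.dvd_prime hn).mp hdd with h1 | h1
    · obtain ⟨z, hz⟩ := minpoly.natDegree_eq_one_iff.mp h1
      refine absurd ?_ (hns z)
      rw [← hx, ← hz]
      simp [Algebra.algebraMap_eq_smul_one]
    · exact h1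
  have hpow : ∀ j, ∀ k ∈ K, ((h ^ j : GL (Fin n) F) : Matrix (Fin n) (Fin n) F) * k *
      (((h ^ j)⁻¹ : GL (Fin n) F) : Matrix (Fin n) (Fin n) F) ∈ K := fun j k hk => (pow_mem hN j k).mp hk
  have hunit : h ∉ unitsIn hK := hmem
  have hd : ∀ d, 0 < d → d < n → h ^ d ∉ unitsIn hK := by
    intro d hd0 hdn hcon
    apply hunit
    have hnmem : h ^ n ∈ unitsIn hK := by
      show ((h ^ n : GL (Fin n) F) : Matrix (Fin n) (Fin n) F) ∈ K
      rw [Units.val_pow_eq_pow_val, hc]
      exact K.smul_mem K.one_mem c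
    have hg : Nat.gcd d n = 1 := Nat.Coprime.symm (Nat.coprime_of_lt_prime hd0.ne' hdn hn)
    have hb := Nat.gcd_eq_gcd_ab d n
    rw [hg, Nat.cast_one] at hb
    rw [← zpow_one h, hb, _root_.zpow_add, _root_.zpow_mul, _root_.zpow_mul, zpow_natCast, zpow_natCast]
    exact mul_mem (zpow_mem hcon _) (zpow_mem hnmem _)
  obtain ⟨v₀, hv⟩ := exists_ne (0 : Fin n → F)
  have hbij := ev_bijective hn.pos hK hv
  choose u hu using fun j : Fin n => hbij.2 (((h ^ (j : ℕ) : GL (Fin n) F) : Matrix (Fin n) (Fin n) F) *ᵥ v₀)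
  simp only at hu
  have hu0 : ∀ j, u j ≠ 0 := fun j e => hv (by
    have h1 := hu j
    rw [e, ZeroMemClass.coe_zero, Matrix.zero_mulVec] at h1
    have := congrArg ((((h ^ (j : ℕ))⁻¹ : GL (Fin n) F) : Matrix (Fin n) (Fin n) F) *ᵥ ·) h1
    simp only [Matrix.mulVec_zero, Matrix.mulVec_mulVec] at this
    rwa [← Units.val_mul, inv_mul_cancel, Units.val_one, Matrix.one_mulVec, eq_comm] at this)
  let τ : Fin n → (K →* K) := fun j =>
    { toFun := fun k => ⟨_, hpow j k k.2⟩
      map_one' := Subtype.ext (by simp)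
      map_mul' := fun a b => Subtype.ext (by simp [mul_assoc]) }
  have hτ : Function.Injective τ := by
    intro i j hij
    have key : ∀ i j : Fin n, (i : ℕ) < j → τ i ≠ τ j := by
      intro i j hlt he
      refine hd (j - i) (Nat.sub_pos_of_lt hlt) (lt_of_le_of_lt (Nat.sub_le _ _) j.isLt)
        (mem_of_commute hn.pos hK fun k hk => ?_)
      have h1 := congrArg Subtype.val (DFunLike.congr_fun he ⟨k, hk⟩)
      change ((h ^ (i : ℕ) : GL (Fin n) F) : Matrix (Fin n) (Fin n) F) * k * _ =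
        ((h ^ (j : ℕ) : GL (Fin n) F) : Matrix (Fin n) (Fin n) F) * k * _ at h1
      have hji : h ^ (j : ℕ) = h ^ (i : ℕ) * h ^ ((j : ℕ) - i) := by rw [← pow_add, Nat.add_sub_cancel' hlt.le]
      rw [hji, _root_.mul_inv_rev, Units.val_mul, Units.val_mul] at h1
      simp only [mul_assoc] at h1
      have h2 := (h ^ (i : ℕ)).isUnit.mul_left_cancel h1
      simp only [← mul_assoc] at h2
      have h3 := ((h ^ (i : ℕ))⁻¹).isUnit.mul_right_cancel h2
      calc ((h ^ ((j : ℕ) - i) : GL (Fin n) F) : Matrix (Fin n) (Fin n) F) * k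
          = ((h ^ ((j : ℕ) - i) : GL (Fin n) F) : Matrix (Fin n) (Fin n) F) * k *
              ((((h ^ ((j : ℕ) - i))⁻¹ : GL (Fin n) F) : Matrix (Fin n) (Fin n) F) *
                ((h ^ ((j : ℕ) - i) : GL (Fin n) F) : Matrix (Fin n) (Fin n) F)) := by simp
        _ = k * ((h ^ ((j : ℕ) - i) : GL (Fin n) F) : Matrix (Fin n) (Fin n) F) := by rw [← mul_assoc, ← h3]
    rcases lt_trichotomy (i : ℕ) j with hlt | heq | hgt
    · exact absurd hij (key i j hlt)
    · exact Fin.ext heq
    · exact absurd hij.symm (key j i hgt)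
  have hind : ∀ g : Fin n → F, ∑ j, g j • ((h ^ (j : ℕ) : GL (Fin n) F) : Matrix (Fin n) (Fin n) F) = 0 →
      ∀ j, g j = 0 := by
    intro g hg j
    have hz : ∑ i, (g i • u i) • ((fun f => (f : K → K)) (τ i)) = 0 := by
      funext a
      rw [Finset.sum_apply, Pi.zero_apply]
      apply hbij.1
      simp only [Pi.smul_apply, smul_eq_mul, AddSubmonoidClass.coe_finsetSum, Matrix.sum_mulVec,
        ZeroMemClass.coe_zero, Matrix.zero_mulVec]
      calc _ = (∑ i, g i • ((h ^ (i : ℕ) : GL (Fin n) F) : Matrix (Fin n) (Fin n) F)) *ᵥ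
            ((a : Matrix (Fin n) (Fin n) F) *ᵥ v₀) := by
            rw [Matrix.sum_mulVec]
            refine Finset.sum_congr rfl fun i _ => ?_
            change ((g i • (u i : Matrix (Fin n) (Fin n) F)) * (((h ^ (i : ℕ) : GL (Fin n) F) : Matrix (Fin n) (Fin n) F)
              * (a : Matrix (Fin n) (Fin n) F) * (((h ^ (i : ℕ))⁻¹ : GL (Fin n) F) : Matrix (Fin n) (Fin n) F))) *ᵥ v₀ = _
            rw [smul_mul_assoc, hK.comm _ (u i).2 _ (hpow i a a.2), Matrix.smul_mulVec, Matrix.smul_mulVec,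
              ← Matrix.mulVec_mulVec, hu, Matrix.mulVec_mulVec, Matrix.mulVec_mulVec]
            simp [mul_assoc]
        _ = 0 := by rw [hg, Matrix.zero_mulVec]
    have h1 := Fintype.linearIndependent_iff.mp ((linearIndependent_monoidHom K K).comp τ hτ)
      (fun i => g i • u i) hz j
    exact (smul_eq_zero.mp h1).resolve_right (hu0 j)
  refine le_antisymm (natDegree_minpoly_le hn.pos hc).2 ?_
  by_contra hlt
  push Not at hlt
  have hint : IsIntegral F (h : Matrix (Fin n) (Fin n) F) := Algebra.IsIntegral.isIntegral _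
  apply minpoly.ne_zero hint
  ext i
  rw [coeff_zero]
  by_cases hi : i < n
  · refine hind (fun j => (minpoly F (h : Matrix (Fin n) (Fin n) F)).coeff j) ?_ ⟨i, hi⟩
    have h1 := minpoly.aeval F (h : Matrix (Fin n) (Fin n) F)
    rw [aeval_eq_sum_range' hlt] at h1
    rw [Finset.sum_range] at h1
    simpa [Units.val_pow_eq_pow_val] using h1
  · exact coeff_eq_zero_of_natDegree_lt (by omega)

theorem exists_mem_normalizer [Fintype F] (hn : n.Prime) {K : Subalgebra F (Matrix (Fin n) (Fin n) F)}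
    (hK : IsFieldSubalgebra n K) {c : F} (hc : c ≠ 0) :
    ∃ h : GL (Fin n) F, h ∈ subalgebraNormalizer K ∧
      (∀ z : F, (h : Matrix (Fin n) (Fin n) F) ≠ z • (1 : Matrix (Fin n) (Fin n) F)) ∧
      (h : Matrix (Fin n) (Fin n) F) ^ n = c • (1 : Matrix (Fin n) (Fin n) F) := by
  classical
  haveI : Nonempty (Fin n) := ⟨⟨0, hn.pos⟩⟩
  letI : CommRing K := { K.toRing with mul_comm := fun a b => Subtype.ext (hK.comm a a.2 b b.2) }
  have hfld : IsField K :=
    { exists_pair_ne := ⟨0, 1, fun e => zero_ne_one (congrArg Subtype.val e)⟩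
      mul_comm := mul_comm
      mul_inv_cancel := fun {a} ha => by
        obtain ⟨y, hy, hay⟩ := hK.inv a a.2 (fun e => ha (Subtype.ext e))
        exact ⟨⟨y, hy⟩, Subtype.ext hay⟩ }
  letI : Field K := hfld.toField
  haveI : Finite K := Finite.of_injective _ Subtype.val_injective
  by_cases hroot : ∃ y : F, y ^ n = c
  · obtain ⟨y, hy⟩ := hroot
    obtain ⟨v₀, hv⟩ := exists_ne (0 : Fin n → F)
    let ev : K →ₗ[F] (Fin n → F) :=
      { toFun := fun k => (k : Matrix (Fin n) (Fin n) F) *ᵥ v₀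
        map_add' := fun a b => by simp [Matrix.add_mulVec]
        map_smul' := fun a b => by simp [Matrix.smul_mulVec] }
    let e : K ≃ₗ[F] (Fin n → F) := LinearEquiv.ofBijective ev (ev_bijective hn.pos hK hv)
    obtain ⟨φ, hφ⟩ : ∃ φ, φ = FiniteField.frobeniusAlgHom F K := ⟨_, rfl⟩
    have hord : orderOf φ = n := by rw [hφ, FiniteField.orderOf_frobeniusAlgHom, hK.finrank_eq]
    obtain ⟨M, hM⟩ : ∃ M : Matrix (Fin n) (Fin n) F, Matrix.toLin' M = y • e.conj φ.toLinearMap :=
      ⟨LinearMap.toMatrix' (y • e.conj φ.toLinearMap), Matrix.toLin'_toMatrix' _⟩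
    have hMv : ∀ a : K, M *ᵥ e a = y • e (φ a) := fun a => by
      rw [← Matrix.toLin'_apply, hM, LinearMap.smul_apply, LinearEquiv.conj_apply_apply, LinearEquiv.symm_apply_apply]
      rfl
    have hMk : ∀ (k : ℕ) (a : K), M ^ k *ᵥ e a = y ^ k • e ((φ ^ k) a) := by
      intro k
      induction k with
      | zero => intro a; simp
      | succ k ih =>
        intro a
        rw [pow_succ, ← Matrix.mulVec_mulVec, hMv, Matrix.mulVec_smul, ih, smul_smul, pow_succ', pow_succ φ,
          AlgHom.mul_apply]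
    have hMn : M ^ n = c • (1 : Matrix (Fin n) (Fin n) F) := by
      refine Matrix.toLin'.injective (LinearMap.ext fun v => ?_)
      obtain ⟨a, rfl⟩ := e.surjective v
      have hφn : φ ^ n = 1 := by
        have h1 := pow_orderOf_eq_one φ
        rwa [hord] at h1
      rw [Matrix.toLin'_apply, Matrix.toLin'_apply, hMk, hφn, hy, Matrix.smul_mulVec, Matrix.one_mulVec]
      rfl
    have hMu : IsUnit M := by
      refine (isUnit_pow_iff hn.ne_zero).mp ?_
      rw [hMn]
      exact Algebra.algebraMap_eq_smul_one (A := Matrix (Fin n) (Fin n) F) c ▸ (isUnit_iff_ne_zero.mpr hc).map (algebraMap F (Matrix (Fin n) (Fin n) F))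
    obtain ⟨h, rfl⟩ := hMu
    have hcomm : ∀ k : K, (h : Matrix (Fin n) (Fin n) F) * k = (φ k : Matrix (Fin n) (Fin n) F) * h := by
      intro k
      refine Matrix.toLin'.injective (LinearMap.ext fun v => ?_)
      obtain ⟨a, rfl⟩ := e.surjective v
      have hmul : ∀ k a : K, e (k * a) = (k : Matrix (Fin n) (Fin n) F) *ᵥ e a := fun k a => by
        show ((k : Matrix (Fin n) (Fin n) F) * (a : Matrix (Fin n) (Fin n) F)) *ᵥ v₀ =
          (k : Matrix (Fin n) (Fin n) F) *ᵥ ((a : Matrix (Fin n) (Fin n) F) *ᵥ v₀)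
        rw [Matrix.mulVec_mulVec]
      rw [Matrix.toLin'_apply, Matrix.toLin'_apply, ← Matrix.mulVec_mulVec, ← Matrix.mulVec_mulVec, ← hmul, hMv,
        hMv, map_mul, hmul, Matrix.mulVec_smul]
    have hsurj : Function.Surjective φ := Finite.injective_iff_surjective.mp φ.toRingHom.injective
    refine ⟨h, fun k => ⟨fun hk => ?_, fun hk => ?_⟩, fun z hz => ?_, hMn⟩
    · rw [hcomm ⟨k, hk⟩, mul_assoc, ← Units.val_mul, mul_inv_cancel, Units.val_one, mul_one]
      exact (φ ⟨k, hk⟩).2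
    · obtain ⟨k₀, hk₀⟩ := hsurj ⟨_, hk⟩
      have h1 := hcomm k₀
      rw [hk₀] at h1
      simp only [mul_assoc, ← Units.val_mul, inv_mul_cancel, Units.val_one, mul_one] at h1
      exact (h.isUnit.mul_left_cancel h1) ▸ k₀.2
    · have hy0 : y ≠ 0 := fun e => hc (by rw [← hy, e, zero_pow hn.ne_zero])
      have h1 : ∀ a : K, φ a = (z / y) • a := fun a => e.injective (by
        have := hMv a
        rw [hz, Matrix.smul_mulVec, Matrix.one_mulVec] at this
        rw [map_smul, div_eq_inv_mul, ← smul_smul, this, smul_smul, inv_mul_cancel₀ hy0, one_smul])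
      have h2 : (z / y) • (1 : K) = 1 := by rw [← h1, map_one]
      have h3 : φ = 1 := AlgHom.ext fun a => by
        rw [h1, AlgHom.one_apply]
        calc (z / y) • a = ((z / y) • (1 : K)) * a := by rw [smul_mul_assoc, one_mul]
          _ = a := by rw [h2, one_mul]
      rw [h3, orderOf_one] at hord
      exact hn.ne_one hord.symm
  · push Not at hroot
    have hirr : Irreducible (X ^ n - C c : F[X]) := X_pow_sub_C_irreducible_of_prime hn hroot
    haveI : Fact (Irreducible (X ^ n - C c : F[X])) := ⟨hirr⟩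
    haveI := (AdjoinRoot.powerBasis hirr.ne_zero).finite
    haveI : Finite (AdjoinRoot (X ^ n - C c : F[X])) := Module.finite_of_finite F
    have hdim : Module.finrank F (AdjoinRoot (X ^ n - C c : F[X])) = n := by
      rw [(AdjoinRoot.powerBasis hirr.ne_zero).finrank, AdjoinRoot.powerBasis_dim, natDegree_X_pow_sub_C]
    obtain ⟨f⟩ := FiniteField.nonempty_algHom_of_finrank_dvd
      (F := F) (K := AdjoinRoot (X ^ n - C c : F[X])) (L := K) (by rw [hdim, hK.finrank_eq])
    obtain ⟨k, hk⟩ : ∃ k, k = f (AdjoinRoot.root _) := ⟨_, rfl⟩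
    have hkn : k ^ n = algebraMap F K c := by
      have h0 : AdjoinRoot.root (X ^ n - C c : F[X]) ^ n = algebraMap F _ c := by
        have h1 := AdjoinRoot.eval₂_root (X ^ n - C c : F[X])
        rw [eval₂_sub, eval₂_X_pow, eval₂_C, sub_eq_zero] at h1
        rw [h1, AdjoinRoot.algebraMap_eq]
      rw [hk, ← map_pow, h0, AlgHom.commutes]
    have hkn' : (k : Matrix (Fin n) (Fin n) F) ^ n = c • (1 : Matrix (Fin n) (Fin n) F) := by
      rw [← Algebra.algebraMap_eq_smul_one, ← SubmonoidClass.coe_pow, hkn]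
      rfl
    have hu : IsUnit (k : Matrix (Fin n) (Fin n) F) := by
      refine (isUnit_pow_iff hn.ne_zero).mp ?_
      rw [hkn']
      exact Algebra.algebraMap_eq_smul_one (A := Matrix (Fin n) (Fin n) F) c ▸ (isUnit_iff_ne_zero.mpr hc).map (algebraMap F (Matrix (Fin n) (Fin n) F))
    obtain ⟨h, hh⟩ := hu
    have hmem : (h : Matrix (Fin n) (Fin n) F) ∈ K := hh ▸ k.2
    have hfix : ∀ {a : Matrix (Fin n) (Fin n) F}, a ∈ K →
        (h : Matrix (Fin n) (Fin n) F) * a * ((h⁻¹ : GL (Fin n) F) : Matrix (Fin n) (Fin n) F) = a := fun {a} ha => by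
      rw [hK.comm _ hmem _ ha, mul_assoc, ← Units.val_mul, mul_inv_cancel, Units.val_one, mul_one]
    refine ⟨h, fun a => ⟨fun ha => (hfix ha).symm ▸ ha, fun ha => ?_⟩, fun z hz => ?_, hh ▸ hkn'⟩
    · have h1 := hfix ha
      have h2 : ∀ b : Matrix (Fin n) (Fin n) F, (h : Matrix (Fin n) (Fin n) F) * b *
          ((h⁻¹ : GL (Fin n) F) : Matrix (Fin n) (Fin n) F) = (h : Matrix (Fin n) (Fin n) F) * a *
          ((h⁻¹ : GL (Fin n) F) : Matrix (Fin n) (Fin n) F) → b = a := fun b hb =>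
        h.isUnit.mul_left_cancel ((h⁻¹).isUnit.mul_right_cancel hb)
      exact (h2 _ h1) ▸ ha
    · rw [hh] at hz
      apply hroot z
      have h1 := hkn'
      rw [hz, _root_.smul_pow, one_pow] at h1
      have := congrFun (congrFun h1 ⟨0, hn.pos⟩) ⟨0, hn.pos⟩
      simpa using this

theorem natDegree_conj (P : GL (Fin n) F) (M : Matrix (Fin n) (Fin n) F) :
    minpoly F (((P⁻¹ : GL (Fin n) F) : Matrix (Fin n) (Fin n) F) * M * (P : Matrix (Fin n) (Fin n) F)) = minpoly F M := by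
  let f : Matrix (Fin n) (Fin n) F →ₐ[F] Matrix (Fin n) (Fin n) F :=
    { toFun := fun A => ((P⁻¹ : GL (Fin n) F) : Matrix (Fin n) (Fin n) F) * A * (P : Matrix (Fin n) (Fin n) F)
      map_one' := by simp
      map_mul' := fun A B => by simp [mul_assoc]
      map_zero' := by simp
      map_add' := fun A B => by simp [mul_add, add_mul]
      commutes' := fun r => by simp [Algebra.algebraMap_eq_smul_one] }
  refine minpoly.algHom_eq f (fun A B hAB => ?_) M
  exact ((P⁻¹).isUnit.mul_left_cancel (P.isUnit.mul_right_cancel hAB))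

theorem charpoly_eq_of_natDegree (hn : 0 < n) {M : Matrix (Fin n) (Fin n) F} {c : F}
    (hc : M ^ n = c • (1 : Matrix (Fin n) (Fin n) F)) (hd : (minpoly F M).natDegree = n) :
    M.charpoly = X ^ n - C c := by
  have hint : IsIntegral F M := Algebra.IsIntegral.isIntegral _
  have h1 : minpoly F M = M.charpoly :=
    (eq_of_monic_of_dvd_of_natDegree_le (minpoly.monic hint) (Matrix.charpoly_monic M)
      (Matrix.minpoly_dvd_charpoly M) (by rw [Matrix.charpoly_natDegree_eq_dim, Fintype.card_fin, hd])).symm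
  have h2 : minpoly F M = X ^ n - C c :=
    (eq_of_monic_of_dvd_of_natDegree_le (minpoly.monic hint) (monic_X_pow_sub_C c hn.ne')
      (natDegree_minpoly_le hn hc).1 (by rw [natDegree_X_pow_sub_C, hd])).symm
  rw [← h1, h2]

theorem orderOf_coprime [Fintype F] (p : ℕ) [Fact p.Prime] [CharP F p] (hn : n.Prime) (hnp : n ≠ p)
    {g : GL (Fin n) F} {c : F} (hc0 : c ≠ 0)
    (hc : (g : Matrix (Fin n) (Fin n) F) ^ n = c • (1 : Matrix (Fin n) (Fin n) F)) : (orderOf g).Coprime p := by
  have hdvd : orderOf g ∣ n * (Fintype.card F - 1) := by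
    refine orderOf_dvd_of_pow_eq_one (Units.ext ?_)
    rw [Units.val_pow_eq_pow_val, pow_mul, hc, _root_.smul_pow, one_pow, FiniteField.pow_card_sub_one_eq_one c hc0,
      one_smul, Units.val_one]
  refine Nat.Coprime.of_dvd_left hdvd (Nat.Coprime.mul_left ((Nat.coprime_primes hn Fact.out).mpr hnp) ?_)
  obtain ⟨e, he⟩ : p ∣ Fintype.card F := by
    obtain ⟨e, -, he⟩ := FiniteField.card F p
    exact he ▸ dvd_pow_self p e.pos.ne'
  refine Nat.coprime_comm.mp ((Fact.out : p.Prime).coprime_iff_not_dvd.mpr fun h => ?_)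
  have h1 := Nat.dvd_sub (Dvd.intro e he.symm) h
  rw [Nat.sub_sub_self Fintype.card_pos] at h1
  exact (Fact.out : p.Prime).one_lt.ne' (Nat.dvd_one.mp h1)

theorem degree_of_forall_conj (hn : n.Prime) {K : Subalgebra F (Matrix (Fin n) (Fin n) F)}
    (hK : IsFieldSubalgebra n K)
    (H : ∀ x : SpecialLinearGroup (Fin n) F,
      (∃ z : F, ((x ^ n : SpecialLinearGroup (Fin n) F) : Matrix (Fin n) (Fin n) F) = z • (1 : Matrix (Fin n) (Fin n) F)) →
      (∀ z : F, (x : Matrix (Fin n) (Fin n) F) ≠ z • (1 : Matrix (Fin n) (Fin n) F)) →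
      ∃ P : SpecialLinearGroup (Fin n) F, P⁻¹ * x * P ∈
        (subalgebraNormalizer K).comap (SpecialLinearGroup.toGL : SpecialLinearGroup (Fin n) F →* GL (Fin n) F))
    (x : SpecialLinearGroup (Fin n) F) {c : F}
    (hc : (x : Matrix (Fin n) (Fin n) F) ^ n = c • (1 : Matrix (Fin n) (Fin n) F))
    (hns : ∀ z : F, (x : Matrix (Fin n) (Fin n) F) ≠ z • (1 : Matrix (Fin n) (Fin n) F)) :
    (minpoly F (x : Matrix (Fin n) (Fin n) F)).natDegree = n := by
  obtain ⟨P, hP⟩ := H x ⟨c, (Matrix.SpecialLinearGroup.coe_pow x n).trans hc⟩ hns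
  rw [Subgroup.mem_comap, map_mul, map_mul, map_inv] at hP
  obtain ⟨g, hg⟩ : ∃ g, g = SpecialLinearGroup.toGL P := ⟨_, rfl⟩
  rw [← hg] at hP
  have hval : ((g⁻¹ * SpecialLinearGroup.toGL x * g : GL (Fin n) F) : Matrix (Fin n) (Fin n) F) =
      ((g⁻¹ : GL (Fin n) F) : Matrix (Fin n) (Fin n) F) * (x : Matrix (Fin n) (Fin n) F) * g := rfl
  rw [← natDegree_conj g (x : Matrix (Fin n) (Fin n) F), ← hval]
  refine natDegree_of_mem_normalizer hn hK hP (fun z hz => hns z ?_) (c := c) ?_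
  · rw [hval] at hz
    calc (x : Matrix (Fin n) (Fin n) F) = (g : Matrix (Fin n) (Fin n) F) *
          (((g⁻¹ : GL (Fin n) F) : Matrix (Fin n) (Fin n) F) * x * g) *
          ((g⁻¹ : GL (Fin n) F) : Matrix (Fin n) (Fin n) F) := by simp [mul_assoc]
      _ = _ := by rw [hz, Matrix.mul_smul, Matrix.smul_mul, Matrix.mul_one, ← Units.val_mul, mul_inv_cancel, Units.val_one]
  · have h1 : (g⁻¹ * SpecialLinearGroup.toGL x * g) ^ n = g⁻¹ * (SpecialLinearGroup.toGL x) ^ n * g := by
      have := conj_pow (a := g⁻¹) (b := SpecialLinearGroup.toGL x) (i := n)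
      rwa [inv_inv] at this
    rw [← Units.val_pow_eq_pow_val, h1, Units.val_mul, Units.val_mul, Units.val_pow_eq_pow_val]
    change ((g⁻¹ : GL (Fin n) F) : Matrix (Fin n) (Fin n) F) * (x : Matrix (Fin n) (Fin n) F) ^ n * g = _
    rw [hc, Matrix.mul_smul, Matrix.smul_mul, Matrix.mul_one, ← Units.val_mul, inv_mul_cancel, Units.val_one]

theorem conj_of_degree [Fintype F] (p : ℕ) [Fact p.Prime] [CharP F p] (hn : n.Prime) (hnp : n ≠ p)
    {K : Subalgebra F (Matrix (Fin n) (Fin n) F)} (hK : IsFieldSubalgebra n K)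
    (x : SpecialLinearGroup (Fin n) F) {c : F}
    (hc : (x : Matrix (Fin n) (Fin n) F) ^ n = c • (1 : Matrix (Fin n) (Fin n) F))
    (hd : (minpoly F (x : Matrix (Fin n) (Fin n) F)).natDegree = n) :
    ∃ P : SpecialLinearGroup (Fin n) F, P⁻¹ * x * P ∈
      (subalgebraNormalizer K).comap (SpecialLinearGroup.toGL : SpecialLinearGroup (Fin n) F →* GL (Fin n) F) := by
  classical
  haveI : Nonempty (Fin n) := ⟨⟨0, hn.pos⟩⟩
  have hc0 : c ≠ 0 := fun h => by
    have h1 := congrArg Matrix.det hc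
    rw [Matrix.det_pow, x.2, one_pow, h, zero_smul, Matrix.det_zero] at h1
    exact one_ne_zero h1
  obtain ⟨h, hN, hns, hhc⟩ := exists_mem_normalizer hn hK hc0
  obtain ⟨g, hg⟩ : ∃ g, g = SpecialLinearGroup.toGL x := ⟨_, rfl⟩
  have hgc : (g : Matrix (Fin n) (Fin n) F) ^ n = c • (1 : Matrix (Fin n) (Fin n) F) := by rw [hg]; exact hc
  have hcg := orderOf_coprime p hn hnp hc0 hgc
  have hch := orderOf_coprime p hn hnp hc0 hhc
  obtain ⟨Q, hQ⟩ := isConj_iff.mp (Small.Semisimple.isConj_of_charpoly p g h hcg hch (by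
    rw [charpoly_eq_of_natDegree hn.pos hhc (natDegree_of_mem_normalizer hn hK hN hns hhc),
      charpoly_eq_of_natDegree hn.pos hgc (by rw [hg]; exact hd)]))
  obtain ⟨y, hy, hdet⟩ := Small.Semisimple.exists_centralizing_det p g Q hcg
  obtain ⟨S, hS⟩ : ∃ S, S = y * Q⁻¹ := ⟨_, rfl⟩
  have hSdet : ((S : GL (Fin n) F) : Matrix (Fin n) (Fin n) F).det = 1 := by
    rw [hS, Units.val_mul, Matrix.det_mul, hdet, ← Matrix.det_mul, ← Units.val_mul, mul_inv_cancel, Units.val_one,
      Matrix.det_one]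
  obtain ⟨P, hP⟩ : ∃ P : SpecialLinearGroup (Fin n) F, SpecialLinearGroup.toGL P = S :=
    ⟨⟨(S : Matrix (Fin n) (Fin n) F), hSdet⟩, Units.ext rfl⟩
  refine ⟨P, ?_⟩
  rw [Subgroup.mem_comap, map_mul, map_mul, map_inv, ← hg, hP]
  have : S⁻¹ * g * S = h := by
    rw [hS, _root_.mul_inv_rev, inv_inv, ← hQ]
    calc Q * y⁻¹ * g * (y * Q⁻¹) = Q * (y⁻¹ * (g * y)) * Q⁻¹ := by simp only [mul_assoc]
      _ = Q * g * Q⁻¹ := by rw [← hy, inv_mul_cancel_left]
  rw [this]
  exact hN

end Cfsg.Agent.Lead.SingerElusive
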