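import Cfsg.Agent.Lib.Lead.SingerElusive
import Cfsg.Agent.Lib.Classical.Elusive.Cases

/-!
# Minimal polynomials of prime power roots of scalars in prime dimension
-/

set_option autoImplicit false

namespace Cfsg.Agent.Lead.SingerElusive

open Matrix Polynomial Cfsg.Geo

universe u

variable {F : Type u} [Field F] [Fintype F]

/-- If `q` has order `n - 1` modulo the prime `n`, all non-scalar `n`-th roots of scalars have full degree. -/
theorem natDegree_of_order_eq (p : ℕ) [Fact p.Prime] [CharP F p] {n : ℕ} [Fact n.Prime] (hnp : n ≠ p) (h3 : 3 ≤ n)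
    (hord : orderOf (Fintype.card F : ZMod n) = n - 1) (x : SpecialLinearGroup (Fin n) F) {c : F}
    (hc : (x : Matrix (Fin n) (Fin n) F) ^ n = c • (1 : Matrix (Fin n) (Fin n) F))
    (hns : ∀ z : F, (x : Matrix (Fin n) (Fin n) F) ≠ z • (1 : Matrix (Fin n) (Fin n) F)) :
    (minpoly F (x : Matrix (Fin n) (Fin n) F)).natDegree = n := by
  classical
  have hn : n.Prime := Fact.out
  haveI : Nonempty (Fin n) := ⟨⟨0, hn.pos⟩⟩
  have hr0 := Classical.Elusive.cast_ne_zero (F := F) (p := p) (r := n) hnp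
  have hc0 : c ≠ 0 := fun h => by
    have h1 := congrArg Matrix.det hc
    rw [Matrix.det_pow, x.2, one_pow, h, zero_smul, Matrix.det_zero] at h1
    exact one_ne_zero h1
  refine le_antisymm (natDegree_minpoly_le hn.pos hc).2 ?_
  by_contra hlt
  push Not at hlt
  have hdvd : ¬ n ∣ Fintype.card F - 1 := fun h => by
    rw [Classical.Elusive.orderOf_eq_one_iff'.mpr h] at hord
    omega
  have hU : Nat.card Fˣ = Fintype.card F - 1 := by rw [Nat.card_units, Nat.card_eq_fintype_card]
  obtain ⟨l, hl⟩ := (powCoprime (G := Fˣ) (n := n) (Nat.Coprime.symm ((Nat.Prime.coprime_iff_not_dvd hn).mpr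
    (by rwa [hU])))).surjective (Units.mk0 c hc0)
  have hl' : (l : F) ^ n = c := by
    rw [← Units.val_pow_eq_pow_val]; exact congrArg Units.val hl
  obtain ⟨g, hg⟩ : ∃ g : Module.End F (Fin n → F), g = (l : F)⁻¹ • Matrix.toLin' (x : Matrix (Fin n) (Fin n) F) :=
    ⟨_, rfl⟩
  have hgr : g ^ n = (1 : F) • 1 := by
    rw [hg, _root_.smul_pow, ← Matrix.toLin'_pow, hc, map_smul, Matrix.toLin'_one, smul_smul, inv_pow, hl',
      inv_mul_cancel₀ hc0]
    rfl
  have hgs := Classical.Elusive.isSemisimple_of_pow hr0 one_ne_zero hgr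
  obtain ⟨R, hR⟩ : ∃ R : F[X], R = (minpoly F (x : Matrix (Fin n) (Fin n) F)).comp (C (l : F) * X) := ⟨_, rfl⟩
  have hRdeg : R.natDegree < n := by
    rw [hR, natDegree_comp, natDegree_C_mul_X _ l.ne_zero, mul_one]; exact hlt
  have hR0 : R ≠ 0 := by
    intro h
    rw [hR, comp_eq_zero_iff] at h
    rcases h with h | ⟨-, h⟩
    · exact minpoly.ne_zero (Algebra.IsIntegral.isIntegral _) h
    · have h1 := congrArg (fun P : F[X] => P.coeff 1) h
      simp [l.ne_zero] at h1
  have hRg : aeval g R = 0 := by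
    rw [hR, aeval_comp, map_mul, aeval_C, aeval_X, hg, ← Algebra.smul_def, smul_smul, mul_inv_cancel₀ l.ne_zero,
      one_smul]
    have := minpoly.aeval F (x : Matrix (Fin n) (Fin n) F)
    have h2 := congrArg (Matrix.toLinAlgEquiv' (R := F) (n := Fin n)) this
    rw [← aeval_algHom_apply (Matrix.toLinAlgEquiv' (R := F) (n := Fin n)), map_zero] at h2
    exact h2
  obtain ⟨k, qs, ⟨B⟩, hch, hq⟩ := Classical.Elusive.exists_blocks (Module.finrank F (Fin n → F)) g le_rfl hgs
    (minpoly F g) (minpoly.aeval F g)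
  have hmR : minpoly F g ∣ R := minpoly.dvd F g hRg
  have hm1 : minpoly F g ∣ X ^ n - 1 := minpoly.dvd F g (by
    rw [map_sub, map_pow, aeval_X, map_one, hgr, one_smul, sub_self])
  have hcase : ∀ i, qs i = X - C 1 ∨ (qs i).natDegree = n - 1 := fun i => by
    by_cases h1 : qs i = X - C 1
    · exact Or.inl h1
    · exact Or.inr (hord ▸ Classical.Elusive.natDegree_factor (hq i).1 (hq i).2.1 ((hq i).2.2.trans hm1) h1)
  by_cases hex : ∃ i, qs i = X - C 1
  · obtain ⟨i, hi⟩ := hex
    by_cases hall : ∀ j, qs j = X - C 1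
    · have h0 : aeval g (X - C (1 : F)) = 0 := Classical.Elusive.aeval_of_charpoly hgs (N := k) (by
        rw [hch, Finset.prod_congr rfl (fun j _ => hall j)]; simp)
      rw [map_sub, aeval_X, aeval_C, map_one, sub_eq_zero, hg, inv_smul_eq_iff₀ l.ne_zero] at h0
      refine hns l (Matrix.toLin'.injective ?_)
      rw [h0, map_smul, Matrix.toLin'_one]
      rfl
    · push Not at hall
      obtain ⟨j, hj⟩ := hall
      have hd : (qs j).natDegree = n - 1 := (hcase j).resolve_left hj
      have hcop : IsCoprime (qs i) (qs j) := (hq i).1.coprime_iff_not_dvd.mpr fun h => hj (by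
        rw [← hi]
        exact (eq_of_monic_of_associated (hq i).2.1 (hq j).2.1 ((hq i).1.associated_of_dvd (hq j).1 h)).symm)
      have h1 := natDegree_le_of_dvd ((hcop.mul_dvd (hq i).2.2 (hq j).2.2).trans hmR) hR0
      rw [natDegree_mul (hq i).1.ne_zero (hq j).1.ne_zero, hi, natDegree_X_sub_C, hd] at h1
      omega
  · push Not at hex
    have h1 := B.sum_eq
    rw [Finset.sum_congr rfl (fun i _ => (hcase i).resolve_left (hex i)), Module.finrank_fin_fun, Finset.sum_const,
      Finset.card_univ, Fintype.card_fin, smul_eq_mul] at h1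
    rcases (Nat.dvd_prime hn).mp (Dvd.intro_left k h1) with h2 | h2 <;> omega

end Cfsg.Agent.Lead.SingerElusive
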