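import Mathlib
import Cfsg.Agent.Lib.Classical.SpGeneration
import Cfsg.Agent.Lib.Small.Unitary.MinDegree

/-!
# Small representations of symplectic groups in odd characteristic are trivial
-/

set_option autoImplicit false

namespace Cfsg.Agent.SpBound

open Matrix Cfsg.Agent.Small.PSpn

variable {F : Type*} [Field F] [Fintype F] [DecidableEq F] {n : ℕ} [NeZero n]

local notation "Gm" => Matrix.symplecticGroup (Fin n) F
local notation "Mn" => Matrix (Fin n) (Fin n) F

theorem two_ne {hodd : Odd (Fintype.card F)} : (2 : F) ≠ 0 := by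
  refine Ring.two_ne_zero fun h2 => ?_
  haveI := ringChar.of_eq h2
  haveI := Fact.mk Nat.prime_two
  obtain ⟨k, -, hk⟩ := FiniteField.card F 2
  rw [hk] at hodd
  exact (Nat.not_even_iff_odd.2 hodd) ((Nat.even_pow' k.ne_zero).2 even_two)

variable (F n) in
/-- Symmetric matrices. -/
def symH : AddSubgroup Mn where
  carrier := {S | Sᵀ = S}
  zero_mem' := Matrix.transpose_zero
  add_mem' ha hb := by
    show (_ + _)ᵀ = _
    rw [Matrix.transpose_add, ha, hb]
  neg_mem' ha := by
    show (-_)ᵀ = _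
    rw [Matrix.transpose_neg, ha]

theorem mem_symH {S : Mn} : S ∈ symH F n ↔ Sᵀ = S := Iff.rfl

/-- Upper unitriangular elements. -/
def uElt (S : symH F n) : Gm :=
  ⟨Matrix.fromBlocks 1 (S : Mn) 0 1, by
    have h : (S : Mn)ᵀ = (S : Mn) := S.2
    rw [SymplecticGroup.mem_iff]
    simp [Matrix.J, Matrix.fromBlocks_transpose, Matrix.fromBlocks_multiply, h]⟩

theorem uElt_add (S T : symH F n) : uElt (S + T) = uElt S * uElt T := by
  apply Subtype.ext
  show Matrix.fromBlocks 1 ((S : Mn) + (T : Mn)) 0 1 = Matrix.fromBlocks 1 (S : Mn) 0 1 * Matrix.fromBlocks 1 (T : Mn) 0 1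
  simp [Matrix.fromBlocks_multiply, add_comm]

theorem uElt_zero : uElt (0 : symH F n) = 1 := by
  apply Subtype.ext
  show Matrix.fromBlocks 1 (0 : Mn) 0 1 = 1
  simp

/-- The block diagonal elements. -/
def dElt (A : (Mn)ˣ) : Gm :=
  ⟨Matrix.fromBlocks (A : Mn) 0 0 ((A⁻¹ : (Mn)ˣ) : Mn)ᵀ, by
    rw [SymplecticGroup.mem_iff]
    simp [Matrix.J, Matrix.fromBlocks_transpose, Matrix.fromBlocks_multiply, ← Matrix.transpose_mul]⟩

theorem congr_sym (A : Mn) (S : symH F n) : A * (S : Mn) * Aᵀ ∈ symH F n := by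
  rw [mem_symH, Matrix.transpose_mul, Matrix.transpose_mul, Matrix.transpose_transpose,
    show (S : Mn)ᵀ = (S : Mn) from S.2, Matrix.mul_assoc]

theorem uElt_mul_dElt (A : (Mn)ˣ) (S : symH F n) :
    uElt ⟨(A : Mn) * (S : Mn) * (A : Mn)ᵀ, congr_sym _ S⟩ * dElt A = dElt A * uElt S := by
  apply Subtype.ext
  show Matrix.fromBlocks 1 ((A : Mn) * (S : Mn) * (A : Mn)ᵀ) 0 1 * Matrix.fromBlocks (A : Mn) 0 0 ((A⁻¹ : (Mn)ˣ) : Mn)ᵀ =
    Matrix.fromBlocks (A : Mn) 0 0 ((A⁻¹ : (Mn)ˣ) : Mn)ᵀ * Matrix.fromBlocks 1 (S : Mn) 0 1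
  simp only [Matrix.fromBlocks_multiply, Matrix.one_mul, Matrix.mul_one, Matrix.zero_mul, Matrix.mul_zero, add_zero,
    zero_add]
  rw [Matrix.mul_assoc _ (A : Mn)ᵀ, ← Matrix.transpose_mul, Units.inv_mul, Matrix.transpose_one, Matrix.mul_one]

/-- The character of the symmetric matrices attached to a matrix. -/
def symPair (ψ : AddChar F ℂ) (T : Mn) : AddChar (symH F n) ℂ :=
  ψ.compAddMonoidHom
    { toFun := fun S => (T * (S : Mn)).trace
      map_zero' := by simp
      map_add' := fun a b => by simp [Matrix.mul_add, Matrix.trace_add] }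

theorem symPair_apply (ψ : AddChar F ℂ) (T : Mn) (S : symH F n) : symPair ψ T S = ψ (T * (S : Mn)).trace := rfl

variable (hodd : Odd (Fintype.card F))
include hodd

theorem symPair_bijective {ψ : AddChar F ℂ} (hψ : ψ ≠ 0) :
    Function.Bijective fun T : symH F n => symPair ψ (T : Mn) := by
  classical
  have hinj : Function.Injective fun T : symH F n => symPair ψ (T : Mn) := by
    intro T T' h
    by_contra hne
    obtain ⟨i, j, hij⟩ : ∃ i j, ((T : Mn) - T') i j ≠ 0 := by
      by_contra! hall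
      exact hne (Subtype.ext (sub_eq_zero.1 (Matrix.ext hall)))
    set D : Mn := (T : Mn) - T' with hD
    have hsym : D j i = D i j := by
      have e : Dᵀ = D := by rw [hD, Matrix.transpose_sub, show (T : Mn)ᵀ = T from T.2, show (T' : Mn)ᵀ = T' from T'.2]
      exact congrFun (congrFun e i) j
    obtain ⟨x, hx⟩ := AddChar.ne_zero_iff.1 hψ
    have h2 : (2 : F) ≠ 0 := two_ne (hodd := hodd)
    set c : F := x / (2 * D i j) with hc
    have hS : (Matrix.single i j c + Matrix.single j i c : Mn) ∈ symH F n := by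
      rw [mem_symH, Matrix.transpose_add, Matrix.transpose_single, Matrix.transpose_single, add_comm]
    have h1 := DFunLike.congr_fun h (⟨_, hS⟩ : symH F n)
    simp only [symPair_apply] at h1
    apply hx
    have e : x = ((T : Mn) * (Matrix.single i j c + Matrix.single j i c)).trace -
        ((T' : Mn) * (Matrix.single i j c + Matrix.single j i c)).trace := by
      rw [← Matrix.trace_sub, ← Matrix.sub_mul, ← hD, Matrix.mul_add, Matrix.trace_add, Matrix.trace_mul_single,
        Matrix.trace_mul_single, hsym, hc]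
      simp only [MulOpposite.smul_eq_mul_unop, MulOpposite.unop_op]
      field_simp
      ring
    rw [e, AddChar.map_sub_eq_div, h1]
    exact div_self (ψ.val_isUnit _).ne_zero
  exact (Fintype.bijective_iff_injective_and_card _).2 ⟨hinj, by rw [AddChar.card_eq]⟩

theorem exists_unit_col {u : Fin n → F} (hu : u ≠ 0) : ∃ B : (Mn)ˣ, (B : Mn) *ᵥ Pi.single 0 1 = u := by
  classical
  set e : Fin n → F := Pi.single 0 1 with he
  obtain ⟨v, hv1, hv2⟩ : ∃ v : Fin n → F, v 0 = 1 ∧ v ⬝ᵥ u ≠ 0 := by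
    by_cases h0 : u 0 = 0
    · obtain ⟨i, hi⟩ := Function.ne_iff.1 hu
      have hi0 : i ≠ 0 := fun h => hi (by rw [h, h0]; rfl)
      refine ⟨e + Pi.single i 1, by simp [he, hi0.symm], ?_⟩
      rw [add_dotProduct, he, single_dotProduct, single_dotProduct, h0, one_mul, one_mul, zero_add]
      exact hi
    · exact ⟨e, by simp [he], by rwa [he, single_dotProduct, one_mul]⟩
  set M : Mn := 1 + Matrix.replicateCol Unit (u - e) * Matrix.replicateRow Unit v with hM
  have hdet : M.det = v ⬝ᵥ u := by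
    rw [hM, Matrix.det_one_add_replicateCol_mul_replicateRow, dotProduct_sub, he, dotProduct_single, hv1]
    ring
  have hunit : IsUnit M := (Matrix.isUnit_iff_isUnit_det M).2 (by rw [hdet]; exact isUnit_iff_ne_zero.2 hv2)
  refine ⟨hunit.unit, ?_⟩
  show M *ᵥ e = u
  funext i
  rw [he, Matrix.mulVec_single_one, Matrix.col_apply, hM, Matrix.add_apply, Matrix.mul_apply]
  simp only [Matrix.replicateCol_apply, Matrix.replicateRow_apply, Finset.univ_unique, Finset.sum_singleton, hv1,
    mul_one, Matrix.one_apply, Pi.sub_apply]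
  by_cases hi : i = 0
  · subst hi; simp [he]
  · simp [he, hi]

theorem exists_congr_col {T : Mn} {u w : Fin n → F} (hc : u ⬝ᵥ (T *ᵥ u) = w 0) (h0 : w 0 ≠ 0) :
    ∃ B : (Mn)ˣ, ((B : Mn)ᵀ * T * (B : Mn)) *ᵥ Pi.single 0 1 = w := by
  classical
  have hu : u ≠ 0 := fun h => h0 (by rw [← hc, h, zero_dotProduct])
  obtain ⟨B₀, hB₀⟩ := exists_unit_col hodd hu
  set e : Fin n → F := Pi.single 0 1 with he
  set z := T *ᵥ u
  set r : Fin n → F := (w 0)⁻¹ • (w - (B₀ : Mn)ᵀ *ᵥ z) with hr
  have hz0 : ((B₀ : Mn)ᵀ *ᵥ z) 0 = w 0 := by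
    have h := congrArg (fun a => a ⬝ᵥ z) hB₀
    simp only [hc] at h
    rw [← h, dotProduct_comm _ z, Matrix.dotProduct_mulVec, ← Matrix.mulVec_transpose, he, dotProduct_single, mul_one]
  have hr0 : r 0 = 0 := by rw [hr, Pi.smul_apply, Pi.sub_apply, hz0, sub_self, smul_zero]
  set R : Mn := 1 + Matrix.replicateCol Unit e * Matrix.replicateRow Unit r with hR
  have hdet : R.det = 1 := by
    rw [hR, Matrix.det_one_add_replicateCol_mul_replicateRow, he, dotProduct_single, hr0, zero_mul, add_zero]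
  have hunit : IsUnit R := (Matrix.isUnit_iff_isUnit_det R).2 (by rw [hdet]; exact isUnit_one)
  refine ⟨B₀ * hunit.unit, ?_⟩
  have hRe : R *ᵥ e = e := by
    funext i
    rw [he, Matrix.mulVec_single_one, Matrix.col_apply, hR, Matrix.add_apply, Matrix.mul_apply]
    simp [hr0, Matrix.one_apply, Pi.single_apply]
  have hRt : ∀ y : Fin n → F, Rᵀ *ᵥ y = y + y 0 • r := by
    intro y
    funext i
    rw [Matrix.mulVec_transpose, hR, Matrix.vecMul_add, Matrix.vecMul_one, ← Matrix.vecMul_vecMul]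
    simp [Matrix.mul_apply, Matrix.vecMul, dotProduct, he, Pi.single_apply, mul_ite, ite_mul]
  rw [Units.val_mul, IsUnit.unit_spec, Matrix.transpose_mul]
  simp only [← Matrix.mulVec_mulVec]
  rw [hRe, hB₀, hRt, hz0, hr, smul_smul, mul_inv_cancel₀ h0, one_smul, add_sub_cancel]

/-- The orbit of a nonzero symmetric matrix under congruence is large. -/
theorem orbit_large {T : Mn} (hT : Tᵀ = T) (hT0 : T ≠ 0) :
    ∃ s : Finset Mn, (Fintype.card F ^ n - 1) / 2 ≤ s.card ∧ ∀ M ∈ s, ∃ B : (Mn)ˣ, M = (B : Mn)ᵀ * T * (B : Mn) := by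
  classical
  set q := Fintype.card F
  set s : Finset Mn := Finset.univ.image fun B : (Mn)ˣ => (B : Mn)ᵀ * T * (B : Mn)
  refine ⟨s, ?_, fun M hM => by
    obtain ⟨B, -, rfl⟩ := Finset.mem_image.1 hM
    exact ⟨B, rfl⟩⟩
  have h2 : (2 : F) ≠ 0 := two_ne (hodd := hodd)
  have hTs : ∀ x y, x ⬝ᵥ (T *ᵥ y) = y ⬝ᵥ (T *ᵥ x) := by
    intro x y
    rw [Matrix.dotProduct_mulVec, ← Matrix.mulVec_transpose, hT, dotProduct_comm]
  have hpol : ∀ x y, (x + y) ⬝ᵥ (T *ᵥ (x + y)) = x ⬝ᵥ (T *ᵥ x) + y ⬝ᵥ (T *ᵥ y) + 2 * (x ⬝ᵥ (T *ᵥ y)) := by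
    intro x y
    rw [Matrix.mulVec_add, add_dotProduct, dotProduct_add, dotProduct_add, hTs y x]
    ring
  obtain ⟨u, hu⟩ : ∃ u, u ⬝ᵥ (T *ᵥ u) ≠ 0 := by
    by_contra! hall
    refine hT0 (Matrix.ext_of_mulVec_single fun i => ?_)
    funext j
    have h := hpol (Pi.single j 1) (Pi.single i 1)
    rw [hall, hall, hall, zero_add, zero_add, zero_eq_mul] at h
    have h' := h.resolve_left h2
    rw [single_dotProduct, one_mul] at h'
    simpa using h'
  by_cases hC : ∀ d : F, d ≠ 0 → ∃ y, y ⬝ᵥ (T *ᵥ y) = d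
  · -- all values are represented
    have hsub : (Finset.univ.filter fun w : Fin n → F => w 0 ≠ 0) ⊆ s.image fun M => M *ᵥ Pi.single 0 1 := by
      intro w hw
      have hw0 := (Finset.mem_filter.1 hw).2
      obtain ⟨y, hy⟩ := hC _ hw0
      obtain ⟨B, hB⟩ := exists_congr_col hodd hy hw0
      exact Finset.mem_image.2 ⟨_, Finset.mem_image.2 ⟨B, Finset.mem_univ _, rfl⟩, hB⟩
    have h1 := (Finset.card_le_card hsub).trans Finset.card_image_le
    have hcard : (Finset.univ.filter fun w : Fin n → F => w 0 ≠ 0).card + q ^ (n - 1) = q ^ n := by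
      have e : (Finset.univ.filter fun w : Fin n → F => ¬ w 0 ≠ 0).card = q ^ (n - 1) := by
        rw [← Fintype.card_subtype]
        have hn : n = (n - 1) + 1 := (Nat.succ_pred_eq_of_ne_zero (NeZero.ne n)).symm
        calc Fintype.card {w : Fin n → F // ¬ w 0 ≠ 0} = Fintype.card ({i : Fin n // i ≠ 0} → F) :=
              Fintype.card_congr
                { toFun := fun w i => w.1 i.1
                  invFun := fun f => ⟨fun i => if h : i = 0 then 0 else f ⟨i, h⟩, by simp⟩
                  left_inv := fun w => Subtype.ext (funext fun i => by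
                    by_cases h : i = 0
                    · subst h; simpa using (not_not.1 w.2).symm
                    · simp [h])
                  right_inv := fun f => funext fun i => by simp [i.2] }
          _ = q ^ (n - 1) := by
              rw [Fintype.card_fun, Fintype.card_subtype_compl, Fintype.card_fin, Fintype.card_subtype_eq]
      rw [← e, Finset.card_filter_add_card_filter_not, Finset.card_univ, Fintype.card_fun, Fintype.card_fin]
    have hq : 2 * q ^ (n - 1) ≤ q ^ n := by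
      calc 2 * q ^ (n - 1) ≤ q * q ^ (n - 1) := Nat.mul_le_mul_right _ Fintype.one_lt_card
        _ = q ^ n := by rw [← pow_succ', Nat.sub_add_cancel (Nat.one_le_iff_ne_zero.2 (NeZero.ne n))]
    omega
  · -- rank one
    push Not at hC
    obtain ⟨d, hd0, hd⟩ := hC
    set c := u ⬝ᵥ (T *ᵥ u) with hc
    set z := T *ᵥ u with hz
    have hiso : ∀ x, x ⬝ᵥ z = 0 → x ⬝ᵥ (T *ᵥ x) = 0 := by
      intro x hx
      by_contra he
      set e := x ⬝ᵥ (T *ᵥ x)
      obtain ⟨α, β, hab⟩ := FiniteField.exists_root_sum_quadratic (R := F)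
        (f := Polynomial.C c * Polynomial.X ^ 2) (g := Polynomial.C e * Polynomial.X ^ 2 - Polynomial.C d)
        (Polynomial.degree_C_mul_X_pow 2 hu)
        (by rw [Polynomial.degree_sub_C] <;> simp [Polynomial.degree_C_mul_X_pow 2 he])
        (Nat.odd_iff.1 hodd)
      simp only [Polynomial.eval_mul, Polynomial.eval_C, Polynomial.eval_pow, Polynomial.eval_X,
        Polynomial.eval_sub] at hab
      refine hd (α • u + β • x) ?_
      rw [hpol, Matrix.mulVec_smul, Matrix.mulVec_smul, smul_dotProduct, dotProduct_smul, smul_dotProduct,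
        dotProduct_smul, smul_dotProduct, dotProduct_smul, hTs u x, hx]
      simp only [smul_eq_mul, mul_zero, add_zero]
      linear_combination hab
    have hTx : ∀ x, x ⬝ᵥ z = 0 → T *ᵥ x = 0 := by
      intro x hx
      funext i
      set y : Fin n → F := Pi.single i 1
      set α := (y ⬝ᵥ z) / c with hα
      have hx' : (y - α • u) ⬝ᵥ z = 0 := by
        rw [sub_dotProduct, smul_dotProduct, smul_eq_mul, ← hc, hα, div_mul_cancel₀ _ hu, sub_self]
      have h := hpol (y - α • u) x
      rw [hiso _ (by rw [add_dotProduct, hx', hx, add_zero]), hiso _ hx', hiso _ hx, zero_add, zero_add,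
        zero_eq_mul, sub_dotProduct, smul_dotProduct, hTs u x, hx, smul_zero, sub_zero] at h
      have h' := h.resolve_left h2
      rw [single_dotProduct, one_mul] at h'
      exact h'
    have hTe : T = c⁻¹ • Matrix.vecMulVec z z := by
      refine Matrix.ext_of_mulVec_single fun i => ?_
      set y : Fin n → F := Pi.single i 1
      set α := (y ⬝ᵥ z) / c with hα
      have h := hTx (y - α • u) (by
        rw [sub_dotProduct, smul_dotProduct, smul_eq_mul, ← hc, hα, div_mul_cancel₀ _ hu, sub_self])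
      rw [Matrix.mulVec_sub, Matrix.mulVec_smul, sub_eq_zero] at h
      rw [h, Matrix.smul_mulVec, Matrix.vecMulVec_mulVec, hα, dotProduct_comm z y]
      funext j
      simp
      ring
    have hz0 : z ≠ 0 := fun h => hu (by rw [hc, h, dotProduct_zero])
    set f : (Fin n → F) → Mn := fun w => c⁻¹ • Matrix.vecMulVec w w
    have hsub : ((Finset.univ.erase (0 : Fin n → F)).image f) ⊆ s := by
      intro M hM
      obtain ⟨w, hw, rfl⟩ := Finset.mem_image.1 hM
      obtain ⟨B₁, hB₁⟩ := exists_unit_col hodd hz0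
      obtain ⟨B₂, hB₂⟩ := exists_unit_col hodd (Finset.ne_of_mem_erase hw)
      set B := B₂ * B₁⁻¹
      have hBz : (B : Mn) *ᵥ z = w := by
        rw [← hB₁, Units.val_mul, Matrix.mulVec_mulVec, Matrix.mul_assoc, Units.inv_mul, Matrix.mul_one, hB₂]
      let Bt : (Mn)ˣ := ⟨(B : Mn)ᵀ, ((B⁻¹ : (Mn)ˣ) : Mn)ᵀ,
        by rw [← Matrix.transpose_mul, Units.inv_mul, Matrix.transpose_one],
        by rw [← Matrix.transpose_mul, Units.mul_inv, Matrix.transpose_one]⟩
      refine Finset.mem_image.2 ⟨Bt, Finset.mem_univ _, ?_⟩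
      show ((B : Mn)ᵀ)ᵀ * T * (B : Mn)ᵀ = c⁻¹ • Matrix.vecMulVec w w
      rw [Matrix.transpose_transpose, hTe, Matrix.mul_smul, Matrix.smul_mul, Matrix.mul_vecMulVec,
        Matrix.vecMulVec_mul, Matrix.vecMul_transpose, hBz]
    have hfib : (Finset.univ.erase (0 : Fin n → F)).card ≤ 2 * ((Finset.univ.erase (0 : Fin n → F)).image f).card := by
      refine Finset.card_le_mul_card_image _ 2 fun M hM => ?_
      obtain ⟨w, hw, rfl⟩ := Finset.mem_image.1 hM
      refine (Finset.card_le_card (t := {w, -w}) fun w' hw' => ?_).trans Finset.card_le_two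
      have he := (Finset.mem_filter.1 hw').2
      have he' := smul_right_injective Mn (inv_ne_zero hu) he
      obtain ⟨i, hi⟩ := Function.ne_iff.1 (Finset.ne_of_mem_erase hw)
      have hij : ∀ j, w' i * w' j = w i * w j := fun j => congrFun (congrFun he' i) j
      rcases mul_self_eq_mul_self_iff.1 (hij i) with h | h
      · refine Finset.mem_insert.2 (Or.inl (funext fun j => ?_))
        have := hij j
        rw [h] at this
        exact mul_left_cancel₀ hi this
      · refine Finset.mem_insert.2 (Or.inr (Finset.mem_singleton.2 (funext fun j => ?_)))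
        have := hij j
        rw [h, neg_mul] at this
        exact mul_left_cancel₀ hi (by rw [Pi.neg_apply, mul_neg, ← this, neg_neg])
    have h1 := Finset.card_le_card hsub
    rw [Finset.card_erase_of_mem (Finset.mem_univ _), Finset.card_univ, Fintype.card_fun, Fintype.card_fin] at hfib
    rw [show Fintype.card F = q from rfl] at hfib; omega

/-- A small representation is trivial on the unipotent elements. -/
theorem rho_uElt {V : Type*} [AddCommGroup V] [Module ℂ V] [FiniteDimensional ℂ V]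
    (ρ : Representation ℂ Gm V) (hk : Module.finrank ℂ V < (Fintype.card F ^ n - 1) / 2) (S : symH F n) :
    ρ (uElt S) = 1 := by
  classical
  by_contra hne
  obtain ⟨φ, v, hφ, hv, hev⟩ := Cfsg.Agent.Small.Unitary.exists_char_eigenvector (fun S : symH F n => ρ (uElt S))
    (fun a b => by rw [uElt_add, map_mul]) ⟨S, hne⟩ (by rw [uElt_zero, map_one])
  obtain ⟨x, hx⟩ : ∃ x : F, x ≠ 0 := ⟨1, one_ne_zero⟩
  obtain ⟨ψ, hψx⟩ := AddChar.exists_apply_ne_zero.2 hx
  have hψ : ψ ≠ 0 := fun h => hψx (by rw [h, AddChar.zero_apply])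
  obtain ⟨⟨T, hT⟩, rfl⟩ := (symPair_bijective hodd hψ).2 φ
  have hT0 : T ≠ 0 := by
    rintro rfl
    apply hφ
    ext S
    simp [symPair_apply]
  obtain ⟨s, hs, hsB⟩ := orbit_large hodd hT hT0
  choose B hB using hsB
  let w : s → V := fun M => ρ (dElt (B M.1 M.2)⁻¹) v
  have hw : ∀ (M : s) (S : symH F n), ρ (uElt S) (w M) = symPair ψ M.1 S • w M := by
    intro M S
    have key := uElt_mul_dElt (B M.1 M.2)⁻¹ ⟨(B M.1 M.2 : Mn) * (S : Mn) * (B M.1 M.2 : Mn)ᵀ, congr_sym _ S⟩
    have e : ((B M.1 M.2)⁻¹ : (Mn)ˣ).val * ((B M.1 M.2 : Mn) * (S : Mn) * (B M.1 M.2 : Mn)ᵀ) *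
        (((B M.1 M.2)⁻¹ : (Mn)ˣ).val)ᵀ = (S : Mn) := by
      simp only [← Matrix.mul_assoc, Units.inv_mul, Matrix.one_mul]
      rw [Matrix.mul_assoc, ← Matrix.transpose_mul, Units.inv_mul, Matrix.transpose_one, Matrix.mul_one]
    simp only [e] at key
    show ρ (uElt S) (ρ (dElt (B M.1 M.2)⁻¹) v) = _
    rw [← Module.End.mul_apply, ← map_mul, show uElt S * dElt (B M.1 M.2)⁻¹ = _ from key, map_mul,
      Module.End.mul_apply, hev, map_smul]
    congr 1
    simp only [symPair_apply]
    refine congrArg ψ ?_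
    calc (T * ((B M.1 M.2 : Mn) * (S : Mn) * (B M.1 M.2 : Mn)ᵀ)).trace
        = (((B M.1 M.2 : Mn)ᵀ * T * (B M.1 M.2 : Mn)) * (S : Mn)).trace := by
          rw [← Matrix.mul_assoc, Matrix.trace_mul_comm, ← Matrix.mul_assoc, ← Matrix.mul_assoc]
      _ = _ := by rw [← hB M.1 M.2]
  have hsym : ∀ M : s, M.1 ∈ symH F n := fun M => by
    rw [mem_symH, hB M.1 M.2, Matrix.transpose_mul, Matrix.transpose_mul, Matrix.transpose_transpose, hT,
      Matrix.mul_assoc]
  have hli : LinearIndependent ℂ w := by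
    rw [Fintype.linearIndependent_iff]
    intro c hc M
    have hz := Cfsg.Agent.Small.Unitary.eigen_sum_zero (fun S : symH F n => ρ (uElt S)) Finset.univ
      (fun M : s => c M • w M) (fun M S => symPair ψ M.1 S)
      (fun M _ S => by rw [map_smul, hw M S, smul_comm])
      (fun M _ M' _ h => Subtype.ext (show (⟨M.1, hsym M⟩ : symH F n).1 = (⟨M'.1, hsym M'⟩ : symH F n).1 from
        congrArg Subtype.val ((symPair_bijective hodd hψ).1
          (a₁ := ⟨M.1, hsym M⟩) (a₂ := ⟨M'.1, hsym M'⟩) (DFunLike.ext _ _ (congrFun h)))))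
      hc M (Finset.mem_univ M)
    refine (smul_eq_zero.1 hz).resolve_right fun h => hv ?_
    have h2 := congrArg (ρ (dElt (B M.1 M.2)⁻¹)⁻¹) h
    rw [map_zero, show w M = ρ (dElt (B M.1 M.2)⁻¹) v from rfl, ← Module.End.mul_apply, ← map_mul,
      inv_mul_cancel, map_one] at h2
    exact h2
  have := hli.fintype_card_le_finrank
  rw [Fintype.card_coe] at this
  omega

theorem act_se (S : symH F n) (x : Fin n ⊕ Fin n → F) :
    act (uElt S) x = Sum.elim (fun i => x (.inl i) + ((S : Mn) *ᵥ fun j => x (.inr j)) i) fun i => x (.inr i) := by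
  show Matrix.fromBlocks 1 (S : Mn) 0 1 *ᵥ x = _
  rw [Matrix.fromBlocks_mulVec]
  funext k
  rcases k with i | i <;> simp [Function.comp_def]

/-- **Small representations are trivial.** -/
theorem trivial_of_small {V : Type*} [AddCommGroup V] [Module ℂ V] [FiniteDimensional ℂ V]
    (ρ : Representation ℂ Gm V) (hk : Module.finrank ℂ V < (Fintype.card F ^ n - 1) / 2) (g : Gm) : ρ g = 1 := by
  classical
  have hker : Cfsg.Agent.Classical.SpGen.TG F n ≤ ρ.asGroupHom.ker := by
    refine (Subgroup.closure_le _).2 ?_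
    rintro _ ⟨v, t, rfl⟩
    show ρ.asGroupHom (eich v 0 t) = 1
    apply Units.ext
    rw [Representation.asGroupHom_apply, Units.val_one]
    rcases eq_or_ne v 0 with rfl | hv
    · rw [show (eich (0 : Fin n ⊕ Fin n → F) 0 t : Gm) = 1 from eq_of_act fun x => by
        rw [act_eich_zero, smul_zero, add_zero, act_one], map_one]
    obtain ⟨y, hy⟩ := Cfsg.Agent.Lead.Symp.exists_form_ne hv
    set e : Fin n ⊕ Fin n → F := Pi.single (.inl 0) 1 with he
    obtain ⟨z, hz⟩ : ∃ z, sf e z = 1 := by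
      obtain ⟨z, hz⟩ := Cfsg.Agent.Lead.Symp.exists_form_ne (show e ≠ 0 from fun h => by
        have := congrFun h (.inl 0); simp [he] at this)
      exact ⟨(sf e z)⁻¹ • z, by rw [sf_smul_right, inv_mul_cancel₀ hz]⟩
    obtain ⟨A, -, hA, -, -⟩ := Cfsg.Agent.Classical.SpGen.exists_pair_in ⊤
      (fun u _ hu => by
        obtain ⟨w, hw⟩ := Cfsg.Agent.Lead.Symp.exists_form_ne hu
        exact ⟨w, trivial, hw⟩) (u := e) (v := z) (u' := v) (v' := (sf v y)⁻¹ • y)
      trivial trivial trivial trivial hz (by rw [sf_smul_right, inv_mul_cancel₀ hy])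
    have hconj : (eich v 0 t : Gm) = A * eich e 0 t * A⁻¹ := by
      rw [eq_mul_inv_iff_mul_eq]
      refine eq_of_act fun x => ?_
      rw [act_mul, act_mul, act_eich_zero, act_eich_zero, act_add, act_smul, hA, ← sf_act A e x, hA]
    have hS : (-t) • Matrix.single (0 : Fin n) 0 (1 : F) ∈ symH F n := by
      rw [mem_symH, Matrix.transpose_smul, Matrix.transpose_single]
    have hu : (eich e 0 t : Gm) = uElt ⟨_, hS⟩ := by
      refine eq_of_act fun x => ?_
      rw [act_eich_zero, act_se hodd]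
      have hse : sf e x = - x (.inr 0) := by
        simp [sf, Cfsg.Agent.Lead.Symp.form_eq, he, Pi.single_apply]
      funext k
      rcases k with i | i
      · by_cases hi : i = 0
        · subst hi
          rw [hse]
          simp [he, Matrix.mulVec, dotProduct, Matrix.single]
        · rw [hse]
          simp [he, Matrix.mulVec, dotProduct, Matrix.single, Pi.single_apply, hi, Ne.symm hi]
      · simp [he]
    rw [hconj, hu, map_mul, map_mul, rho_uElt hodd ρ hk, mul_one, ← map_mul, mul_inv_cancel, map_one]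
  rw [Cfsg.Agent.Classical.SpGen.sp_generated] at hker
  have h := congrArg Units.val (MonoidHom.mem_ker.1 (hker (Subgroup.mem_top g)))
  rwa [Representation.asGroupHom_apply, Units.val_one] at h

end Cfsg.Agent.SpBound
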