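import Cfsg.Agent.Lib.Lead.SuzukiSolubilizer

/-!
# The sizes of the solubilizers in the Suzuki groups
-/

set_option autoImplicit false

namespace Cfsg.Agent.SzSolvable

open MulAction Cfsg.Agent.Lie.Suzuki

variable {F : Type*} [Field F] {m : ℕ} [Fintype F] (hF : Fintype.card F = 2 ^ (2 * m + 1)) (hm : 1 ≤ m)

local notation "G" => Cfsg.Sz F m
local notation "Ω" => Cfsg.suzukiOvoid F m

include hF hm

theorem tS_order (a b : F) :
    (orderOf (tS (m := m) hF a b) = 2 ↔ a = 0 ∧ b ≠ 0) ∧ (orderOf (tS (m := m) hF a b) = 4 ↔ a ≠ 0) := by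
  haveI : Fact (Nat.Prime 2) := ⟨Nat.prime_two⟩
  have hsq : tS (m := m) hF a b * tS hF a b = tS hF 0 (a ^ (2 ^ (m + 1)) * a) := by
    rw [tS_mul hF, add_self hF, add_self hF, zero_add]
  rcases eq_or_ne a 0 with rfl | ha
  · rw [zero_pow (pow_ne_zero _ two_ne_zero), zero_mul, tS_zero hF] at hsq
    rcases eq_or_ne b 0 with rfl | hb
    · rw [tS_zero hF, orderOf_one]; simp
    · have h1 : tS (m := m) hF 0 b ≠ 1 := by
        rw [← tS_zero hF]; exact fun h => hb (Small.SuzukiAut.tS_injective hF h).2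
      rw [orderOf_eq_prime (by rw [pow_two, hsq]) h1]
      simp [hb]
  · have h2 : ¬ tS (m := m) hF a b ^ 2 ^ 1 = 1 := by
      rw [pow_one, pow_two, hsq, ← tS_zero hF]
      exact fun h => mul_ne_zero (pow_ne_zero _ ha) ha (Small.SuzukiAut.tS_injective hF h).2
    have h4 : tS (m := m) hF a b ^ 2 ^ (1 + 1) = 1 := uSub_pow_four hF ⟨a, b, rfl⟩
    rw [orderOf_eq_prime_pow h2 h4]
    simp [ha]

theorem mem_uSub_of_pow_four {g : G} (hg : g • (⟨_, inf_mem⟩ : Ω) = ⟨_, inf_mem⟩) (h4 : g ^ 4 = 1) :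
    ∃ a b : F, g = tS hF a b := by
  obtain ⟨a, b, k, rfl⟩ := sz_fix hF hm g (congrArg Subtype.val hg)
  have key : ∀ n : ℕ, ∃ c d : F, (tS hF a b * dS hF k) ^ n = tS hF c d * dS hF (k ^ n) := by
    intro n
    induction n with
    | zero => exact ⟨0, 0, by rw [pow_zero, pow_zero, map_one, tS_zero hF, one_mul]⟩
    | succ n ih =>
      obtain ⟨c, d, e⟩ := ih
      exact ⟨_, _, by rw [pow_succ, e, mul_assoc, ← mul_assoc (dS hF (k ^ n)), dS_mul_tS hF hm, mul_assoc,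
        ← map_mul, ← pow_succ, ← mul_assoc, tS_mul hF]⟩
  obtain ⟨c, d, e⟩ := key 4
  rw [h4] at e
  have hk4 : k ^ 4 = 1 := by
    have h0 := congrArg (fun z : G => (z : Matrix.SpecialLinearGroup (Fin 4) F) • pt m (0 : F) 0) e.symm
    simp only [Subgroup.coe_mul, OneMemClass.coe_one, mul_smul, one_smul] at h0
    change tM m c d • dM m _ • pt m (0 : F) 0 = pt m 0 0 at h0
    rw [dM_pt hF, mul_zero, mul_zero, tM_pt_zero hF] at h0
    obtain ⟨rfl, rfl⟩ := pt_inj h0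
    rw [tS_zero hF, one_mul] at e
    exact Small.SuzukiAut.dS_injective hF (by rw [← e, map_one])
  have hk : k = 1 := by
    classical
    have h1 : orderOf k ∣ Nat.gcd 4 (Fintype.card F - 1) :=
      Nat.dvd_gcd (orderOf_dvd_of_pow_eq_one hk4) (by rw [← Fintype.card_units]; exact orderOf_dvd_card)
    have h2 : Nat.Coprime 4 (Fintype.card F - 1) := by
      refine (Nat.Coprime.pow_left 2 ?_ : Nat.Coprime (2 ^ 2) _)
      rw [Nat.prime_two.coprime_iff_not_dvd]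
      obtain ⟨h8, he, -⟩ := q_facts hF hm
      obtain ⟨r, hr⟩ := he
      omega
    rw [h2.gcd_eq_one] at h1
    exact orderOf_eq_one_iff.1 (Nat.dvd_one.1 h1)
  exact ⟨a, b, by rw [hk, map_one, mul_one]⟩

theorem orderOf_conj (c g : G) : orderOf (c * g * c⁻¹) = orderOf g := (MulAut.conj c).orderOf_eq g

theorem pow_four_of {g : G} {n : ℕ} (hn : n = 2 ∨ n = 4) (h : orderOf g = n) : g ^ 4 = 1 := by
  refine orderOf_dvd_iff_pow_eq_one.1 ?_
  rw [h]
  rcases hn with rfl | rfl <;> norm_num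

theorem conj_uSub {g : G} (hg : orderOf g = 2 ∨ orderOf g = 4) : ∃ (c : G) (a b : F), c * g * c⁻¹ = tS hF a b := by
  haveI := sz_pretransitive (m := m) hF
  obtain ⟨p, hp, -⟩ := fixed_unique hF hm hg
  obtain ⟨c, hc⟩ := exists_smul_eq G p (⟨_, inf_mem⟩ : Ω)
  obtain ⟨a, b, h⟩ := mem_uSub_of_pow_four hF hm (g := c * g * c⁻¹)
    (by rw [← hc, mul_smul, mul_smul, inv_smul_smul, hp])
    (by
      have h4 : g ^ 4 = 1 := hg.elim (pow_four_of hF hm (Or.inl rfl)) (pow_four_of hF hm (Or.inr rfl))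
      rw [conj_pow, h4]; group)
  exact ⟨c, a, b, h⟩

theorem count_order {n : ℕ} (hn : n = 2 ∨ n = 4) :
    {g : G | orderOf g = n}.ncard = (Fintype.card F ^ 2 + 1) * {z : F × F | orderOf (tS (m := m) hF z.1 z.2) = n}.ncard := by
  classical
  haveI := sz_pretransitive (m := m) hF
  choose c hc using fun p : Ω => exists_smul_eq G (⟨_, inf_mem⟩ : Ω) p
  let f : Ω × {z : F × F | orderOf (tS (m := m) hF z.1 z.2) = n} → {g : G | orderOf g = n} := fun w =>
    ⟨c w.1 * tS hF w.2.1.1 w.2.1.2 * (c w.1)⁻¹, (orderOf_conj hF hm _ _).trans w.2.2⟩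
  have hfix : ∀ (p : Ω) (a b : F), (c p * tS hF a b * (c p)⁻¹) • p = p := by
    intro p a b
    rw [mul_smul, mul_smul, show (c p)⁻¹ • p = ⟨_, inf_mem⟩ from inv_smul_eq_iff.2 (hc p).symm,
      show tS hF a b • (⟨_, inf_mem⟩ : Ω) = ⟨_, inf_mem⟩ from Subtype.ext (tM_inf a b)]
    exact hc p
  have hb : Function.Bijective f := by
    refine ⟨?_, fun ⟨g, hg⟩ => ?_⟩
    · rintro ⟨p, ⟨⟨a, b⟩, h⟩⟩ ⟨p', ⟨⟨a', b'⟩, h'⟩⟩ e
      have e' : c p * tS hF a b * (c p)⁻¹ = c p' * tS hF a' b' * (c p')⁻¹ := congrArg Subtype.val e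
      have ho : orderOf (c p * tS hF a b * (c p)⁻¹) = n := (orderOf_conj hF hm _ _).trans h
      obtain ⟨q, -, hu⟩ := fixed_unique hF hm (x := c p * tS hF a b * (c p)⁻¹)
        (by rcases hn with rfl | rfl; exacts [Or.inl ho, Or.inr ho])
      obtain rfl : p = p' := (hu p (hfix p a b)).trans (hu p' (by rw [e']; exact hfix p' a' b')).symm
      obtain ⟨rfl, rfl⟩ := Small.SuzukiAut.tS_injective hF (mul_left_cancel (mul_right_cancel e'))
      rfl
    · have hg' : orderOf g = 2 ∨ orderOf g = 4 := by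
        rcases hn with rfl | rfl
        exacts [Or.inl hg, Or.inr hg]
      obtain ⟨p, hp, -⟩ := fixed_unique hF hm hg'
      obtain ⟨a, b, h⟩ := mem_uSub_of_pow_four hF hm (g := (c p)⁻¹ * g * c p)
        (by rw [mul_smul, mul_smul, hc, hp, inv_smul_eq_iff, hc])
        (by rw [show (c p)⁻¹ * g * c p = (c p)⁻¹ * g * ((c p)⁻¹)⁻¹ by rw [inv_inv], conj_pow,
          pow_four_of hF hm hn hg]; group)
      refine ⟨(p, ⟨(a, b), ?_⟩), Subtype.ext ?_⟩
      · show orderOf (tS hF a b) = n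
        rw [← h, show (c p)⁻¹ * g * c p = (c p)⁻¹ * g * ((c p)⁻¹)⁻¹ by rw [inv_inv], orderOf_conj hF hm]
        exact hg
      · show c p * tS hF a b * (c p)⁻¹ = g
        rw [← h]; group
  rw [← Nat.card_coe_set_eq, ← Nat.card_eq_of_bijective f hb, Nat.card_prod, card_points hF hm, Nat.card_coe_set_eq]

theorem count_two : {g : G | orderOf g = 2}.ncard = (Fintype.card F ^ 2 + 1) * (Fintype.card F - 1) := by
  classical
  rw [count_order hF hm (Or.inl rfl)]
  congr 1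
  have h : {z : F × F | orderOf (tS (m := m) hF z.1 z.2) = 2} = (fun b => ((0 : F), b)) '' {b : F | b ≠ 0} := by
    ext ⟨a, b⟩
    simp only [Set.mem_setOf_eq, (tS_order hF hm a b).1, Set.mem_image, Prod.mk.injEq]
    exact ⟨fun h => ⟨b, h.2, h.1.symm, rfl⟩, fun ⟨b', h1, h2, h3⟩ => ⟨h2.symm, h3 ▸ h1⟩⟩
  rw [h, Set.ncard_image_of_injective _ (fun x y e => congrArg Prod.snd e),
    show {b : F | b ≠ 0} = ({0} : Set F)ᶜ from rfl, Set.ncard_compl, Set.ncard_singleton, Nat.card_eq_fintype_card]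

theorem count_four :
    {g : G | orderOf g = 4}.ncard = (Fintype.card F ^ 2 + 1) * ((Fintype.card F - 1) * Fintype.card F) := by
  classical
  rw [count_order hF hm (Or.inr rfl)]
  congr 1
  have h : {z : F × F | orderOf (tS (m := m) hF z.1 z.2) = 4} = {a : F | a ≠ 0} ×ˢ (Set.univ : Set F) := by
    ext ⟨a, b⟩
    simp only [Set.mem_setOf_eq, (tS_order hF hm a b).2, Set.mem_prod, Set.mem_univ, and_true]
  rw [h, Set.ncard_prod, show {b : F | b ≠ 0} = ({0} : Set F)ᶜ from rfl, Set.ncard_compl, Set.ncard_singleton,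
    Nat.card_eq_fintype_card, Set.ncard_univ, Nat.card_eq_fintype_card]

theorem conj_involutions {x y : G} (hx : orderOf x = 2) (hy : orderOf y = 2) : IsConj x y := by
  have key : ∀ z : G, orderOf z = 2 → IsConj z (tS hF 0 1) := by
    intro z hz
    obtain ⟨c, a, b, h⟩ := conj_uSub hF hm (Or.inl hz)
    obtain ⟨rfl, hb⟩ := (tS_order hF hm a b).1.1 (by rw [← h, orderOf_conj hF hm, hz])
    refine (isConj_iff.2 ⟨c, h⟩).trans ?_
    obtain ⟨l, hl⟩ : ∃ l : F, l ^ (2 ^ (m + 1) + 1) = b⁻¹ := ⟨_, (sg_add_one_left_inv hF b⁻¹).1⟩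
    have hl0 : l ≠ 0 := fun e => inv_ne_zero hb (by rw [← hl, e, zero_pow (Nat.succ_ne_zero _)])
    refine isConj_iff.2 ⟨dS hF (Units.mk0 l hl0), ?_⟩
    rw [dS_mul_tS hF hm, mul_inv_cancel_right, mul_zero, Units.val_mk0, hl, inv_mul_cancel₀ hb]
  exact (key x hx).trans (key y hy).symm

theorem conj_order_four {x y : G} (hx : orderOf x = 4) (hy : orderOf y = 4) : IsConj x y ∨ IsConj x⁻¹ y := by
  set u := tS (m := m) hF (1 : F) 0 with hu
  let φ : F →+ F := AddMonoidHom.mk' (fun c => c + c ^ 2 ^ (m + 1)) fun c d => by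
    rw [add_pow_sg hF]; ring
  have hker : ∀ c, φ c = 0 → c = 0 ∨ c = 1 := by
    intro c hc
    have h1 : c ^ 2 ^ (m + 1) = c := by
      change c + c ^ 2 ^ (m + 1) = 0 at hc
      linear_combination hc - c * two_eq_zero hF
    have h2 : c ^ 2 = c := by
      conv_lhs => rw [← sg_sg hF c, h1, h1]
    rcases eq_or_ne c 0 with h | h
    · exact Or.inl h
    · exact Or.inr ((mul_eq_left₀ h).1 (by rw [← pow_two]; exact h2))
  have himg : ∀ c : F, IsConj (tS (m := m) hF 1 (φ c)) u := by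
    intro c
    refine (isConj_iff.2 ⟨tS hF c 0, ?_⟩).symm
    rw [mul_inv_eq_iff_eq_mul, hu, tS_mul hF, tS_mul hF]
    show tS hF _ _ = _
    congr 1
    · ring
    · show 0 + 0 + c ^ 2 ^ (m + 1) * 1 = c + c ^ 2 ^ (m + 1) + 0 + (1 : F) ^ 2 ^ (m + 1) * c
      linear_combination (-c) * two_eq_zero hF
  have hone : (1 : F) ∉ φ.range := by
    rintro ⟨c, hc⟩
    refine one_ne_zero (α := F) (Small.SuzukiFacts.real_uSub hF hm (a := (1 : F)) (b := 0) ?_)
    have := himg c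
    rw [hc] at this
    rw [tS_inv hF, one_pow, zero_add]
    exact this.symm
  have hidx : φ.range.index ≤ 2 := by
    have h1 := φ.range.card_mul_index
    have h2 := φ.ker.card_mul_index
    rw [AddSubgroup.index_ker] at h2
    have h3 : Nat.card φ.ker ≤ 2 := by
      classical
      rw [← SetLike.coe_sort_coe, Nat.card_coe_set_eq]
      refine (Set.ncard_le_ncard (t := ({0, 1} : Set F)) (fun c hc => hker c hc) (Set.toFinite _)).trans ?_
      rw [Set.ncard_pair zero_ne_one]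
    have h4 : 0 < Nat.card φ.range := Nat.card_pos
    refine Nat.le_of_mul_le_mul_left ?_ h4
    calc Nat.card φ.range * φ.range.index = Nat.card φ.ker * Nat.card φ.range := by rw [h1, h2]
      _ ≤ 2 * Nat.card φ.range := Nat.mul_le_mul_right _ h3
      _ = Nat.card φ.range * 2 := mul_comm _ _
  have hcls : ∀ b : F, IsConj (tS (m := m) hF 1 b) u ∨ IsConj (tS (m := m) hF 1 b) u⁻¹ := by
    intro b
    rcases Classical.em (b ∈ φ.range) with ⟨c, rfl⟩ | hb
    · exact Or.inl (himg c)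
    · have h2 : φ.range.index = 2 := by
        have : φ.range.index ≠ 0 := AddSubgroup.index_ne_zero_of_finite
        have : φ.range.index ≠ 1 := fun h => hb (AddSubgroup.index_eq_one.1 h ▸ AddSubgroup.mem_top b)
        omega
      obtain ⟨c, hc⟩ : b + 1 ∈ φ.range := (AddSubgroup.add_mem_iff_of_index_two h2).2 (iff_of_false hb hone)
      obtain ⟨g, hg⟩ := isConj_iff.1 (himg c)
      refine Or.inr (isConj_iff.2 ⟨g, ?_⟩)
      have hb' : tS (m := m) hF 1 b = (tS hF 1 (φ c))⁻¹ := by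
        rw [tS_inv hF, one_pow, hc, add_assoc, add_self hF, add_zero]
      rw [hb', ← hg]; group
  have key : ∀ z : G, orderOf z = 4 → IsConj z u ∨ IsConj z u⁻¹ := by
    intro z hz
    obtain ⟨c, a, b, h⟩ := conj_uSub hF hm (Or.inr hz)
    have ha : a ≠ 0 := (tS_order hF hm a b).2.1 (by rw [← h, orderOf_conj hF hm, hz])
    set k : Fˣ := Units.mk0 a⁻¹ (inv_ne_zero ha)
    have hk : IsConj z (tS hF 1 ((k : F) ^ (2 ^ (m + 1) + 1) * b)) :=
      (isConj_iff.2 ⟨c, h⟩).trans (isConj_iff.2 ⟨dS hF k, by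
        rw [dS_mul_tS hF hm, mul_inv_cancel_right, show (k : F) * a = 1 from inv_mul_cancel₀ ha]⟩)
    exact (hcls _).imp hk.trans hk.trans
  have hinv : ∀ {a b : G}, IsConj a b → IsConj a⁻¹ b⁻¹ := by
    intro a b h
    obtain ⟨g, rfl⟩ := isConj_iff.1 h
    exact isConj_iff.2 ⟨g, by group⟩
  rcases key x hx with h | h <;> rcases key y hy with h' | h'
  · exact Or.inl (h.trans h'.symm)
  · exact Or.inr ((hinv h).trans h'.symm)
  · exact Or.inr ((hinv h).trans (by rw [inv_inv]; exact h'.symm))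
  · exact Or.inl (h.trans h'.symm)

/-- The number of tori of given order normalized by an element. -/
noncomputable def toriCount (k : ℕ) (x : G) : ℕ :=
  {T : Subgroup G | T ∈ tori (m := m) (F := F) k ∧ x ∈ Subgroup.normalizer (T : Set G)}.ncard

theorem toriCount_conj (k : ℕ) {x y : G} (h : IsConj x y) : toriCount k x = toriCount k y := by
  obtain ⟨c, rfl⟩ := isConj_iff.1 h
  refine (Set.ncard_image_of_injective _ (Subgroup.map_injective (f := (MulAut.conj c).toMonoidHom) (MulAut.conj c).injective)).symm.trans ?_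
  rw [toriCount]
  congr 1
  ext T
  constructor
  · rintro ⟨S, ⟨⟨hS, hSk⟩, hx⟩, rfl⟩
    refine ⟨⟨isTorus_map hF hm hS c, by rw [Subgroup.card_map_of_injective (MulAut.conj c).injective, hSk]⟩, ?_⟩
    exact Subgroup.map_equiv_normalizer_eq S (MulAut.conj c) ▸ ⟨x, hx, rfl⟩
  · rintro ⟨⟨hT, hTk⟩, hx⟩
    refine ⟨T.map (MulAut.conj c⁻¹).toMonoidHom,
      ⟨⟨isTorus_map hF hm hT _, by rw [Subgroup.card_map_of_injective (MulAut.conj c⁻¹).injective, hTk]⟩, ?_⟩, ?_⟩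
    · exact Subgroup.map_equiv_normalizer_eq T (MulAut.conj c⁻¹) ▸ ⟨_, hx, by simp [mul_assoc]⟩
    · rw [Subgroup.map_map]
      convert Subgroup.map_id T
      ext g
      simp [mul_assoc]

theorem toriCount_mul {k n : ℕ} (hn : n = 2 ∨ n = 4) {x : G} (hx : orderOf x = n)
    (hconst : ∀ y : G, orderOf y = n → toriCount k y = toriCount k x) :
    toriCount k x * {g : G | orderOf g = n}.ncard = (tori (m := m) (F := F) k).ncard * (if n = 2 then k else 2 * k) := by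
  classical
  rw [← Nat.card_coe_set_eq (tori (m := m) (F := F) k)]
  refine sum_fibres (ι := tori (m := m) (F := F) k)
    (fun T => {z : G | z ∈ Subgroup.normalizer ((T : Subgroup G) : Set G) ∧ orderOf z = n}) _ _
    (fun T z hz => hz.2) (fun u hu => ?_) _ (fun T => ?_)
  · rw [← hconst u hu, toriCount, ← Set.ncard_image_of_injective _ Subtype.val_injective]
    congr 1
    ext T
    constructor
    · rintro ⟨⟨S, hS⟩, hz, rfl⟩
      exact ⟨hS, hz.1⟩
    · rintro ⟨hT, hz⟩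
      exact ⟨⟨T, hT⟩, ⟨hz, hu⟩, rfl⟩
  · obtain ⟨h2, h4⟩ := count_in_normalizer hF hm T.2.1
    rcases hn with rfl | rfl
    · rw [if_pos rfl, h2, T.2.2]
    · rw [if_neg (by norm_num), h4, T.2.2]

theorem card_offTorus {k : ℕ} {x : G} (hx : orderOf x = 2 ∨ orderOf x = 4) {a : Ω} (ha : x • a = a)
    (hu : ∀ b, x • b = b → b = a) :
    {y : G | y • a ≠ a ∧ ∃ T, T ∈ tori (m := m) (F := F) k ∧ x ∈ Subgroup.normalizer (T : Set G) ∧
      y ∈ Subgroup.normalizer (T : Set G)}.ncard = toriCount k x * (4 * k - 4) := by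
  have h := sum_fibres (ι := {T : Subgroup G | T ∈ tori (m := m) (F := F) k ∧ x ∈ Subgroup.normalizer (T : Set G)})
    (fun T => (Subgroup.normalizer ((T : Subgroup G) : Set G) : Set G) \ stabilizer G a)
    {y : G | y • a ≠ a ∧ ∃ T, T ∈ tori (m := m) (F := F) k ∧ x ∈ Subgroup.normalizer (T : Set G) ∧
      y ∈ Subgroup.normalizer (T : Set G)} 1
    (fun T y hy => ⟨hy.2, (T : Subgroup G), T.2.1, T.2.2, hy.1⟩) ?_ (4 * k - 4) ?_
  · rw [one_mul] at h
    rw [h, Nat.card_coe_set_eq]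
    rfl
  · rintro y ⟨hy, T, hT, h1, h2⟩
    rw [Set.ncard_eq_one]
    refine ⟨⟨T, hT, h1⟩, Set.eq_singleton_iff_unique_mem.2 ⟨⟨h2, hy⟩, ?_⟩⟩
    rintro ⟨T', hT', h1'⟩ h
    exact Subtype.ext (torus_unique hF hm hu hy hT'.1 hT.1 h1' h.1 h1 h2)
  · rintro ⟨T, ⟨hT, hTk⟩, hxT⟩
    have e := Set.ncard_inter_add_ncard_sdiff_eq_ncard (Subgroup.normalizer (T : Set G) : Set G) (stabilizer G a : Set G)
    rw [card_fix_in_normalizer hF hm hT hxT hx ha,
      ← Nat.card_coe_set_eq (Subgroup.normalizer (T : Set G) : Set G), SetLike.coe_sort_coe,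
      (hT.facts hF hm).2.2.2.2, hTk] at e
    show ((Subgroup.normalizer (T : Set G) : Set G) \ (stabilizer G a : Set G)).ncard = _
    omega

theorem sol_decomp {x : G} (hx : orderOf x = 2 ∨ orderOf x = 4) {a : Ω} (ha : x • a = a)
    (hu : ∀ b, x • b = b → b = a) (k₁ k₂ : ℕ) (hk : k₁ ≠ k₂)
    (hall : ∀ T : Subgroup G, IsTorus T → Nat.card ↥T = k₁ ∨ Nat.card ↥T = k₂) :
    (sol x).ncard = Fintype.card F ^ 2 * (Fintype.card F - 1) +
      {y : G | y • a ≠ a ∧ ∃ c d : Ω, c ≠ d ∧ x ∈ pairStab c d ∧ y ∈ pairStab c d}.ncard +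
      toriCount k₁ x * (4 * k₁ - 4) + toriCount k₂ x * (4 * k₂ - 4) := by
  set A := {y : G | y • a ≠ a ∧ ∃ c d : Ω, c ≠ d ∧ x ∈ pairStab c d ∧ y ∈ pairStab c d} with hA
  set B : ℕ → Set G := fun k => {y : G | y • a ≠ a ∧ ∃ T, T ∈ tori (m := m) (F := F) k ∧
    x ∈ Subgroup.normalizer (T : Set G) ∧ y ∈ Subgroup.normalizer (T : Set G)} with hB
  have e : sol x = (stabilizer G a : Set G) ∪ A ∪ B k₁ ∪ B k₂ := by
    ext y
    rw [mem_sol_iff hF hm]
    simp only [Set.mem_union, SetLike.mem_coe, mem_stabilizer_iff (a := a), hA, hB, Set.mem_setOf_eq]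
    constructor
    · intro h
      rcases Classical.em (y • a = a) with hy | hy
      · exact Or.inl (Or.inl (Or.inl hy))
      rcases h with ⟨c, hxc, hyc⟩ | ⟨c, d, hcd, h1, h2⟩ | ⟨T, hT, h1, h2⟩
      · rw [hu c hxc] at hyc
        exact absurd hyc hy
      · exact Or.inl (Or.inl (Or.inr ⟨hy, c, d, hcd, h1, h2⟩))
      · rcases hall T hT with h | h
        · exact Or.inl (Or.inr ⟨hy, T, ⟨hT, h⟩, h1, h2⟩)
        · exact Or.inr ⟨hy, T, ⟨hT, h⟩, h1, h2⟩
    · rintro (((h | ⟨-, c, d, hcd, h1, h2⟩) | ⟨-, T, hT, h1, h2⟩) | ⟨-, T, hT, h1, h2⟩)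
      · exact Or.inl ⟨a, ha, h⟩
      · exact Or.inr (Or.inl ⟨c, d, hcd, h1, h2⟩)
      · exact Or.inr (Or.inr ⟨T, hT.1, h1, h2⟩)
      · exact Or.inr (Or.inr ⟨T, hT.1, h1, h2⟩)
  have d1 : Disjoint (stabilizer G a : Set G) A := Set.disjoint_left.2 fun y h h' => h'.1 h
  have d2 : Disjoint ((stabilizer G a : Set G) ∪ A) (B k₁) := Set.disjoint_left.2 fun y h h' => by
    obtain ⟨hy, T, hT, h1, h2⟩ := h'
    rcases h with h | ⟨-, c, d, -, h3, h4⟩
    · exact hy h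
    · exact pair_torus_disjoint hF hm hu hy hT.1 h3 h4 h1 h2
  have d3 : Disjoint ((stabilizer G a : Set G) ∪ A ∪ B k₁) (B k₂) := Set.disjoint_left.2 fun y h h' => by
    obtain ⟨hy, T, hT, h1, h2⟩ := h'
    rcases h with (h | ⟨-, c, d, -, h3, h4⟩) | ⟨-, T', hT', h3, h4⟩
    · exact hy h
    · exact pair_torus_disjoint hF hm hu hy hT.1 h3 h4 h1 h2
    · exact hk (by rw [← hT.2, torus_unique hF hm hu hy hT.1 hT'.1 h1 h2 h3 h4, hT'.2])
  rw [e, Set.ncard_union_eq d3, Set.ncard_union_eq d2, Set.ncard_union_eq d1, card_offTorus hF hm hx ha hu,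
    card_offTorus hF hm hx ha hu, ← Nat.card_coe_set_eq (stabilizer G a : Set G), SetLike.coe_sort_coe,
    card_stab hF hm]

theorem k_facts : ∃ k₁ k₂ : ℕ, k₁ = 2 ^ (2 * m + 1) + 2 ^ (m + 1) + 1 ∧ k₂ = 2 ^ (2 * m + 1) - 2 ^ (m + 1) + 1 ∧
    k₁ ≠ k₂ ∧ k₁ + k₂ = 2 * Fintype.card F + 2 ∧ 0 < k₁ ∧ 0 < k₂ ∧ k₁ * k₂ = Fintype.card F ^ 2 + 1 ∧
    (∀ T : Subgroup G, IsTorus T → Nat.card ↥T = k₁ ∨ Nat.card ↥T = k₂) := by
  have h1 : 2 ^ (m + 1) ≤ 2 ^ (2 * m + 1) := Nat.pow_le_pow_right (by norm_num) (by omega)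
  have h0 : 0 < 2 ^ (m + 1) := by positivity
  refine ⟨_, _, rfl, rfl, by generalize 2 ^ (2 * m + 1) = u at *; generalize 2 ^ (m + 1) = v at *; omega,
    by rw [hF]; generalize 2 ^ (2 * m + 1) = u at *; generalize 2 ^ (m + 1) = v at *; omega, by omega, by omega, ?_,
    fun T hT => (hT.facts hF hm).2.2.2.1⟩
  have h2 : (2 ^ (m + 1)) ^ 2 = 2 * 2 ^ (2 * m + 1) := by rw [← pow_mul, ← pow_succ']; congr 1; ring
  rw [hF]
  zify [h1] at h2 ⊢
  linear_combination -h2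

theorem card_sol_two {x : G} (hx : orderOf x = 2) :
    (sol x).ncard = Fintype.card F ^ 2 * (4 * Fintype.card F - 3) := by
  obtain ⟨a, ha, hu⟩ := involution_fixed hF hm hx
  obtain ⟨k₁, k₂, e1, e2, hne, hsum, hk1, hk2, -, hall⟩ := k_facts hF hm
  obtain ⟨h8, -⟩ := q_facts hF hm
  have hcount : ∀ k, k ∈ ({2 ^ (2 * m + 1) + 2 ^ (m + 1) + 1, 2 ^ (2 * m + 1) - 2 ^ (m + 1) + 1} : Set ℕ) →
      4 * toriCount k x = Fintype.card F ^ 2 := by
    intro k hk
    have h := toriCount_mul hF hm (k := k) (Or.inl rfl) hx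
      (fun y hy => toriCount_conj hF hm k (conj_involutions hF hm hy hx))
    rw [if_pos rfl, count_two hF hm] at h
    have h' := card_tori hF hm hk
    refine Nat.eq_of_mul_eq_mul_right (show 0 < (Fintype.card F ^ 2 + 1) * (Fintype.card F - 1) from
      Nat.mul_pos (by positivity) (by omega)) ?_
    rw [mul_assoc, h, ← mul_assoc (Fintype.card F ^ 2), ← h']
    ring
  have hD := card_offPair hF hm hx ha hu
  rw [sol_decomp hF hm (Or.inl hx) ha hu k₁ k₂ hne hall]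
  have c1 := hcount k₁ (Or.inl e1)
  have c2 := hcount k₂ (Or.inr e2)
  set D := {y : G | y • a ≠ a ∧ ∃ c d : Ω, c ≠ d ∧ x ∈ pairStab c d ∧ y ∈ pairStab c d}.ncard
  obtain ⟨t, ht⟩ : ∃ t, Fintype.card F = t + 2 := ⟨Fintype.card F - 2, by omega⟩
  rw [ht] at hD c1 c2 hsum ⊢
  obtain ⟨l₁, rfl⟩ : ∃ l, k₁ = l + 1 := ⟨k₁ - 1, by omega⟩
  obtain ⟨l₂, rfl⟩ : ∃ l, k₂ = l + 1 := ⟨k₂ - 1, by omega⟩
  have hs : l₁ + l₂ = 2 * t + 4 := by omega
  simp only [show t + 2 - 1 = t + 1 by omega, show 4 * (t + 2) - 3 = 4 * t + 5 by omega,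
    show 2 * (t + 1) - 2 = 2 * t by omega, show 4 * (l₁ + 1) - 4 = 4 * l₁ by omega,
    show 4 * (l₂ + 1) - 4 = 4 * l₂ by omega] at hD ⊢
  zify at hD c1 c2 hs ⊢
  linear_combination (1 / 2 : ℤ) * 0 + l₁ * c1 + l₂ * c2 + ((t : ℤ) + 2) ^ 2 * hs + (by linarith : (D : ℤ) = (t + 2) ^ 2 * t)

theorem card_sol_four {x : G} (hx : orderOf x = 4) :
    (sol x).ncard = Fintype.card F ^ 2 * (Fintype.card F + 3) := by
  obtain ⟨a, ha, hu⟩ := fixed_unique hF hm (Or.inr hx)
  obtain ⟨k₁, k₂, e1, e2, hne, hsum, hk1, hk2, -, hall⟩ := k_facts hF hm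
  obtain ⟨h8, -⟩ := q_facts hF hm
  have hD : {y : G | y • a ≠ a ∧ ∃ c d : Ω, c ≠ d ∧ x ∈ pairStab c d ∧ y ∈ pairStab c d} = ∅ := by
    refine Set.eq_empty_iff_forall_notMem.2 ?_
    rintro y ⟨-, c, d, hcd, h1, -⟩
    have h2 : orderOf (x ^ 2) = 2 := by rw [orderOf_pow' x two_ne_zero, hx]; rfl
    obtain ⟨b, -, hu2⟩ := involution_fixed hF hm h2
    rcases mem_pairStab.1 h1 with ⟨e, e'⟩ | ⟨e, e'⟩
    · exact hcd ((hu c e).trans (hu d e').symm)
    · exact hcd ((hu2 c (by rw [pow_two, mul_smul, e, e'])).trans (hu2 d (by rw [pow_two, mul_smul, e', e])).symm)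
  have hcount : ∀ k, k ∈ ({2 ^ (2 * m + 1) + 2 ^ (m + 1) + 1, 2 ^ (2 * m + 1) - 2 ^ (m + 1) + 1} : Set ℕ) →
      2 * toriCount k x = Fintype.card F := by
    intro k hk
    have hinv : toriCount k x⁻¹ = toriCount k x := by
      simp only [toriCount, inv_mem_iff]
    have h := toriCount_mul hF hm (k := k) (Or.inr rfl) hx (fun y hy => by
      rcases conj_order_four hF hm hx hy with h | h
      · exact (toriCount_conj hF hm k h).symm
      · exact (toriCount_conj hF hm k h).symm.trans hinv)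
    rw [if_neg (by norm_num), count_four hF hm] at h
    have h' := card_tori hF hm hk
    refine Nat.eq_of_mul_eq_mul_right (show 0 < (Fintype.card F ^ 2 + 1) * ((Fintype.card F - 1) * Fintype.card F) from
      Nat.mul_pos (by positivity) (Nat.mul_pos (by omega) (by omega))) ?_
    rw [mul_assoc, h]
    calc 2 * ((tori (m := m) (F := F) k).ncard * (2 * k)) = 4 * k * (tori (m := m) (F := F) k).ncard := by ring
      _ = _ := by rw [h']; ring
  rw [sol_decomp hF hm (Or.inr hx) ha hu k₁ k₂ hne hall, hD, Set.ncard_empty]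
  have c1 := hcount k₁ (Or.inl e1)
  have c2 := hcount k₂ (Or.inr e2)
  obtain ⟨t, ht⟩ : ∃ t, Fintype.card F = t + 2 := ⟨Fintype.card F - 2, by omega⟩
  rw [ht] at c1 c2 hsum ⊢
  obtain ⟨l₁, rfl⟩ : ∃ l, k₁ = l + 1 := ⟨k₁ - 1, by omega⟩
  obtain ⟨l₂, rfl⟩ : ∃ l, k₂ = l + 1 := ⟨k₂ - 1, by omega⟩
  have hs : l₁ + l₂ = 2 * t + 4 := by omega
  simp only [show t + 2 - 1 = t + 1 by omega, show 4 * (l₁ + 1) - 4 = 4 * l₁ by omega,
    show 4 * (l₂ + 1) - 4 = 4 * l₂ by omega, add_zero]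
  zify at c1 c2 hs ⊢
  linear_combination 2 * (l₁ : ℤ) * c1 + 2 * (l₂ : ℤ) * c2 + 2 * ((t : ℤ) + 2) * hs

theorem card_sol_split {x : G} (hx : x ≠ 1) (hd : orderOf x ∣ 2 ^ (2 * m + 1) - 1) :
    (sol x).ncard = 2 * Fintype.card F ^ 2 * (Fintype.card F - 1) := by
  rw [← hF] at hd
  obtain ⟨h8, he, -, hq⟩ := q_facts hF hm
  have ho : ¬ 2 ∣ orderOf x := fun h => by
    obtain ⟨r, hr⟩ := he
    have := h.trans hd
    omega
  obtain ⟨a, ha⟩ : ∃ a : Ω, x • a = a := by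
    by_contra hno
    push Not at hno
    obtain ⟨r, hr, hrd⟩ := Nat.exists_prime_and_dvd (fun h => hx (orderOf_eq_one_iff.1 h))
    exact (hq r hr (prime_dvd_of_fpf hF hm hno hr hrd)).2.2.1 (hrd.trans hd)
  obtain ⟨b, hab, hb, -⟩ := odd_two_fixed hF hm hx ho ha
  exact card_sol_pair hF hm hx ho hab.symm ha hb

theorem card_sol_torus {x : G} (hx : x ≠ 1) {k : ℕ}
    (hk : k ∈ ({2 ^ (2 * m + 1) + 2 ^ (m + 1) + 1, 2 ^ (2 * m + 1) - 2 ^ (m + 1) + 1} : Set ℕ))
    (hd : orderOf x ∣ k) : (sol x).ncard = 4 * k := by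
  obtain ⟨k₁, k₂, e1, e2, hne, -, hk1, hk2, hprod, hall⟩ := k_facts hF hm
  have hmem : k = k₁ ∨ k = k₂ := by rw [e1, e2]; exact hk
  have hkd : k ∣ Fintype.card F ^ 2 + 1 := by
    rw [← hprod]
    rcases hmem with rfl | rfl
    · exact dvd_mul_right _ _
    · exact dvd_mul_left _ _
  obtain ⟨r, hr, hrd⟩ := Nat.exists_prime_and_dvd (fun h => hx (orderOf_eq_one_iff.1 h))
  have hy := orderOf_pow_orderOf_div (orderOf_pos x).ne' hrd
  set T := Subgroup.centralizer ({x ^ (orderOf x / r)} : Set G) with hTdef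
  have hT : IsTorus T := ⟨r, _, hr, (hrd.trans hd).trans hkd, hy, rfl⟩
  have hxT : x ∈ T := Subgroup.mem_centralizer_singleton_iff.2 (Commute.self_pow x _).eq
  have hTk : Nat.card ↥T = k := by
    have hrT : r ∣ Nat.card ↥T := hrd.trans (Subgroup.orderOf_dvd_natCard T hxT)
    by_contra hne'
    -- the two orders are coprime
    have hboth : r ∣ k₁ ∧ r ∣ k₂ := by
      rcases hmem with h | h <;> rcases hall T hT with h' | h'
      · exact absurd (h'.trans h.symm) hne'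
      · exact ⟨h ▸ hrd.trans hd, h' ▸ hrT⟩
      · exact ⟨h' ▸ hrT, h ▸ hrd.trans hd⟩
      · exact absurd (h'.trans h.symm) hne'
    have hr2 := ((q_facts hF hm).2.2.2 r hr ((hrd.trans hd).trans hkd)).1
    have h3 : r ∣ k₁ - k₂ := Nat.dvd_sub hboth.1 hboth.2
    have h1 : 2 ^ (m + 1) ≤ 2 ^ (2 * m + 1) := Nat.pow_le_pow_right (by norm_num) (by omega)
    have h4 : k₁ - k₂ = 2 ^ (m + 2) := by
      rw [pow_succ _ (m + 1), e1, e2]
      generalize 2 ^ (2 * m + 1) = u at *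
      generalize 2 ^ (m + 1) = v at *
      omega
    rw [h4] at h3
    exact hr2 ((Nat.prime_dvd_prime_iff_eq hr Nat.prime_two).1 (hr.dvd_of_dvd_pow h3))
  rw [sol_of_torus hF hm hT hxT hx, ← Nat.card_coe_set_eq, SetLike.coe_sort_coe, (hT.facts hF hm).2.2.2.2, hTk]

omit hF hm in
theorem card_sol_congr {H : Type*} [Group H] (e : G ≃* H) (x : H) :
    Nat.card {y : H // Group.IsSolvable ↥(Subgroup.closure ({x, y} : Set H))} = (sol (e.symm x)).ncard := by
  rw [← Nat.card_coe_set_eq]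
  refine (Nat.card_congr (Equiv.subtypeEquiv e.toEquiv fun y => ?_)).symm
  show Group.IsSolvable ↥(Subgroup.closure ({e.symm x, y} : Set G)) ↔ Group.IsSolvable ↥(Subgroup.closure ({x, e y} : Set H))
  have h : (Subgroup.closure ({e.symm x, y} : Set G)).map e.toMonoidHom = Subgroup.closure ({x, e y} : Set H) := by
    rw [MonoidHom.map_closure]
    congr 1
    simp [Set.image_insert_eq]
  rw [← h]
  have e' := (e.subgroupMap (Subgroup.closure ({e.symm x, y} : Set G)))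
  exact ⟨fun hs => @Group.isSolvable_of_surjective _ _ _ _ e'.toMonoidHom e'.surjective hs,
    fun hs => @Group.isSolvable_of_surjective _ _ _ _ e'.symm.toMonoidHom e'.symm.surjective hs⟩

end Cfsg.Agent.SzSolvable
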