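import Cfsg.Agent.Lib.Lead.SuzukiTriangle
import Cfsg.Agent.Lib.Lead.SuzukiSolCount
import Cfsg.Agent.Lib.Lead.Helly

/-!
# The subgroups of the Suzuki groups with the intersection property
-/

set_option autoImplicit false

namespace Cfsg.Agent.SzBinary

open scoped commutatorElement

open MulAction Cfsg.Agent.Lie.Suzuki Cfsg.Agent.SzSolvable Cfsg.Agent.SzSubgroups Cfsg.Agent.Helly

variable {F : Type*} [Field F] {m : ℕ} [Fintype F] (hF : Fintype.card F = 2 ^ (2 * m + 1)) (hm : 1 ≤ m)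

local notation "G" => Cfsg.Sz F m
local notation "Ω" => Cfsg.suzukiOvoid F m

/-- A subgroup meeting its conjugates trivially. -/
def IsTI {X : Type*} [Group X] (K : Subgroup X) : Prop :=
  ∀ g e : X, e ≠ 1 → e ∈ K → g⁻¹ * e * g ∈ K → ∀ k, g⁻¹ * k * g ∈ K ↔ k ∈ K

theorem mem_map_conj {X : Type*} [Group X] {K : Subgroup X} {c e : X} :
    e ∈ K.map (MulAut.conj c).toMonoidHom ↔ c⁻¹ * e * c ∈ K := by
  rw [Subgroup.mem_map_equiv]; simp

theorem exists_isTI {X : Type*} [Group X] [Finite X] {H L : Subgroup X} (hL : IsForm H L) (hne : L ≠ ⊥) :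
    ∃ K : Subgroup X, IsForm H K ∧ K ≤ L ∧ K ≠ ⊥ ∧ IsTI K := by
  obtain ⟨K, h1, h2, h3, h4⟩ := exists_ti hL hne
  refine ⟨K, h1, h2, h3, fun g e he1 heK heg k => ?_⟩
  rcases h4 g with h | h
  · exact absurd (Subgroup.mem_bot.1 (h ▸ Subgroup.mem_inf.2 ⟨heK, mem_map_conj.2 heg⟩)) he1
  · rw [← mem_map_conj, h]

theorem IsTI.map {X : Type*} [Group X] {K : Subgroup X} (h : IsTI K) (c : X) :
    IsTI (K.map (MulAut.conj c).toMonoidHom) := by
  intro g e he1 he heg k
  rw [mem_map_conj] at he heg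
  rw [mem_map_conj, mem_map_conj]
  have := h (c⁻¹ * g * c) (c⁻¹ * e * c) (fun h' => he1 (by
      calc e = c * (c⁻¹ * e * c) * c⁻¹ := by group
        _ = 1 := by rw [h']; group)) he (by
      simpa [mul_assoc] using heg) (c⁻¹ * k * c)
  simpa [mul_assoc] using this

theorem IsTI.norm {X : Type*} [Group X] {K : Subgroup X} (h : IsTI K) {g e : X} (he1 : e ≠ 1) (he : e ∈ K)
    (heg : g * e * g⁻¹ ∈ K) : g ∈ Subgroup.normalizer (K : Set X) := by
  refine Subgroup.mem_set_normalizer_iff.2 fun k => ?_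
  have := h g⁻¹ e he1 he (by rwa [inv_inv]) k
  rw [inv_inv] at this
  exact this.symm

theorem map_conj_map {X : Type*} [Group X] (K : Subgroup X) (c d : X) :
    (K.map (MulAut.conj c).toMonoidHom).map (MulAut.conj d).toMonoidHom =
      K.map (MulAut.conj (d * c)).toMonoidHom := by
  ext e
  simp only [mem_map_conj]
  rw [show c⁻¹ * (d⁻¹ * e * d) * c = (d * c)⁻¹ * e * (d * c) by group]

include hF hm

theorem uSub_fix {e : G} (he : e ∈ uSub hF) : e • (oInf : Ω) = oInf := by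
  obtain ⟨a, b, rfl⟩ := he
  exact tS_oInf hF hm a b

theorem uSub_fix_unique {e : G} (he : e ∈ uSub hF) (he1 : e ≠ 1) {p : Ω} (hp : e • p = p) : p = oInf := by
  obtain ⟨a, b, rfl⟩ := he
  rcases point_cases p with rfl | ⟨x, y, rfl⟩
  · rfl
  · obtain ⟨rfl, rfl⟩ := tS_eq_one hF hm hp
    exact absurd (tS_zero hF) he1

theorem zSub_le : zSub (m := m) hF ≤ uSub hF := by
  rintro _ ⟨b, rfl⟩
  exact ⟨0, b, rfl⟩

theorem disjU {p q e : G} (hpq : p • (oInf : Ω) ≠ q • oInf) (hp : p⁻¹ * e * p ∈ uSub hF)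
    (hq : q⁻¹ * e * q ∈ uSub hF) : e = 1 := by
  by_contra he
  have h1 : p⁻¹ * e * p ≠ 1 := fun h' => he (by
    calc e = p * (p⁻¹ * e * p) * p⁻¹ := by group
      _ = 1 := by rw [h']; group)
  have h2 : e • (q • (oInf : Ω)) = q • oInf := by
    have := uSub_fix hF hm hq
    rwa [mul_smul, mul_smul, inv_smul_eq_iff] at this
  have h3 := uSub_fix_unique hF hm hp h1 (p := p⁻¹ • q • (oInf : Ω)) (by
    rw [mul_smul, mul_smul, smul_inv_smul, h2])
  exact hpq (inv_smul_eq_iff.1 h3).symm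

theorem stab_zSub {h x : G} (hh : h • (oInf : Ω) = oInf) (hx : x ∈ zSub hF) : h * x * h⁻¹ ∈ zSub hF := by
  obtain ⟨b, rfl⟩ := hx
  obtain ⟨c, d, k, rfl⟩ := exists_decomp hF hm hh
  refine ⟨(k : F) ^ (2 ^ (m + 1) + 1) * b, ?_⟩
  calc tS hF c d * dS hF k * tS hF 0 b * (tS hF c d * dS hF k)⁻¹
      = tS hF c d * (dS hF k * tS hF 0 b * (dS hF k)⁻¹) * (tS hF c d)⁻¹ := by group
    _ = tS hF 0 ((k : F) ^ (2 ^ (m + 1) + 1) * b) := by
        rw [tS_conj_dS hF hm, mul_zero, ← tS_zero_comm hF, mul_inv_cancel_right]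

theorem zSub_cases {e : G} (he : e ∈ zSub hF) : e * e = 1 := by
  obtain ⟨b, rfl⟩ := he
  exact SzTriangle.tS_zero_sq hF hm b

/-- The centre of a Sylow 2-subgroup has the intersection property. -/
theorem isHelly_zSub : IsHelly (zSub (m := m) hF) := by
  intro ι _ g x hpair
  rcases isEmpty_or_nonempty ι with hι | ⟨⟨i₀⟩⟩
  · exact ⟨1, fun i => isEmptyElim i⟩
  have hdiv : ∀ i e e', InC (zSub hF) (g i) (x i) e → InC (zSub hF) (g i) (x i) e' →
      (g i)⁻¹ * (e⁻¹ * e') * g i ∈ zSub hF := by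
    intro i e e' h h'
    have := mul_mem (inv_mem h) h'
    simpa [InC, mul_assoc] using this
  have hadd : ∀ i e e', InC (zSub hF) (g i) (x i) e → (g i)⁻¹ * (e⁻¹ * e') * g i ∈ zSub hF →
      InC (zSub hF) (g i) (x i) e' := by
    intro i e e' h h'
    have := mul_mem h h'
    simpa [InC, mul_assoc] using this
  have hsame : ∀ i j e, g i • (oInf : Ω) = g j • oInf → InC (zSub hF) (g i) (x i) e →
      InC (zSub hF) (g j) (x j) e := by
    intro i j e hij he
    obtain ⟨e₀, h1, h2⟩ := hpair i j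
    refine hadd j e₀ e h2 ?_
    have hh : ((g j)⁻¹ * g i) • (oInf : Ω) = oInf := by rw [mul_smul, hij, inv_smul_smul]
    have := stab_zSub hF hm hh (hdiv i e₀ e h1 he)
    simpa [mul_assoc] using this
  have huniq : ∀ i j e e', g i • (oInf : Ω) ≠ g j • oInf → InC (zSub hF) (g i) (x i) e →
      InC (zSub hF) (g j) (x j) e → InC (zSub hF) (g i) (x i) e' → InC (zSub hF) (g j) (x j) e' → e = e' := by
    intro i j e e' hij h1 h2 h3 h4
    exact inv_mul_eq_one.1 (disjU hF hm hij (zSub_le hF hm (hdiv i e e' h1 h3)) (zSub_le hF hm (hdiv j e e' h2 h4)))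
  by_cases hall : ∀ i, g i • (oInf : Ω) = g i₀ • oInf
  · obtain ⟨e, he, -⟩ := hpair i₀ i₀
    exact ⟨e, fun i => hsame i₀ i e (hall i).symm he⟩
  · push Not at hall
    obtain ⟨j₀, hj₀⟩ := hall
    obtain ⟨e₀, hi, hj⟩ := hpair i₀ j₀
    refine ⟨e₀, fun k => ?_⟩
    by_cases hk1 : g k • (oInf : Ω) = g i₀ • oInf
    · exact hsame i₀ k e₀ hk1.symm hi
    by_cases hk2 : g k • (oInf : Ω) = g j₀ • oInf
    · exact hsame j₀ k e₀ hk2.symm hj
    obtain ⟨e₁, hi1, hk'⟩ := hpair i₀ k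
    obtain ⟨e₂, hj2, hk''⟩ := hpair j₀ k
    set a := e₀⁻¹ * e₁ with ha
    set b := e₁⁻¹ * e₂ with hb
    set c := e₂⁻¹ * e₀ with hc
    by_cases ha1 : a = 1
    · rwa [inv_mul_eq_one.1 ha1]
    by_cases hb1 : b = 1
    · have h12 : e₁ = e₂ := inv_mul_eq_one.1 hb1
      rwa [huniq i₀ j₀ e₀ e₁ hj₀.symm hi hj hi1 (h12 ▸ hj2)]
    by_cases hc1 : c = 1
    · rwa [← inv_mul_eq_one.1 hc1]
    exfalso
    have hsq : ∀ i u, (g i)⁻¹ * u * g i ∈ zSub hF → u * u = 1 := by
      intro i u hu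
      have h := zSub_cases hF hm hu
      calc u * u = g i * ((g i)⁻¹ * u * g i * ((g i)⁻¹ * u * g i)) * (g i)⁻¹ := by group
        _ = 1 := by rw [h]; group
    have haa : a * a = 1 := hsq i₀ a (hdiv i₀ e₀ e₁ hi hi1)
    have hbb : b * b = 1 := hsq k b (hdiv k e₁ e₂ hk' hk'')
    have hcc : c * c = 1 := hsq j₀ c (hdiv j₀ e₂ e₀ hj2 hj)
    have habc : a * b = c⁻¹ := by rw [ha, hb, hc]; group
    have hab2 : a * b * (a * b) = 1 := by rw [habc, ← mul_inv_rev, hcc, inv_one]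
    have hab : b * a = a * b :=
      calc b * a = a * a * (b * a) * (b * b) := by rw [haa, hbb, one_mul, mul_one]
        _ = a * (a * b * (a * b)) * b := by group
        _ = a * b := by rw [hab2, mul_one]
    have hA := hdiv i₀ e₀ e₁ hi hi1
    have hA1 : (g i₀)⁻¹ * a * g i₀ ≠ 1 := fun h' => ha1 (by
      calc a = g i₀ * ((g i₀)⁻¹ * a * g i₀) * (g i₀)⁻¹ := by group
        _ = 1 := by rw [h']; group)
    have hB := hdiv k e₁ e₂ hk' hk''
    have hB1 : (g k)⁻¹ * b * g k ≠ 1 := fun h' => hb1 (by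
      calc b = g k * ((g k)⁻¹ * b * g k) * (g k)⁻¹ := by group
        _ = 1 := by rw [h']; group)
    have hafix : a • g i₀ • (oInf : Ω) = g i₀ • oInf := by
      have := uSub_fix hF hm (zSub_le hF hm hA)
      rwa [mul_smul, mul_smul, inv_smul_eq_iff] at this
    have h1 := uSub_fix_unique hF hm (zSub_le hF hm hA) hA1 (p := (g i₀)⁻¹ • b • g i₀ • (oInf : Ω)) (by
      rw [mul_smul, mul_smul, smul_inv_smul, ← mul_smul a b, ← hab, mul_smul, hafix])
    rw [inv_smul_eq_iff] at h1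
    have h2 := uSub_fix_unique hF hm (zSub_le hF hm hB) hB1 (p := (g k)⁻¹ • g i₀ • (oInf : Ω)) (by
      rw [mul_smul, mul_smul, smul_inv_smul, h1])
    exact hk1 (inv_smul_eq_iff.1 h2).symm

/-- An involution inverting an element of odd order. -/
theorem exists_inverting {d : G} (hd : d ≠ 1) (ho : ¬ 2 ∣ orderOf d) :
    ∃ w : G, orderOf w = 2 ∧ w * d * w⁻¹ = d⁻¹ := by
  obtain ⟨g, b, c, hb, -, e⟩ := SzTriangle.exists_form hF hm hd ho
  set i := tS (m := m) hF 0 b
  set j := wS (m := m) hF * tS hF 0 c * wS hF with hj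
  refine ⟨g⁻¹ * i * g⁻¹⁻¹, by rw [SzSolvable.orderOf_conj hF hm, SzTriangle.orderOf_tS_zero hF hm hb], ?_⟩
  have hii : i⁻¹ = i := inv_eq_of_mul_eq_one_right (SzTriangle.tS_zero_sq hF hm b)
  have hjj : j⁻¹ = j := by
    rw [hj, mul_inv_rev, mul_inv_rev, wS_inv, inv_eq_of_mul_eq_one_right (SzTriangle.tS_zero_sq hF hm c)]
    group
  have e' : d = g⁻¹ * (i * j) * g := by rw [← e]; group
  rw [e']
  calc g⁻¹ * i * g⁻¹⁻¹ * (g⁻¹ * (i * j) * g) * (g⁻¹ * i * g⁻¹⁻¹)⁻¹ = g⁻¹ * ((i * i) * j * i⁻¹) * g := by group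
    _ = g⁻¹ * (j⁻¹ * i⁻¹) * g := by rw [SzTriangle.tS_zero_sq hF hm b, one_mul, hjj]
    _ = (g⁻¹ * (i * j) * g)⁻¹ := by group

/-- An involution inverting an element of odd order moves its fixed points. -/
theorem inverting_moves {d w : G} (hd : d ≠ 1) (ho : ¬ 2 ∣ orderOf d) (hw : orderOf w = 2)
    (hwd : w * d * w⁻¹ = d⁻¹) {p : Ω} (hp : d • p = p) : w • p ≠ p := by
  intro hwp
  obtain ⟨p', hp', hu⟩ := involution_fixed hF hm hw
  obtain ⟨q, hqp, hdq, hall⟩ := odd_two_fixed hF hm hd ho hp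
  have h1 : d • (w • q) = w • q := by
    have h2 : d = (w * d * w⁻¹)⁻¹ := by rw [hwd, inv_inv]
    have h3 : (w * d * w⁻¹) • (w • q) = w • q := by rw [mul_smul, mul_smul, inv_smul_smul, hdq]
    rw [h2, inv_smul_eq_iff, h3]
  rcases hall _ h1 with h | h
  · exact hqp (smul_left_cancel w (h.trans hwp.symm))
  · exact hqp ((hu q h).trans (hu p hwp).symm)

/-- Two-elements fixing the point at infinity are translations. -/
theorem two_power_fix {g : G} {n : ℕ} (h : g • (oInf : Ω) = oInf) (hn : g ^ 2 ^ n = 1) : g ∈ uSub hF := by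
  obtain ⟨a, b, k, rfl⟩ := exists_decomp hF hm h
  have key : ∀ i : ℕ, ∃ c d : F, (tS hF a b * dS hF k) ^ i = tS hF c d * dS hF (k ^ i) := by
    intro i
    induction i with
    | zero => exact ⟨0, 0, by rw [pow_zero, pow_zero, map_one, tS_zero hF, one_mul]⟩
    | succ i ih =>
      obtain ⟨c, d, e⟩ := ih
      exact ⟨_, _, by rw [pow_succ, e, decomp_mul hF hm, ← pow_succ]⟩
  obtain ⟨c, d, e⟩ := key (2 ^ n)
  have e' : tS (m := m) hF 0 0 * dS hF 1 = tS hF c d * dS hF (k ^ 2 ^ n) := by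
    rw [← e, hn, tS_zero hF, map_one, mul_one]
  have hk4 := (decomp_unique hF hm e').2.2.symm
  have hk : k = 1 := by
    classical
    have h1 : orderOf k ∣ Nat.gcd (2 ^ n) (Fintype.card F - 1) :=
      Nat.dvd_gcd (orderOf_dvd_of_pow_eq_one hk4) (by rw [← Fintype.card_units]; exact orderOf_dvd_card)
    have h2 : Nat.Coprime (2 ^ n) (Fintype.card F - 1) := by
      refine Nat.Coprime.pow_left n ?_
      rw [Nat.prime_two.coprime_iff_not_dvd]
      obtain ⟨h8, he, -⟩ := q_facts hF hm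
      obtain ⟨r, hr⟩ := he
      omega
    rw [h2.gcd_eq_one] at h1
    exact orderOf_eq_one_iff.1 (Nat.dvd_one.1 h1)
  exact ⟨a, b, by rw [hk, map_one, mul_one]⟩

/-- A subgroup fixing the point at infinity without elements of odd order consists of translations. -/
theorem le_uSub {K : Subgroup G} (hfix : ∀ e ∈ K, e • (oInf : Ω) = oInf)
    (hodd : ∀ d ∈ K, d ≠ 1 → 2 ∣ orderOf d) : K ≤ uSub hF := by
  intro e he
  obtain ⟨v, o, ho, heq⟩ := Nat.exists_eq_pow_mul_and_not_dvd (orderOf_pos e).ne' 2 (by norm_num)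
  refine two_power_fix hF hm (n := v) (hfix e he) ?_
  by_contra h1
  refine ho ((hodd _ (pow_mem he _) h1).trans ?_)
  exact orderOf_dvd_of_pow_eq_one (by rw [← pow_mul, ← heq, pow_orderOf_eq_one])

theorem normal_eq_top {M : Subgroup G} {z : G} (hz : z ≠ 1) (h : ∀ g : G, g * z * g⁻¹ ∈ M) : M = ⊤ := by
  haveI := sz_simple hF hm
  rcases (Subgroup.normalClosure_normal (s := ({z} : Set G))).eq_bot_or_eq_top with h1 | h1
  · exact absurd (Subgroup.mem_bot.1 (h1 ▸ Subgroup.subset_normalClosure (Set.mem_singleton z))) hz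
  · refine top_le_iff.1 (h1 ▸ ?_)
    refine (Subgroup.closure_le (k := Group.conjugatesOfSet ({z} : Set G)) M).2 ?_
    intro y hy
    obtain ⟨z', hz', hc⟩ := Group.mem_conjugatesOfSet_iff.1 hy
    obtain ⟨g, rfl⟩ := isConj_iff.1 hc
    obtain rfl : z' = z := hz'
    exact h g

theorem wt_pow_four : (wS (m := m) hF * tS hF (1 : F) 0) ^ 4 = 1 := by
  haveI := charTwo hF
  set g := wS (m := m) hF * tS hF (1 : F) 0 with hg
  have hM : ((g : Matrix.SpecialLinearGroup (Fin 4) F) : Matrix (Fin 4) (Fin 4) F) =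
      !![0, 0, 0, 1; 0, 0, 1, 1; 0, 1, 1, 0; 1, 1, 1, 1] := by
    rw [hg, Subgroup.coe_mul, Matrix.SpecialLinearGroup.coe_mul]
    show (wM F : Matrix (Fin 4) (Fin 4) F) * tMat m 1 0 = _
    ext i j
    fin_cases i <;> fin_cases j <;>
      simp [tMat, wM, fv, zero_pow, Matrix.mul_apply, Fin.sum_univ_four]
  have hM2 : !![(0 : F), 0, 0, 1; 0, 0, 1, 1; 0, 1, 1, 0; 1, 1, 1, 1] * !![0, 0, 0, 1; 0, 0, 1, 1; 0, 1, 1, 0; 1, 1, 1, 1] =
      !![1, 1, 1, 1; 1, 0, 0, 1; 0, 1, 0, 1; 1, 0, 1, 1] := by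
    ext i j
    fin_cases i <;> fin_cases j <;>
      simp [Matrix.mul_apply, Fin.sum_univ_four, CharTwo.add_self_eq_zero]
  have hM4 : !![(1 : F), 1, 1, 1; 1, 0, 0, 1; 0, 1, 0, 1; 1, 0, 1, 1] * !![1, 1, 1, 1; 1, 0, 0, 1; 0, 1, 0, 1; 1, 0, 1, 1] = 1 := by
    ext i j
    fin_cases i <;> fin_cases j <;>
      simp [Matrix.mul_apply, Fin.sum_univ_four, CharTwo.add_self_eq_zero]
  rw [show g ^ 4 = g * g * (g * g) by simp only [pow_succ, pow_zero, one_mul, mul_assoc]]
  apply Subtype.ext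
  apply Subtype.ext
  rw [Subgroup.coe_mul, Subgroup.coe_mul, Matrix.SpecialLinearGroup.coe_mul, Matrix.SpecialLinearGroup.coe_mul, hM, hM2, hM4]
  rfl

/-- Translation groups above the centre do not have the intersection property. -/
theorem not_helly_U {K : Subgroup G} (hZK : zSub hF ≤ K) (hKU : K ≤ uSub hF) (hne : K ≠ zSub hF) :
    ¬ IsHelly K := by
  intro hK
  obtain ⟨a, b, ha, hab⟩ : ∃ a b : F, a ≠ 0 ∧ tS hF a b ∈ K := by
    by_contra hno
    push Not at hno
    refine hne (le_antisymm (fun e he => ?_) hZK)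
    obtain ⟨a, b, rfl⟩ := hKU he
    exact ⟨b, by rw [show a = 0 from by_contra fun h => hno a b h he]⟩
  set k : Fˣ := Units.mk0 a⁻¹ (inv_ne_zero ha) with hk
  set L := K.map (MulAut.conj (dS (m := m) hF k)).toMonoidHom with hLdef
  have hL : IsHelly L := (isHelly_map_iff (MulAut.conj (dS hF k)) K).2 hK
  have hdk : (dS (m := m) hF k)⁻¹ • (oInf : Ω) = oInf := by rw [inv_smul_eq_iff, dS_oInf hF hm]
  have hZL : zSub hF ≤ L := fun e he => mem_map_conj.2 (hZK (by
    simpa using stab_zSub hF hm hdk he))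
  have hLU : L ≤ uSub hF := by
    rintro _ ⟨e, he, rfl⟩
    obtain ⟨c, d, rfl⟩ := hKU he
    exact ⟨_, _, tS_conj_dS hF hm k c d⟩
  have ht : tS hF 1 0 ∈ L := by
    have h0 : tS hF 1 ((k : F) ^ (2 ^ (m + 1) + 1) * b) ∈ L := by
      refine ⟨_, hab, ?_⟩
      show dS hF k * tS hF a b * (dS hF k)⁻¹ = _
      rw [tS_conj_dS hF hm, hk, Units.val_mk0, inv_mul_cancel₀ ha]
    have := mul_mem h0 (hZL ⟨(k : F) ^ (2 ^ (m + 1) + 1) * b, rfl⟩)
    rwa [tS_mul hF, add_zero, mul_zero, add_zero, add_self hF] at this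
  set t := tS (m := m) hF (1 : F) 0 with htdef
  have hw2 : orderOf (wS (m := m) hF) = 2 := by
    haveI : Fact (Nat.Prime 2) := ⟨Nat.prime_two⟩
    refine orderOf_eq_prime (by rw [pow_two, wS_mul_self]) fun e => ?_
    have := congrArg (fun u : G => u • (oInf : Ω)) e
    simp only [wS_oInf hF hm, one_smul] at this
    exact oPt_ne 0 0 this
  obtain ⟨p, hp⟩ := isConj_iff.1 (conj_involutions hF hm (SzTriangle.orderOf_tS_zero hF hm (one_ne_zero : (1 : F) ≠ 0)) hw2)
  have ht1 : t ≠ 1 := by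
    rw [htdef, ← tS_zero hF]
    exact fun h => one_ne_zero (Small.SuzukiAut.tS_injective hF h).1
  have htU : t ∈ uSub hF := ⟨1, 0, rfl⟩
  have hwt4 : (wS hF * t) ^ 4 = 1 := wt_pow_four hF hm
  have hwt2 : ¬ (wS hF * t) ^ 2 ^ 1 = 1 := by
    rw [pow_one, pow_two]
    intro h
    have h2 : (t⁻¹) • (oPt (m := m) (0 : F) 0) = oPt (0 : F) 0 := by
      have h3 : t⁻¹ = wS hF * t * wS hF := by
        refine inv_eq_of_mul_eq_one_left ?_
        rw [← h]; group
      rw [h3, mul_smul, mul_smul, wS_oPt_zero hF hm, htdef, tS_oInf hF hm, wS_oInf hF hm]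
    exact oPt_ne 0 0 (uSub_fix_unique hF hm (inv_mem htU) (inv_ne_one.2 ht1) h2)
  have hwto : orderOf (wS hF * t) = 4 := by
    haveI : Fact (Nat.Prime 2) := ⟨Nat.prime_two⟩
    exact orderOf_eq_prime_pow (n := 1) hwt2 hwt4
  have hto : orderOf t = 4 := (tS_order hF hm 1 0).2.2 one_ne_zero
  obtain ⟨r, e, he, hr⟩ : ∃ r e : G, e ∈ L ∧ r * e * r⁻¹ = wS hF * t := by
    rcases conj_order_four hF hm hto hwto with h | h
    · obtain ⟨r, hr⟩ := isConj_iff.1 h; exact ⟨r, t, ht, hr⟩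
    · obtain ⟨r, hr⟩ := isConj_iff.1 h; exact ⟨r, t⁻¹, inv_mem ht, hr⟩
  have hwp : wS hF • (p • (oInf : Ω)) = p • oInf := by
    rw [← hp, mul_smul, mul_smul, inv_smul_smul, tS_oInf hF hm]
  have hpI : p • (oInf : Ω) ≠ oInf := by
    intro h
    rw [h, wS_oInf hF hm] at hwp
    exact oPt_ne 0 0 hwp
  have hpr : p • (oInf : Ω) ≠ r • oInf := by
    intro h
    have h1 : (wS hF * t) • (p • (oInf : Ω)) = p • oInf := by
      rw [← hr, h, mul_smul, mul_smul, inv_smul_smul, uSub_fix hF hm (hLU he)]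
    rw [mul_smul] at h1
    exact hpI (uSub_fix_unique hF hm htU ht1 (smul_left_cancel _ (h1.trans hwp.symm)))
  refine not_helly_of_triangle (p := p) (q := 1) (r := r) (a := wS hF) (b := t) ?_ ?_ (by simpa using ht) ?_ ?_ ?_ hL
  · intro h; rw [h, orderOf_one] at hw2; omega
  · rw [← hp]
    simpa [mul_assoc] using hZL ⟨1, rfl⟩
  · rw [← hr]; simpa [mul_assoc] using he
  · intro e' h1 h2
    exact disjU hF hm (p := p) (q := 1) (by rwa [one_smul]) (hLU h1) (hLU h2)
  · intro e' h1 h2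
    exact disjU hF hm hpr (hLU h1) (hLU h2)

omit hm in
theorem ker_facts {a c : F} (ha : a ≠ 0) (h : a ^ 2 ^ (m + 1) * c + c ^ 2 ^ (m + 1) * a = 0) :
    c = 0 ∨ c = a := by
  have h1 : (c / a) ^ 2 ^ (m + 1) = c / a := by
    rw [div_pow, div_eq_div_iff (pow_ne_zero _ ha) ha]
    linear_combination h - a ^ 2 ^ (m + 1) * c * two_eq_zero hF
  have h2 : (c / a) * (c / a) = c / a := by
    have := sg_sg hF (c / a)
    rw [h1, h1, sq] at this
    exact this.symm
  rcases eq_or_ne (c / a) 0 with h0 | h0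
  · rcases div_eq_zero_iff.1 h0 with h3 | h3
    · exact Or.inl h3
    · exact absurd h3 ha
  · exact Or.inr ((div_eq_one_iff_eq ha).1 ((mul_eq_left₀ h0).1 h2))

set_option maxHeartbeats 1000000 in
/-- A minimal form with a central involution is the centre. -/
theorem ti_eq_zSub {K : Subgroup G} (hK : IsHelly K) (hTI : IsTI K) (hne : K ≠ ⊤) {b₀ : F} (hb₀ : b₀ ≠ 0)
    (hz : tS hF 0 b₀ ∈ K) : K = zSub hF := by
  classical
  set z := tS (m := m) hF 0 b₀ with hzdef
  have hz1 : z ≠ 1 := by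
    rw [hzdef, ← tS_zero hF]; exact fun h => hb₀ (Small.SuzukiAut.tS_injective hF h).2
  set N := Subgroup.normalizer (K : Set G)
  have hUN : uSub hF ≤ N := by
    rintro _ ⟨a, b, rfl⟩
    exact hTI.norm hz1 hz (by rw [hzdef, ← tS_zero_comm hF, mul_inv_cancel_right]; exact hz)
  have hfix : ∀ n ∈ N, n • (oInf : Ω) = oInf := by
    intro n hn
    by_contra hmove
    haveI := sz_simple hF hm
    have hN : N = ⊤ := normal_eq_top hF hm hz1 fun g => by
      rcases point_cases (g • (oInf : Ω)) with hg | ⟨x, y, hg⟩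
      · exact hUN (zSub_le hF hm (stab_zSub hF hm hg ⟨b₀, rfl⟩))
      · obtain ⟨x₀, y₀, hn0⟩ := (point_cases (n • (oInf : Ω))).resolve_left hmove
        set n' := tS (m := m) hF x y * (tS hF x₀ y₀)⁻¹ * n with hn'
        have hnN : n' ∈ N := mul_mem (mul_mem (hUN ⟨x, y, rfl⟩) (inv_mem (hUN ⟨x₀, y₀, rfl⟩))) hn
        have hh : (n'⁻¹ * g) • (oInf : Ω) = oInf := by
          rw [mul_smul, inv_smul_eq_iff, hg, hn', mul_smul, mul_smul, hn0, ← tS_oPt_zero hF hm x₀ y₀,
            inv_smul_smul, tS_oPt_zero hF hm]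
        have h1 := mul_mem (mul_mem hnN (hUN (zSub_le hF hm (stab_zSub hF hm hh (x := z) ⟨b₀, rfl⟩))))
          (inv_mem hnN)
        simpa [mul_assoc] using h1
    haveI hnorm : K.Normal := Subgroup.normalizer_eq_top_iff.1 hN
    rcases hnorm.eq_bot_or_eq_top with h | h
    · exact hz1 (Subgroup.mem_bot.1 (h ▸ hz))
    · exact hne h
  have hKN : K ≤ N := Subgroup.le_normalizer
  have hKU : K ≤ uSub hF := by
    refine le_uSub hF hm (fun e he => hfix e (hKN he)) fun d hd hd1 => ?_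
    by_contra ho
    obtain ⟨w, hw, hwd⟩ := exists_inverting hF hm hd1 ho
    have hwN : w ∈ N := hTI.norm hd1 hd (by rw [hwd]; exact inv_mem hd)
    exact inverting_moves hF hm hd1 ho hw hwd (hfix d (hKN hd)) (hfix w hwN)
  let B : AddSubgroup F :=
    { carrier := {b | tS hF 0 b ∈ K}
      zero_mem' := by show tS hF 0 0 ∈ K; rw [tS_zero hF]; exact one_mem _
      add_mem' := fun {x y} hx hy => by
        show tS hF 0 (x + y) ∈ K
        have := mul_mem (show tS hF 0 x ∈ K from hx) (show tS hF 0 y ∈ K from hy)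
        rwa [tS_mul hF, add_zero, zero_pow (pow_ne_zero _ two_ne_zero), zero_mul, add_zero] at this
      neg_mem' := fun {x} hx => by show tS hF 0 (-x) ∈ K; rw [neg_eq hF]; exact hx }
  have hscale : ∀ (μ : F) (x : F), x ≠ 0 → x ∈ B → μ * x ∈ B → μ ≠ 0 → ∀ y ∈ B, μ * y ∈ B := by
    intro μ x hx0 hx hμx hμ y hy
    obtain ⟨l, hl⟩ : ∃ l : F, l ^ (2 ^ (m + 1) + 1) = μ := ⟨_, (sg_add_one_left_inv hF μ).1⟩
    have hl0 : l ≠ 0 := fun e => hμ (by rw [← hl, e, zero_pow (Nat.succ_ne_zero _)])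
    have hc : ∀ u : F, dS hF (Units.mk0 l hl0) * tS hF 0 u * (dS hF (Units.mk0 l hl0))⁻¹ = tS hF 0 (μ * u) := by
      intro u; rw [tS_conj_dS hF hm, mul_zero, Units.val_mk0, hl]
    have hx1 : tS (m := m) hF 0 x ≠ 1 := by
      rw [← tS_zero hF]; exact fun h => hx0 (Small.SuzukiAut.tS_injective hF h).2
    have hn := hTI.norm hx1 hx (g := dS hF (Units.mk0 l hl0)) (by rw [hc]; exact hμx)
    have := (Subgroup.mem_set_normalizer_iff.1 hn (tS hF 0 y)).1 (hy : y ∈ B)
    rw [hc] at this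
    exact this
  have hfull : B = ⊤ → zSub hF ≤ K := by
    rintro hB _ ⟨b, rfl⟩
    exact (hB ▸ AddSubgroup.mem_top b : b ∈ B)
  by_cases hall : K ≤ zSub hF
  · refine le_antisymm hall ?_
    by_contra hnle
    obtain ⟨v, hv⟩ : ∃ v : F, v ∉ B := by
      by_contra hno
      push Not at hno
      exact hnle (hfull (by ext b; simpa using hno b))
    have hav : b₀ + v ∉ B := fun h => hv (by
      have := B.add_mem (hz : b₀ ∈ B) h
      rwa [← add_assoc, add_self hF, zero_add] at this)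
    have hsep : ∀ v' : F, v' ∉ B → ∃ c : G, c * z * c⁻¹ = tS hF 0 v' ∧ ∀ e, e ∈ K → c⁻¹ * e * c ∈ K → e = 1 := by
      intro v' hv'
      have hv0 : v' ≠ 0 := fun h => hv' (h ▸ B.zero_mem)
      obtain ⟨l, hl⟩ : ∃ l : F, l ^ (2 ^ (m + 1) + 1) = v' / b₀ := ⟨_, (sg_add_one_left_inv hF _).1⟩
      have hl0 : l ≠ 0 := fun e => div_ne_zero hv0 hb₀ (by rw [← hl, e, zero_pow (Nat.succ_ne_zero _)])
      have hcz : dS hF (Units.mk0 l hl0) * z * (dS hF (Units.mk0 l hl0))⁻¹ = tS hF 0 v' := by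
        rw [hzdef, tS_conj_dS hF hm, mul_zero, Units.val_mk0, hl, div_mul_cancel₀ _ hb₀]
      refine ⟨_, hcz, fun e he hce => by_contra fun he1 => hv' ?_⟩
      show tS hF 0 v' ∈ K
      rw [← hcz]
      refine (hTI _ e he1 he hce _).1 ?_
      simpa [mul_assoc] using hz
    obtain ⟨q, hq, hqK⟩ := hsep v hv
    obtain ⟨r, hr, hrK⟩ := hsep _ hav
    refine not_helly_of_triangle (p := 1) (q := q) (r := r) (a := z) (b := tS hF 0 v) hz1 (by simpa using hz) ?_ ?_ ?_ ?_ hK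
    · rw [← hq]; simpa [mul_assoc] using hz
    · rw [show z * tS hF 0 v = tS hF 0 (b₀ + v) by
        rw [hzdef, tS_mul hF, add_zero, zero_pow (pow_ne_zero _ two_ne_zero), zero_mul, add_zero], ← hr]
      simpa [mul_assoc] using hz
    · intro e h1 h2; exact hqK e (by simpa using h1) h2
    · intro e h1 h2; exact hrK e (by simpa using h1) h2
  · exfalso
    obtain ⟨u, hu, huz⟩ := SetLike.not_le_iff_exists.1 hall
    obtain ⟨a, b, rfl⟩ := hKU hu
    have ha : a ≠ 0 := fun h => huz ⟨b, by rw [h]⟩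
    let ψ : F →+ F :=
      { toFun := fun c => a ^ 2 ^ (m + 1) * c + c ^ 2 ^ (m + 1) * a
        map_zero' := by simp [zero_pow (pow_ne_zero (m + 1) (two_ne_zero : (2 : ℕ) ≠ 0))]
        map_add' := fun c d => by rw [add_pow_sg hF]; ring }
    have hψ : ψ.range ≤ B := by
      rintro _ ⟨c, rfl⟩
      show tS hF 0 (a ^ 2 ^ (m + 1) * c + c ^ 2 ^ (m + 1) * a) ∈ K
      rw [← comm_tS hF a b c 0, show ⁅tS (m := m) hF a b, tS hF c 0⁆ =
        tS hF a b * (tS hF c 0 * (tS hF a b)⁻¹ * (tS hF c 0)⁻¹) by rw [commutatorElement_def]; group]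
      exact mul_mem hu ((Subgroup.mem_set_normalizer_iff.1 (hUN ⟨c, 0, rfl⟩) _).1 (inv_mem hu))
    have hker : Nat.card ψ.ker ≤ 2 := by
      have h2 : Nat.card ψ.ker ≤ Nat.card ({0, a} : Set F) := by
        refine Nat.card_le_card_of_injective (fun c => ⟨(c : F), ?_⟩) ?_
        · rcases ker_facts hF ha (AddMonoidHom.mem_ker.1 c.2) with h | h <;> simp [h]
        · intro c c' h
          exact Subtype.ext (congrArg (fun w : ({0, a} : Set F) => (w : F)) h)
      refine h2.trans ?_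
      rw [Nat.card_coe_set_eq]
      exact (Set.ncard_insert_le _ _).trans (by rw [Set.ncard_singleton])
    have hcard : Nat.card F ≤ 2 * Nat.card B := by
      calc Nat.card F = Nat.card (F ⧸ ψ.ker) * Nat.card ψ.ker := AddSubgroup.card_eq_card_quotient_mul_card_addSubgroup _
        _ = Nat.card ψ.range * Nat.card ψ.ker := by rw [Nat.card_congr (QuotientAddGroup.quotientKerEquivRange ψ).toEquiv]
        _ ≤ Nat.card B * 2 := Nat.mul_le_mul (Nat.card_le_card_of_injective _ (AddSubgroup.inclusion_injective hψ)) hker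
        _ = _ := mul_comm _ _
    obtain ⟨h8, -⟩ := q_facts hF hm
    have htop : B = ⊤ := by
      refine eq_top_iff.2 fun v _ => ?_
      by_contra hv
      have hv0 : v ≠ 0 := fun h => hv (h ▸ B.zero_mem)
      set μ := v / b₀ with hμ
      have hμ0 : μ ≠ 0 := div_ne_zero hv0 hb₀
      obtain ⟨x, hx, hx0, hμx⟩ : ∃ x ∈ B, x ≠ 0 ∧ μ * x ∈ B := by
        by_contra hno
        push Not at hno
        have hinj : Function.Injective (fun z : ↥B × ↥B => (z.1 : F) + μ * (z.2 : F)) := by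
          rintro ⟨x₁, y₁⟩ ⟨x₂, y₂⟩ h
          have e : μ * ((y₁ : F) - y₂) = (x₂ : F) - x₁ := by linear_combination h
          have hy : (y₁ : F) = y₂ := by
            by_contra hy
            exact hno _ (sub_mem y₁.2 y₂.2) (sub_ne_zero.2 hy) (e ▸ sub_mem x₂.2 x₁.2)
          have hx : (x₁ : F) = x₂ := by
            rw [hy, sub_self, mul_zero] at e
            exact (sub_eq_zero.1 e.symm).symm
          exact Prod.ext (Subtype.ext hx) (Subtype.ext hy)
        have h1 := Nat.card_le_card_of_injective _ hinj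
        rw [Nat.card_prod] at h1
        rw [Nat.card_eq_fintype_card (α := F)] at hcard h1
        nlinarith
      exact hv (by
        have := hscale μ x hx0 hx hμx hμ0 b₀ hz
        rwa [hμ, div_mul_cancel₀ _ hb₀] at this)
    exact not_helly_U hF hm (hfull htop) hKU (fun h => hall h.le) hK

/-- A subgroup of odd order is commutative. -/
theorem odd_comm {K : Subgroup G} (hodd : ∀ d ∈ K, ¬ 2 ∣ orderOf d) {x y : G} (hx : x ∈ K) (hy : y ∈ K) :
    x * y = y * x := by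
  have hsol : Group.IsSolvable ↥K := by
    haveI : IsZGroup ↥K := by
      refine ⟨fun p hp P => ?_⟩
      haveI := Fact.mk hp
      rcases eq_or_ne p 2 with rfl | hp2
      · obtain ⟨n, hn⟩ := IsPGroup.iff_card.1 P.2
        rcases n with _ | n
        · rw [Subgroup.card_eq_one.1 (hn.trans (pow_zero 2))]; infer_instance
        · obtain ⟨i, hi⟩ : ∃ i : (P : Subgroup ↥K), orderOf i = 2 :=
            exists_prime_orderOf_dvd_card' 2 (hn ▸ dvd_pow_self 2 n.succ_ne_zero)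
          refine absurd ?_ (hodd _ (i : ↥K).2)
          rw [Subgroup.orderOf_coe, Subgroup.orderOf_coe, hi]
      · obtain ⟨Q, hQ⟩ := (P.2.map K.subtype).exists_le_sylow
        haveI := sylow_cyclic hF hm hp2 Q
        exact isCyclic_of_injective ((Subgroup.inclusion hQ).comp (K.subtype.subgroupMap (P : Subgroup ↥K)))
          ((Subgroup.inclusion_injective hQ).comp fun x y h => Subtype.ext (K.subtype_injective (Subtype.ext_iff.1 h :)))
    infer_instance
  rcases solvable_cases hF hm hsol with ⟨a, ha⟩ | ⟨a, b, hab, hle⟩ | ⟨T, hT, hle⟩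
  · obtain ⟨c, hc⟩ := (sz_pretransitive (m := m) hF).exists_smul_eq a (oInf : Ω)
    have hf : ∀ u ∈ K, (c * u * c⁻¹) • (oInf : Ω) = oInf := fun u hu => by
      rw [← hc, mul_smul, mul_smul, inv_smul_smul, mem_stabilizer_iff.1 (ha hu)]
    obtain ⟨a₁, b₁, k, e₁⟩ := exists_decomp hF hm (hf x hx)
    obtain ⟨a₂, b₂, l, e₂⟩ := exists_decomp hF hm (hf y hy)
    have hd := mul_mem (mul_mem hx hy) (inv_mem (mul_mem hy hx))
    by_contra hne
    have hd1 : x * y * (y * x)⁻¹ ≠ 1 := fun h => hne (mul_inv_eq_one.1 h)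
    have hU : c * (x * y * (y * x)⁻¹) * c⁻¹ ∈ uSub hF := by
      rw [show c * (x * y * (y * x)⁻¹) * c⁻¹ =
        c * x * c⁻¹ * (c * y * c⁻¹) * (c * y * c⁻¹ * (c * x * c⁻¹))⁻¹ by group, e₁, e₂,
        decomp_mul hF hm, decomp_mul hF hm, mul_comm l k, mul_inv_rev, mul_assoc, mul_inv_cancel_left]
      exact mul_mem ⟨_, _, rfl⟩ (inv_mem ⟨_, _, rfl⟩)
    have h4 := orderOf_dvd_of_pow_eq_one (uSub_pow_four hF hU)
    rw [SzSolvable.orderOf_conj hF hm] at h4
    have h5 := hodd _ hd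
    obtain ⟨j, -, hj⟩ := (Nat.dvd_prime_pow Nat.prime_two).1 (show _ ∣ 2 ^ 2 from h4)
    rcases j with _ | j
    · exact hd1 (orderOf_eq_one_iff.1 (by rw [hj, pow_zero]))
    · exact h5 (by rw [hj]; exact dvd_pow_self 2 j.succ_ne_zero)
  · haveI hcyc := pairTorus_isCyclic hF hm hab
    exact congrArg Subtype.val (hcyc.commGroup.mul_comm
      (⟨x, smul_a_of_odd (hle hx) (hodd x hx)⟩ : pairTorus a b) ⟨y, smul_a_of_odd (hle hy) (hodd y hy)⟩)
  · obtain ⟨g, -, -, hord, hrep⟩ := normalizer_structure hF hm hT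
    have hmem : ∀ u ∈ K, u ∈ T := by
      intro u hu
      obtain ⟨i, hi, t, ht, e⟩ := hrep u (hle hu)
      have ho := hodd u hu
      obtain ⟨h1, h2, h3⟩ := hord t ht
      interval_cases i
      · rwa [e, pow_zero, one_mul]
      all_goals exfalso; apply ho; rw [e]
      · rw [pow_one, h1]; norm_num
      · rw [h2]
      · rw [h3]; norm_num
    haveI hcyc := (hT.facts hF hm).1
    exact congrArg Subtype.val (hcyc.commGroup.mul_comm (⟨x, hmem x hx⟩ : T) ⟨y, hmem y hy⟩)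

/-- A minimal form of odd order does not have the intersection property. -/
theorem not_helly_odd {K : Subgroup G} (hTI : IsTI K) (hne : K ≠ ⊥) (hodd : ∀ d ∈ K, ¬ 2 ∣ orderOf d) :
    ¬ IsHelly K := by
  obtain ⟨x, hx, hx1⟩ := K.bot_or_exists_ne_one.resolve_left hne
  obtain ⟨g, u, he, hng, hnu⟩ := SzTriangle.odd_triangle hF hm hx1 (hodd x hx)
  have hsep : ∀ c : G, x * (c * x * c⁻¹) ≠ c * x * c⁻¹ * x → ∀ e, e ∈ K → c⁻¹ * e * c ∈ K → e = 1 := by
    intro c hc e he1 he2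
    by_contra h
    refine hc (odd_comm hF hm hodd hx ((hTI c e h he1 he2 _).1 ?_))
    simpa [mul_assoc] using hx
  refine not_helly_of_triangle (p := 1) (q := g) (r := u) (a := x) (b := g * x * g⁻¹) hx1 (by simpa using hx) ?_ ?_ ?_ ?_
  · simpa [mul_assoc] using hx
  · rw [he]; simpa [mul_assoc] using hx
  · intro e h1 h2; exact hsep g hng e (by simpa using h1) h2
  · intro e h1 h2; exact hsep u hnu e (by simpa using h1) h2

/-- The centre of the translations is in no smaller Suzuki group. -/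
theorem isSolvable_of_zSub_le {H : Subgroup G} (hne : H ≠ ⊤) (hZ : zSub hF ≤ H) : Group.IsSolvable ↥H := by
  classical
  by_contra hsol
  obtain ⟨K, _, _, k, hk, hkm, hK, -, ⟨e⟩⟩ := subfield_of_insolvable hF hm hsol hne
  let φ : F → ↥(Cfsg.Sz K k) := fun b => e ⟨tS hF 0 b, hZ ⟨b, rfl⟩⟩
  have hφinj : Function.Injective φ := fun b b' h => by
    have h' := congrArg Subtype.val (e.injective h)
    exact (Small.SuzukiAut.tS_injective hF h').2
  have hφ : ∀ b, φ b * φ b = 1 := fun b => by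
    rw [← map_mul]
    exact (congrArg e (Subtype.ext (SzTriangle.tS_zero_sq hF hm b))).trans (map_one e)
  have hφc : ∀ b b', Commute (φ b) (φ b') := fun b b' => by
    show e _ * e _ = e _ * e _
    rw [← map_mul, ← map_mul]
    exact congrArg e (Subtype.ext (tS_zero_comm hF b 0 b'))
  have h1 : orderOf (φ 1) = 2 := by
    rw [MulEquiv.orderOf_eq, ← Subgroup.orderOf_coe]
    exact SzTriangle.orderOf_tS_zero hF hm one_ne_zero
  obtain ⟨p, hp, hpu⟩ := involution_fixed hK hk h1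
  obtain ⟨c, hc⟩ := (sz_pretransitive (m := k) hK).exists_smul_eq p (oInf : Cfsg.suzukiOvoid K k)
  have hall : ∀ b : F, ∃ d : K, c * φ b * c⁻¹ = tS hK 0 d := by
    intro b
    refine inv_tS_zero hK hk ?_ ?_
    · have hb : φ b • p = p := hpu _ (by rw [← mul_smul, ← (hφc b 1).eq, mul_smul, hp])
      rw [← hc, mul_smul, mul_smul, inv_smul_smul, hb]
    · calc c * φ b * c⁻¹ * (c * φ b * c⁻¹) = c * (φ b * φ b) * c⁻¹ := by group
        _ = 1 := by rw [hφ b]; group
  choose ψ hψ using hall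
  have hinj : Function.Injective ψ := fun b b' h => hφinj (by
    have : c * φ b * c⁻¹ = c * φ b' * c⁻¹ := by rw [hψ, hψ, h]
    exact mul_left_cancel (mul_right_cancel this))
  have h2 := Fintype.card_le_of_injective ψ hinj
  rw [hF, hK] at h2
  have := (Nat.pow_le_pow_iff_right (by norm_num : 1 < 2)).1 h2
  omega

/-- **The subgroups with the intersection property.** -/
theorem helly_classification {H : Subgroup G} (hne : H ≠ ⊤) (hH : IsHelly H) :
    H = ⊥ ∨ ∃ c : G, H = (zSub hF).map (MulAut.conj c).toMonoidHom := by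
  classical
  refine or_iff_not_imp_left.2 fun hbot => ?_
  -- a minimal form
  obtain ⟨K, hKf, hKle, hKne, hKti⟩ := exists_isTI (IsForm.refl H) hbot
  have hKh := hH.of_form hKf
  obtain ⟨i, hiK, hi2⟩ : ∃ i ∈ K, orderOf i = 2 := by
    by_contra hno
    push Not at hno
    refine not_helly_odd hF hm hKti hKne (fun d hd h2 => ?_) hKh
    exact hno _ (pow_mem hd _) (orderOf_pow_orderOf_div (orderOf_pos d).ne' h2)
  obtain ⟨c, hc⟩ := isConj_iff.1 (conj_involutions hF hm hi2 (SzTriangle.orderOf_tS_zero hF hm (one_ne_zero : (1 : F) ≠ 0)))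
  have hKne' : K.map (MulAut.conj c).toMonoidHom ≠ ⊤ := fun h => hne (top_le_iff.1 (by
    intro g _
    have := mem_map_conj.1 (show c * g * c⁻¹ ∈ K.map (MulAut.conj c).toMonoidHom from h ▸ Subgroup.mem_top _)
    exact hKle (by simpa [mul_assoc] using this)))
  have hZ := ti_eq_zSub hF hm ((isHelly_map_iff (MulAut.conj c) K).2 hKh) (hKti.map c) hKne' one_ne_zero
    ⟨i, hiK, hc⟩
  refine ⟨c⁻¹, ?_⟩
  set L := H.map (MulAut.conj c).toMonoidHom with hLdef
  have hL : IsHelly L := (isHelly_map_iff (MulAut.conj c) H).2 hH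
  have hZL : zSub hF ≤ L := hZ ▸ Subgroup.map_mono hKle
  have hLne : L ≠ ⊤ := fun h => hne (top_le_iff.1 (by
    intro g _
    have := mem_map_conj.1 (show c * g * c⁻¹ ∈ L from h ▸ Subgroup.mem_top _)
    simpa [mul_assoc] using this))
  suffices hLZ : L = zSub hF by
    rw [← hLZ, hLdef, map_conj_map, inv_mul_cancel]
    ext e
    rw [mem_map_conj]; simp
  have hz1 : ∀ b : F, b ≠ 0 → tS (m := m) hF 0 b ≠ 1 := fun b hb h => by
    rw [← tS_zero hF] at h
    exact hb (Small.SuzukiAut.tS_injective hF h).2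
  have hsol := isSolvable_of_zSub_le hF hm hLne hZL
  obtain ⟨k₀, hk₀⟩ := exists_unit_ne_one hF hm
  have hsum : (1 : F) + k₀ ≠ 0 := fun h => hk₀ ((eq_neg_of_add_eq_zero_right h).trans (neg_eq hF 1))
  have hfix : ∀ e ∈ L, e • (oInf : Ω) = oInf := by
    rcases solvable_cases hF hm hsol with ⟨a, ha⟩ | ⟨a, b, hab, hle⟩ | ⟨T, hT, hle⟩
    · have := uSub_fix_unique hF hm ⟨0, 1, rfl⟩ (hz1 1 one_ne_zero) (mem_stabilizer_iff.1 (ha (hZL ⟨1, rfl⟩)))
      exact fun e he => this ▸ mem_stabilizer_iff.1 (ha he)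
    · exfalso
      have hswap : ∀ u : F, u ≠ 0 → tS (m := m) hF 0 u • a = b ∧ tS (m := m) hF 0 u • b = a := by
        intro u hu
        refine (mem_pairStab.1 (hle (hZL ⟨u, rfl⟩))).resolve_left fun h => hab ?_
        exact (uSub_fix_unique hF hm ⟨0, u, rfl⟩ (hz1 u hu) h.1).trans
          (uSub_fix_unique hF hm ⟨0, u, rfl⟩ (hz1 u hu) h.2).symm
      have h1 := (hswap _ hsum).1
      rw [show tS (m := m) hF 0 (1 + (k₀ : F)) = tS hF 0 1 * tS hF 0 (k₀ : F) by
        rw [tS_mul hF, add_zero, zero_pow (pow_ne_zero _ two_ne_zero), zero_mul, add_zero],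
        mul_smul, (hswap _ k₀.ne_zero).1, (hswap _ one_ne_zero).2] at h1
      exact hab h1
    · exfalso
      obtain ⟨g, hgN, hg4, hord, hrep⟩ := normalizer_structure hF hm hT
      have hform : ∀ u : F, u ≠ 0 → ∃ t ∈ T, tS (m := m) hF 0 u = g ^ 2 * t := by
        intro u hu
        obtain ⟨i, hi, t, ht, e⟩ := hrep _ (hle (hZL ⟨u, rfl⟩))
        have ho := SzTriangle.orderOf_tS_zero hF hm hu
        rw [e] at ho
        obtain ⟨h1, -, h3⟩ := hord t ht
        interval_cases i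
        · rw [pow_zero, one_mul] at ho
          refine absurd ?_ (torus_card_odd hF hm hT)
          rw [← ho, ← Subgroup.orderOf_mk t ht]
          exact orderOf_dvd_natCard _
        · rw [pow_one] at ho; omega
        · exact ⟨t, ht, e⟩
        · omega
      obtain ⟨t₁, ht₁, e₁⟩ := hform _ (one_ne_zero : (1 : F) ≠ 0)
      obtain ⟨t₂, ht₂, e₂⟩ := hform _ k₀.ne_zero
      have hmem : g ^ 2 * t₁ * (g ^ 2 * t₂) ∈ T := by
        rw [show g ^ 2 * t₁ * (g ^ 2 * t₂) = g ^ 2 * t₁ * (g ^ 2)⁻¹ * g ^ 4 * t₂ by group,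
          show g ^ 4 = 1 from orderOf_dvd_iff_pow_eq_one.1 hg4.dvd, mul_one]
        exact mul_mem ((Subgroup.mem_set_normalizer_iff.1 (pow_mem hgN 2) t₁).1 ht₁) ht₂
      rw [← e₁, ← e₂, tS_mul hF, add_zero, zero_pow (pow_ne_zero _ two_ne_zero), zero_mul, add_zero] at hmem
      refine torus_card_odd hF hm hT ?_
      rw [← SzTriangle.orderOf_tS_zero hF hm hsum, ← Subgroup.orderOf_mk _ hmem]
      exact orderOf_dvd_natCard _
  have hLU : L ≤ uSub hF := by
    refine le_uSub hF hm hfix fun d hd hd1 => ?_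
    by_contra ho
    obtain ⟨w, hw, hwd⟩ := exists_inverting hF hm hd1 ho
    have hdw : d ∈ L ⊓ L.map (MulAut.conj w).toMonoidHom := by
      refine Subgroup.mem_inf.2 ⟨hd, mem_map_conj.2 ?_⟩
      have h2 : w⁻¹ * d * w = d⁻¹ := by
        calc w⁻¹ * d * w = w⁻¹ * (w * d * w⁻¹)⁻¹ * w := by rw [hwd, inv_inv]
          _ = d⁻¹ := by group
      rw [h2]; exact inv_mem hd
    obtain ⟨J, hJf, hJle, hJne, hJti⟩ :=
      exists_isTI ((IsForm.refl L).inf ((IsForm.refl L).conj w))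
        (fun h => hd1 (Subgroup.mem_bot.1 (h ▸ hdw)))
    refine not_helly_odd hF hm hJti hJne (fun u hu h2 => ?_) (hL.of_form hJf)
    have hv := orderOf_pow_orderOf_div (orderOf_pos u).ne' h2
    obtain ⟨p, -, hpu⟩ := involution_fixed hF hm hv
    obtain ⟨hv1, hv2⟩ := Subgroup.mem_inf.1 (hJle (pow_mem hu (orderOf u / 2)))
    have h3 := hfix _ (mem_map_conj.1 hv2)
    rw [mul_smul, mul_smul, inv_smul_eq_iff] at h3
    exact inverting_moves hF hm hd1 ho hw hwd (hfix d hd) ((hpu _ h3).trans (hpu _ (hfix _ hv1)).symm)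
  by_contra hLZ
  exact not_helly_U hF hm hZL hLU hLZ hL

end Cfsg.Agent.SzBinary
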