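import Mathlib
import Cfsg.Agent.Lib.Lie.SuzukiGroup

/-!
# The minimal degree of a faithful complex representation of the Suzuki group

The centre `Z` of a Sylow 2-subgroup has all nontrivial characters equivalent under the torus, and on
each eigenspace the translation group acts through an extraspecial-like group of width `m`.
-/

set_option autoImplicit false

namespace Cfsg.Agent.Lead.SuzukiDeg

open Cfsg.Agent.Lie.Suzuki Finset

variable {F : Type*} [Field F] [Fintype F] {m : ℕ} (hF : Fintype.card F = 2 ^ (2 * m + 1))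

/-- The absolute trace, as a map of the field to itself. -/
def trF (m : ℕ) (x : F) : F := ∑ i ∈ range (2 * m + 1), x ^ (2 ^ i)

include hF

theorem sq_add (x y : F) : (x + y) ^ 2 = x ^ 2 + y ^ 2 := by
  linear_combination (x * y) * two_eq_zero hF

theorem pow_two_pow_add (i : ℕ) (x y : F) : (x + y) ^ (2 ^ i) = x ^ (2 ^ i) + y ^ (2 ^ i) := by
  induction i with
  | zero => simp
  | succ i ih => rw [pow_succ, pow_mul, ih, sq_add hF, pow_mul, pow_mul]

theorem trF_add (x y : F) : trF m (x + y) = trF m x + trF m y := by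
  simp only [trF, pow_two_pow_add hF, sum_add_distrib]

theorem trF_zero : trF m (0 : F) = 0 := by
  have h := trF_add hF 0 0
  rw [add_zero] at h
  exact left_eq_add.1 h

theorem trF_sq (x : F) : trF m (x ^ 2) = trF m x := by
  have hq : x ^ (2 ^ (2 * m + 1)) = x := hF ▸ FiniteField.pow_card x
  have h1 : trF m (x ^ 2) = ∑ i ∈ range (2 * m + 1), x ^ (2 ^ (i + 1)) := by
    refine sum_congr rfl fun i _ => ?_
    rw [← pow_mul, pow_succ']
  have h2 := sum_range_succ (fun i => x ^ (2 ^ i)) (2 * m + 1)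
  have h3 := sum_range_succ' (fun i => x ^ (2 ^ i)) (2 * m + 1)
  simp only [pow_zero, pow_one] at h3
  rw [h1]
  unfold trF
  linear_combination h2 - h3 + hq

theorem sq_trF (x : F) : trF m x ^ 2 = trF m x := by
  have h : ∀ (s : Finset ℕ) (f : ℕ → F), (∑ i ∈ s, f i) ^ 2 = ∑ i ∈ s, f i ^ 2 := fun s f => by
    classical
    induction s using Finset.induction_on with
    | empty => simp
    | insert a s ha ih => rw [sum_insert ha, sum_insert ha, sq_add hF, ih]
  conv_rhs => rw [← trF_sq hF x]
  simp only [trF]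
  rw [h]
  refine sum_congr rfl fun i _ => ?_
  rw [← pow_mul, ← pow_mul, mul_comm]

theorem trF_cases (x : F) : trF m x = 0 ∨ trF m x = 1 := by
  have h := sq_trF hF x
  rcases mul_eq_zero.1 (show trF m x * (trF m x - 1) = 0 by linear_combination h) with h' | h'
  · exact Or.inl h'
  · exact Or.inr (sub_eq_zero.1 h')

theorem exists_trF_one : ∃ x : F, trF m x = 1 := by
  classical
  by_contra! hne
  have hz : ∀ x : F, trF m x = 0 := fun x => (trF_cases hF x).resolve_right (hne x)
  obtain ⟨P, hP⟩ : ∃ P : Polynomial F, P = ∑ i ∈ range (2 * m + 1), Polynomial.X ^ (2 ^ i) := ⟨_, rfl⟩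
  have hdeg : P.natDegree ≤ 2 ^ (2 * m) := by
    rw [hP]
    refine Polynomial.natDegree_sum_le_of_forall_le _ _ fun i hi => ?_
    rw [Polynomial.natDegree_X_pow]
    exact Nat.pow_le_pow_right (by norm_num) (by have := mem_range.1 hi; omega)
  have hc : P.coeff 1 = 1 := by
    rw [hP, Polynomial.finset_sum_coeff, sum_eq_single 0]
    · simp
    · intro i _ hi
      rw [Polynomial.coeff_X_pow, if_neg]
      exact (Nat.one_lt_pow hi (by norm_num)).ne
    · simp
  have hP0 : P = 0 := Polynomial.eq_zero_of_natDegree_lt_card_of_eval_eq_zero P Function.injective_id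
    (fun x => by
      rw [hP, Polynomial.eval_finset_sum]
      simpa [trF] using hz x)
    (by rw [hF, pow_succ]; have : 0 < 2 ^ (2 * m) := by positivity
        omega)
  rw [hP0, Polynomial.coeff_zero] at hc
  exact zero_ne_one hc

/-- The absolute trace pairing kills the alternating commutator form only at `0` and `1`. -/
theorem radical_small {a : F} (h : ∀ c : F, trF m (a ^ (2 ^ (m + 1)) * c + c ^ (2 ^ (m + 1)) * a) = 0) :
    a = 0 ∨ a = 1 := by
  have hpow : ∀ (j : ℕ) (x : F), trF m (x ^ (2 ^ j)) = trF m x := by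
    intro j x
    induction j with
    | zero => simp
    | succ j ih => rw [pow_succ, pow_mul, trF_sq hF, ih]
  have hd : ∀ c : F, trF m (c * (a ^ (2 ^ (m + 1)) + a ^ (2 ^ m))) = 0 := by
    intro c
    have e : trF m (c ^ (2 ^ (m + 1)) * a) = trF m (c * a ^ (2 ^ m)) := by
      rw [← hpow (m + 1) (c ^ (2 ^ (m + 1)) * a), mul_pow, sg_sg hF, sg_eq_sq (m := m) a, ← mul_pow, trF_sq hF]
    have := h c
    rw [trF_add hF, e, mul_comm (a ^ _) c, ← trF_add hF, ← mul_add] at this
    exact this
  obtain ⟨u, hu⟩ := exists_trF_one hF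
  have h0 : a ^ (2 ^ (m + 1)) + a ^ (2 ^ m) = 0 := by
    by_contra hne
    have := hd (u * (a ^ (2 ^ (m + 1)) + a ^ (2 ^ m))⁻¹)
    rw [mul_assoc, inv_mul_cancel₀ hne, mul_one, hu] at this
    exact one_ne_zero this
  have h1 : a ^ (2 ^ m) * (a ^ (2 ^ m) + 1) = 0 := by
    rw [mul_add, mul_one, ← pow_two, ← sg_eq_sq (m := m) a]
    exact h0
  rcases mul_eq_zero.1 h1 with h2 | h2
  · exact Or.inl (eq_zero_of_pow_eq_zero h2)
  · right
    have h3 : a ^ (2 ^ m) = 1 := by linear_combination h2 - two_eq_zero hF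
    refine sq_inj hF ?_
    rw [one_pow, ← sg_sg hF a, sg_eq_sq (m := m) a, h3, one_pow, one_pow]

/-- The character of the additive group given by the trace. -/
noncomputable def chi (m : ℕ) (x : F) : ℂ := by
  classical exact if trF m x = 0 then 1 else -1

omit hF in
theorem chi_of_zero {x : F} (h : trF m x = 0) : chi m x = 1 := by simp [chi, h]

theorem chi_of_one {x : F} (h : trF m x = 1) : chi m x = -1 := by simp [chi, h]

theorem chi_add (x y : F) : chi m (x + y) = chi m x * chi m y := by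
  have h11 : (1 : F) + 1 = 0 := add_self hF 1
  rcases trF_cases hF x with a | a <;> rcases trF_cases hF y with b | b <;>
    simp [chi, trF_add hF, a, b, h11]

theorem chi_mul_self (x : F) : chi m x * chi m x = 1 := by
  rw [← chi_add hF, add_self hF, chi_of_zero (trF_zero hF)]

theorem sum_chi : ∑ x : F, chi m x = 0 := by
  obtain ⟨u, hu⟩ := exists_trF_one hF
  have h1 : ∑ x : F, chi m (x + u) = ∑ x : F, chi m x :=
    Fintype.sum_equiv (Equiv.addRight u) _ _ fun x => rfl
  simp only [chi_add hF, chi_of_one hF hu, ← sum_mul] at h1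
  linear_combination (-(1:ℂ)/2) * h1

omit [Fintype F] hF in
theorem finrank_of_trace {V : Type*} [AddCommGroup V] [Module ℂ V] [FiniteDimensional ℂ V]
    (P : Module.End ℂ V) (h : P * P = P) :
    LinearMap.trace ℂ V P = (Module.finrank ℂ (LinearMap.range P) : ℂ) := by
  have hp : LinearMap.IsProj (LinearMap.range P) P := by
    refine ⟨fun x => LinearMap.mem_range_self _ x, ?_⟩
    rintro _ ⟨x, rfl⟩
    exact LinearMap.congr_fun h x
  exact hp.trace

set_option maxHeartbeats 1600000 in
/-- A faithful representation of the Suzuki group has degree at least `2 ^ m * (q - 1)`. -/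
theorem min_degree (hm : 1 ≤ m) {k : ℕ} (ρ : Cfsg.Sz F m →* Module.End ℂ (Fin k → ℂ))
    (hρ : Function.Injective ρ) : 2 ^ m * (2 ^ (2 * m + 1) - 1) ≤ k := by
  classical
  obtain ⟨q, hq⟩ : ∃ q : ℕ, q = Fintype.card F := ⟨_, rfl⟩
  have hq0 : (q : ℂ) ≠ 0 := by rw [hq]; exact_mod_cast Fintype.card_ne_zero
  obtain ⟨z, hz⟩ : ∃ z : F → Module.End ℂ (Fin k → ℂ), ∀ b, z b = ρ (tS hF 0 b) := ⟨_, fun _ => rfl⟩
  have hzadd : ∀ b c, z (b + c) = z b * z c := fun b c => by
    rw [hz, hz, hz, ← map_mul, tS_mul hF]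
    congr 2
    · simp
    · simp
  have hz0 : z 0 = 1 := by rw [hz, tS_zero hF, map_one]
  -- the two projections
  obtain ⟨pr, hpr⟩ : ∃ pr : (F → ℂ) → Module.End ℂ (Fin k → ℂ),
      ∀ f, pr f = (q : ℂ)⁻¹ • ∑ b : F, f b • z b := ⟨_, fun _ => rfl⟩
  have hmulz : ∀ f : F → ℂ, (∀ x y, f (x + y) = f x * f y) → (∀ x, f x * f x = 1) →
      ∀ c, z c * pr f = f c • pr f := by
    intro f hadd hsq c
    have hsum : ∑ b : F, z c * (f b • z b) = ∑ b : F, f c • (f b • z b) := by
      refine Fintype.sum_equiv (Equiv.addLeft c) (fun b => z c * (f b • z b)) (fun b => f c • (f b • z b)) fun b => ?_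
      show z c * (f b • z b) = f c • (f (c + b) • z (c + b))
      rw [mul_smul_comm, smul_smul, hadd, ← mul_assoc, hsq, one_mul, hzadd]
    rw [hpr, mul_smul_comm, Finset.mul_sum, hsum, ← Finset.smul_sum, smul_comm]
  have hidem : ∀ f : F → ℂ, (∀ x y, f (x + y) = f x * f y) → (∀ x, f x * f x = 1) →
      pr f * pr f = pr f := by
    intro f hadd hsq
    nth_rewrite 1 [hpr]
    rw [smul_mul_assoc, sum_mul]
    simp only [smul_mul_assoc, hmulz f hadd hsq, smul_smul, hsq, one_smul, sum_const, card_univ, ← hq,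
      ← Nat.cast_smul_eq_nsmul ℂ, inv_mul_cancel₀ hq0]
  -- traces on the centre are constant
  obtain ⟨t, ht⟩ : ∃ t, t = LinearMap.trace ℂ _ (z 1) := ⟨_, rfl⟩
  have htr : ∀ b : F, b ≠ 0 → LinearMap.trace ℂ _ (z b) = t := by
    intro b hb
    have hbij : Function.Surjective fun u : Fˣ => u ^ (2 ^ (m + 1) + 1) := by
      refine Finite.surjective_of_injective fun u v huv => ?_
      have h1 : (u / v) ^ (2 ^ (m + 1) + 1) = 1 := by rw [div_pow]; exact div_eq_one.2 huv
      have h2 := eq_one_of_pow_sg_add_one hF (b := ((u / v : Fˣ) : F)) (by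
        rw [← Units.val_pow_eq_pow_val, h1, Units.val_one])
      exact div_eq_one.1 (Units.ext h2)
    obtain ⟨u, hu⟩ := hbij (Units.mk0 b hb)
    have hu' : (u : F) ^ (2 ^ (m + 1) + 1) = b := by
      have := congrArg Units.val hu
      simpa using this
    have e : tS (m := m) hF 0 b = dS hF u * tS hF 0 1 * (dS hF u)⁻¹ := by
      rw [dS_mul_tS hF hm, mul_inv_cancel_right, mul_zero, mul_one, hu']
    rw [ht, hz, hz, e, map_mul, LinearMap.trace_mul_comm, ← map_mul, ← mul_assoc, inv_mul_cancel, one_mul]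
  have htrace : ∀ f : F → ℂ, f 0 = 1 →
      (q : ℂ) * LinearMap.trace ℂ _ (pr f) = (k : ℂ) + t * ((∑ b, f b) - 1) := by
    intro f hf0
    rw [hpr, map_smul, map_sum, smul_eq_mul, ← mul_assoc, mul_inv_cancel₀ hq0, one_mul,
      ← add_sum_erase univ _ (mem_univ (0 : F)), ← add_sum_erase univ f (mem_univ (0 : F)), hf0,
      add_sub_cancel_left, map_smul, hz0, LinearMap.trace_one, Module.finrank_fin_fun, one_smul, mul_sum]
    congr 1
    refine sum_congr rfl fun b hb => ?_
    rw [map_smul, htr b (ne_of_mem_erase hb), smul_eq_mul, mul_comm]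
  obtain ⟨W, hW⟩ : ∃ W, W = LinearMap.range (pr (chi m)) := ⟨_, rfl⟩
  have hχ := chi_add hF
  have hχ2 := chi_mul_self hF
  have hr : (q : ℂ) * (Module.finrank ℂ W : ℂ) = (k : ℂ) - t := by
    rw [hW, ← finrank_of_trace _ (hidem _ hχ hχ2), htrace _ (chi_of_zero (trF_zero hF)), sum_chi hF]
    ring
  have hr0 : (q : ℂ) * (Module.finrank ℂ (LinearMap.range (pr fun _ => 1)) : ℂ) = (k : ℂ) + t * ((q : ℂ) - 1) := by
    rw [← finrank_of_trace _ (hidem _ (fun _ _ => (one_mul _).symm) (fun _ => one_mul _)),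
      htrace _ rfl, sum_const, card_univ, ← hq, nsmul_eq_mul, mul_one]
  have hWdim : 1 ≤ Module.finrank ℂ W := by
    by_contra h0
    have h0' : Module.finrank ℂ W = 0 := by omega
    rw [h0', Nat.cast_zero, mul_zero] at hr
    have htk : t = k := (sub_eq_zero.1 hr.symm).symm
    rw [htk] at hr0
    have hfull : Module.finrank ℂ (LinearMap.range (pr fun _ => 1)) = k := by
      have : (Module.finrank ℂ (LinearMap.range (pr fun _ => 1)) : ℂ) = k :=
        mul_left_cancel₀ hq0 (by rw [hr0]; ring)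
      exact_mod_cast this
    have htop : LinearMap.range (pr fun _ => 1) = ⊤ :=
      Submodule.eq_top_of_finrank_eq (by rw [hfull, Module.finrank_fin_fun])
    have h1 : z 1 = 1 := by
      refine LinearMap.ext fun v => ?_
      obtain ⟨w, rfl⟩ : v ∈ LinearMap.range (pr fun _ => 1) := htop ▸ Submodule.mem_top
      have := hmulz (fun _ => 1) (fun _ _ => (one_mul _).symm) (fun _ => one_mul _) 1
      rw [one_smul] at this
      exact LinearMap.congr_fun this w
    rw [hz, ← map_one ρ] at h1
    have h2 := (hρ h1).trans (tS_zero hF).symm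
    exact one_ne_zero (tM_injective (congrArg Subtype.val h2)).2
  -- the translations on W
  have hcommP : ∀ a b : F, Commute (ρ (tS hF a b)) (pr (chi m)) := by
    intro a b
    rw [hpr]
    refine Commute.smul_right (Commute.sum_right _ _ _ fun c _ => Commute.smul_right ?_ _) _
    rw [hz, commute_iff_eq, ← map_mul, ← map_mul, tS_zero_comm hF]
  have hinv : ∀ a b : F, ∀ w ∈ W, ρ (tS hF a b) w ∈ W := by
    intro a b w hw
    rw [hW] at hw ⊢
    obtain ⟨v, rfl⟩ := hw
    exact ⟨ρ (tS hF a b) v, (LinearMap.congr_fun (hcommP a b).eq v).symm⟩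
  obtain ⟨B, hB⟩ : ∃ B : F → F → Module.End ℂ W, ∀ a b, B a b = (ρ (tS hF a b)).restrict (hinv a b) :=
    ⟨_, fun _ _ => rfl⟩
  have hBmul : ∀ a b c d, B a b * B c d = B (a + c) (b + d + a ^ (2 ^ (m + 1)) * c) := by
    intro a b c d
    refine LinearMap.ext fun w => Subtype.ext ?_
    rw [hB, hB, hB]
    simp only [Module.End.mul_apply, LinearMap.restrict_apply, ← tS_mul hF, map_mul]
  have hBz : ∀ b, B 0 b = chi m b • 1 := by
    intro b
    refine LinearMap.ext fun w => Subtype.ext ?_
    rw [hB]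
    simp only [LinearMap.restrict_apply, LinearMap.smul_apply, Module.End.one_apply, Submodule.coe_smul]
    obtain ⟨v, hv⟩ : (w : Fin k → ℂ) ∈ LinearMap.range (pr (chi m)) := hW ▸ w.2
    rw [← hv, ← hz]
    exact LinearMap.congr_fun (hmulz _ hχ hχ2 b) v
  have h2 : (0 : F) ^ (2 ^ (m + 1)) = 0 := zero_pow (pow_ne_zero _ two_ne_zero)
  have hcompare : ∀ a b, B a b = chi m b • B a 0 := by
    intro a b
    rw [← one_mul (B a 0), ← smul_mul_assoc, ← hBz, hBmul, zero_add, add_zero, h2, zero_mul, add_zero]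
  -- the radical
  obtain ⟨R, hR⟩ : ∃ R : AddSubgroup F, ∀ a, a ∈ R ↔
      ∀ c, chi m (a ^ (2 ^ (m + 1)) * c + c ^ (2 ^ (m + 1)) * a) = 1 := by
    refine ⟨{ carrier := {a | ∀ c, chi m (a ^ (2 ^ (m + 1)) * c + c ^ (2 ^ (m + 1)) * a) = 1}
              add_mem' := fun {a b} ha hb c => ?_
              zero_mem' := fun c => by simp [h2, chi_of_zero (trF_zero hF)]
              neg_mem' := fun {a} ha c => by rw [neg_eq hF]; exact ha c }, fun a => Iff.rfl⟩
    rw [show (a + b) ^ (2 ^ (m + 1)) * c + c ^ (2 ^ (m + 1)) * (a + b) =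
      (a ^ (2 ^ (m + 1)) * c + c ^ (2 ^ (m + 1)) * a) + (b ^ (2 ^ (m + 1)) * c + c ^ (2 ^ (m + 1)) * b) by
        rw [add_pow_sg hF]; ring, chi_add hF, ha c, hb c, one_mul]
  have hRsmall : Nat.card R ≤ 2 := by
    have hsub : (R : Set F) ⊆ {0, 1} := fun a ha => by
      refine radical_small hF fun c => ?_
      rcases trF_cases hF (a ^ (2 ^ (m + 1)) * c + c ^ (2 ^ (m + 1)) * a) with h | h
      · exact h
      · have h3 := (hR a).1 ha c
        rw [chi_of_one hF h] at h3
        norm_num at h3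
    calc Nat.card R ≤ ({0, 1} : Set F).ncard := by
          rw [← Nat.card_coe_set_eq]; exact Nat.card_mono (Set.toFinite _) hsub
      _ ≤ 2 := by rw [Set.ncard_pair zero_ne_one]
  have htrzero : ∀ a, a ∉ R → ∀ b, LinearMap.trace ℂ W (B a b) = 0 := by
    intro a ha b
    obtain ⟨c, hc⟩ := not_forall.1 fun h => ha ((hR a).2 h)
    have hc' : chi m (a ^ (2 ^ (m + 1)) * c + c ^ (2 ^ (m + 1)) * a) = -1 := by
      rcases trF_cases hF (a ^ (2 ^ (m + 1)) * c + c ^ (2 ^ (m + 1)) * a) with h | h
      · exact absurd (chi_of_zero h) hc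
      · exact chi_of_one hF h
    have e : B c 0 * B a b = (-1 : ℂ) • (B a b * B c 0) := by
      rw [hBmul, hBmul, hcompare (c + a), hcompare (a + c), smul_smul, add_comm c a]
      congr 1
      rw [← hc', ← chi_add hF]
      congr 1
      linear_combination (-(a ^ (2 ^ (m + 1)) * c)) * two_eq_zero hF
    have hinv' : B c 0 * B c (c ^ (2 ^ (m + 1)) * c) = 1 := by
      rw [hBmul, add_self hF, zero_add, add_self hF, hBz, chi_of_zero (trF_zero hF), one_smul]
    have hinv'' : B c (c ^ (2 ^ (m + 1)) * c) * B c 0 = 1 := mul_eq_one_comm.1 hinv'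
    have h3 : LinearMap.trace ℂ W (B a b) = - LinearMap.trace ℂ W (B a b) := by
      calc LinearMap.trace ℂ W (B a b)
          = LinearMap.trace ℂ W (B c (c ^ (2 ^ (m + 1)) * c) * (B c 0 * B a b)) := by
            rw [← mul_assoc, hinv'', one_mul]
        _ = _ := by
            rw [e, mul_smul_comm, map_smul, LinearMap.trace_mul_comm, mul_assoc, hinv', mul_one,
              smul_eq_mul, neg_one_mul]
    linear_combination (1/2 : ℂ) * h3
  -- independence
  have hli : LinearIndependent ℂ fun x : F ⧸ R => B x.out 0 := by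
    refine linearIndependent_iff'ₛ.2 fun s g₁ g₂ he x hxs => ?_
    obtain ⟨g, hgdef⟩ : ∃ g : F ⧸ R → ℂ, ∀ y, g y = g₁ y - g₂ y := ⟨_, fun _ => rfl⟩
    have hg : ∑ y ∈ s, g y • B y.out 0 = 0 := by
      refine LinearMap.ext fun w => ?_
      have he' := LinearMap.congr_fun he w
      simp only [LinearMap.sum_apply, LinearMap.smul_apply, LinearMap.zero_apply] at he' ⊢
      simp only [hgdef, sub_smul, Finset.sum_sub_distrib]
      exact sub_eq_zero.2 he'
    suffices g x = 0 from sub_eq_zero.1 ((hgdef x).symm.trans this)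
    have h4 := congrArg (fun X => LinearMap.trace ℂ W (B x.out 0 * X)) hg
    simp only [mul_sum, mul_smul_comm, map_sum, map_smul, mul_zero, map_zero, smul_eq_mul] at h4
    rw [sum_eq_single x] at h4
    · rw [hBmul, add_self hF, zero_add, zero_add, hBz, map_smul, LinearMap.trace_one, smul_eq_mul] at h4
      refine (mul_eq_zero.1 h4).resolve_right (mul_ne_zero ?_ ?_)
      · intro h5
        have := chi_mul_self (m := m) hF (x.out ^ (2 ^ (m + 1)) * x.out)
        rw [h5, mul_zero] at this
        exact zero_ne_one this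
      · exact_mod_cast (by omega : Module.finrank ℂ W ≠ 0)
    · intro y _ hy
      rw [hBmul, htrzero _ (fun hmem => hy ?_) _, mul_zero]
      rw [← QuotientAddGroup.out_eq' x, ← QuotientAddGroup.out_eq' y]
      refine ((QuotientAddGroup.eq).2 ?_)
      rw [neg_eq hF]
      rwa [add_comm] at hmem
    · exact fun h => absurd hxs h
  haveI : Fintype (F ⧸ R) := Fintype.ofFinite _
  have hdim := hli.fintype_card_le_finrank
  rw [Module.finrank_linearMap, ← Nat.card_eq_fintype_card] at hdim
  have hcard := R.card_eq_card_quotient_mul_card_addSubgroup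
  rw [Nat.card_eq_fintype_card, ← hq] at hcard
  have hrank : 2 ^ m ≤ Module.finrank ℂ W := by
    by_contra hlt
    have h5 : Module.finrank ℂ W * Module.finrank ℂ W < 2 ^ m * 2 ^ m :=
      Nat.mul_self_lt_mul_self (by omega)
    have h6 : q ≤ Nat.card (F ⧸ R) * 2 := hcard.le.trans (Nat.mul_le_mul_left _ hRsmall)
    rw [hq, hF, show 2 * m + 1 = m + m + 1 by ring, pow_succ, pow_add] at h6
    omega
  -- assemble
  have hsum : (k : ℂ) = (Module.finrank ℂ W : ℂ) * ((q : ℂ) - 1) + (Module.finrank ℂ (LinearMap.range (pr fun _ => 1)) : ℂ) := by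
    refine mul_left_cancel₀ hq0 ?_
    linear_combination -((q : ℂ) - 1) * hr - hr0
  have hq1 : 1 ≤ q := by rw [hq]; exact Fintype.card_pos
  have hsum' : k = Module.finrank ℂ W * (q - 1) + Module.finrank ℂ (LinearMap.range (pr fun _ => 1)) := by
    apply Nat.cast_injective (R := ℂ)
    push_cast [Nat.cast_sub hq1]
    exact hsum
  calc 2 ^ m * (2 ^ (2 * m + 1) - 1) ≤ Module.finrank ℂ W * (q - 1) := by
        rw [hq, hF]; exact Nat.mul_le_mul_right _ hrank
    _ ≤ k := by omega

end Cfsg.Agent.Lead.SuzukiDeg
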