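import Cfsg.Agent.Lib.Lead.SuzukiSolvable

/-!
# Solubilizers in the Suzuki groups
-/

set_option autoImplicit false

namespace Cfsg.Agent.SzSolvable

open MulAction Cfsg.Agent.Lie.Suzuki
open scoped Pointwise

variable {F : Type*} [Field F] {m : ℕ} [Fintype F] (hF : Fintype.card F = 2 ^ (2 * m + 1)) (hm : 1 ≤ m)

local notation "G" => Cfsg.Sz F m
local notation "Ω" => Cfsg.suzukiOvoid F m

/-- The solubilizer. -/
def sol (x : G) : Set G := {y | Group.IsSolvable ↥(Subgroup.closure ({x, y} : Set G))}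

include hF hm

theorem odd_mem_torus {T : Subgroup G} (hT : IsTorus T) {w : G}
    (hw : w ∈ Subgroup.normalizer (T : Set G)) (ho : ¬ 2 ∣ orderOf w) : w ∈ T := by
  set N := Subgroup.normalizer (T : Set G)
  obtain ⟨-, -, -, -, hN⟩ := hT.facts hF hm
  haveI : (T.subgroupOf N).Normal := Subgroup.normal_in_normalizer
  have hidx : (T.subgroupOf N).index = 4 := by
    rw [← Subgroup.card_mul_index (T.subgroupOf N),
      Nat.card_congr (Subgroup.subgroupOfEquivOfLe (Subgroup.le_normalizer (H := T))).toEquiv, mul_comm] at hN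
    exact Nat.eq_of_mul_eq_mul_right (by have := torus_one_lt hF hm hT; omega) hN
  have h4 : w ^ 4 ∈ T := by
    have := Subgroup.pow_index_mem (T.subgroupOf N) ⟨w, hw⟩
    rwa [hidx, Subgroup.mem_subgroupOf, SubgroupClass.coe_pow] at this
  obtain ⟨j, hj⟩ : ∃ j : ℕ, (w ^ 4) ^ j = w :=
    exists_pow_eq_self_of_coprime (Nat.Coprime.pow_left 2 ((Nat.prime_two.coprime_iff_not_dvd).2 ho) : Nat.Coprime (2 ^ 2) (orderOf w))
  exact hj ▸ pow_mem h4 j

theorem mem_sol_iff {x y : G} : y ∈ sol x ↔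
    (∃ a : Ω, x • a = a ∧ y • a = a) ∨ (∃ a b : Ω, a ≠ b ∧ x ∈ pairStab a b ∧ y ∈ pairStab a b) ∨
      ∃ T : Subgroup G, IsTorus T ∧ x ∈ Subgroup.normalizer (T : Set G) ∧ y ∈ Subgroup.normalizer (T : Set G) := by
  constructor
  · intro h
    have hx : x ∈ Subgroup.closure ({x, y} : Set G) := Subgroup.subset_closure (by simp)
    have hy : y ∈ Subgroup.closure ({x, y} : Set G) := Subgroup.subset_closure (by simp)
    rcases solvable_cases hF hm h with ⟨a, ha⟩ | ⟨a, b, hab, hle⟩ | ⟨T, hT, hle⟩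
    · exact Or.inl ⟨a, ha hx, ha hy⟩
    · exact Or.inr (Or.inl ⟨a, b, hab, hle hx, hle hy⟩)
    · exact Or.inr (Or.inr ⟨T, hT, hle hx, hle hy⟩)
  · intro h
    suffices ∃ H : Subgroup G, Group.IsSolvable ↥H ∧ x ∈ H ∧ y ∈ H by
      obtain ⟨H, hH, hx, hy⟩ := this
      haveI := hH
      exact Group.isSolvable_of_isSolvable_injective
        (Subgroup.inclusion_injective ((Subgroup.closure_le H).2 (Set.insert_subset hx (Set.singleton_subset_iff.2 hy))))
    rcases h with ⟨a, hx, hy⟩ | ⟨a, b, hab, hx, hy⟩ | ⟨T, hT, hx, hy⟩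
    · exact ⟨_, stab_isSolvable hF hm a, hx, hy⟩
    · exact ⟨_, pairStab_isSolvable hF hm hab, hx, hy⟩
    · exact ⟨_, normalizer_isSolvable hF hm hT, hx, hy⟩

/-! ### Elements of odd order -/

theorem eq_or_eq_of_fixed {g : G} (hg : g ≠ 1) {a b c : Ω} (hab : a ≠ b) (ha : g • a = a) (hb : g • b = b)
    (hc : g • c = c) : c = a ∨ c = b := by
  by_contra h
  push Not at h
  exact hg ((zassenhaus hF hm).2.2.1 g a b c hab h.2.symm h.1.symm ha hb hc)

theorem sol_of_pair {x : G} (hx : x ≠ 1) (ho : ¬ 2 ∣ orderOf x) {a b : Ω} (hab : a ≠ b)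
    (ha : x • a = a) (hb : x • b = b) :
    sol x = (stabilizer G a : Set G) ∪ stabilizer G b ∪ pairStab a b := by
  ext y
  rw [mem_sol_iff hF hm]
  simp only [Set.mem_union, SetLike.mem_coe, mem_stabilizer_iff (a := a), mem_stabilizer_iff (a := b)]
  constructor
  · rintro (⟨c, hxc, hyc⟩ | ⟨c, d, hcd, hxc, hyc⟩ | ⟨T, hT, hxT, -⟩)
    · rcases eq_or_eq_of_fixed hF hm hx hab ha hb hxc with rfl | rfl
      · exact Or.inl (Or.inl hyc)
      · exact Or.inl (Or.inr hyc)
    · obtain ⟨h1, h2⟩ := mem_pairTorus.1 (smul_a_of_odd hxc ho)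
      refine Or.inr ?_
      rcases eq_or_eq_of_fixed hF hm hx hab ha hb h1 with rfl | rfl <;>
        rcases eq_or_eq_of_fixed hF hm hx hab ha hb h2 with rfl | rfl
      · exact absurd rfl hcd
      · exact hyc
      · rwa [pairStab, Set.pair_comm] at hyc
      · exact absurd rfl hcd
    · exact absurd ha ((hT.facts hF hm).2.1 x (odd_mem_torus hF hm hT hxT ho) hx a)
  · rintro ((h | h) | h)
    · exact Or.inl ⟨a, ha, h⟩
    · exact Or.inl ⟨b, hb, h⟩
    · exact Or.inr (Or.inl ⟨a, b, hab, pairTorus_le a b (mem_pairTorus.2 ⟨ha, hb⟩), h⟩)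

theorem card_stab (a : Ω) : Nat.card ↥(stabilizer G a) = Fintype.card F ^ 2 * (Fintype.card F - 1) := by
  haveI := sz_pretransitive (m := m) hF
  have e := (stabilizer G a).index_mul_card
  rw [index_stabilizer_of_transitive, card_points hF hm, card_sz hF hm] at e
  exact Nat.eq_of_mul_eq_mul_left (by positivity) (e.trans (by ring))

theorem card_sol_pair {x : G} (hx : x ≠ 1) (ho : ¬ 2 ∣ orderOf x) {a b : Ω} (hab : a ≠ b)
    (ha : x • a = a) (hb : x • b = b) :
    (sol x).ncard = 2 * Fintype.card F ^ 2 * (Fintype.card F - 1) := by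
  rw [sol_of_pair hF hm hx ho hab ha hb]
  have h1 : (stabilizer G a : Set G) ∩ stabilizer G b = pairTorus a b := rfl
  have h2 : ((stabilizer G a : Set G) ∪ stabilizer G b) ∩ pairStab a b = pairTorus a b := by
    ext g
    simp only [Set.mem_inter_iff, Set.mem_union, SetLike.mem_coe, mem_pairTorus, mem_pairStab,
      mem_stabilizer_iff (a := a), mem_stabilizer_iff (a := b)]
    constructor
    · rintro ⟨h | h, h' | ⟨h1, h2⟩⟩
      · exact h'
      · exact absurd (h.symm.trans h1) hab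
      · exact h'
      · exact absurd (h2.symm.trans h) hab
    · exact fun h => ⟨Or.inl h.1, Or.inl h⟩
  have e1 := Set.ncard_union_add_ncard_inter (stabilizer G a : Set G) (stabilizer G b)
  have e2 := Set.ncard_union_add_ncard_inter ((stabilizer G a : Set G) ∪ stabilizer G b) (pairStab a b)
  rw [h1, ← Nat.card_coe_set_eq (stabilizer G a : Set G), ← Nat.card_coe_set_eq (stabilizer G b : Set G),
    SetLike.coe_sort_coe, SetLike.coe_sort_coe, card_stab hF hm, card_stab hF hm] at e1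
  rw [h2, ← Nat.card_coe_set_eq (pairStab a b : Set G), SetLike.coe_sort_coe, card_pairStab hF hm hab,
    ← Nat.card_coe_set_eq (pairTorus a b : Set G), SetLike.coe_sort_coe, two_point_card hF hm hab] at e2
  rw [← Nat.card_coe_set_eq (pairTorus a b : Set G), SetLike.coe_sort_coe, two_point_card hF hm hab] at e1
  rw [mul_assoc]
  generalize Fintype.card F ^ 2 * (Fintype.card F - 1) = u at *
  omega

theorem sol_of_torus {T : Subgroup G} (hT : IsTorus T) {x : G} (hxT : x ∈ T) (hx : x ≠ 1) :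
    sol x = (Subgroup.normalizer (T : Set G) : Set G) := by
  have ho : ¬ 2 ∣ orderOf x := fun h =>
    torus_card_odd hF hm hT (h.trans (Subgroup.orderOf_dvd_natCard T hxT))
  have hfpf := (hT.facts hF hm).2.1 x hxT hx
  ext y
  rw [mem_sol_iff hF hm]
  constructor
  · rintro (⟨c, hxc, -⟩ | ⟨c, d, -, hxc, -⟩ | ⟨T', hT', hxT', hy⟩)
    · exact absurd hxc (hfpf c)
    · exact absurd (mem_pairTorus.1 (smul_a_of_odd hxc ho)).1 (hfpf c)
    · rwa [IsTorus.eq_of_mem hF hm hT hT' hxT (odd_mem_torus hF hm hT' hxT' ho) hx]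
  · exact fun h => Or.inr (Or.inr ⟨T, hT, Subgroup.le_normalizer hxT, h⟩)

/-! ### Two-elements -/

theorem fixed_unique {x : G} (hx : orderOf x = 2 ∨ orderOf x = 4) :
    ∃ a : Ω, x • a = a ∧ ∀ b, x • b = b → b = a := by
  rcases hx with hx | hx
  · exact involution_fixed hF hm hx
  · have h2 : orderOf (x ^ 2) = 2 := by
      rw [orderOf_pow' x two_ne_zero, hx]; rfl
    obtain ⟨a, ha, hu⟩ := involution_fixed hF hm h2
    refine ⟨a, hu _ ?_, fun b hb => hu _ (by rw [pow_two, mul_smul, hb, hb])⟩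
    rw [← mul_smul, ← (Commute.self_pow x 2).eq, mul_smul, ha]

theorem not_le_stab {x y : G} {a : Ω} (hu : ∀ b, x • b = b → b = a) (hy : y • a ≠ a) (c : Ω) :
    ¬ Subgroup.closure ({x, y} : Set G) ≤ stabilizer G c := fun h => by
  have hx : x • c = c := h (Subgroup.subset_closure (by simp))
  have hy' : y • c = c := h (Subgroup.subset_closure (by simp))
  rw [hu c hx] at hy'
  exact hy hy'

theorem closure_le_of {H : Subgroup G} {x y : G} (hx : x ∈ H) (hy : y ∈ H) :
    Subgroup.closure ({x, y} : Set G) ≤ H :=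
  (Subgroup.closure_le H).2 (Set.insert_subset hx (Set.singleton_subset_iff.2 hy))

theorem pair_unique {x y : G} {a : Ω} (hu : ∀ b, x • b = b → b = a) (hy : y • a ≠ a) {c d c' d' : Ω}
    (hcd : c ≠ d) (hcd' : c' ≠ d') (h1 : x ∈ pairStab c d) (h2 : y ∈ pairStab c d)
    (h1' : x ∈ pairStab c' d') (h2' : y ∈ pairStab c' d') : c' = c ∨ c' = d := by
  obtain ⟨w, hw, hw1, hwo⟩ := exists_odd_elem hF hm (not_le_stab hF hm hu hy)
  obtain ⟨e1, e2⟩ := mem_pairTorus.1 (smul_a_of_odd (closure_le_of hF hm h1 h2 hw) hwo)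
  obtain ⟨e1', -⟩ := mem_pairTorus.1 (smul_a_of_odd (closure_le_of hF hm h1' h2' hw) hwo)
  exact eq_or_eq_of_fixed hF hm hw1 hcd e1 e2 e1'

theorem pair_torus_disjoint {x y : G} {a : Ω} (hu : ∀ b, x • b = b → b = a) (hy : y • a ≠ a) {c d : Ω}
    {T : Subgroup G} (hT : IsTorus T) (h1 : x ∈ pairStab c d) (h2 : y ∈ pairStab c d)
    (h1' : x ∈ Subgroup.normalizer (T : Set G)) (h2' : y ∈ Subgroup.normalizer (T : Set G)) : False := by
  obtain ⟨w, hw, hw1, hwo⟩ := exists_odd_elem hF hm (not_le_stab hF hm hu hy)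
  obtain ⟨e1, -⟩ := mem_pairTorus.1 (smul_a_of_odd (closure_le_of hF hm h1 h2 hw) hwo)
  exact (hT.facts hF hm).2.1 w (odd_mem_torus hF hm hT (closure_le_of hF hm h1' h2' hw) hwo) hw1 c e1

theorem torus_unique {x y : G} {a : Ω} (hu : ∀ b, x • b = b → b = a) (hy : y • a ≠ a)
    {T T' : Subgroup G} (hT : IsTorus T) (hT' : IsTorus T')
    (h1 : x ∈ Subgroup.normalizer (T : Set G)) (h2 : y ∈ Subgroup.normalizer (T : Set G))
    (h1' : x ∈ Subgroup.normalizer (T' : Set G)) (h2' : y ∈ Subgroup.normalizer (T' : Set G)) : T = T' := by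
  obtain ⟨w, hw, hw1, hwo⟩ := exists_odd_elem hF hm (not_le_stab hF hm hu hy)
  exact IsTorus.eq_of_mem hF hm hT hT' (odd_mem_torus hF hm hT (closure_le_of hF hm h1 h2 hw) hwo)
    (odd_mem_torus hF hm hT' (closure_le_of hF hm h1' h2' hw) hwo) hw1

omit hF hm in
theorem sum_fibres {ι α : Type*} [Finite ι] [Finite α] (A : ι → Set α) (U : Set α) (r : ℕ)
    (hsub : ∀ i, A i ⊆ U) (hr : ∀ u ∈ U, {i | u ∈ A i}.ncard = r) (n : ℕ) (hn : ∀ i, (A i).ncard = n) :
    r * U.ncard = Nat.card ι * n := by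
  classical
  haveI := Fintype.ofFinite ι
  haveI := Fintype.ofFinite α
  have h := Finset.sum_card_bipartiteAbove_eq_sum_card_bipartiteBelow (fun (i : ι) (u : α) => u ∈ A i)
    (s := Finset.univ) (t := U.toFinset)
  have e1 : ∀ i, (Finset.bipartiteAbove (fun (i : ι) (u : α) => u ∈ A i) U.toFinset i).card = n := fun i => by
    rw [← hn i, Set.ncard_eq_toFinset_card']
    congr 1
    ext u
    simp only [Finset.mem_bipartiteAbove, Set.mem_toFinset]
    exact ⟨fun h => h.2, fun h => ⟨hsub i h, h⟩⟩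
  have e2 : ∀ u ∈ U.toFinset, (Finset.bipartiteBelow (fun (i : ι) (u : α) => u ∈ A i) Finset.univ u).card = r :=
    fun u hu => by
      rw [← hr u (Set.mem_toFinset.1 hu), Set.ncard_eq_toFinset_card']
      congr 1
      ext i
      simp
  rw [Finset.sum_congr rfl (fun i _ => e1 i), Finset.sum_congr rfl e2, Finset.sum_const, Finset.sum_const,
    smul_eq_mul, smul_eq_mul, Finset.card_univ, ← Nat.card_eq_fintype_card, ← Set.ncard_eq_toFinset_card'] at h
  rw [h, mul_comm]

/-- The part of the solubilizer of an involution in dihedral subgroups. -/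
theorem card_offPair {x : G} (hx : orderOf x = 2) {a : Ω} (ha : x • a = a) (hu : ∀ b, x • b = b → b = a) :
    2 * {y : G | y • a ≠ a ∧ ∃ c d : Ω, c ≠ d ∧ x ∈ pairStab c d ∧ y ∈ pairStab c d}.ncard =
      Fintype.card F ^ 2 * (2 * (Fintype.card F - 1) - 2) := by
  haveI : Finite Ω := inferInstance
  have hxx : x * x = 1 := by rw [← pow_two, ← hx, pow_orderOf_eq_one]
  have hne : ∀ c : Ω, c ≠ a → c ≠ x • c := fun c hc h => hc (hu c h.symm)
  have hmem : ∀ c : Ω, x ∈ pairStab c (x • c) := fun c =>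
    mem_pairStab.2 (Or.inr ⟨rfl, by rw [← mul_smul, hxx, one_smul]⟩)
  have hswap : ∀ c d : Ω, c ≠ d → x ∈ pairStab c d → x • c = d ∧ c ≠ a ∧ d ≠ a := by
    intro c d hcd h
    rcases mem_pairStab.1 h with ⟨h1, h2⟩ | ⟨h1, h2⟩
    · exact absurd ((hu c h1).trans (hu d h2).symm) hcd
    · exact ⟨h1, fun e => hcd (by rw [← h1, e, ha]), fun e => hcd (by rw [← h2, e, ha])⟩
  have h := sum_fibres (ι := {c : Ω // c ≠ a})
    (fun c => (pairStab (c : Ω) (x • (c : Ω)) : Set G) \ stabilizer G a)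
    {y : G | y • a ≠ a ∧ ∃ c d : Ω, c ≠ d ∧ x ∈ pairStab c d ∧ y ∈ pairStab c d} 2
    (fun c y hy => ⟨hy.2, c, x • (c : Ω), hne c c.2, hmem c, hy.1⟩) ?_ (2 * (Fintype.card F - 1) - 2) ?_
  · rw [h]
    congr 1
    have e : Nat.card {c : Ω // c ≠ a} + 1 = Fintype.card F ^ 2 + 1 := by
      classical
      haveI := Fintype.ofFinite Ω
      rw [← card_points hF hm, Nat.card_eq_fintype_card, Nat.card_eq_fintype_card,
        Fintype.card_subtype_compl, Fintype.card_subtype_eq]
      have : 0 < Fintype.card Ω := Fintype.card_pos_iff.2 ⟨a⟩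
      omega
    omega
  · rintro y ⟨hy, c, d, hcd, h1, h2⟩
    obtain ⟨rfl, hca, hda⟩ := hswap c d hcd h1
    have : {i : {c : Ω // c ≠ a} | y ∈ (pairStab (i : Ω) (x • (i : Ω)) : Set G) \ stabilizer G a} =
        {⟨c, hca⟩, ⟨x • c, hda⟩} := by
      ext ⟨e, he⟩
      simp only [Set.mem_setOf_eq, Set.mem_insert_iff, Set.mem_singleton_iff, Subtype.mk.injEq]
      constructor
      · intro h
        exact pair_unique hF hm hu hy hcd (hne e he) h1 h2 (hmem e) h.1
      · rintro (rfl | rfl)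
        · exact ⟨h2, hy⟩
        · refine ⟨?_, hy⟩
          rw [← mul_smul, hxx, one_smul, pairStab, Set.pair_comm]
          exact h2
    rw [this, Set.ncard_pair (fun e => hcd (congrArg Subtype.val e))]
  · rintro ⟨c, hc⟩
    have hint : (pairStab c (x • c) : Set G) ∩ stabilizer G a = {1, x} := by
      ext g
      simp only [Set.mem_inter_iff, SetLike.mem_coe, mem_stabilizer_iff (a := a), Set.mem_insert_iff, Set.mem_singleton_iff]
      constructor
      · rintro ⟨hg, hga⟩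
        have key : ∀ g' : G, g' • c = c → g' • (x • c) = x • c → g' • a = a → g' = 1 := fun g' e1 e2 e3 =>
          Classical.byContradiction fun hne1 => (eq_or_eq_of_fixed hF hm hne1 (hne c hc) e1 e2 e3).elim (fun e => hc e.symm)
            (fun e => hc (smul_left_cancel x (e.symm.trans ha.symm)))
        rcases mem_pairStab.1 hg with ⟨h1, h2⟩ | ⟨h1, h2⟩
        · exact Or.inl (key g h1 h2 hga)
        · have := key (g * x) (by rw [mul_smul, h2]) (by rw [mul_smul, ← mul_smul x x, hxx, one_smul, h1])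
            (by rw [mul_smul, ha, hga])
          exact Or.inr (mul_right_cancel (this.trans hxx.symm))
      · rintro (rfl | rfl)
        · exact ⟨one_mem _, one_smul _ _⟩
        · exact ⟨hmem c, ha⟩
    have e := Set.ncard_inter_add_ncard_sdiff_eq_ncard (pairStab c (x • c) : Set G) (stabilizer G a : Set G)
    rw [hint, Set.ncard_pair (fun h => by rw [← h, orderOf_one] at hx; omega),
      ← Nat.card_coe_set_eq (pairStab c (x • c) : Set G), SetLike.coe_sort_coe, card_pairStab hF hm (hne c hc)] at e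
    show ((pairStab c (x • c) : Set G) \ (stabilizer G a : Set G)).ncard = _
    omega

/-! ### Counting tori -/

theorem isTorus_map {T : Subgroup G} (hT : IsTorus T) (c : G) : IsTorus (T.map (MulAut.conj c).toMonoidHom) := by
  obtain ⟨p, x, hp, hd, hx, rfl⟩ := hT
  refine ⟨p, c * x * c⁻¹, hp, hd, (((MulAut.conj c).orderOf_eq x)).trans hx, le_antisymm ?_ fun g hg => ?_⟩
  · rintro _ ⟨g, hg, rfl⟩
    refine Subgroup.mem_centralizer_singleton_iff.2 ?_
    show c * g * c⁻¹ * (c * x * c⁻¹) = c * x * c⁻¹ * (c * g * c⁻¹)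
    rw [conj_mul, conj_mul, Subgroup.mem_centralizer_singleton_iff.1 hg]
  · have e := Subgroup.mem_centralizer_singleton_iff.1 hg
    refine ⟨c⁻¹ * g * c, Subgroup.mem_centralizer_singleton_iff.2 ?_, by simp [mul_assoc]⟩
    calc c⁻¹ * g * c * x = c⁻¹ * (g * (c * x * c⁻¹)) * c := by group
      _ = x * (c⁻¹ * g * c) := by rw [e]; group

theorem tori_conj {T T' : Subgroup G} (hT : IsTorus T) (hT' : IsTorus T') (h : Nat.card ↥T = Nat.card ↥T') :
    ∃ c : G, T' = T.map (MulAut.conj c).toMonoidHom := by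
  obtain ⟨p, hp, hpd⟩ := Nat.exists_prime_and_dvd (fun e => by have := torus_one_lt hF hm hT; omega : Nat.card ↥T ≠ 1)
  haveI := Fact.mk hp
  have hp2 : p ≠ 2 := fun e => torus_card_odd hF hm hT (e ▸ hpd)
  obtain ⟨y, hy⟩ := exists_prime_orderOf_dvd_card' p hpd
  obtain ⟨y', hy'⟩ := exists_prime_orderOf_dvd_card' p (h ▸ hpd)
  rw [← Subgroup.orderOf_coe] at hy hy'
  obtain ⟨P, hP⟩ := (IsPGroup.of_card (n := 1) (by rw [Nat.card_zpowers, hy, pow_one]) :
    IsPGroup p (Subgroup.zpowers (y : G))).exists_le_sylow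
  obtain ⟨Q, hQ⟩ := (IsPGroup.of_card (n := 1) (by rw [Nat.card_zpowers, hy', pow_one]) :
    IsPGroup p (Subgroup.zpowers (y' : G))).exists_le_sylow
  obtain ⟨c, hc⟩ := MulAction.exists_smul_eq G P Q
  have hcy : c * y * c⁻¹ ∈ (Q : Subgroup G) := by rw [← hc]; exact ⟨_, hP (Subgroup.mem_zpowers _), rfl⟩
  haveI hQc := sylow_cyclic hF hm hp2 Q
  have hcomm : c * y * c⁻¹ * y' = y' * (c * y * c⁻¹) := congrArg Subtype.val
    (hQc.commGroup.mul_comm (⟨_, hcy⟩ : (Q : Subgroup G)) ⟨_, hQ (Subgroup.mem_zpowers _)⟩)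
  have hy1 : (y' : G) ≠ 1 := fun e => hp.ne_one (by rw [← hy', e, orderOf_one])
  have hcy1 : c * y * c⁻¹ ≠ 1 := fun e => hp.ne_one (by rw [← hy, conj_eq_one_iff.1 e, orderOf_one])
  refine ⟨c, IsTorus.eq_of_mem hF hm hT' (isTorus_map hF hm hT c) ?_ ⟨_, y.2, rfl⟩ hcy1⟩
  rw [← (hT'.facts hF hm).2.2.1 _ y'.2 hy1]
  exact Subgroup.mem_centralizer_singleton_iff.2 hcomm

/-- The tori of given order. -/
abbrev tori (k : ℕ) : Set (Subgroup G) := {T | IsTorus T ∧ Nat.card ↥T = k}

theorem exists_torus {k : ℕ} (hk : k ∈ ({2 ^ (2 * m + 1) + 2 ^ (m + 1) + 1, 2 ^ (2 * m + 1) - 2 ^ (m + 1) + 1} : Set ℕ)) :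
    ∃ T : Subgroup G, T ∈ tori (m := m) (F := F) k := by
  obtain ⟨U, -, hU, hcen, -⟩ := two_tori hF hm k hk
  have hprod : k ∣ Fintype.card F ^ 2 + 1 := by
    have h1 : 2 ^ (m + 1) ≤ 2 ^ (2 * m + 1) := Nat.pow_le_pow_right (by norm_num) (by omega)
    have h2 : (2 ^ (m + 1)) ^ 2 = 2 * 2 ^ (2 * m + 1) := by rw [← pow_mul, ← pow_succ']; congr 1; ring
    have h3 : (2 ^ (2 * m + 1) + 2 ^ (m + 1) + 1) * (2 ^ (2 * m + 1) - 2 ^ (m + 1) + 1) =
        Fintype.card F ^ 2 + 1 := by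
      rw [hF]
      zify [h1] at h2 ⊢
      linear_combination -h2
    rcases hk with rfl | rfl
    · exact h3 ▸ dvd_mul_right _ _
    · exact h3 ▸ dvd_mul_left _ _
  have h1lt : k ≠ 1 := by
    have h3 : 2 ^ (m + 1) < 2 ^ (2 * m + 1) := Nat.pow_lt_pow_right (by norm_num) (by omega)
    rcases hk with rfl | rfl <;> generalize 2 ^ (2 * m + 1) = u at * <;> generalize 2 ^ (m + 1) = v at * <;> omega
  obtain ⟨p, hp, hpd⟩ := Nat.exists_prime_and_dvd h1lt
  haveI := Fact.mk hp
  obtain ⟨y, hy⟩ := exists_prime_orderOf_dvd_card' p (hU.symm ▸ hpd)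
  refine ⟨U, ⟨p, (y : G), hp, hpd.trans hprod, (Subgroup.orderOf_coe y).trans hy, (hcen _ y.2 ?_).symm⟩, hU⟩
  intro e
  rw [OneMemClass.coe_eq_one] at e
  rw [e, orderOf_one] at hy
  exact hp.ne_one hy.symm

theorem card_tori {k : ℕ} (hk : k ∈ ({2 ^ (2 * m + 1) + 2 ^ (m + 1) + 1, 2 ^ (2 * m + 1) - 2 ^ (m + 1) + 1} : Set ℕ)) :
    4 * k * (tori (m := m) (F := F) k).ncard =
      Fintype.card F ^ 2 * (Fintype.card F ^ 2 + 1) * (Fintype.card F - 1) := by
  obtain ⟨T, hT, hTk⟩ := exists_torus hF hm hk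
  set N := Subgroup.normalizer (T : Set G) with hN
  let f : G ⧸ N → tori (m := m) (F := F) k := fun w =>
    ⟨T.map (MulAut.conj w.out).toMonoidHom, isTorus_map hF hm hT _, by
      rw [Subgroup.card_map_of_injective (MulAut.conj w.out).injective, hTk]⟩
  have hkey : ∀ c d : G, T.map (MulAut.conj c).toMonoidHom = T.map (MulAut.conj d).toMonoidHom → c⁻¹ * d ∈ N := by
    intro c d e
    refine Subgroup.mem_normalizer_fintype fun t ht => ?_
    obtain ⟨s, hs, hse⟩ : d * t * d⁻¹ ∈ T.map (MulAut.conj c).toMonoidHom := e ▸ ⟨t, ht, rfl⟩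
    have : c⁻¹ * d * t * (c⁻¹ * d)⁻¹ = s := by
      rw [show c⁻¹ * d * t * (c⁻¹ * d)⁻¹ = c⁻¹ * (d * t * d⁻¹) * c by group, ← hse]
      simp [mul_assoc]
    rwa [this]
  have hfb : Function.Bijective f := by
    refine ⟨fun v w e => ?_, fun ⟨T', hT', hTk'⟩ => ?_⟩
    · rw [← QuotientGroup.out_eq' v, ← QuotientGroup.out_eq' w]
      exact QuotientGroup.eq.2 (hkey _ _ (congrArg Subtype.val e))
    · obtain ⟨c, rfl⟩ := tori_conj hF hm hT hT' (hTk.trans hTk'.symm)
      refine ⟨(c : G ⧸ N), Subtype.ext ?_⟩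
      obtain ⟨⟨n, hn⟩, hcn⟩ := QuotientGroup.mk_out_eq_mul N c
      show T.map (MulAut.conj (c : G ⧸ N).out).toMonoidHom = _
      rw [hcn, map_mul, show (MulAut.conj c * MulAut.conj n).toMonoidHom =
        (MulAut.conj c).toMonoidHom.comp (MulAut.conj n).toMonoidHom from rfl, ← Subgroup.map_map]
      congr 1
      ext t
      constructor
      · rintro ⟨s, hs, rfl⟩
        exact ((Subgroup.mem_set_normalizer_iff.1 hn) s).1 hs
      · intro ht
        refine ⟨n⁻¹ * t * n, ((Subgroup.mem_set_normalizer_iff''.1 hn) t).1 ht, ?_⟩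
        simp [mul_assoc]
  rw [← Nat.card_coe_set_eq, ← Nat.card_eq_of_bijective f hfb, ← Subgroup.index_eq_card, ← hTk,
    ← (hT.facts hF hm).2.2.2.2, ← hN, Subgroup.card_mul_index, card_sz hF hm]

/-- The structure of the normaliser of a torus. -/
theorem normalizer_structure {T : Subgroup G} (hT : IsTorus T) :
    ∃ g ∈ Subgroup.normalizer (T : Set G), orderOf g = 4 ∧
      (∀ t ∈ T, orderOf (g * t) = 4 ∧ orderOf (g ^ 2 * t) = 2 ∧ orderOf (g ^ 3 * t) = 4) ∧
      ∀ z ∈ Subgroup.normalizer (T : Set G), ∃ i < 4, ∃ t ∈ T, z = g ^ i * t := by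
  classical
  obtain ⟨hcyc, hfpf, hcen, -, hNcard⟩ := hT.facts hF hm
  obtain ⟨p, x, hp, hd, hx, rfl⟩ := hT
  set T := Subgroup.centralizer ({x} : Set G) with hTdef
  set N := Subgroup.normalizer (T : Set G) with hN
  have hxT : x ∈ T := Subgroup.mem_centralizer_singleton_iff.2 rfl
  obtain ⟨-, -, -, hconj⟩ := torus hF hm hp hd hx
  obtain ⟨hpq, -⟩ := order_four hF hm hp hd
  have hTN : T ≤ N := Subgroup.le_normalizer
  haveI hnor : (T.subgroupOf N).Normal := Subgroup.normal_in_normalizer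
  choose j hj4 hj using fun g : N => hconj g ((Subgroup.mem_set_normalizer_iff.1 g.2 x).1 hxT)
  set q := Fintype.card F
  have hq1 : 1 ≤ q := Fintype.card_pos
  have hpow : ∀ (g : N) (i : ℕ), (g : G) ^ i * x * ((g : G) ^ i)⁻¹ = x ^ (q ^ (j g * i)) := by
    intro g i
    induction i with
    | zero => simp
    | succ i ih =>
      calc (g : G) ^ (i + 1) * x * ((g : G) ^ (i + 1))⁻¹ = (g : G) * ((g : G) ^ i * x * ((g : G) ^ i)⁻¹) * (g : G)⁻¹ := by
            rw [pow_succ']; group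
        _ = ((g : G) * x * (g : G)⁻¹) ^ (q ^ (j g * i)) := by rw [ih, conj_pow]
        _ = x ^ (q ^ (j g * (i + 1))) := by rw [hj, ← pow_mul, ← pow_add]; ring_nf
  have hmemT : ∀ (g : N) (i : ℕ), (g : G) ^ i ∈ T ↔ 4 ∣ j g * i := by
    intro g i
    rw [Subgroup.mem_centralizer_singleton_iff, ← mul_inv_eq_iff_eq_mul, hpow, ← hpq]
    conv_lhs => rw [← pow_one x, ← pow_mul, one_mul, pow_eq_pow_iff_modEq, hx]
    exact ⟨fun h => (Nat.modEq_iff_dvd' (Nat.one_le_pow _ _ hq1)).1 h.symm,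
      fun h => ((Nat.modEq_iff_dvd' (Nat.one_le_pow _ _ hq1)).2 h).symm⟩
  obtain ⟨g₀, hg₀⟩ : ∃ g : N, j g % 2 = 1 := by
    by_contra hno
    push Not at hno
    have hidx : (T.subgroupOf N).index = 4 := by
      have h := (T.subgroupOf N).card_mul_index
      rw [Nat.card_congr (Subgroup.subgroupOfEquivOfLe hTN).toEquiv, hNcard, mul_comm 4] at h
      exact Nat.eq_of_mul_eq_mul_left Nat.card_pos h
    have hle : Nat.card (N ⧸ T.subgroupOf N) ≤ Nat.card Bool := by
      refine Nat.card_le_card_of_injective (fun w => decide (j w.out = 0)) fun v w e => ?_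
      have h1 := hno v.out
      have h2 := hno w.out
      have h3 := hj4 v.out
      have h4 := hj4 w.out
      have e' : j v.out = j w.out := by
        simp only [decide_eq_decide] at e
        omega
      rw [← QuotientGroup.out_eq' v, ← QuotientGroup.out_eq' w]
      refine QuotientGroup.eq.2 (Subgroup.mem_subgroupOf.2 ?_)
      show (v.out : G)⁻¹ * (w.out : G) ∈ T
      refine Subgroup.mem_centralizer_singleton_iff.2 ?_
      have hv := hj v.out
      rw [e', ← hj w.out] at hv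
      calc (v.out : G)⁻¹ * w.out * x = (v.out : G)⁻¹ * ((w.out : G) * x * (w.out : G)⁻¹) * w.out := by group
        _ = x * ((v.out : G)⁻¹ * w.out) := by rw [← hv]; group
    rw [← Subgroup.index_eq_card, hidx, Nat.card_eq_fintype_card (α := Bool), Fintype.card_bool] at hle
    omega
  have hodd : Nat.card ↥T % 2 = 1 := by
    have := torus_card_odd hF hm (⟨p, x, hp, hd, hx, rfl⟩ : IsTorus T)
    omega
  set g := (g₀ : G) ^ Nat.card ↥T with hg
  have hgT : ∀ i : ℕ, g ^ i ∈ T ↔ 4 ∣ i := fun i => by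
    rw [hg, ← pow_mul, hmemT]
    have hco : Nat.Coprime 4 (j g₀ * Nat.card ↥T) := by
      refine (Nat.Coprime.pow_left 2 ?_ : Nat.Coprime (2 ^ 2) _)
      rw [Nat.prime_two.coprime_iff_not_dvd, Nat.dvd_iff_mod_eq_zero, Nat.mul_mod, hg₀, hodd]
      decide
    exact ⟨fun h => hco.dvd_of_dvd_mul_left (by rwa [mul_assoc]), fun h => (h.mul_left _).mul_left _⟩
  have hg4 : g ^ 4 = 1 := by
    have h4 : (g₀ : G) ^ 4 ∈ T := (hmemT g₀ 4).2 (dvd_mul_left 4 _)
    rw [hg, ← pow_mul, mul_comm, pow_mul]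
    exact congrArg Subtype.val (pow_card_eq_one' (x := (⟨_, h4⟩ : T)))
  have hgN : g ∈ N := pow_mem g₀.2 _
  have hgo : orderOf g = 4 := by
    haveI : Fact (Nat.Prime 2) := ⟨Nat.prime_two⟩
    refine orderOf_eq_prime_pow (p := 2) (n := 1) (fun h => ?_) hg4
    have := (hgT (2 ^ 1)).1 (by rw [h]; exact one_mem _)
    norm_num at this
  have hnT : ∀ i : ℕ, ∀ t ∈ T, g ^ i * t ∈ T → 4 ∣ i := fun i t ht h =>
    (hgT i).1 (by simpa using mul_mem h (inv_mem ht))
  have hsq : ∀ t ∈ T, ∀ i : ℕ, ∃ t' ∈ T, g ^ i * t * (g ^ i * t) = g ^ (2 * i) * t' := fun t ht i => by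
    refine ⟨(g ^ i)⁻¹ * t * g ^ i * t,
      mul_mem (((Subgroup.mem_set_normalizer_iff''.1 (pow_mem hgN i)) t).1 ht) ht, ?_⟩
    rw [two_mul, pow_add]; group
  have h2 : ∀ t ∈ T, orderOf (g ^ 2 * t) = 2 := by
    intro t ht
    haveI : Fact (Nat.Prime 2) := ⟨Nat.prime_two⟩
    obtain ⟨t', ht', e⟩ := hsq t ht 2
    rw [show 2 * 2 = 4 from rfl, hg4, one_mul] at e
    have ht'1 : t' = 1 := by
      by_contra hne
      have hmem : g ^ 2 * t ∈ T := by
        rw [← hcen t' ht' hne, Subgroup.mem_centralizer_singleton_iff, ← e]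
        group
      have := hnT 2 t ht hmem
      norm_num at this
    refine orderOf_eq_prime (by rw [pow_two, e, ht'1]) fun h => ?_
    have := hnT 2 t ht (by rw [h]; exact one_mem _)
    norm_num at this
  have h13 : ∀ i, i = 1 ∨ i = 3 → ∀ t ∈ T, orderOf (g ^ i * t) = 4 := by
    intro i hi t ht
    haveI : Fact (Nat.Prime 2) := ⟨Nat.prime_two⟩
    obtain ⟨t', ht', e⟩ := hsq t ht i
    have e2 : g ^ (2 * i) = g ^ 2 := by
      rcases hi with rfl | rfl
      · rfl
      · rw [show 2 * 3 = 4 + 2 from rfl, pow_add, hg4, one_mul]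
    rw [e2] at e
    have ho := h2 t' ht'
    rw [← e, ← pow_two] at ho
    refine orderOf_eq_prime_pow (p := 2) (n := 1) ?_ ?_
    · rw [pow_one]
      intro h
      rw [h, orderOf_one] at ho
      omega
    · rw [show 2 ^ (1 + 1) = 2 * 2 from rfl, pow_mul]
      exact orderOf_dvd_iff_pow_eq_one.1 ho.dvd
  refine ⟨g, hgN, hgo, fun t ht => ⟨by simpa using h13 1 (Or.inl rfl) t ht, h2 t ht, h13 3 (Or.inr rfl) t ht⟩, ?_⟩
  intro z hz
  have hinj : Function.Injective (fun w : Fin 4 × T => (⟨g ^ (w.1 : ℕ) * w.2, mul_mem (pow_mem hgN _) (hTN w.2.2)⟩ : N)) := by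
    rintro ⟨⟨i, hi⟩, t⟩ ⟨⟨i', hi'⟩, t'⟩ e
    have e' : g ^ i * (t : G) = g ^ i' * (t' : G) := congrArg Subtype.val e
    have hi4 : i = i' := by
      rcases le_total i i' with h | h
      · have : g ^ (i' - i) * (t' : G) = t := by
          rw [← mul_right_inj (g ^ i), e', ← mul_assoc, ← pow_add, Nat.add_sub_cancel' h]
        have := hnT (i' - i) t' t'.2 (by rw [this]; exact t.2)
        omega
      · have : g ^ (i - i') * (t : G) = t' := by
          rw [← mul_right_inj (g ^ i'), ← e', ← mul_assoc, ← pow_add, Nat.add_sub_cancel' h]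
        have := hnT (i - i') t t.2 (by rw [this]; exact t'.2)
        omega
    subst hi4
    rw [mul_right_inj] at e'
    rw [Subtype.ext e']
  have hbij : Function.Bijective _ := (Fintype.bijective_iff_injective_and_card _).2 ⟨hinj, by
    rw [Fintype.card_prod, Fintype.card_fin, ← Nat.card_eq_fintype_card, ← Nat.card_eq_fintype_card, ← hNcard]⟩
  obtain ⟨⟨⟨i, hi⟩, t⟩, e⟩ := hbij.2 ⟨z, hz⟩
  exact ⟨i, hi, t, t.2, (congrArg Subtype.val e).symm⟩

theorem count_in_normalizer {T : Subgroup G} (hT : IsTorus T) :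
    {z : G | z ∈ Subgroup.normalizer (T : Set G) ∧ orderOf z = 2}.ncard = Nat.card ↥T ∧
    {z : G | z ∈ Subgroup.normalizer (T : Set G) ∧ orderOf z = 4}.ncard = 2 * Nat.card ↥T := by
  obtain ⟨g, hgN, hgo, hord, hall⟩ := normalizer_structure hF hm hT
  have hTN : T ≤ Subgroup.normalizer (T : Set G) := Subgroup.le_normalizer
  have hodd : ∀ t ∈ T, orderOf t ≠ 2 ∧ orderOf t ≠ 4 := fun t ht => by
    have h := Subgroup.orderOf_dvd_natCard T ht
    constructor <;> intro e <;> rw [e] at h <;> exact torus_card_odd hF hm hT (dvd_trans (by norm_num) h)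
  have himg : ∀ c : G, ((fun t => c * t) '' (T : Set G)).ncard = Nat.card ↥T := fun c => by
    rw [Set.ncard_image_of_injective _ (mul_right_injective c), ← Nat.card_coe_set_eq, SetLike.coe_sort_coe]
  have e2 : {z : G | z ∈ Subgroup.normalizer (T : Set G) ∧ orderOf z = 2} = (fun t => g ^ 2 * t) '' (T : Set G) := by
    ext z
    constructor
    · rintro ⟨hz, ho⟩
      obtain ⟨i, hi, t, ht, rfl⟩ := hall z hz
      interval_cases i
      · rw [pow_zero, one_mul] at ho; exact absurd ho (hodd t ht).1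
      · rw [pow_one, (hord t ht).1] at ho; omega
      · exact ⟨t, ht, rfl⟩
      · rw [(hord t ht).2.2] at ho; omega
    · rintro ⟨t, ht, rfl⟩
      exact ⟨mul_mem (pow_mem hgN _) (hTN ht), (hord t ht).2.1⟩
  have e4 : {z : G | z ∈ Subgroup.normalizer (T : Set G) ∧ orderOf z = 4} =
      (fun t => g * t) '' (T : Set G) ∪ (fun t => g ^ 3 * t) '' (T : Set G) := by
    ext z
    constructor
    · rintro ⟨hz, ho⟩
      obtain ⟨i, hi, t, ht, rfl⟩ := hall z hz
      interval_cases i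
      · rw [pow_zero, one_mul] at ho; exact absurd ho (hodd t ht).2
      · exact Or.inl ⟨t, ht, by rw [pow_one]⟩
      · rw [(hord t ht).2.1] at ho; omega
      · exact Or.inr ⟨t, ht, rfl⟩
    · rintro (⟨t, ht, rfl⟩ | ⟨t, ht, rfl⟩)
      · exact ⟨mul_mem hgN (hTN ht), (hord t ht).1⟩
      · exact ⟨mul_mem (pow_mem hgN _) (hTN ht), (hord t ht).2.2⟩
  refine ⟨by rw [e2, himg], ?_⟩
  rw [e4, Set.ncard_union_eq, himg, himg, two_mul]
  rw [Set.disjoint_left]
  rintro _ ⟨t, ht, rfl⟩ ⟨t', ht', e⟩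
  have : g ^ 2 * t' = t := by
    rw [← mul_right_inj g, ← mul_assoc, ← pow_succ']
    exact e
  have h1 := (hord t' ht').2.1
  rw [this] at h1
  exact (hodd t ht).1 h1

theorem card_fix_in_normalizer {T : Subgroup G} (hT : IsTorus T) {x : G}
    (hxN : x ∈ Subgroup.normalizer (T : Set G)) (hx : orderOf x = 2 ∨ orderOf x = 4) {a : Ω} (ha : x • a = a) :
    ((Subgroup.normalizer (T : Set G) : Set G) ∩ stabilizer G a).ncard = 4 := by
  classical
  set N := Subgroup.normalizer (T : Set G)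
  obtain ⟨g, hgN, hgo, hord, hall⟩ := normalizer_structure hF hm hT
  have hfpf := (hT.facts hF hm).2.1
  obtain ⟨h, hhN, hho, hha⟩ : ∃ h ∈ N, orderOf h = 4 ∧ h • a = a := by
    rcases hx with hx | hx
    · let f : T → {z : G | z ∈ N ∧ orderOf z = 2} := fun t =>
        ⟨g * t * (g * t), mul_mem (mul_mem hgN (Subgroup.le_normalizer t.2)) (mul_mem hgN (Subgroup.le_normalizer t.2)), by
          rw [← pow_two, orderOf_pow' _ two_ne_zero, (hord t t.2).1]; rfl⟩
      have hinj : Function.Injective f := by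
        rintro ⟨t, ht⟩ ⟨t', ht'⟩ e
        have e' : g * t * (g * t) = g * t' * (g * t') := congrArg Subtype.val e
        obtain ⟨b, hb, hub⟩ := fixed_unique hF hm (Or.inr (hord t ht).1)
        obtain ⟨b', hb', hub'⟩ := fixed_unique hF hm (Or.inr (hord t' ht').1)
        have ho2 : orderOf (g * t * (g * t)) = 2 := by
          rw [← pow_two, orderOf_pow' _ two_ne_zero, (hord t ht).1]; rfl
        obtain ⟨e0, -, he0⟩ := involution_fixed hF hm ho2
        have hbb : b' = b := (he0 b' (by rw [e', mul_smul, hb', hb'])).trans (he0 b (by rw [mul_smul, hb, hb])).symm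
        have hfix : ((g * t)⁻¹ * (g * t')) • b = b := by rw [mul_smul, inv_smul_eq_iff, hb, ← hbb, hb']
        have hmem : (g * t)⁻¹ * (g * t') ∈ T := by
          rw [show (g * t)⁻¹ * (g * t') = t⁻¹ * t' by group]; exact mul_mem (inv_mem ht) ht'
        have := Classical.byContradiction fun hne => hfpf _ hmem hne b hfix
        exact Subtype.ext (mul_left_cancel (inv_mul_eq_one.1 this))
      have hbij : Function.Bijective f := (Nat.bijective_iff_injective_and_card _).2 ⟨hinj, by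
        rw [Nat.card_coe_set_eq, (count_in_normalizer hF hm hT).1]⟩
      obtain ⟨⟨t, ht⟩, e⟩ := hbij.2 ⟨x, hxN, hx⟩
      have e' : g * t * (g * t) = x := congrArg Subtype.val e
      refine ⟨g * t, mul_mem hgN (Subgroup.le_normalizer ht), (hord t ht).1, ?_⟩
      obtain ⟨b, hb, hu⟩ := involution_fixed hF hm hx
      rw [hu a ha]
      exact hu _ (by rw [← e', ← mul_smul, mul_assoc, mul_smul, mul_smul (g * t) (g * t), ← mul_smul (g * t) (g * t) b, e', hb])
    · exact ⟨x, hxN, hx, ha⟩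
  refine le_antisymm ?_ ?_
  · have hle : (N ⊓ stabilizer G a) ≤ N := inf_le_left
    obtain ⟨-, -, -, -, hNcard⟩ := hT.facts hF hm
    have hinj : Function.Injective (fun z : ↥(N ⊓ stabilizer G a) => ((⟨z, hle z.2⟩ : N) : ↥N ⧸ T.subgroupOf N)) := by
      intro z z' e
      have hmem := Subgroup.mem_subgroupOf.1 (QuotientGroup.eq.1 e)
      have hmem2 : ((z⁻¹ * z' : ↥(N ⊓ stabilizer G a)) : G) ∈ T := hmem
      have hz : ((z⁻¹ * z' : ↥(N ⊓ stabilizer G a)) : G) • a = a := (z⁻¹ * z').2.2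
      have : (z⁻¹ * z') = 1 := Subtype.ext (Classical.byContradiction fun hne => hfpf _ hmem2 hne a hz)
      exact inv_mul_eq_one.1 this
    have := Nat.card_le_card_of_injective _ hinj
    rw [← Nat.card_coe_set_eq]
    refine this.trans (le_of_eq ?_)
    rw [Subgroup.card_eq_card_quotient_mul_card_subgroup (T.subgroupOf N),
      Nat.card_congr (Subgroup.subgroupOfEquivOfLe (Subgroup.le_normalizer (H := T))).toEquiv] at hNcard
    exact Nat.eq_of_mul_eq_mul_right Nat.card_pos hNcard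
  · refine le_of_eq_of_le ((Nat.card_zpowers h).trans hho).symm ?_
    rw [← SetLike.coe_sort_coe, Nat.card_coe_set_eq]
    exact Set.ncard_le_ncard (fun z hz => ⟨Subgroup.zpowers_le.2 hhN hz,
      (Subgroup.zpowers_le.2 (mem_stabilizer_iff.2 hha) : _ ≤ stabilizer G a) hz⟩) (Set.toFinite _)

end Cfsg.Agent.SzSolvable
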