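import Cfsg.Agent.Lib.Lie.SuzukiFixityTwo
import Cfsg.Agent.Lib.Lie.SuzukiAct

/-!
# Solvable subgroups of the Suzuki groups
-/

set_option autoImplicit false

namespace Cfsg.Agent.SzSolvable

open MulAction Cfsg.Agent.Lie.Suzuki
open scoped Pointwise

variable {F : Type*} [Field F] {m : ℕ} [Fintype F] (hF : Fintype.card F = 2 ^ (2 * m + 1)) (hm : 1 ≤ m)

local notation "G" => Cfsg.Sz F m
local notation "Ω" => Cfsg.suzukiOvoid F m

/-- The torus fixing two points. -/
abbrev pairTorus (a b : Ω) : Subgroup G := stabilizer G a ⊓ stabilizer G b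

/-- The setwise stabilizer of a pair of points. -/
abbrev pairStab (a b : Ω) : Subgroup G := stabilizer G ({a, b} : Set Ω)

/-- The tori without fixed points. -/
def IsTorus (T : Subgroup G) : Prop :=
  ∃ (p : ℕ) (x : G), p.Prime ∧ p ∣ Fintype.card F ^ 2 + 1 ∧ orderOf x = p ∧
    T = Subgroup.centralizer ({x} : Set G)

theorem mem_pairStab {a b : Ω} {g : G} :
    g ∈ pairStab a b ↔ (g • a = a ∧ g • b = b) ∨ (g • a = b ∧ g • b = a) := by
  rw [mem_stabilizer_iff, Set.smul_set_insert, Set.smul_set_singleton, Set.pair_eq_pair_iff]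

theorem mem_pairTorus {a b : Ω} {g : G} : g ∈ pairTorus a b ↔ g • a = a ∧ g • b = b := by
  rw [Subgroup.mem_inf, mem_stabilizer_iff, mem_stabilizer_iff]

theorem pairTorus_le (a b : Ω) : pairTorus (m := m) a b ≤ pairStab a b :=
  fun _ hg => mem_pairStab.2 (Or.inl (mem_pairTorus.1 hg))

theorem smul_a_of_odd {a b : Ω} {g : G} (hg : g ∈ pairStab a b) (ho : ¬ 2 ∣ orderOf g) :
    g ∈ pairTorus a b := by
  rcases mem_pairStab.1 hg with h | ⟨ha, hb⟩
  · exact mem_pairTorus.2 h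
  · have h2 : g * g ∈ pairTorus a b :=
      mem_pairTorus.2 ⟨by rw [mul_smul, ha, hb], by rw [mul_smul, hb, ha]⟩
    obtain ⟨j, hj⟩ := (Nat.odd_iff.2 (by omega : orderOf g % 2 = 1) : Odd (orderOf g))
    have h : g = (g * g) ^ (j + 1) := by
      rw [← pow_two, ← pow_mul, show 2 * (j + 1) = orderOf g + 1 by omega, pow_succ, pow_orderOf_eq_one, one_mul]
    rw [h]
    exact pow_mem h2 _

include hF hm

theorem stab_isSolvable (a : Ω) : Group.IsSolvable ↥(stabilizer G a) := by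
  haveI := sz_pretransitive (m := m) hF
  obtain ⟨g, hg⟩ := exists_smul_eq G (⟨_, inf_mem⟩ : Ω) a
  rw [← hg, stabilizer_smul_eq_stabilizer_map_conj]
  set S := stabilizer G (⟨_, inf_mem⟩ : Ω) with hS
  suffices Group.IsSolvable ↥S from
    Group.isSolvable_of_surjective (f := ((MulAut.conj g).subgroupMap S).toMonoidHom) (MulEquiv.surjective _)
  have hU : uSub (m := m) hF ≤ S := by
    rintro _ ⟨c, d, rfl⟩
    exact Subtype.ext (tM_inf c d)
  have hd : ∀ k : Fˣ, dS (m := m) hF k ∈ S := fun k => Subtype.ext (dM_inf k)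
  haveI hn : ((uSub (m := m) hF).subgroupOf S).Normal := by
    refine ⟨fun u hu z => ?_⟩
    have hz : (z : G) ∈ Subgroup.normalizer ((uSub (m := m) hF : Subgroup G) : Set G) := by
      rw [normalizer_uSub hF hm, mem_stabilizer_iff]
      exact congrArg Subtype.val z.2
    exact Subgroup.mem_subgroupOf.2 ((Subgroup.mem_set_normalizer_iff.1 hz _).1 hu)
  haveI : Fact (Nat.Prime 2) := ⟨Nat.prime_two⟩
  haveI : Group.IsNilpotent ↥((uSub (m := m) hF).subgroupOf S) :=
    ((uSub_isPGroup (m := m) hF).of_equiv (Subgroup.subgroupOfEquivOfLe hU).symm).isNilpotent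
  let φ : Fˣ →* ↥S ⧸ (uSub (m := m) hF).subgroupOf S :=
    (QuotientGroup.mk' _).comp ((dS hF).codRestrict S hd)
  have hφ : Function.Surjective φ := by
    intro w
    obtain ⟨⟨z, hz⟩, rfl⟩ := QuotientGroup.mk'_surjective _ w
    obtain ⟨c, d, k, rfl⟩ := sz_fix hF hm z (congrArg Subtype.val hz)
    refine ⟨k, ?_⟩
    show QuotientGroup.mk (s := (uSub (m := m) hF).subgroupOf S) (⟨dS hF k, hd k⟩ : ↥S) = QuotientGroup.mk (⟨tS hF c d * dS hF k, hz⟩ : ↥S)
    refine (QuotientGroup.eq.2 (Subgroup.mem_subgroupOf.2 ?_))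
    have hk : dS (m := m) hF k ∈ Subgroup.normalizer ((uSub (m := m) hF : Subgroup G) : Set G) := by
      rw [normalizer_uSub hF hm, mem_stabilizer_iff]
      exact dM_inf k
    have h := (Subgroup.mem_set_normalizer_iff''.1 hk (tS hF c d)).1 ⟨c, d, rfl⟩
    simpa [mul_assoc] using h
  haveI : Group.IsSolvable (↥S ⧸ (uSub (m := m) hF).subgroupOf S) := Group.isSolvable_of_surjective hφ
  exact (Group.isSolvable_iff_subgroup_quotient ((uSub (m := m) hF).subgroupOf S)).2 ⟨inferInstance, inferInstance⟩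

theorem pairTorus_isCyclic {a b : Ω} (hab : a ≠ b) : IsCyclic ↥(pairTorus a b) := by
  obtain ⟨f, hf⟩ := two_point_cyclic hF hm hab
  exact isCyclic_of_injective f hf

theorem card_pairStab {a b : Ω} (hab : a ≠ b) :
    Nat.card ↥(pairStab a b) = 2 * (Fintype.card F - 1) := by
  obtain ⟨w, hwa, hwb⟩ := MulAction.is_two_pretransitive_iff.1 (sz_two_pretransitive (m := m) hF) hab hab.symm
  have hw : w ∈ pairStab a b := mem_pairStab.2 (Or.inr ⟨hwa, hwb⟩)
  have hwT : w ∉ pairTorus a b := fun h => hab ((mem_pairTorus.1 h).1.symm.trans hwa)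
  rw [← two_point_card hF hm hab, ← Subgroup.card_mul_index ((pairTorus a b).subgroupOf (pairStab a b)),
    Nat.card_congr (Subgroup.subgroupOfEquivOfLe (pairTorus_le a b)).toEquiv, mul_comm 2]
  congr 1
  rw [Subgroup.index_eq_two_iff]
  refine ⟨⟨w, hw⟩, fun g => ?_⟩
  simp only [Subgroup.mem_subgroupOf, Subgroup.coe_mul, mem_pairTorus, mul_smul, hwa, hwb]
  rcases mem_pairStab.1 g.2 with ⟨h1, h2⟩ | ⟨h1, h2⟩
  · exact Or.inr ⟨⟨h1, h2⟩, fun h => hab (h.1.symm.trans h2)⟩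
  · exact Or.inl ⟨⟨h2, h1⟩, fun h => hab (h.1.symm.trans h1)⟩

theorem pairStab_isSolvable {a b : Ω} (hab : a ≠ b) : Group.IsSolvable ↥(pairStab a b) := by
  haveI := pairTorus_isCyclic hF hm hab
  haveI hn : ((pairTorus a b).subgroupOf (pairStab a b)).Normal := by
    refine ⟨fun u hu z => ?_⟩
    simp only [Subgroup.mem_subgroupOf, Subgroup.coe_mul, Subgroup.coe_inv, mem_pairTorus, mul_smul] at hu ⊢
    obtain ⟨z, hz⟩ := z
    dsimp only
    rcases mem_pairStab.1 (inv_mem hz) with ⟨h1, h2⟩ | ⟨h1, h2⟩ <;>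
      rw [h1, h2, hu.1, hu.2] <;>
      simp only [inv_smul_eq_iff] at h1 h2 <;>
      exact ⟨by first | exact h1.symm | exact h2.symm, by first | exact h1.symm | exact h2.symm⟩
  haveI : IsCyclic ↥((pairTorus a b).subgroupOf (pairStab a b)) :=
    isCyclic_of_injective (Subgroup.subgroupOfEquivOfLe (pairTorus_le a b)).toMonoidHom (MulEquiv.injective _)
  haveI : Fact (Nat.Prime 2) := ⟨Nat.prime_two⟩
  have hidx : Nat.card (↥(pairStab a b) ⧸ (pairTorus a b).subgroupOf (pairStab a b)) = 2 := by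
    have h := card_pairStab hF hm hab
    rw [Subgroup.card_eq_card_quotient_mul_card_subgroup ((pairTorus a b).subgroupOf (pairStab a b)),
      Nat.card_congr (Subgroup.subgroupOfEquivOfLe (pairTorus_le a b)).toEquiv, two_point_card hF hm hab] at h
    exact Nat.eq_of_mul_eq_mul_right (by have := (q_facts hF hm).1; omega) h
  haveI := isCyclic_of_prime_card hidx
  haveI : Group.IsSolvable ↥((pairTorus a b).subgroupOf (pairStab a b)) :=
    letI := IsCyclic.commGroup (α := ↥((pairTorus a b).subgroupOf (pairStab a b))); inferInstance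
  haveI : Group.IsSolvable (↥(pairStab a b) ⧸ (pairTorus a b).subgroupOf (pairStab a b)) :=
    letI := IsCyclic.commGroup (α := ↥(pairStab a b) ⧸ (pairTorus a b).subgroupOf (pairStab a b)); inferInstance
  exact (Group.isSolvable_iff_subgroup_quotient ((pairTorus a b).subgroupOf (pairStab a b))).2 ⟨inferInstance, inferInstance⟩

theorem IsTorus.facts {T : Subgroup G} (hT : IsTorus T) :
    IsCyclic ↥T ∧ (∀ g ∈ T, g ≠ 1 → ∀ a : Ω, g • a ≠ a) ∧
      (∀ g ∈ T, g ≠ 1 → Subgroup.centralizer ({g} : Set G) = T) ∧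
      Nat.card ↥T ∈ ({2 ^ (2 * m + 1) + 2 ^ (m + 1) + 1, 2 ^ (2 * m + 1) - 2 ^ (m + 1) + 1} : Set ℕ) ∧
      Nat.card ↥(Subgroup.normalizer (T : Set G)) = 4 * Nat.card ↥T := by
  obtain ⟨p, x, hp, hd, hx, rfl⟩ := hT
  obtain ⟨hc, hf, -, -⟩ := torus hF hm hp hd hx
  refine ⟨hc, hf, fun g hg hg1 => eq_torus hF hm hp hd hx hg hg1, ?_, torus_index_eq_four hF hm hp hd hx⟩
  obtain ⟨U, c, -, hset, hUeq⟩ := torus_conj hF hm hp hd hx
  rwa [hUeq, Subgroup.card_map_of_injective (MulAut.conj c).injective] at hset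

theorem IsTorus.eq_of_mem {T T' : Subgroup G} (hT : IsTorus T) (hT' : IsTorus T') {g : G} (h : g ∈ T)
    (h' : g ∈ T') (hg : g ≠ 1) : T = T' :=
  ((hT.facts hF hm).2.2.1 g h hg).symm.trans ((hT'.facts hF hm).2.2.1 g h' hg)

theorem torus_card_odd {T : Subgroup G} (hT : IsTorus T) : ¬ 2 ∣ Nat.card ↥T := by
  obtain ⟨-, -, -, hc, -⟩ := hT.facts hF hm
  have h1 : 2 ∣ 2 ^ (2 * m + 1) := dvd_pow_self 2 (by omega)
  have h2 : 2 ∣ 2 ^ (m + 1) := dvd_pow_self 2 (by omega)
  have h3 : 2 ^ (m + 1) ≤ 2 ^ (2 * m + 1) := Nat.pow_le_pow_right (by norm_num) (by omega)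
  rcases hc with h | h <;> rw [h] <;> generalize 2 ^ (2 * m + 1) = u at * <;> generalize 2 ^ (m + 1) = v at * <;> omega

theorem torus_one_lt {T : Subgroup G} (hT : IsTorus T) : 1 < Nat.card ↥T := by
  obtain ⟨-, -, -, hc, -⟩ := hT.facts hF hm
  have h3 : 2 ^ (m + 1) < 2 ^ (2 * m + 1) := Nat.pow_lt_pow_right (by norm_num) (by omega)
  rcases hc with h | h <;> rw [h] <;> generalize 2 ^ (2 * m + 1) = u at * <;> generalize 2 ^ (m + 1) = v at * <;> omega

theorem normalizer_isSolvable {T : Subgroup G} (hT : IsTorus T) :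
    Group.IsSolvable ↥(Subgroup.normalizer (T : Set G)) := by
  obtain ⟨hc, -, -, -, hN⟩ := hT.facts hF hm
  set N := Subgroup.normalizer (T : Set G)
  haveI : (T.subgroupOf N).Normal := Subgroup.normal_in_normalizer
  haveI : IsCyclic ↥(T.subgroupOf N) :=
    isCyclic_of_injective (Subgroup.subgroupOfEquivOfLe (Subgroup.le_normalizer (H := T))).toMonoidHom
      (MulEquiv.injective _)
  haveI : Fact (Nat.Prime 2) := ⟨Nat.prime_two⟩
  have hidx : Nat.card (↥N ⧸ T.subgroupOf N) = 2 ^ 2 := by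
    rw [Subgroup.card_eq_card_quotient_mul_card_subgroup (T.subgroupOf N),
      Nat.card_congr (Subgroup.subgroupOfEquivOfLe (Subgroup.le_normalizer (H := T))).toEquiv] at hN
    exact Nat.eq_of_mul_eq_mul_right (by have := torus_one_lt hF hm hT; omega) hN
  haveI := (IsPGroup.of_card hidx).isNilpotent
  haveI : Group.IsSolvable ↥(T.subgroupOf N) :=
    letI := IsCyclic.commGroup (α := ↥(T.subgroupOf N)); inferInstance
  exact (Group.isSolvable_iff_subgroup_quotient (T.subgroupOf N)).2 ⟨inferInstance, inferInstance⟩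

/-- An element of odd prime order, prime to `q² + 1`, fixes exactly two points. -/
theorem exists_pair {y : G} {r : ℕ} (hr : r.Prime) (hy : orderOf y = r) (h2 : r ≠ 2)
    (hn : ¬ r ∣ Fintype.card F ^ 2 + 1) :
    ∃ a b : Ω, a ≠ b ∧ y • a = a ∧ y • b = b ∧ ∀ c, y • c = c → c = a ∨ c = b := by
  obtain ⟨a, ha⟩ := exists_fixed hF hm hr hy hn
  obtain ⟨b, hb, hb', hall⟩ := odd_two_fixed hF hm (g := y) (fun h => hr.ne_one (by rw [← hy, h, orderOf_one]))
    (by rw [hy, Nat.prime_dvd_prime_iff_eq Nat.prime_two hr]; exact Ne.symm h2) ha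
  exact ⟨a, b, hb.symm, ha, hb', hall⟩

/-- **The solvable subgroups.** -/
theorem solvable_cases {M : Subgroup G} (hM : Group.IsSolvable ↥M) :
    (∃ a : Ω, M ≤ stabilizer G a) ∨ (∃ a b : Ω, a ≠ b ∧ M ≤ pairStab a b) ∨
      ∃ T : Subgroup G, IsTorus T ∧ M ≤ Subgroup.normalizer (T : Set G) := by
  classical
  rcases eq_or_ne M ⊥ with rfl | hMne
  · exact Or.inl ⟨⟨_, inf_mem⟩, bot_le⟩
  obtain ⟨n, hn⟩ := (Group.isSolvable_def ↥M).1 hM
  have hex : ∃ k, derivedSeries ↥M k = ⊥ := ⟨n, hn⟩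
  haveI : Nontrivial ↥M := (Subgroup.nontrivial_iff_ne_bot M).2 hMne
  obtain ⟨k, hk⟩ : ∃ k, Nat.find hex = k + 1 := by
    refine Nat.exists_eq_succ_of_ne_zero fun h => ?_
    have := Nat.find_spec hex
    rw [h, derivedSeries_zero] at this
    exact top_ne_bot this
  set A := derivedSeries ↥M k with hA
  have hA1 : A ≠ ⊥ := Nat.find_min hex (by omega)
  have hA2 : ⁅A, A⁆ = ⊥ := by rw [hA, ← derivedSeries_succ, ← hk]; exact Nat.find_spec hex
  haveI : A.Normal := derivedSeries_normal _ _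
  have hcomm : ∀ u ∈ A, ∀ v ∈ A, u * v = v * u := fun u hu v hv =>
    commutatorElement_eq_one_iff_mul_comm.1
      (Subgroup.mem_bot.1 (hA2 ▸ Subgroup.commutator_mem_commutator hu hv)) 
  obtain ⟨r, hr, hrd⟩ := Nat.exists_prime_and_dvd
    (fun h => hA1 (Subgroup.card_eq_one.1 h) : Nat.card ↥A ≠ 1)
  haveI := Fact.mk hr
  obtain ⟨⟨⟨y, hyM⟩, hyA⟩, hy⟩ := exists_prime_orderOf_dvd_card' r hrd
  have hyo : orderOf y = r := by rw [← hy, ← Subgroup.orderOf_coe (⟨⟨y, hyM⟩, hyA⟩ : ↥A), ← Subgroup.orderOf_coe (⟨y, hyM⟩ : ↥M)]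
  have hconj : ∀ g ∈ M, orderOf (g * y * g⁻¹) = r ∧ (g * y * g⁻¹) * y = y * (g * y * g⁻¹) := by
    intro g hg
    refine ⟨by rw [← hyo]; exact (MulAut.conj g).orderOf_eq y, ?_⟩
    exact congrArg Subtype.val (hcomm _ (‹A.Normal›.conj_mem _ hyA ⟨g, hg⟩) _ hyA)
  by_cases hr2 : r = 2
  · subst hr2
    obtain ⟨a, ha, hu⟩ := involution_fixed hF hm hyo
    refine Or.inl ⟨a, fun g hg => ?_⟩
    obtain ⟨ho, hc⟩ := hconj g hg
    obtain ⟨a', ha', hu'⟩ := involution_fixed hF hm ho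
    have h1 : (g * y * g⁻¹) • a = a := hu _ (by rw [← mul_smul, ← hc, mul_smul, ha])
    have h2 : (g * y * g⁻¹) • g • a = g • a := by rw [mul_smul, mul_smul, inv_smul_smul, ha]
    rw [mem_stabilizer_iff, hu' _ h2, hu' _ h1]
  by_cases hd : r ∣ Fintype.card F ^ 2 + 1
  · refine Or.inr (Or.inr ⟨_, ⟨r, y, hr, hd, hyo, rfl⟩, fun g hg => ?_⟩)
    obtain ⟨ho, hc⟩ := hconj g hg
    have hg1 : g * y * g⁻¹ ≠ 1 := fun h => hr.ne_one (by rw [← ho, h, orderOf_one])
    have e := eq_torus hF hm hr hd hyo (g := g * y * g⁻¹) (Subgroup.mem_centralizer_singleton_iff.2 hc) hg1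
    rw [Subgroup.mem_set_normalizer_iff]
    intro z
    conv_rhs => rw [SetLike.mem_coe, ← e]
    simp only [SetLike.mem_coe, Subgroup.mem_centralizer_singleton_iff]
    refine ⟨fun h => by rw [conj_mul, conj_mul, h], fun h => ?_⟩
    rw [conj_mul, conj_mul] at h
    exact mul_left_cancel (mul_right_cancel h)
  · obtain ⟨a, b, hab, ha, hb, hall⟩ := exists_pair hF hm hr hyo hr2 hd
    refine Or.inr (Or.inl ⟨a, b, hab, fun g hg => ?_⟩)
    obtain ⟨ho, hc⟩ := hconj g hg
    obtain ⟨c, d, hcd, hzc, hzd, hall'⟩ := exists_pair hF hm hr ho hr2 hd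
    set z := g * y * g⁻¹ with hz
    have hzab : z ∈ pairTorus a b := by
      refine smul_a_of_odd (mem_pairStab.2 ?_) (by rw [ho, Nat.prime_dvd_prime_iff_eq Nat.prime_two hr]; exact Ne.symm hr2)
      have h1 := hall (z • a) (by rw [← mul_smul, ← hc, mul_smul, ha])
      have h2 := hall (z • b) (by rw [← mul_smul, ← hc, mul_smul, hb])
      have h3 : z • a ≠ z • b := fun h => hab (smul_left_cancel z h)
      rcases h1 with h1 | h1 <;> rcases h2 with h2 | h2
      · exact absurd (h1.trans h2.symm) h3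
      · exact Or.inl ⟨h1, h2⟩
      · exact Or.inr ⟨h1, h2⟩
      · exact absurd (h1.trans h2.symm) h3
    obtain ⟨hza, hzb⟩ := mem_pairTorus.1 hzab
    have h4 : ∀ e : Ω, y • e = e → z • g • e = g • e := fun e he => by
      rw [hz, mul_smul, mul_smul, inv_smul_smul, he]
    have h5 : g • a ≠ g • b := fun h => hab (smul_left_cancel g h)
    rw [mem_pairStab]
    rcases hall' a hza with e1 | e1 <;> rcases hall' b hzb with e2 | e2 <;>
      rcases hall' _ (h4 a ha) with e3 | e3 <;> rcases hall' _ (h4 b hb) with e4 | e4 <;>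
      subst e1 e2 <;> first
        | exact absurd rfl hab
        | exact absurd (e3.trans e4.symm) h5
        | exact Or.inl ⟨e3, e4⟩
        | exact Or.inr ⟨e3, e4⟩

/-- A subgroup that is not a two-group and lies in two of the large solvable subgroups. -/
theorem exists_odd_elem {M : Subgroup G} (hM : ∀ a : Ω, ¬ M ≤ stabilizer G a) :
    ∃ w ∈ M, w ≠ 1 ∧ ¬ 2 ∣ orderOf w := by
  haveI : Fact (Nat.Prime 2) := ⟨Nat.prime_two⟩
  by_contra h
  push Not at h
  have hp : IsPGroup 2 ↥M := by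
    rw [IsPGroup.iff_card]
    refine ⟨(Nat.card ↥M).primeFactorsList.length, Nat.eq_prime_pow_of_unique_prime_dvd Nat.card_pos.ne' fun {d} hd hdd => ?_⟩
    haveI := Fact.mk hd
    obtain ⟨w, hw⟩ := exists_prime_orderOf_dvd_card' d hdd
    have := h (w : G) w.2 (fun e => hd.ne_one (by rw [← hw, ← Subgroup.orderOf_coe, e, orderOf_one]))
    rw [Subgroup.orderOf_coe, hw, Nat.prime_dvd_prime_iff_eq Nat.prime_two hd] at this
    exact this.symm
  obtain ⟨P, hP⟩ := hp.exists_le_sylow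
  obtain ⟨g, hg⟩ := Small.SuzukiFacts.exists_conj_uSub hF hm P
  refine hM (g • (⟨_, inf_mem⟩ : Ω)) fun w hw => ?_
  have := hP hw
  rw [hg] at this
  obtain ⟨u, ⟨c, d, rfl⟩, rfl⟩ := this
  rw [mem_stabilizer_iff]
  show (g * tS hF c d * g⁻¹) • g • (⟨_, inf_mem⟩ : Ω) = _
  rw [mul_smul, mul_smul, inv_smul_smul]
  exact congrArg (g • ·) (Subtype.ext (tM_inf c d))

end Cfsg.Agent.SzSolvable
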