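import Cfsg.Agent.Lib.Lead.SuzukiBinary

/-!
# Products of two conjugates in the Suzuki groups
-/

set_option autoImplicit false

namespace Cfsg.Agent.SzSquares

open MulAction Cfsg.Agent.Lie.Suzuki Cfsg.Agent.SzSolvable Cfsg.Agent.SzSubgroups
open scoped commutatorElement

variable {F : Type*} [Field F] {m : ℕ} [Fintype F] (hF : Fintype.card F = 2 ^ (2 * m + 1)) (hm : 1 ≤ m)

local notation "G" => Cfsg.Sz F m
local notation "Ω" => Cfsg.suzukiOvoid F m

/-- The trace. -/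
def tr (g : G) : F := Matrix.trace ((g : Matrix.SpecialLinearGroup (Fin 4) F) : Matrix (Fin 4) (Fin 4) F)

theorem tr_conj (c g : G) : tr (c * g * c⁻¹) = tr g := by
  unfold tr
  rw [Subgroup.coe_mul, Subgroup.coe_mul, Matrix.SpecialLinearGroup.coe_mul, Matrix.SpecialLinearGroup.coe_mul,
    Matrix.trace_mul_comm, ← Matrix.mul_assoc, ← Matrix.SpecialLinearGroup.coe_mul, ← Subgroup.coe_mul,
    inv_mul_cancel, OneMemClass.coe_one, Matrix.SpecialLinearGroup.coe_one, Matrix.one_mul]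

/-- The hyperplane of the values of `z ↦ z^σ + z`. -/
def hyp : AddSubgroup F :=
  ({ toFun := fun z => z ^ 2 ^ (m + 1) + z
     map_zero' := by simp
     map_add' := fun x y => by rw [add_pow_sg hF]; ring } : F →+ F).range

omit hm in
theorem mem_hyp {v : F} : v ∈ hyp hF ↔ ∃ z, z ^ 2 ^ (m + 1) + z = v := Iff.rfl

include hF hm

theorem ker_hyp {z : F} (h : z ^ 2 ^ (m + 1) + z = 0) : z = 0 ∨ z = 1 :=
  SzBinary.ker_facts hF one_ne_zero (a := (1 : F)) (by rw [one_pow, one_mul, mul_one, add_comm]; exact h)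

theorem hyp_index : (hyp (m := m) hF).index = 2 := by
  classical
  set f : F →+ F := { toFun := fun z => z ^ 2 ^ (m + 1) + z
                      map_zero' := by simp
                      map_add' := fun x y => by rw [add_pow_sg hF]; ring }
  have hk : Nat.card f.ker = 2 := by
    have he : (f.ker : Set F) = {0, 1} := by
      ext z
      refine ⟨fun h => ?_, ?_⟩
      · rcases ker_hyp hF hm (h : z ^ 2 ^ (m + 1) + z = 0) with h | h <;> simp [h]
      · rintro (rfl | rfl)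
        · simp
        · show (1 : F) ^ 2 ^ (m + 1) + 1 = 0
          rw [one_pow, add_self hF]
    show Nat.card (f.ker : Set F) = 2
    rw [Nat.card_coe_set_eq, he, Set.ncard_pair zero_ne_one]
  have h1 : f.range.index * Nat.card f.range = Nat.card F := by
    rw [mul_comm]; exact f.range.card_mul_index
  have h2 : Nat.card F = Nat.card f.range * 2 := by
    rw [← hk, AddSubgroup.card_eq_card_quotient_mul_card_addSubgroup f.ker,
      Nat.card_congr (QuotientAddGroup.quotientKerEquivRange f).toEquiv]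
  rw [h2, mul_comm] at h1
  exact Nat.eq_of_mul_eq_mul_left Nat.card_pos h1

theorem hyp_add {a b : F} (ha : a ∉ hyp (m := m) hF) (hb : b ∉ hyp (m := m) hF) : a + b ∈ hyp (m := m) hF :=
  (AddSubgroup.add_mem_iff_of_index_two (hyp_index hF hm)).2 (iff_of_false ha hb)

theorem hyp_ne_top : hyp (m := m) hF ≠ ⊤ := fun h => by
  have := hyp_index hF hm
  rw [h, AddSubgroup.index_top] at this
  omega

theorem one_not_hyp : (1 : F) ∉ hyp (m := m) hF := by
  rintro ⟨z, hz⟩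
  change z ^ 2 ^ (m + 1) + z = 1 at hz
  have h1 : z ^ 2 ^ (m + 1) = z + 1 := by linear_combination hz - z * two_eq_zero hF
  have h2 : z ^ 2 = z := by
    rw [← sg_sg hF z, h1, add_pow_sg hF, h1, one_pow, add_assoc, add_self hF, add_zero]
  rcases eq_or_ne z 0 with rfl | h0
  · simp at hz
  · rw [sq] at h2
    rw [(mul_eq_left₀ h0).1 h2, one_pow, add_self hF] at hz
    exact zero_ne_one hz

theorem exists_nonzero_hyp : ∃ η ∈ hyp (m := m) hF, η ≠ 0 := by
  obtain ⟨k, hk⟩ := exists_unit_ne_one hF hm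
  refine ⟨_, ⟨(k : F), rfl⟩, fun h => ?_⟩
  rcases ker_hyp hF hm (h : (k : F) ^ 2 ^ (m + 1) + k = 0) with h | h
  · exact k.ne_zero h
  · exact hk h

/-- No scalar but `1` preserves the hyperplane. -/
theorem exists_not_scalar : ∃ ν : F, ν ≠ 0 ∧ ν ≠ 1 ∧ ∃ η ∈ hyp (m := m) hF, ν * η ∉ hyp (m := m) hF := by
  obtain ⟨η, hη, hη0⟩ := exists_nonzero_hyp hF hm
  have h1 : (1 : F) / η * η ∉ hyp (m := m) hF := by
    rw [div_mul_cancel₀ _ hη0]; exact one_not_hyp hF hm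
  refine ⟨1 / η, div_ne_zero one_ne_zero hη0, fun h => ?_, η, hη, h1⟩
  rw [h, one_mul] at h1
  exact h1 hη

/-- The hyperplane parametrizes itself. -/
theorem hyp_surj {v : F} (hv : v ∈ hyp (m := m) hF) : ∃ b ∈ hyp (m := m) hF, b ^ 2 ^ (m + 1) + b = v := by
  obtain ⟨z, hz⟩ := hv
  change z ^ 2 ^ (m + 1) + z = v at hz
  by_cases h : z ∈ hyp (m := m) hF
  · exact ⟨z, h, hz⟩
  · refine ⟨z + 1, hyp_add hF hm h (one_not_hyp hF hm), ?_⟩
    rw [add_pow_sg hF, one_pow, ← hz]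
    linear_combination two_eq_zero hF

/-- The key lemma: a quadratic form takes values outside the hyperplane. -/
theorem exists_value {T : F} (hT : T ≠ 0) :
    ∃ e : F, e ≠ 0 ∧ ∃ η ∈ hyp (m := m) hF, 1 + η + e ^ 2 ^ (m + 1) = T * e ^ (2 ^ (m + 1) + 1) := by
  obtain ⟨e, he⟩ : ∃ e : F, T * e ^ (2 ^ (m + 1) + 1) + e ^ 2 ^ (m + 1) ∉ hyp (m := m) hF := by
    by_contra hno
    push Not at hno
    have hpol : ∀ e e' : F, T * (e ^ 2 ^ (m + 1) * e' + e' ^ 2 ^ (m + 1) * e) ∈ hyp (m := m) hF := by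
      intro e e'
      have := add_mem (hno (e + e')) (add_mem (hno e) (hno e'))
      convert this using 1
      rw [pow_succ (e + e'), pow_succ e, pow_succ e', add_pow_sg hF]
      linear_combination -(T * e ^ 2 ^ (m + 1) * e + T * e' ^ 2 ^ (m + 1) * e' + e ^ 2 ^ (m + 1) + e' ^ 2 ^ (m + 1)) *
        two_eq_zero hF
    obtain ⟨η, ⟨z, hz⟩, hη0⟩ := exists_nonzero_hyp hF hm
    change z ^ 2 ^ (m + 1) + z = η at hz
    refine hyp_ne_top hF hm (eq_top_iff.2 fun v _ => ?_)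
    set l := (v / (T * η)) ^ (2 ^ (m + 1) - 1) with hl
    have hl1 : l ^ (2 ^ (m + 1) + 1) = v / (T * η) := (sg_add_one_left_inv hF _).1
    have h := hpol l (l * z)
    have e : T * (l ^ 2 ^ (m + 1) * (l * z) + (l * z) ^ 2 ^ (m + 1) * l) = v := by
      rw [mul_pow]
      calc T * (l ^ 2 ^ (m + 1) * (l * z) + l ^ 2 ^ (m + 1) * z ^ 2 ^ (m + 1) * l)
          = T * (l ^ (2 ^ (m + 1) + 1) * (z ^ 2 ^ (m + 1) + z)) := by ring
        _ = v := by rw [hl1, hz]; field_simp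
    rwa [e] at h
  refine ⟨e, fun h0 => he ?_, T * e ^ (2 ^ (m + 1) + 1) + e ^ 2 ^ (m + 1) + 1,
    hyp_add hF hm he (one_not_hyp hF hm), ?_⟩
  · rw [h0, zero_pow (Nat.succ_ne_zero _), zero_pow (pow_ne_zero _ two_ne_zero), mul_zero, add_zero]
    exact zero_mem _
  · linear_combination (1 + e ^ 2 ^ (m + 1)) * two_eq_zero hF

/-! ### Traces -/

theorem tr_tS (a b : F) : tr (tS (m := m) hF a b) = 0 := by
  show Matrix.trace (tMat m a b) = 0
  simp [Matrix.trace, Fin.sum_univ_four, tMat]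
  linear_combination (2 : F) * two_eq_zero hF

theorem tr_pair (b c : F) :
    tr (tS (m := m) hF 0 b * (wS hF * tS hF 0 c * wS hF)) = (b * c) ^ 2 ^ (m + 1) := by
  unfold tr
  simp only [Subgroup.coe_mul, Matrix.SpecialLinearGroup.coe_mul]
  show Matrix.trace (tMat m 0 b * ((wM F : Matrix (Fin 4) (Fin 4) F) * tMat m 0 c * (wM F : Matrix (Fin 4) (Fin 4) F))) = _
  simp [Matrix.trace, Matrix.mul_apply, Fin.sum_univ_four, tMat, wM, fv, mul_pow]
  linear_combination (2 + b * c) * two_eq_zero hF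

theorem tr_cell (a b : F) (k : Fˣ) :
    tr (tS (m := m) hF a b * (dS hF k * wS hF)) =
      fv m a b * ((k : F) ^ (2 ^ m + 1))⁻¹ + a ^ 2 ^ (m + 1) * ((k : F) ^ (2 ^ m))⁻¹ := by
  unfold tr
  simp only [Subgroup.coe_mul, Matrix.SpecialLinearGroup.coe_mul]
  show Matrix.trace (tMat m a b * (((dM m k : Matrix.SpecialLinearGroup (Fin 4) F) : Matrix (Fin 4) (Fin 4) F) *
    (wM F : Matrix (Fin 4) (Fin 4) F))) = _
  simp [Matrix.trace, Matrix.mul_apply, Matrix.vecMul, dotProduct, Matrix.diagonal, Fin.sum_univ_four, tMat, wM, dM]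

theorem mem_conj_uSub_of_even {g : G} (h2 : 2 ∣ orderOf g) : ∃ (c : G) (a b : F), c * g * c⁻¹ = tS hF a b := by
  have hz := orderOf_pow_orderOf_div (orderOf_pos g).ne' h2
  set z := g ^ (orderOf g / 2)
  have hzz : z * z = 1 := by rw [← pow_two, ← hz, pow_orderOf_eq_one]
  have hcom : Commute g z := Commute.self_pow g _
  obtain ⟨p, hp, hu⟩ := involution_fixed hF hm hz
  have hgp : g • p = p := hu _ (by rw [← mul_smul, ← hcom.eq, mul_smul, hp])
  obtain ⟨c, hc⟩ := (sz_pretransitive (m := m) hF).exists_smul_eq p (oInf : Ω)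
  obtain ⟨a, b, k, he⟩ := exists_decomp hF hm (g := c * g * c⁻¹)
    (by rw [← hc, mul_smul, mul_smul, inv_smul_smul, hgp])
  obtain ⟨β, hβ⟩ := inv_tS_zero hF hm (g := c * z * c⁻¹) (by rw [← hc, mul_smul, mul_smul, inv_smul_smul, hp])
    (by calc c * z * c⁻¹ * (c * z * c⁻¹) = c * (z * z) * c⁻¹ := by group
          _ = 1 := by rw [hzz]; group)
  have hβ0 : β ≠ 0 := by
    intro h0
    rw [h0, tS_zero hF, conj_eq_one_iff] at hβ
    rw [hβ, orderOf_one] at hz; omega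
  have hcm : tS hF 0 β = c * g * c⁻¹ * tS hF 0 β * (c * g * c⁻¹)⁻¹ := by
    rw [← hβ]
    calc c * z * c⁻¹ = c * (z * g) * g⁻¹ * c⁻¹ := by group
      _ = _ := by rw [← hcom.eq]; group
  rw [he, show tS hF a b * dS hF k * tS hF 0 β * (tS hF a b * dS hF k)⁻¹ =
      tS hF a b * (dS hF k * tS hF 0 β * (dS hF k)⁻¹) * (tS hF a b)⁻¹ by group,
    tS_conj_dS hF hm, mul_zero, ← tS_zero_comm hF, mul_inv_cancel_right] at hcm
  have h := (Small.SuzukiAut.tS_injective hF hcm).2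
  have hk : k = 1 := Units.ext (eq_one_of_pow_sg_add_one hF ((mul_eq_right₀ hβ0).1 h.symm))
  exact ⟨c, a, b, by rw [he, hk, map_one, mul_one]⟩

theorem tr_even {g : G} (h2 : 2 ∣ orderOf g) : tr g = 0 := by
  obtain ⟨c, a, b, h⟩ := mem_conj_uSub_of_even hF hm h2
  rw [← tr_conj c g, h, tr_tS hF hm]

theorem odd_of_tr {g : G} (h : tr g ≠ 0) : g ≠ 1 ∧ ¬ 2 ∣ orderOf g :=
  ⟨fun e => h (by rw [e, ← tS_zero hF, tr_tS hF hm]), fun e => h (tr_even hF hm e)⟩

theorem tr_odd {g : G} (hg : g ≠ 1) (ho : ¬ 2 ∣ orderOf g) : tr g ≠ 0 := by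
  obtain ⟨d, b, c, hb, hc, e⟩ := SzTriangle.exists_form hF hm hg ho
  rw [← tr_conj d g, e, tr_pair hF hm]
  exact pow_ne_zero _ (mul_ne_zero hb hc)

theorem conj_of_tr {g g' : G} (h : tr g = tr g') (h0 : tr g' ≠ 0) : ∃ c : G, c * g * c⁻¹ = g' := by
  obtain ⟨d, b, c, hb, hc, e⟩ := SzTriangle.exists_form hF hm (odd_of_tr hF hm (h ▸ h0)).1 (odd_of_tr hF hm (h ▸ h0)).2
  obtain ⟨d', b', c', hb', hc', e'⟩ := SzTriangle.exists_form hF hm (odd_of_tr hF hm h0).1 (odd_of_tr hF hm h0).2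
  have ht : (b * c) ^ 2 ^ (m + 1) = (b' * c') ^ 2 ^ (m + 1) := by
    rw [← tr_pair hF hm, ← tr_pair hF hm, ← e, ← e', tr_conj, tr_conj, h]
  obtain ⟨u, hu⟩ := SzTriangle.pair_conj hF hm (c := c) (c' := c') hb hb'
    (sq_inj hF (by rw [← sg_sg hF (b * c), ht, sg_sg hF]))
  refine ⟨d'⁻¹ * u * d, ?_⟩
  calc d'⁻¹ * u * d * g * (d'⁻¹ * u * d)⁻¹ = d'⁻¹ * (u * (d * g * d⁻¹) * u⁻¹) * d' := by group
    _ = g' := by rw [e, hu, ← e']; group

/-! ### Products of two conjugates -/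

/-- Products of two conjugates of `x`. -/
def InSq {X : Type*} [Group X] (x g : X) : Prop := ∃ u v : X, g = u * x * u⁻¹ * (v * x * v⁻¹)

omit [Field F] [Fintype F] hF hm in
theorem InSq.conj {X : Type*} [Group X] {x g : X} (h : InSq x g) (c : X) : InSq x (c * g * c⁻¹) := by
  obtain ⟨u, v, rfl⟩ := h
  exact ⟨c * u, c * v, by group⟩

omit [Field F] [Fintype F] hF hm in
theorem InSq.of_conj {X : Type*} [Group X] {x y g : X} (h : IsConj x y) (hg : InSq y g) : InSq x g := by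
  obtain ⟨c, rfl⟩ := isConj_iff.1 h
  obtain ⟨u, v, rfl⟩ := hg
  exact ⟨u * c, v * c, by group⟩

omit [Field F] [Fintype F] hF hm in
theorem InSq.inv {X : Type*} [Group X] {x g : X} (h : InSq x g) : InSq x⁻¹ g⁻¹ := by
  obtain ⟨u, v, rfl⟩ := h
  exact ⟨v, u, by group⟩

/-- The points of the cell with a given trace. -/
theorem exists_cell {T : F} (hT : T ≠ 0) :
    ∃ (k : Fˣ) (b b₀ : F), b ∈ hyp (m := m) hF ∧ tr (tS hF 1 b * (dS hF k * wS hF)) = T ∧
      tr (tS hF 1 (b + 1) * (dS hF k * wS hF)) = T ∧ tr (tS hF 0 b₀ * (dS hF k * wS hF)) = T := by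
  obtain ⟨e, he0, η, hη, heq⟩ := exists_value hF hm hT
  obtain ⟨b, hb, hbη⟩ := hyp_surj hF hm hη
  set k : Fˣ := Units.mk0 (e ^ 2 ^ (m + 1)) (pow_ne_zero _ he0) with hk
  have hk1 : (k : F) ^ (2 ^ m) = e := by
    rw [hk, Units.val_mk0, ← pow_mul,
      show 2 ^ (m + 1) * 2 ^ m = Fintype.card F by rw [hF, ← pow_add]; congr 1; omega, FiniteField.pow_card]
  have hk2 : (k : F) ^ (2 ^ m + 1) = e ^ (2 ^ (m + 1) + 1) := by
    rw [pow_succ (k : F), hk1, hk, Units.val_mk0, pow_succ e (2 ^ (m + 1)), mul_comm]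
  have he1 : e ^ (2 ^ (m + 1) + 1) ≠ 0 := pow_ne_zero _ he0
  have hes : e ^ (2 ^ (m + 1) + 1) = e ^ 2 ^ (m + 1) * e := pow_succ _ _
  have hf : ∀ b' : F, b' ^ 2 ^ (m + 1) + b' = η → tr (tS hF 1 b' * (dS hF k * wS hF)) = T := by
    intro b' hb'
    rw [tr_cell hF hm, hk1, hk2, one_pow, show fv m (1 : F) b' = 1 + η by
      rw [← hb']; simp [fv]; ring]
    field_simp
    rw [hes] at heq ⊢
    linear_combination e * heq
  obtain ⟨b₀, hb₀⟩ : ∃ b₀ : F, b₀ ^ 2 ^ (m + 1) = T * e ^ (2 ^ (m + 1) + 1) := by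
    refine ⟨(T * e ^ (2 ^ (m + 1) + 1)) ^ 2 ^ m, ?_⟩
    rw [← pow_mul, show 2 ^ m * 2 ^ (m + 1) = Fintype.card F by rw [hF, ← pow_add]; congr 1; omega,
      FiniteField.pow_card]
  refine ⟨k, b, b₀, hb, hf b hbη, hf (b + 1) ?_, ?_⟩
  · rw [add_pow_sg hF, one_pow, ← hbη]; linear_combination two_eq_zero hF
  · rw [tr_cell hF hm, hk1, hk2, show fv m (0 : F) b₀ = b₀ ^ 2 ^ (m + 1) by
      simp [fv, zero_pow (pow_ne_zero (m + 1) (two_ne_zero : (2 : ℕ) ≠ 0))], hb₀,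
      zero_pow (pow_ne_zero _ two_ne_zero), zero_mul, add_zero, mul_inv_cancel_right₀ he1]

/-- Odd elements: products landing on odd elements. -/
theorem sq_odd_odd {x g : G} (hx : x ≠ 1) (ho : ¬ 2 ∣ orderOf x) (hg : g ≠ 1) (hgo : ¬ 2 ∣ orderOf g) :
    InSq x g := by
  obtain ⟨h, b, c, hb, hc, e⟩ := SzTriangle.exists_form hF hm hx ho
  obtain ⟨h', b', c', hb', hc', e'⟩ := SzTriangle.exists_form hF hm hg hgo
  obtain ⟨w, hw, hwx⟩ := SzBinary.exists_inverting hF hm hx ho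
  set i := tS (m := m) hF 0 b
  set j := wS (m := m) hF * tS hF 0 c * wS hF with hj
  have ht0 : b' * c' / (c * c) ≠ 0 := div_ne_zero (mul_ne_zero hb' hc') (mul_ne_zero hc hc)
  obtain ⟨y, hy⟩ := exists_sq hF (Units.mk0 _ ht0)
  have hyy : (y : F) * y = b' * c' / (c * c) := congrArg Units.val hy
  have hfv : fv m (0 : F) (y : F) = (y : F) ^ 2 ^ (m + 1) := by
    simp [fv, zero_pow (pow_ne_zero (m + 1) (two_ne_zero : (2 : ℕ) ≠ 0))]
  have hf0 : fv m (0 : F) (y : F) ≠ 0 := by rw [hfv]; exact pow_ne_zero _ y.ne_zero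
  obtain ⟨X, Y, hXY⟩ := SzTriangle.wuw hF hm hf0 c
  obtain ⟨d, hd⟩ := SzTriangle.pair_conj hF hm (b := c) (c := fv m (0 : F) (y : F) ^ 2 ^ (m + 1) * c) (c' := c')
    hc hb' (by rw [hfv, sg_sg hF, pow_two, hyy]; field_simp)
  set u := tS (m := m) hF 0 (y : F)
  set J := wS (m := m) hF * tS hF 0 (fv m (0 : F) (y : F) ^ 2 ^ (m + 1) * c) * wS hF with hJ
  have hij : i * i = 1 := SzTriangle.tS_zero_sq hF hm b
  have hiu : i * u = u * i := tS_zero_comm hF b 0 y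
  -- the product
  have h1 : InSq x (j * i * (u * (i * j) * u⁻¹)) := by
    refine ⟨h * w, u * h, ?_⟩
    have hjj : j⁻¹ = j := by
      rw [hj, mul_inv_rev, mul_inv_rev, wS_inv, inv_eq_of_mul_eq_one_right (SzTriangle.tS_zero_sq hF hm c)]
      group
    have hii : i⁻¹ = i := inv_eq_of_mul_eq_one_right hij
    have e2 : h * w * x * (h * w)⁻¹ = j * i := by
      calc h * w * x * (h * w)⁻¹ = h * (w * x * w⁻¹) * h⁻¹ := by group
        _ = (h * x * h⁻¹)⁻¹ := by rw [hwx]; group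
        _ = j * i := by rw [e, mul_inv_rev, hjj, hii]
    rw [e2, ← e]; group
  rw [show j * i * (u * (i * j) * u⁻¹) = j * (u * j * u⁻¹) by
    calc j * i * (u * (i * j) * u⁻¹) = j * (i * (u * i)) * j * u⁻¹ := by group
      _ = j * (i * i) * u * j * u⁻¹ := by rw [← hiu]; group
      _ = _ := by rw [hij]; group] at h1
  have h2 := ((h1.conj (wS hF)).conj (tS hF X Y)⁻¹).conj d
  have e3 : (tS hF X Y)⁻¹ * (wS hF * (j * (u * j * u⁻¹)) * (wS hF)⁻¹) * (tS hF X Y)⁻¹⁻¹ = tS hF 0 c * J := by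
    calc (tS hF X Y)⁻¹ * (wS hF * (j * (u * j * u⁻¹)) * (wS hF)⁻¹) * (tS hF X Y)⁻¹⁻¹
        = (tS hF X Y)⁻¹ * ((wS hF * j * (wS hF)⁻¹) * (wS hF * (u * j * u⁻¹) * (wS hF)⁻¹)) * tS hF X Y := by group
      _ = (tS hF X Y)⁻¹ * (tS hF 0 c * (tS hF X Y * J * (tS hF X Y)⁻¹)) * tS hF X Y := by
          rw [show (wS (m := m) hF)⁻¹ = wS hF from wS_inv hF, ← hXY, hj]
          congr 3
          calc wS hF * (wS hF * tS hF 0 c * wS hF) * wS hF = wS hF * wS hF * tS hF 0 c * (wS hF * wS hF) := by group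
            _ = _ := by rw [wS_mul_self, one_mul, mul_one]
      _ = (tS hF X Y)⁻¹ * (tS hF 0 c * tS hF X Y) * J := by group
      _ = tS hF 0 c * J := by rw [tS_zero_comm hF]; group
  rw [e3, hJ, hd, ← e'] at h2
  have h3 := h2.conj h'⁻¹
  simpa [mul_assoc] using h3

/-- Odd elements: products landing on two-elements. -/
theorem sq_odd_even {x : G} (hx : x ≠ 1) (ho : ¬ 2 ∣ orderOf x) :
    InSq x (tS hF 0 1) ∧ ∃ g : G, orderOf g = 4 ∧ InSq x g ∧ InSq x g⁻¹ := by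
  obtain ⟨k, b, b₀, -, h1, h2, h3⟩ := exists_cell hF hm (tr_odd hF hm hx ho)
  obtain ⟨w, hw, hwx⟩ := SzBinary.exists_inverting hF hm hx ho
  have hx0 := tr_odd hF hm hx ho
  set D := dS (m := m) hF k * wS hF with hD
  have hmk : ∀ M M' : G, tr M = tr x → tr M' = tr x → InSq x (M * M'⁻¹) := by
    intro M M' hM hM'
    obtain ⟨u, hu⟩ := conj_of_tr hF hm (g := x) (g' := M) hM.symm (hM ▸ hx0)
    obtain ⟨v, hv⟩ := conj_of_tr hF hm (g := x) (g' := M') hM'.symm (hM' ▸ hx0)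
    refine ⟨u, v * w, ?_⟩
    rw [← hu, ← hv, show v * w * x * (v * w)⁻¹ = v * (w * x * w⁻¹) * v⁻¹ by group, hwx]
    group
  refine ⟨?_, tS hF 0 b₀ * (tS hF 1 b)⁻¹, ?_, ?_, ?_⟩
  · have := hmk _ _ h2 h1
    rwa [show tS hF 1 (b + 1) * D * (tS hF 1 b * D)⁻¹ = tS hF 1 (b + 1) * (tS hF 1 b)⁻¹ by group,
      show tS (m := m) hF 1 (b + 1) = tS hF 0 1 * tS hF 1 b by
        rw [tS_mul hF, zero_add, zero_pow (pow_ne_zero _ two_ne_zero), zero_mul, add_zero, add_comm b],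
      mul_inv_cancel_right] at this
  · rw [tS_inv hF, tS_mul hF, zero_add]
    exact (tS_order hF hm _ _).2.2 one_ne_zero
  · have := hmk _ _ h3 h1
    rwa [show tS hF 0 b₀ * D * (tS hF 1 b * D)⁻¹ = tS hF 0 b₀ * (tS hF 1 b)⁻¹ by group] at this
  · have := hmk _ _ h1 h3
    rwa [show tS hF 1 b * D * (tS hF 0 b₀ * D)⁻¹ = (tS hF 0 b₀ * (tS hF 1 b)⁻¹)⁻¹ by group] at this

/-- The class of `tS 1 0`. -/
theorem class_four {b : F} (hb : b ∈ hyp (m := m) hF) : IsConj (tS (m := m) hF 1 0) (tS hF 1 b) := by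
  obtain ⟨z, hz⟩ := hb
  change z ^ 2 ^ (m + 1) + z = b at hz
  refine isConj_iff.2 ⟨tS hF z 0, ?_⟩
  rw [show tS hF z 0 * tS hF 1 0 * (tS hF z 0)⁻¹ = ⁅tS (m := m) hF z 0, tS hF 1 0⁆ * tS hF 1 0 by
    rw [commutatorElement_def]; group, comm_tS hF, tS_mul hF, ← hz]
  simp [one_pow]

theorem class_four_scale {p b : F} (hp : p ≠ 0) (hb : b ∈ hyp (m := m) hF) :
    IsConj (tS (m := m) hF 1 0) (tS hF p (p ^ (2 ^ (m + 1) + 1) * b)) := by
  refine (class_four hF hm hb).trans (isConj_iff.2 ⟨dS hF (Units.mk0 p hp), ?_⟩)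
  rw [tS_conj_dS hF hm, Units.val_mk0, mul_one]

theorem sq_four_odd {g : G} (hg : g ≠ 1) (hgo : ¬ 2 ∣ orderOf g) : InSq (tS (m := m) hF 1 0) g := by
  set h := g ^ ((orderOf g + 1) / 2) with hh
  have hhg : h * h = g := by
    rw [hh, ← pow_add, show (orderOf g + 1) / 2 + (orderOf g + 1) / 2 = orderOf g + 1 by omega, pow_succ,
      pow_orderOf_eq_one, one_mul]
  have hh1 : h ≠ 1 := fun e => hg (by rw [← hhg, e, one_mul])
  have hho : ¬ 2 ∣ orderOf h := fun e => hgo (e.trans (orderOf_dvd_of_pow_eq_one (by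
    rw [hh, pow_right_comm, pow_orderOf_eq_one, one_pow])))
  have hT := tr_odd hF hm hh1 hho
  obtain ⟨k, b, -, hb, h1, -, -⟩ := exists_cell hF hm hT
  obtain ⟨c, hc⟩ := conj_of_tr hF hm h1 hT
  set D := dS (m := m) hF k * wS hF with hD
  have hDD : D * D = 1 := by
    have e : wS hF * dS hF k * wS hF = dS hF k⁻¹ := Subtype.ext (wM_dM_wM k)
    rw [hD, show dS hF k * wS hF * (dS hF k * wS hF) = dS hF k * (wS hF * dS hF k * wS hF) by group, e,
      ← map_mul, mul_inv_cancel, map_one]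
  have hDi : D⁻¹ = D := inv_eq_of_mul_eq_one_right hDD
  have h2 : InSq (tS (m := m) hF 1 b) (tS hF 1 b * D * (tS hF 1 b * D)) :=
    ⟨1, D, by rw [one_mul, inv_one, mul_one, hDi]; group⟩
  have h3 := (InSq.of_conj (class_four hF hm hb) h2).conj c
  rwa [show c * (tS hF 1 b * D * (tS hF 1 b * D)) * c⁻¹ =
    c * (tS hF 1 b * D) * c⁻¹ * (c * (tS hF 1 b * D) * c⁻¹) by group, hc, hhg] at h3

theorem sq_four_four (γ : F) : InSq (tS (m := m) hF 1 0) (tS hF 1 γ) := by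
  obtain ⟨ν, hν0, hν1, η₀, hη₀, hνη⟩ := exists_not_scalar hF hm
  set l := ν ^ (2 ^ (m + 1) - 1) with hl
  have hl1 : l ^ (2 ^ (m + 1) + 1) = ν := (sg_add_one_left_inv hF ν).1
  have hl0 : l ≠ 0 := fun e => hν0 (by rw [← hl1, e, zero_pow (Nat.succ_ne_zero _)])
  have hl11 : 1 + l ≠ 0 := fun e => hν1 (by
    rw [← hl1, (eq_neg_of_add_eq_zero_right e).trans (neg_eq hF 1), one_pow])
  set p' := 1 / (1 + l) with hp'
  have hp0 : p' ≠ 0 := div_ne_zero one_ne_zero hl11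
  set p := l * p' with hp
  have hp1 : p ≠ 0 := mul_ne_zero hl0 hp0
  have hsum : p + p' = 1 := by rw [hp, hp']; field_simp; ring
  set R := (γ + p ^ 2 ^ (m + 1) * p') / p' ^ (2 ^ (m + 1) + 1) with hR
  obtain ⟨η, η', hη, hη', heq⟩ : ∃ η η' : F, η ∈ hyp (m := m) hF ∧ η' ∈ hyp (m := m) hF ∧ R = ν * η + η' := by
    by_cases h : R ∈ hyp (m := m) hF
    · exact ⟨0, R, zero_mem _, h, by ring⟩
    · exact ⟨η₀, R + ν * η₀, hη₀, hyp_add hF hm h hνη, by linear_combination -(ν * η₀) * two_eq_zero hF⟩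
  have key : tS (m := m) hF p (p ^ (2 ^ (m + 1) + 1) * η) * tS hF p' (p' ^ (2 ^ (m + 1) + 1) * η') = tS hF 1 γ := by
    rw [tS_mul hF, hsum]
    congr 1
    have e1 : p ^ (2 ^ (m + 1) + 1) = ν * p' ^ (2 ^ (m + 1) + 1) := by rw [hp, mul_pow, hl1]
    have e2 : p' ^ (2 ^ (m + 1) + 1) * R = γ + p ^ 2 ^ (m + 1) * p' := by
      rw [hR]; exact mul_div_cancel₀ _ (pow_ne_zero _ hp0)
    rw [e1]
    linear_combination e2 - p' ^ (2 ^ (m + 1) + 1) * heq + p ^ 2 ^ (m + 1) * p' * two_eq_zero hF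
  obtain ⟨u, hu⟩ := isConj_iff.1 (class_four_scale hF hm hp1 hη)
  obtain ⟨v, hv⟩ := isConj_iff.1 (class_four_scale hF hm hp0 hη')
  exact ⟨u, v, by rw [hu, hv, key]⟩

/-- **Every nontrivial element is a product of two conjugates of an element of order above two.** -/
theorem main {x : G} (hx : 2 < orderOf x) {g : G} (hg : g ≠ 1) : InSq x g := by
  have hx1 : x ≠ 1 := fun e => by rw [e, orderOf_one] at hx; omega
  have hbuild : ∀ y : G, InSq y (tS hF 0 1) → (∃ t : G, orderOf t = 4 ∧ InSq y t ∧ InSq y t⁻¹) →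
      (∀ g : G, g ≠ 1 → ¬ 2 ∣ orderOf g → InSq y g) → ∀ g : G, g ≠ 1 → InSq y g := by
    intro y hinv ⟨t, ht, hf1, hf2⟩ hodd g hg
    by_cases h2 : 2 ∣ orderOf g
    · obtain ⟨c, a, b, hc⟩ := mem_conj_uSub_of_even hF hm h2
      have ho : orderOf g = orderOf (tS (m := m) hF a b) := by rw [← hc, SzSolvable.orderOf_conj hF hm]
      rcases eq_or_ne a 0 with rfl | ha
      · rcases eq_or_ne b 0 with rfl | hb
        · rw [tS_zero hF, conj_eq_one_iff] at hc
          exact absurd hc hg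
        · obtain ⟨d, hd⟩ := isConj_iff.1 (conj_involutions hF hm (SzTriangle.orderOf_tS_zero hF hm one_ne_zero)
            (ho.trans (SzTriangle.orderOf_tS_zero hF hm hb)))
          exact hd ▸ hinv.conj d
      · rcases conj_order_four hF hm ht (ho.trans ((tS_order hF hm a b).2.2 ha)) with h | h
        · obtain ⟨d, hd⟩ := isConj_iff.1 h; exact hd ▸ hf1.conj d
        · obtain ⟨d, hd⟩ := isConj_iff.1 h; exact hd ▸ hf2.conj d
    · exact hodd g hg h2
  by_cases ho : 2 ∣ orderOf x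
  · have h0 : InSq (tS (m := m) hF 1 0) (tS hF 0 1) := ⟨1, 1, by
      rw [one_mul, inv_one, mul_one, tS_mul hF, add_self hF, add_self hF, zero_add, one_pow, mul_one]⟩
    have hall : ∀ g : G, g ≠ 1 → InSq (tS (m := m) hF 1 0) g :=
      hbuild _ h0 ⟨_, (tS_order hF hm 1 0).2.2 one_ne_zero, sq_four_four hF hm 0, by
        rw [tS_inv hF, zero_add]; exact sq_four_four hF hm _⟩ (fun g => sq_four_odd hF hm)
    obtain ⟨c, a, b, hc⟩ := mem_conj_uSub_of_even hF hm ho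
    have ho4 : orderOf x = 4 := by
      have h4 : orderOf x = orderOf (tS (m := m) hF a b) := by rw [← hc, SzSolvable.orderOf_conj hF hm]
      rcases eq_or_ne a 0 with rfl | ha
      · rcases eq_or_ne b 0 with rfl | hb
        · rw [tS_zero hF, orderOf_one] at h4; omega
        · rw [SzTriangle.orderOf_tS_zero hF hm hb] at h4; omega
      · exact h4.trans ((tS_order hF hm a b).2.2 ha)
    rcases conj_order_four hF hm ho4 ((tS_order hF hm 1 0).2.2 one_ne_zero) with h | h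
    · exact InSq.of_conj h (hall g hg)
    · have h' := InSq.of_conj h (hall g⁻¹ (inv_ne_one.2 hg))
      simpa using h'.inv
  · obtain ⟨h1, h2⟩ := sq_odd_even hF hm hx1 ho
    exact hbuild x h1 h2 (fun g => sq_odd_odd hF hm hx1 ho) g hg

end Cfsg.Agent.SzSquares
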