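import Cfsg.Agent.Lib.Small.SuzukiAut
import Mathlib.FieldTheory.Finite.GaloisField

/-!
Subfield subgroups of the Suzuki groups.
-/

set_option autoImplicit false

namespace Cfsg.Agent.Lead.SuzukiSubfield

open Cfsg.Agent.Lie.Suzuki Cfsg.Agent.Small.SuzukiAut
open scoped commutatorElement

variable {F : Type*} [Field F] [Fintype F] {m : ℕ} (hF : Fintype.card F = 2 ^ (2 * m + 1))
variable {K : Type*} [Field K] [Fintype K] {k : ℕ} (hK : Fintype.card K = 2 ^ (2 * k + 1))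

theorem exists_index (hdiv : 2 * k + 1 ∣ 2 * m + 1) : ∃ j, m = k + j * (2 * k + 1) := by
  obtain ⟨r, hr⟩ := hdiv
  rcases Nat.even_or_odd r with ⟨i, rfl⟩ | ⟨i, rfl⟩
  · exfalso
    have h1 : (2 * k + 1) * (i + i) = 2 * ((2 * k + 1) * i) := by ring
    omega
  · refine ⟨i, ?_⟩
    have h1 : (2 * k + 1) * (2 * i + 1) = 2 * (i * (2 * k + 1)) + (2 * k + 1) := by ring
    omega

include hK in
theorem pow_index {j : ℕ} (y : K) (n : ℕ) : y ^ 2 ^ (n + j * (2 * k + 1)) = y ^ 2 ^ n := by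
  induction j with
  | zero => simp
  | succ j ih =>
    rw [Nat.succ_mul, ← Nat.add_assoc, pow_add 2 (n + j * (2 * k + 1)), pow_mul, ih, ← hK, FiniteField.pow_card]

include hF hK in
theorem exists_embedding (hdiv : 2 * k + 1 ∣ 2 * m + 1) : Nonempty (K →+* F) := by
  classical
  haveI := charTwo hF
  haveI := charTwo hK
  haveI : Fact (Nat.Prime 2) := ⟨Nat.prime_two⟩
  letI : Algebra (ZMod 2) F := ZMod.algebra F 2
  letI : Algebra (ZMod 2) K := ZMod.algebra K 2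
  open Polynomial in
  have hs : ((X ^ Fintype.card K - X : (ZMod 2)[X]).map (algebraMap (ZMod 2) F)).Splits := by
    have h2 : 1 < Fintype.card K := Fintype.one_lt_card
    have h3 : 1 < Fintype.card F := Fintype.one_lt_card
    have hd : (X ^ Fintype.card K - X : F[X]) ∣ X ^ Fintype.card F - X := by
      have e1 : (X ^ Fintype.card K - X : F[X]) = X * (X ^ (Fintype.card K - 1) - 1) := by
        rw [mul_sub, ← pow_succ', mul_one, Nat.sub_add_cancel h2.le]
      have e2 : (X ^ Fintype.card F - X : F[X]) = X * (X ^ (Fintype.card F - 1) - 1) := by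
        rw [mul_sub, ← pow_succ', mul_one, Nat.sub_add_cancel h3.le]
      obtain ⟨r, hr⟩ := hdiv
      obtain ⟨t, ht⟩ : Fintype.card K - 1 ∣ Fintype.card F - 1 := by
        rw [hK, hF, hr, pow_mul]
        simpa using Nat.sub_dvd_pow_sub_pow (2 ^ (2 * k + 1)) 1 r
      rw [e1, e2, ht, pow_mul]
      exact mul_dvd_mul_left _ (sub_one_dvd_pow_sub_one _ t)
    rw [Polynomial.map_sub, Polynomial.map_pow, Polynomial.map_X]
    refine Polynomial.Splits.of_dvd ?_ ?_ hd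
    · rw [Polynomial.splits_iff_card_roots, FiniteField.roots_X_pow_card_sub_X,
        FiniteField.X_pow_card_sub_X_natDegree_eq F h3]
      rfl
    · exact FiniteField.X_pow_card_sub_X_ne_zero F h3
  haveI := FiniteField.isSplittingField_sub K (ZMod 2)
  exact ⟨(Polynomial.IsSplittingField.lift K _ hs).toRingHom⟩

variable (ι : K →+* F)

include hK in
theorem map_pow_sg (hdiv : 2 * k + 1 ∣ 2 * m + 1) (y : K) :
    ι (y ^ 2 ^ (k + 1)) = ι y ^ 2 ^ (m + 1) ∧ ι (y ^ 2 ^ k) = ι y ^ 2 ^ m := by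
  obtain ⟨j, hj⟩ := exists_index hdiv
  constructor
  · rw [← map_pow, show m + 1 = (k + 1) + j * (2 * k + 1) by omega, pow_index hK]
  · rw [← map_pow, hj, pow_index hK]

include hK in
theorem gmap_tM (hdiv : 2 * k + 1 ∣ 2 * m + 1) (a b : K) :
    Matrix.SpecialLinearGroup.map ι (tM k a b) = tM m (ι a) (ι b) := by
  have h : ∀ y : K, ι y ^ 2 ^ (k + 1) = ι y ^ 2 ^ (m + 1) := fun y => by
    rw [← map_pow, (map_pow_sg hK ι hdiv y).1]
  have h1 : ∀ y : K, ι y ^ (2 ^ (k + 1) + 1) = ι y ^ (2 ^ (m + 1) + 1) := fun y => by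
    rw [pow_succ, pow_succ (ι y) (2 ^ (m + 1)), h]
  have h2 : ∀ y : K, ι y ^ (2 ^ (k + 1) + 2) = ι y ^ (2 ^ (m + 1) + 2) := fun y => by
    rw [pow_add, pow_add (ι y) (2 ^ (m + 1)), h]
  apply Subtype.ext
  ext i j
  show ι (((tM k a b) : Matrix.SpecialLinearGroup (Fin 4) K).1 i j) = _
  fin_cases i <;> fin_cases j <;>
    simp [tM, tMat, fv, map_add, map_mul, map_pow, h, h1, h2]

theorem gmap_wM : Matrix.SpecialLinearGroup.map ι (wM K) = wM F := by
  apply Subtype.ext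
  ext i j
  show ι (((wM K) : Matrix.SpecialLinearGroup (Fin 4) K).1 i j) = _
  fin_cases i <;> fin_cases j <;> simp [wM]

include hK in
theorem gmap_dM (hdiv : 2 * k + 1 ∣ 2 * m + 1) (l : Kˣ) :
    Matrix.SpecialLinearGroup.map ι (dM k l) = dM m (Units.map (ι : K →* F) l) := by
  have h : ι (l : K) ^ 2 ^ k = ι (l : K) ^ 2 ^ m := by
    rw [← map_pow, (map_pow_sg hK ι hdiv (l : K)).2]
  have h1 : ι (l : K) ^ (2 ^ k + 1) = ι (l : K) ^ (2 ^ m + 1) := by rw [pow_succ, pow_succ (ι (l : K)) (2 ^ m), h]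
  apply Subtype.ext
  ext i j
  show ι (((dM k l) : Matrix.SpecialLinearGroup (Fin 4) K).1 i j) = _
  fin_cases i <;> fin_cases j <;> simp [dM, map_pow, map_inv₀, h, h1]

include hF hK in
theorem map_mem (hk : 1 ≤ k) (hdiv : 2 * k + 1 ∣ 2 * m + 1) {g : Matrix.SpecialLinearGroup (Fin 4) K}
    (hg : g ∈ Cfsg.Sz K k) : Matrix.SpecialLinearGroup.map ι g ∈ Cfsg.Sz F m := by
  have ht : ∀ a b : K, Matrix.SpecialLinearGroup.map ι (tM k a b) ∈ Cfsg.Sz F m := fun a b => by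
    rw [gmap_tM hK ι hdiv]; exact tM_mem hF _ _
  have hd : ∀ l : Kˣ, Matrix.SpecialLinearGroup.map ι (dM k l) ∈ Cfsg.Sz F m := fun l => by
    rw [gmap_dM hK ι hdiv]; exact dM_mem hF _
  have hw : Matrix.SpecialLinearGroup.map ι (wM K) ∈ Cfsg.Sz F m := by
    rw [gmap_wM]; exact wM_mem hF
  rcases decomp hK hk hg with ⟨a, b, l, rfl⟩ | ⟨a, b, c, d, l, rfl⟩
  · rw [map_mul]
    exact mul_mem (ht _ _) (hd _)
  · rw [map_mul, map_mul, map_mul]
    exact mul_mem (mul_mem (ht _ _) hw) (mul_mem (ht _ _) (hd _))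

/-- The standard subfield subgroup. -/
def emb (hk : 1 ≤ k) (hdiv : 2 * k + 1 ∣ 2 * m + 1) : Cfsg.Sz K k →* Cfsg.Sz F m where
  toFun g := ⟨Matrix.SpecialLinearGroup.map ι g, map_mem hF hK ι hk hdiv g.2⟩
  map_one' := Subtype.ext (map_one _)
  map_mul' g h := Subtype.ext (map_mul _ _ _)

theorem emb_injective (hk : 1 ≤ k) (hdiv : 2 * k + 1 ∣ 2 * m + 1) : Function.Injective (emb hF hK ι hk hdiv) := by
  intro g h e
  have e' := congrArg (fun x : Cfsg.Sz F m => ((x : Matrix.SpecialLinearGroup (Fin 4) F) : Matrix (Fin 4) (Fin 4) F)) e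
  refine Subtype.ext (Subtype.ext (Matrix.ext fun i j => ι.injective ?_))
  exact congrFun (congrFun e' i) j

theorem emb_tS (hk : 1 ≤ k) (hdiv : 2 * k + 1 ∣ 2 * m + 1) (a b : K) :
    emb hF hK ι hk hdiv (tS hK a b) = tS hF (ι a) (ι b) :=
  Subtype.ext (gmap_tM hK ι hdiv a b)

theorem emb_dS (hk : 1 ≤ k) (hdiv : 2 * k + 1 ∣ 2 * m + 1) (l : Kˣ) :
    emb hF hK ι hk hdiv (dS hK l) = dS hF (Units.map (ι : K →* F) l) :=
  Subtype.ext (gmap_dM hK ι hdiv l)

theorem emb_wS (hk : 1 ≤ k) (hdiv : 2 * k + 1 ∣ 2 * m + 1) :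
    emb hF hK ι hk hdiv (wS hK) = wS hF :=
  Subtype.ext (gmap_wM ι)

/-! ### Uniqueness -/

variable (ψ : Cfsg.Sz K k →* Cfsg.Sz F m) (hψ : Function.Injective ψ)

include hψ in
theorem range_eq_of_normalised (hm : 1 ≤ m) (hk : 1 ≤ k) (hdiv : 2 * k + 1 ∣ 2 * m + 1)
    (hU : ∀ a b : K, ∃ x y : F, ψ (tS hK a b) = tS hF x y)
    (hd : ∀ l : Kˣ, ∃ u : Fˣ, ψ (dS hK l) = dS hF u) (hw : ψ (wS hK) = wS hF) :
    ψ.range = (emb hF hK ι hk hdiv).range := by
  classical
  haveI := charTwo hF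
  haveI := charTwo hK
  choose A B hAB using hU
  choose χ hχ using hd
  have hz : ∀ n : ℕ, (0 : F) ^ 2 ^ n = 0 := fun n => zero_pow (by positivity)
  have hzK : ∀ n : ℕ, (0 : K) ^ 2 ^ n = 0 := fun n => zero_pow (by positivity)
  have hmul : ∀ a b c d : K, A (a + c) (b + d + a ^ 2 ^ (k + 1) * c) = A a b + A c d ∧
      B (a + c) (b + d + a ^ 2 ^ (k + 1) * c) = B a b + B c d + A a b ^ 2 ^ (m + 1) * A c d := by
    intro a b c d
    have e := congrArg ψ (tS_mul hK a b c d)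
    rw [map_mul, hAB, hAB, hAB, tS_mul hF] at e
    obtain ⟨h1, h2⟩ := tS_injective hF e
    exact ⟨h1.symm, h2.symm⟩
  have h00 : A 0 0 = 0 ∧ B 0 0 = 0 := by
    have e := hAB 0 0
    rw [tS_zero hK, map_one, ← tS_zero hF] at e
    obtain ⟨h1, h2⟩ := tS_injective hF e
    exact ⟨h1.symm, h2.symm⟩
  -- involutions
  have hA0 : ∀ b : K, A 0 b = 0 := by
    intro b
    obtain ⟨-, h2⟩ := hmul 0 b 0 b
    rw [add_zero, hzK, zero_mul, add_zero, add_self hK, h00.2, add_self hF, zero_add] at h2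
    rcases mul_eq_zero.1 h2.symm with h | h
    · exact pow_eq_zero_iff (by positivity) |>.1 h
    · exact h
  have hAa : ∀ a b : K, A a b = A a 0 := by
    intro a b
    have := (hmul 0 b a 0).1
    rwa [zero_add, add_zero, hzK, zero_mul, add_zero, hA0, zero_add] at this
  have hAadd : ∀ a c : K, A (a + c) 0 = A a 0 + A c 0 := by
    intro a c
    have := (hmul a 0 c 0).1
    rwa [hAa] at this
  have hBz : ∀ a b : K, B a b = B 0 b + B a 0 := by
    intro a b
    have := (hmul 0 b a 0).2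
    rwa [zero_add, add_zero, hzK, zero_mul, add_zero, hA0, hz, zero_mul, add_zero] at this
  have hsc : ∀ (l : Kˣ) (a b : K), A ((l : K) * a) ((l : K) ^ (2 ^ (k + 1) + 1) * b) = (χ l : F) * A a b ∧
      B ((l : K) * a) ((l : K) ^ (2 ^ (k + 1) + 1) * b) = (χ l : F) ^ (2 ^ (m + 1) + 1) * B a b := by
    intro l a b
    have e := congrArg ψ (dS_mul_tS hK hk l a b)
    rw [map_mul, map_mul, hAB, hAB, hχ, dS_mul_tS hF hm, mul_left_inj] at e
    obtain ⟨h1, h2⟩ := tS_injective hF e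
    exact ⟨h1.symm, h2.symm⟩
  set c := A 1 0 with hc
  have hc0 : c ≠ 0 := by
    intro h
    have h1 : ψ (tS hK 1 0 * tS hK 1 0) = 1 := by
      rw [map_mul, hAB, tS_mul hF, ← hc, h]
      simp [hz, add_self hF, tS_zero hF]
    rw [← map_one ψ] at h1
    have h2 := hψ h1
    rw [tS_mul hK, ← tS_zero hK] at h2
    have := (tS_injective hK h2).2
    simp at this
  have hAl : ∀ l : Kˣ, A (l : K) 0 = (χ l : F) * c := by
    intro l
    have := (hsc l 1 0).1
    rwa [mul_one, mul_zero] at this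
  let ρ : K →+* F :=
    { toFun := fun x => A x 0 / c
      map_one' := div_self hc0
      map_zero' := by rw [hA0, zero_div]
      map_add' := fun x y => by rw [hAadd, add_div]
      map_mul' := fun x y => by
        rcases eq_or_ne x 0 with rfl | hx
        · rw [zero_mul, hA0, zero_div, zero_mul]
        have h := (hsc (Units.mk0 x hx) y 0).1
        rw [mul_zero, Units.val_mk0] at h
        have hl : A x 0 = (χ (Units.mk0 x hx) : F) * c := hAl (Units.mk0 x hx)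
        rw [h, hl]
        field_simp }
  have hρ : ∀ x, A x 0 = c * ρ x := fun x => (mul_div_cancel₀ _ hc0).symm
  have hχρ : ∀ l : Kˣ, (χ l : F) = ρ (l : K) := by
    intro l
    have : A (l : K) 0 = c * ρ (l : K) := hρ _
    rw [hAl, mul_comm c] at this
    exact mul_right_cancel₀ hc0 this
  -- the centre
  have hB0 : ∀ b : K, B 0 b = c ^ (2 ^ (m + 1) + 1) * ρ b := by
    intro b
    obtain ⟨y, hy⟩ : ∃ y : K, y ^ (2 ^ (k + 1) + 1) = b := ⟨_, (sg_add_one_left_inv hK b).1⟩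
    have h2 := (hmul y 0 y 0).2
    rw [add_self hK, zero_add, zero_add, ← pow_succ, hy, add_self hF, zero_add, hρ, ← pow_succ, mul_pow] at h2
    rw [h2, ← hy, map_pow, pow_succ (ρ y) (2 ^ (k + 1)), pow_succ (ρ y) (2 ^ (m + 1)),
      ← map_pow ρ y (2 ^ (k + 1)), (map_pow_sg hK ρ hdiv y).1]
  -- the section is trivial
  have hh : ∀ a : K, B a 0 = 0 := by
    have hadd : ∀ a a' : K, B (a + a') 0 = B a 0 + B a' 0 := by
      intro a a'
      have h2 := (hmul a 0 a' 0).2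
      rw [add_zero, zero_add, hBz, hB0, hρ, hρ, map_mul, (map_pow_sg hK ρ hdiv a).1, mul_pow] at h2
      linear_combination h2
    have hl : ∀ l : Kˣ, B (l : K) 0 = ρ ((l : K) ^ (2 ^ (k + 1) + 1)) * B 1 0 := by
      intro l
      have := (hsc l 1 0).2
      rw [mul_one, mul_zero, hχρ] at this
      rw [this, map_pow, pow_succ, pow_succ (ρ (l : K)) (2 ^ (k + 1)), ← map_pow ρ (l : K) (2 ^ (k + 1)),
        (map_pow_sg hK ρ hdiv _).1]
    obtain ⟨l, hl1⟩ := exists_unit_ne_one hK hk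
    have hne : (1 : K) + l ≠ 0 := fun e => hl1 (by
      rw [← neg_eq hK 1]; exact eq_neg_of_add_eq_zero_right e)
    have hs : (l : K) + (l : K) ^ 2 ^ (k + 1) ≠ 0 := by
      intro he
      have h3' : (l : K) ^ 2 ^ (k + 1) = l := (eq_neg_of_add_eq_zero_right he).trans (neg_eq hK _)
      have h4 := sg_sg hK (l : K)
      rw [h3', h3', sq] at h4
      exact hl1 ((mul_eq_left₀ l.ne_zero).1 h4.symm)
    have h1 : B 1 0 = 0 := by
      have e := hl (Units.mk0 _ hne)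
      rw [Units.val_mk0, hadd, hl l, pow_succ ((1 : K) + l), add_pow_sg hK, one_pow, pow_succ (l : K) (2 ^ (k + 1))] at e
      simp only [map_mul, map_add, map_one] at e
      refine (mul_eq_zero.1 (show ρ ((l : K) + (l : K) ^ 2 ^ (k + 1)) * B 1 0 = 0 from ?_)).resolve_left
        ((map_ne_zero ρ).2 hs)
      rw [map_add]
      linear_combination -e
    intro a
    rcases eq_or_ne a 0 with rfl | ha
    · exact h00.2
    · have := hl (Units.mk0 a ha)
      rwa [Units.val_mk0, h1, mul_zero] at this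
  -- the scale lies in the subfield
  have hcρ : ∃ c₀ : K, ρ c₀ = c := by
    set γ := c ^ (2 ^ (m + 1) + 1) with hγ
    have hγ0 : γ ≠ 0 := pow_ne_zero _ hc0
    have hu : ψ (tS hK 0 1) = tS hF 0 γ := by
      rw [hAB, hA0, hB0, map_one, mul_one]
    have hf : fv m (0 : F) γ = γ ^ 2 ^ (m + 1) := by
      simp [fv, zero_pow (show (2 : ℕ) ^ (m + 1) + 2 ≠ 0 by positivity)]
    have hL : (ψ (wS hK * tS hK 0 1 * wS hK) : Matrix.SpecialLinearGroup (Fin 4) F) • Cfsg.suzukiPointInfinity F =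
        pt m (γ / γ ^ 2 ^ (m + 1)) 0 := by
      rw [map_mul, map_mul, hw, hu, Subgroup.coe_mul, Subgroup.coe_mul, mul_smul, mul_smul]
      show wM F • tM m 0 γ • wM F • Cfsg.suzukiPointInfinity F = _
      rw [wM_inf (m := m), tM_pt_zero hF, wM_pt hF (by rw [hf]; exact pow_ne_zero _ hγ0), hf, zero_div]
    rcases sz_decomp hK hk (wS hK * tS hK 0 1 * wS hK) with ⟨a, b, l, e⟩ | ⟨a, b, a', b', l, e⟩
    · exfalso
      rw [e, map_mul, hAB, hχ, Subgroup.coe_mul, mul_smul] at hL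
      rw [show ((dS hF (χ l) : Cfsg.Sz F m) : Matrix.SpecialLinearGroup (Fin 4) F) = dM m (χ l) from rfl,
        dM_inf, show ((tS hF (A a b) (B a b) : Cfsg.Sz F m) : Matrix.SpecialLinearGroup (Fin 4) F) =
        tM m (A a b) (B a b) from rfl, tM_inf] at hL
      exact pt_ne_inf _ _ hL.symm
    · rw [e, map_mul, map_mul, map_mul, hw, hAB, hAB, hχ] at hL
      simp only [Subgroup.coe_mul, mul_smul] at hL
      change tM m _ _ • wM F • tM m _ _ • dM m _ • Cfsg.suzukiPointInfinity F = _ at hL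
      rw [dM_inf, tM_inf, wM_inf (m := m), tM_pt_zero hF, hAa, hρ] at hL
      have h1 := (pt_inj hL).1
      have h2 : c * (c * ρ a) = 1 := by
        rw [h1, hγ, pow_succ, mul_pow, sg_sg hF]
        have hp : c ^ 2 ^ (m + 1) ≠ 0 := pow_ne_zero _ hc0
        field_simp
      obtain ⟨y, hy⟩ : ∃ y : K, y ^ 2 = a⁻¹ := by
        refine (Finite.injective_iff_surjective.1 (fun u v h => sq_inj hK h) : Function.Surjective fun y : K => y ^ 2) a⁻¹
      refine ⟨y, sq_inj hF ?_⟩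
      rw [← map_pow, hy, map_inv₀]
      refine (eq_inv_of_mul_eq_one_left ?_).symm
      linear_combination h2
  obtain ⟨c₀, hc₀⟩ := hcρ
  -- the subfield is the given one
  have hρι : ∀ x : K, ∃ y : K, ι y = ρ x := by
    intro x
    open Polynomial in
    have himg : ∀ z : F, z ^ Fintype.card K = z → ∃ y : K, ι y = z := by
      intro z hz'
      have h2 : 1 < Fintype.card K := Fintype.one_lt_card
      let P : F[X] := X ^ Fintype.card K - X
      have hP : P ≠ 0 := FiniteField.X_pow_card_sub_X_ne_zero F h2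
      have hsub : Finset.univ.image ι ⊆ P.roots.toFinset := by
        intro u hu
        obtain ⟨y, -, rfl⟩ := Finset.mem_image.1 hu
        rw [Multiset.mem_toFinset, mem_roots hP]
        simp [P, ← map_pow, FiniteField.pow_card]
      have heq : Finset.univ.image ι = P.roots.toFinset := by
        refine Finset.eq_of_subset_of_card_le hsub ?_
        rw [Finset.card_image_of_injective _ ι.injective, Finset.card_univ]
        exact ((Multiset.toFinset_card_le _).trans (card_roots' P)).trans_eq (FiniteField.X_pow_card_sub_X_natDegree_eq F h2)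
      have hz2 : z ∈ P.roots.toFinset := by
        rw [Multiset.mem_toFinset, mem_roots hP]
        simp [P, hz']
      rw [← heq] at hz2
      obtain ⟨y, -, hy⟩ := Finset.mem_image.1 hz2
      exact ⟨y, hy⟩
    exact himg _ (by rw [← map_pow, FiniteField.pow_card])
  have hgen : ∀ g : Cfsg.Sz K k, ψ g ∈ (emb hF hK ι hk hdiv).range := by
    have ht : ∀ a b : K, ψ (tS hK a b) ∈ (emb hF hK ι hk hdiv).range := by
      intro a b
      obtain ⟨x, hx⟩ := hρι (c₀ * a)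
      obtain ⟨y, hy⟩ := hρι (c₀ ^ (2 ^ (k + 1) + 1) * b)
      refine ⟨tS hK x y, ?_⟩
      rw [emb_tS, hAB, hAa, hBz, hB0, hh, hρ, hx, hy, add_zero, map_mul, map_mul, map_pow, hc₀,
        pow_succ, pow_succ c (2 ^ (m + 1))]
      congr 2
      rw [← hc₀, ← map_pow, (map_pow_sg hK ρ hdiv c₀).1]
    have hd' : ∀ l : Kˣ, ψ (dS hK l) ∈ (emb hF hK ι hk hdiv).range := by
      intro l
      obtain ⟨x, hx⟩ := hρι (l : K)
      have hx0 : x ≠ 0 := by
        intro h
        rw [h, map_zero] at hx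
        exact (map_ne_zero ρ).2 l.ne_zero hx.symm
      refine ⟨dS hK (Units.mk0 x hx0), ?_⟩
      rw [emb_dS, hχ]
      congr 1
      ext
      simp [hχρ, hx]
    intro g
    have hw' : ψ (wS hK) ∈ (emb hF hK ι hk hdiv).range := ⟨wS hK, by rw [emb_wS, hw]⟩
    rcases sz_decomp hK hk g with ⟨a, b, l, rfl⟩ | ⟨a, b, c, d, l, rfl⟩
    · rw [map_mul]; exact mul_mem (ht _ _) (hd' _)
    · rw [map_mul, map_mul, map_mul]; exact mul_mem (mul_mem (ht _ _) hw') (mul_mem (ht _ _) (hd' _))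
  refine Subgroup.eq_of_le_of_card_ge ?_ ?_
  · rintro _ ⟨g, rfl⟩
    exact hgen g
  · rw [← Nat.card_congr (MonoidHom.ofInjective hψ).toEquiv,
      ← Nat.card_congr (MonoidHom.ofInjective (emb_injective hF hK ι hk hdiv)).toEquiv]

include hψ hF hK in
theorem exists_normalised (hm : 1 ≤ m) (hk : 1 ≤ k) :
    ∃ g : Cfsg.Sz F m, let ψ' := (MulAut.conj g).toMonoidHom.comp ψ
      (∀ a b : K, ∃ x y : F, ψ' (tS hK a b) = tS hF x y) ∧ (∀ l : Kˣ, ∃ u : Fˣ, ψ' (dS hK l) = dS hF u) ∧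
        ψ' (wS hK) = wS hF := by
  classical
  haveI : Fact (Nat.Prime 2) := ⟨Nat.prime_two⟩
  obtain ⟨P, hP⟩ := (IsPGroup.map (uSub_isPGroup (m := k) hK) ψ).exists_le_sylow
  obtain ⟨g1, hg1⟩ := Small.SuzukiFacts.exists_conj_uSub hF hm P
  let ψ1 := (MulAut.conj g1⁻¹).toMonoidHom.comp ψ
  have hψ1 : Function.Injective ψ1 := (MulAut.conj g1⁻¹).injective.comp hψ
  have hU1 : ∀ a b : K, ∃ x y : F, ψ1 (tS hK a b) = tS hF x y := by
    intro a b
    have h1 : ψ (tS hK a b) ∈ (P : Subgroup _) := hP ⟨_, ⟨a, b, rfl⟩, rfl⟩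
    rw [hg1] at h1
    obtain ⟨u, ⟨x, y, rfl⟩, hu⟩ := h1
    refine ⟨x, y, ?_⟩
    show g1⁻¹ * ψ (tS hK a b) * g1⁻¹⁻¹ = _
    rw [← hu]
    simp [mul_assoc]
  have hfix1 : ∀ {x y : F} {p : Projectivization F (Fin 4 → F)}, p ∈ Cfsg.suzukiOvoid F m → (x, y) ≠ (0, 0) →
      tM m x y • p = p → p = Cfsg.suzukiPointInfinity F := by
    intro x y p hp hne h
    rcases mem_ovoid.1 hp with rfl | ⟨a, b, rfl⟩
    · rfl
    · exfalso
      rw [tM_pt hF] at h
      obtain ⟨h1, h2⟩ := pt_inj h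
      have hx : x = 0 := by simpa using h1
      subst hx
      rw [zero_pow (by positivity), zero_mul, add_zero] at h2
      exact hne (Prod.ext rfl (by simpa using h2))
  obtain ⟨x1, y1, h11⟩ := hU1 1 0
  have hxy : (x1, y1) ≠ (0, 0) := by
    intro h
    obtain ⟨rfl, rfl⟩ := Prod.ext_iff.1 h
    rw [tS_zero hF, ← map_one ψ1] at h11
    have h2 := hψ1 h11
    rw [← tS_zero hK] at h2
    exact one_ne_zero (tS_injective hK h2).1
  have hdinf : ∀ l : Kˣ, ψ1 (dS hK l) • Cfsg.suzukiPointInfinity F = Cfsg.suzukiPointInfinity F := by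
    intro l
    set x := ψ1 (dS hK l) with hx
    obtain ⟨a, b, hab⟩ := hU1 ((l⁻¹ : Kˣ) : K) 0
    have e : x * tS hF a b = tS hF x1 y1 * x := by
      rw [← hab, ← h11, hx, ← map_mul, ← map_mul, dS_mul_tS hK hk]
      simp
    refine hfix1 (smul_mem hF x.2 inf_mem) hxy ?_
    have e' := congrArg (fun u : Cfsg.Sz F m => u • Cfsg.suzukiPointInfinity F) e
    simp only [mul_smul] at e'
    have h2 : tS hF a b • Cfsg.suzukiPointInfinity F = Cfsg.suzukiPointInfinity F := tM_inf _ _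
    rw [h2] at e'
    exact e'.symm
  have hwinf : ψ1 (wS hK) • Cfsg.suzukiPointInfinity F ≠ Cfsg.suzukiPointInfinity F := by
    intro hwf
    have hall : ∀ g : Cfsg.Sz K k, ψ1 g • Cfsg.suzukiPointInfinity F = Cfsg.suzukiPointInfinity F := by
      have ht : ∀ a b : K, ψ1 (tS hK a b) • Cfsg.suzukiPointInfinity F = Cfsg.suzukiPointInfinity F := by
        intro a b
        obtain ⟨x, y, e⟩ := hU1 a b
        rw [e]; exact tM_inf _ _
      intro g
      rcases sz_decomp hK hk g with ⟨a, b, l, rfl⟩ | ⟨a, b, c, d, l, rfl⟩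
      · rw [map_mul, mul_smul, hdinf, ht]
      · rw [map_mul, map_mul, map_mul, mul_smul, mul_smul, mul_smul, hdinf, ht, hwf, ht]
    have hcomm : ∀ g h : Cfsg.Sz K k, ψ1 ⁅g, h⁆ ∈ uSub hF := by
      intro g h
      obtain ⟨a, b, u, e1⟩ := sz_fix hF hm _ (hall g)
      obtain ⟨c, d, v, e2⟩ := sz_fix hF hm _ (hall h)
      rw [map_commutatorElement, e1, e2, commutatorElement_def]
      have hu : ∀ (w : Fˣ) (p : Cfsg.Sz F m), p ∈ uSub hF → dS hF w * p * (dS hF w)⁻¹ ∈ uSub hF := by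
        rintro w _ ⟨p, q, rfl⟩
        rw [dS_mul_tS hF hm, mul_inv_cancel_right]
        exact ⟨_, _, rfl⟩
      have hmem : ∀ p q : F, tS hF p q ∈ uSub hF := fun p q => ⟨p, q, rfl⟩
      have key : tS hF a b * dS hF u * (tS hF c d * dS hF v) * (tS hF a b * dS hF u)⁻¹ * (tS hF c d * dS hF v)⁻¹ =
          tS hF a b * (dS hF u * tS hF c d * (dS hF u)⁻¹) *
            (dS hF (u * v * u⁻¹) * (tS hF a b)⁻¹ * (dS hF (u * v * u⁻¹))⁻¹) * (tS hF c d)⁻¹ := by
        rw [show u * v * u⁻¹ = v by rw [mul_comm u v, mul_inv_cancel_right]]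
        have hc' : dS hF v * (dS hF u)⁻¹ = (dS hF u)⁻¹ * dS hF v := by
          rw [← map_inv, ← map_mul, ← map_mul, mul_comm]
        simp only [mul_inv_rev, mul_assoc]
        rw [← mul_assoc (dS hF v) (dS hF u)⁻¹, hc', mul_assoc]
      rw [key]
      exact mul_mem (mul_mem (mul_mem (hmem _ _) (hu _ _ (hmem _ _))) (hu _ _ (inv_mem (hmem _ _))))
        (inv_mem (hmem _ _))
    have hrange : ∀ g : Cfsg.Sz K k, ψ1 g ∈ uSub hF := by
      intro g
      have h : g ∈ commutator (Cfsg.Sz K k) := by rw [sz_perfect hK hk]; trivial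
      have hle : commutator (Cfsg.Sz K k) ≤ (uSub hF).comap ψ1 := by
        rw [commutator_def, Subgroup.commutator_le]
        exact fun g _ h _ => hcomm g h
      exact hle h
    obtain ⟨l, hl⟩ := exists_unit_ne_one hK hk
    apply hl
    have h4 : (dS (m := k) hK l) ^ 4 = 1 := hψ1 (by rw [map_pow, map_one]; exact uSub_pow_four hF (hrange _))
    rw [← map_pow, ← map_one (dS (m := k) hK)] at h4
    have h5 : l ^ 4 = 1 := dM_injective (congrArg Subtype.val h4)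
    have h6 : ((l : K) ^ 2) ^ 2 = (1 : K) ^ 2 := by
      rw [← pow_mul, one_pow]
      exact congrArg Units.val h5
    exact sq_inj hK ((sq_inj hK h6).trans (one_pow 2).symm)
  obtain ⟨x, y, hxy'⟩ := (mem_ovoid.1 (smul_mem hF (ψ1 (wS hK)).2 inf_mem)).resolve_left hwinf
  have hxy'' : ψ1 (wS hK) • Cfsg.suzukiPointInfinity F = pt m x y := hxy'
  let ψ2 := (MulAut.conj (tS hF x y)⁻¹).toMonoidHom.comp ψ1
  have hψ2 : ∀ g, ψ2 g = (tS hF x y)⁻¹ * ψ1 g * tS hF x y := fun g => by simp [ψ2]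
  have ht2 : (tS hF x y) • Cfsg.suzukiPointInfinity F = Cfsg.suzukiPointInfinity F := tM_inf _ _
  have hw2 : ψ2 (wS hK) • Cfsg.suzukiPointInfinity F = pt m 0 0 := by
    rw [hψ2, mul_smul, mul_smul, ht2, hxy'', inv_smul_eq_iff]
    exact (tM_pt_zero hF x y).symm
  have hw2' : ψ2 (wS hK) • pt m (0 : F) 0 = Cfsg.suzukiPointInfinity F := by
    rw [← hw2, ← mul_smul, ← map_mul, wS_mul_self hK, map_one, one_smul]
  have hU2 : ∀ a b : K, ∃ p q : F, ψ2 (tS hK a b) = tS hF p q := by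
    intro a b
    obtain ⟨p, q, e⟩ := hU1 a b
    rw [hψ2, e, tS_inv hF, tS_mul hF, tS_mul hF]
    exact ⟨_, _, rfl⟩
  have hd2inf : ∀ l : Kˣ, ψ2 (dS hK l) • Cfsg.suzukiPointInfinity F = Cfsg.suzukiPointInfinity F := by
    intro l
    rw [hψ2, mul_smul, mul_smul, ht2, hdinf, inv_smul_eq_iff, ht2]
  have hd2 : ∀ l : Kˣ, ∃ u : Fˣ, ψ2 (dS hK l) = dS hF u := by
    intro l
    refine eq_dS hF hm (hd2inf l) ?_
    have e : wS hK * dS hK l⁻¹ * wS hK = dS hK l := by
      apply Subtype.ext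
      show wM K * dM k l⁻¹ * wM K = dM k l
      rw [wM_dM_wM, inv_inv]
    show ψ2 (dS hK l) • pt m (0 : F) 0 = pt m 0 0
    rw [← e, map_mul, map_mul, mul_smul, mul_smul, hw2', hd2inf, hw2]
  obtain ⟨μ, hμ⟩ : ∃ μ : Fˣ, wS hF * ψ2 (wS hK) = dS hF μ := by
    refine eq_dS hF hm ?_ ?_
    · show (wS hF * ψ2 (wS hK)) • Cfsg.suzukiPointInfinity F = _
      rw [mul_smul, hw2]
      exact wM_zero
    · show (wS hF * ψ2 (wS hK)) • pt m (0 : F) 0 = pt m 0 0
      rw [mul_smul, hw2']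
      exact wM_inf
  obtain ⟨ν, hν⟩ := exists_sq hF μ
  refine ⟨dS hF ν * (tS hF x y)⁻¹ * g1⁻¹, ?_⟩
  have hcomp : ∀ g, (MulAut.conj (dS hF ν * (tS hF x y)⁻¹ * g1⁻¹)).toMonoidHom.comp ψ g =
      dS hF ν * ψ2 g * (dS hF ν)⁻¹ := by
    intro g
    simp [ψ2, ψ1, mul_assoc]
  refine ⟨fun a b => ?_, fun l => ?_, ?_⟩
  · obtain ⟨p, q, e⟩ := hU2 a b
    rw [hcomp, e, dS_mul_tS hF hm, mul_inv_cancel_right]
    exact ⟨_, _, rfl⟩
  · obtain ⟨u, e⟩ := hd2 l
    refine ⟨u, ?_⟩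
    rw [hcomp, e, ← map_mul, mul_comm, map_mul, mul_inv_cancel_right]
  · rw [hcomp]
    have h1 : ψ2 (wS hK) = wS hF * dS hF μ := by
      rw [← hμ, ← mul_assoc, wS_mul_self, one_mul]
    have h2 : dS hF ν * wS hF = wS hF * dS hF ν⁻¹ := by
      have e : wS hF * dS hF ν * wS hF = dS hF ν⁻¹ := Subtype.ext (wM_dM_wM ν)
      rw [← e, ← mul_assoc, ← mul_assoc, wS_mul_self, one_mul]
    rw [h1, ← mul_assoc, h2, mul_assoc, mul_assoc, ← map_inv, ← map_mul, ← map_mul]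
    rw [show ν⁻¹ * (μ * ν⁻¹) = 1 by rw [← hν, mul_inv_cancel_right, inv_mul_cancel], map_one, mul_one]

include hF hK in
theorem main (hm : 1 ≤ m) (hk : 1 ≤ k) (hdiv : 2 * k + 1 ∣ 2 * m + 1) :
    (∃ S : Subgroup ↥(Cfsg.Sz F m), Nonempty (↥S ≃* ↥(Cfsg.Sz K k))) ∧
    ∀ S₁ S₂ : Subgroup ↥(Cfsg.Sz F m), Nonempty (↥S₁ ≃* ↥(Cfsg.Sz K k)) → Nonempty (↥S₂ ≃* ↥(Cfsg.Sz K k)) →
      ∃ g : ↥(Cfsg.Sz F m), S₂ = S₁.map (MulAut.conj g).toMonoidHom := by
  obtain ⟨ι⟩ := exists_embedding hF hK hdiv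
  refine ⟨⟨(emb hF hK ι hk hdiv).range, ⟨(MonoidHom.ofInjective (emb_injective hF hK ι hk hdiv)).symm⟩⟩, ?_⟩
  have key : ∀ S : Subgroup ↥(Cfsg.Sz F m), Nonempty (↥S ≃* ↥(Cfsg.Sz K k)) →
      ∃ g : ↥(Cfsg.Sz F m), S.map (MulAut.conj g).toMonoidHom = (emb hF hK ι hk hdiv).range := by
    rintro S ⟨e⟩
    let ψ : Cfsg.Sz K k →* Cfsg.Sz F m := S.subtype.comp e.symm.toMonoidHom
    have hψ : Function.Injective ψ := S.subtype_injective.comp e.symm.injective
    obtain ⟨g, h1, h2, h3⟩ := exists_normalised hF hK ψ hψ hm hk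
    refine ⟨g, ?_⟩
    rw [← range_eq_of_normalised hF hK ι _ ((MulAut.conj g).injective.comp hψ) hm hk hdiv h1 h2 h3,
      MonoidHom.range_comp]
    congr 1
    rw [MonoidHom.range_comp, MonoidHom.range_eq_top.2 e.symm.surjective, ← MonoidHom.range_eq_map,
      Subgroup.range_subtype]
  intro S₁ S₂ h1 h2
  obtain ⟨g₁, e1⟩ := key S₁ h1
  obtain ⟨g₂, e2⟩ := key S₂ h2
  refine ⟨g₂⁻¹ * g₁, ?_⟩
  apply Subgroup.map_injective (f := (MulAut.conj g₂).toMonoidHom) (MulAut.conj g₂).injective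
  rw [e2, ← e1, Subgroup.map_map]
  congr 1
  ext x
  simp [mul_assoc]

end Cfsg.Agent.Lead.SuzukiSubfield
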