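import Cfsg.Agent.Lib.Lead.SuzukiSolubilizer
import Cfsg.Agent.Lib.Lead.SuzukiSubfield
import Mathlib

/-!
# The non-solvable subgroups of the Suzuki groups
-/

set_option autoImplicit false

namespace Cfsg.Agent.SzSubgroups

open MulAction Cfsg.Agent.Lie.Suzuki Cfsg.Agent.SzSolvable

variable {F : Type*} [Field F] {m : ℕ} [Fintype F] (hF : Fintype.card F = 2 ^ (2 * m + 1)) (hm : 1 ≤ m)

local notation "G" => Cfsg.Sz F m
local notation "Ω" => Cfsg.suzukiOvoid F m

/-- The point at infinity. -/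
def oInf : Ω := ⟨_, inf_mem⟩

/-- A finite point. -/
def oPt (x y : F) : Ω := ⟨_, pt_mem x y⟩

theorem oPt_ne (x y : F) : oPt (m := m) x y ≠ oInf := fun h => pt_ne_inf x y (congrArg Subtype.val h)

theorem oPt_inj {x y x' y' : F} (h : oPt (m := m) x y = oPt x' y') : x = x' ∧ y = y' :=
  pt_inj (congrArg Subtype.val h)

theorem point_cases (p : Ω) : p = oInf ∨ ∃ x y : F, p = oPt x y := by
  rcases mem_ovoid.1 p.2 with h | ⟨x, y, h⟩
  · exact Or.inl (Subtype.ext h)
  · exact Or.inr ⟨x, y, Subtype.ext h⟩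

/-- The points reached from infinity. -/
def orb (M : Subgroup G) : Set Ω := {p | ∃ g ∈ M, g • (oInf : Ω) = p}

/-- A non-solvable subgroup in standard position: all its elements of order at most four are conjugate in it into
the translation group, and it moves the point at infinity. -/
structure Std (M : Subgroup G) : Prop where
  insolvable : ¬ Group.IsSolvable ↥M
  conj : ∀ i ∈ M, i ^ 4 = 1 → ∃ c ∈ M, ∃ a b : F, c * i * c⁻¹ = tS hF a b
  moves : ∃ g ∈ M, g • (oInf : Ω) ≠ oInf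

include hF hm

theorem tS_oInf (a b : F) : tS (m := m) hF a b • (oInf : Ω) = oInf := Subtype.ext (tM_inf a b)

theorem dS_oInf (k : Fˣ) : dS (m := m) hF k • (oInf : Ω) = oInf := Subtype.ext (dM_inf k)

theorem tS_oPt (a b x y : F) :
    tS (m := m) hF a b • oPt (m := m) x y = oPt (x + a) (y + a ^ (2 ^ (m + 1)) * x + b) :=
  Subtype.ext (tM_pt hF a b x y)

theorem tS_oPt_zero (a b : F) : tS (m := m) hF a b • oPt (m := m) (0 : F) 0 = oPt a b :=
  Subtype.ext (tM_pt_zero hF a b)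

theorem dS_oPt (k : Fˣ) (x y : F) :
    dS (m := m) hF k • oPt (m := m) x y = oPt ((k : F) * x) ((k : F) ^ (2 ^ (m + 1) + 1) * y) :=
  Subtype.ext (dM_pt hF k x y)

theorem wS_oInf : wS (m := m) hF • (oInf : Ω) = oPt (0 : F) 0 := Subtype.ext wM_inf

theorem wS_oPt_zero : wS (m := m) hF • oPt (m := m) (0 : F) 0 = oInf := Subtype.ext wM_zero

theorem decomp_unique {a b c d : F} {k l : Fˣ} (h : tS (m := m) hF a b * dS hF k = tS hF c d * dS hF l) :
    a = c ∧ b = d ∧ k = l := by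
  have h0 : (tS (m := m) hF a b * dS hF k) • oPt (m := m) (0 : F) 0 = (tS hF c d * dS hF l) • oPt (m := m) (0 : F) 0 := by
    rw [h]
  rw [mul_smul, mul_smul, dS_oPt hF hm, dS_oPt hF hm, mul_zero, mul_zero, mul_zero, mul_zero,
    tS_oPt_zero hF hm, tS_oPt_zero hF hm] at h0
  obtain ⟨rfl, rfl⟩ := oPt_inj h0
  exact ⟨rfl, rfl, Small.SuzukiAut.dS_injective hF (mul_left_cancel h)⟩

theorem exists_decomp {g : G} (hg : g • (oInf : Ω) = oInf) : ∃ (a b : F) (k : Fˣ), g = tS hF a b * dS hF k :=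
  sz_fix hF hm g (congrArg Subtype.val hg)

theorem decomp_mul (a b c d : F) (k l : Fˣ) :
    tS (m := m) hF a b * dS hF k * (tS hF c d * dS hF l) =
      tS hF (a + (k : F) * c) (b + (k : F) ^ (2 ^ (m + 1) + 1) * d + a ^ (2 ^ (m + 1)) * ((k : F) * c)) *
        dS hF (k * l) := by
  rw [mul_assoc, ← mul_assoc (dS hF k), dS_mul_tS hF hm, mul_assoc, ← map_mul, ← mul_assoc, tS_mul hF]

theorem tS_conj_dS (k : Fˣ) (a b : F) :
    dS (m := m) hF k * tS hF a b * (dS hF k)⁻¹ = tS hF ((k : F) * a) ((k : F) ^ (2 ^ (m + 1) + 1) * b) := by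
  rw [dS_mul_tS hF hm, mul_inv_cancel_right]

theorem eq_tS_of_fix {g : G} (h : g • (oInf : Ω) = oInf) (h4 : g ^ 4 = 1) : ∃ a b : F, g = tS hF a b := by
  obtain ⟨a, b, k, rfl⟩ := exists_decomp hF hm h
  have key : ∀ n : ℕ, ∃ c d : F, (tS hF a b * dS hF k) ^ n = tS hF c d * dS hF (k ^ n) := by
    intro n
    induction n with
    | zero => exact ⟨0, 0, by rw [pow_zero, pow_zero, map_one, tS_zero hF, one_mul]⟩
    | succ n ih =>
      obtain ⟨c, d, e⟩ := ih
      exact ⟨_, _, by rw [pow_succ, e, decomp_mul hF hm, ← pow_succ]⟩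
  obtain ⟨c, d, e⟩ := key 4
  have e' : tS (m := m) hF 0 0 * dS hF 1 = tS hF c d * dS hF (k ^ 4) := by
    rw [← e, h4, tS_zero hF, map_one, mul_one]
  have hk4 := (decomp_unique hF hm e').2.2.symm
  have hk : k = 1 := by
    classical
    have h1 : orderOf k ∣ Nat.gcd 4 (Fintype.card F - 1) :=
      Nat.dvd_gcd (orderOf_dvd_of_pow_eq_one hk4) (by rw [← Fintype.card_units]; exact orderOf_dvd_card)
    have h2 : Nat.Coprime 4 (Fintype.card F - 1) := by
      refine (Nat.Coprime.pow_left 2 ?_ : Nat.Coprime (2 ^ 2) _)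
      rw [Nat.prime_two.coprime_iff_not_dvd]
      obtain ⟨h8, he, -⟩ := q_facts hF hm
      obtain ⟨r, hr⟩ := he
      omega
    rw [h2.gcd_eq_one] at h1
    exact orderOf_eq_one_iff.1 (Nat.dvd_one.1 h1)
  exact ⟨a, b, by rw [hk, map_one, mul_one]⟩

theorem inv_tS_zero {g : G} (h : g • (oInf : Ω) = oInf) (h2 : g * g = 1) : ∃ b : F, g = tS hF 0 b := by
  obtain ⟨a, b, rfl⟩ := eq_tS_of_fix hF hm h (by
    rw [show g ^ 4 = (g * g) * (g * g) by simp [pow_succ, mul_assoc], h2, mul_one])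
  rw [tS_mul hF, add_self hF, add_self hF, zero_add, ← tS_zero hF] at h2
  obtain ⟨-, h0⟩ := Small.SuzukiAut.tS_injective hF h2
  exact ⟨b, by rw [(mul_eq_zero.1 h0).elim (fun h => (pow_eq_zero_iff (pow_ne_zero _ two_ne_zero)).1 h) id]⟩

/-- A translation fixing a finite point is trivial. -/
theorem tS_eq_one {a b x y : F} (h : tS (m := m) hF a b • oPt (m := m) x y = oPt x y) : a = 0 ∧ b = 0 := by
  rw [tS_oPt hF hm] at h
  obtain ⟨h1, h2⟩ := oPt_inj h
  have ha : a = 0 := by simpa using h1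
  subst ha
  rw [zero_pow (pow_ne_zero _ two_ne_zero), zero_mul, add_zero] at h2
  exact ⟨rfl, by simpa using h2⟩

omit hm in
theorem zero_of_sigma {x : F} (h : x ^ (2 ^ (m + 1) + 1) = 0) : x = 0 :=
  (pow_eq_zero_iff (Nat.succ_ne_zero _)).1 h

omit hm in
theorem sigma_inj {x y : F} (h : x ^ (2 ^ (m + 1) + 1) = y ^ (2 ^ (m + 1) + 1)) : x = y := by
  rcases eq_or_ne y 0 with rfl | hy
  · rw [zero_pow (Nat.succ_ne_zero _)] at h
    exact zero_of_sigma hF h
  · have := eq_one_of_pow_sg_add_one hF (b := x / y) (by rw [div_pow, h, div_self (pow_ne_zero _ hy)])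
    exact (div_eq_one_iff_eq hy).1 this

/-- The involutions at infinity, with zero. -/
def cen (M : Subgroup G) : Set F := {b | tS hF 0 b ∈ M}

/-- The translations. -/
def tra (M : Subgroup G) : Set (F × F) := {z | tS hF z.1 z.2 ∈ M}

/-- The torus parts. -/
def mult (M : Subgroup G) : Set Fˣ := {k | ∃ a b : F, tS hF a b * dS hF k ∈ M}

theorem mult_mul {M : Subgroup G} {k l : Fˣ} (hk : k ∈ mult hF M) (hl : l ∈ mult hF M) : k * l ∈ mult hF M := by
  obtain ⟨a, b, h⟩ := hk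
  obtain ⟨c, d, h'⟩ := hl
  exact ⟨_, _, by rw [← decomp_mul hF hm]; exact mul_mem h h'⟩

theorem mult_smul {M : Subgroup G} {k : Fˣ} (hk : k ∈ mult hF M) {b : F} (hb : b ∈ cen hF M) :
    (k : F) ^ (2 ^ (m + 1) + 1) * b ∈ cen hF M := by
  obtain ⟨a, c, h⟩ := hk
  have h' := mul_mem (mul_mem h hb) (inv_mem h)
  show tS hF 0 _ ∈ M
  convert h' using 1
  rw [mul_assoc (tS hF a c), dS_mul_tS hF hm, mul_zero, mul_assoc, mul_assoc, mul_inv_rev, ← mul_assoc (dS hF k),
    mul_inv_cancel, one_mul, ← mul_assoc, ← tS_zero_comm hF, mul_inv_cancel_right]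

namespace Std

variable {M : Subgroup ↥(Cfsg.Sz F m)} (hM : Std hF M)
include hM

theorem involution_orb {i : G} (hi : i ∈ M) (ho : orderOf i = 2) : ∃ p ∈ orb M, i • p = p := by
  obtain ⟨c, hc, a, b, h⟩ := hM.conj i hi
    (by rw [show i ^ 4 = (i ^ 2) ^ 2 by group, ← ho, pow_orderOf_eq_one, one_pow])
  refine ⟨c⁻¹ • oInf, ⟨c⁻¹, inv_mem hc, rfl⟩, ?_⟩
  rw [← mul_smul, show i * c⁻¹ = c⁻¹ * (c * i * c⁻¹) by group, h, mul_smul, tS_oInf hF hm]

theorem even_card : 2 ∣ Nat.card ↥M := by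
  by_contra hodd
  refine hM.insolvable ?_
  haveI : IsZGroup ↥M := by
    refine ⟨fun p hp P => ?_⟩
    haveI := Fact.mk hp
    rcases eq_or_ne p 2 with rfl | hp2
    · have : ¬ 2 ∣ Nat.card (P : Subgroup ↥M) := fun h => hodd (h.trans (Subgroup.card_subgroup_dvd_card _))
      obtain ⟨n, hn⟩ := IsPGroup.iff_card.1 P.2
      rcases n with _ | n
      · rw [Subgroup.card_eq_one.1 (hn.trans (pow_zero 2))]; infer_instance
      · exact absurd (hn ▸ dvd_pow_self 2 n.succ_ne_zero) this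
    · obtain ⟨Q, hQ⟩ := (P.2.map M.subtype).exists_le_sylow
      haveI := sylow_cyclic hF hm hp2 Q
      exact isCyclic_of_injective ((Subgroup.inclusion hQ).comp (M.subtype.subgroupMap (P : Subgroup ↥M)))
        ((Subgroup.inclusion_injective hQ).comp fun x y h => Subtype.ext (M.subtype_injective (Subtype.ext_iff.1 h :)))
  infer_instance

theorem exists_cen : ∃ b, b ≠ 0 ∧ b ∈ cen hF M := by
  haveI : Fact (Nat.Prime 2) := ⟨Nat.prime_two⟩
  obtain ⟨⟨i, hi⟩, ho⟩ := exists_prime_orderOf_dvd_card' 2 (even_card hF hm hM)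
  rw [← Subgroup.orderOf_coe] at ho
  change orderOf i = 2 at ho
  obtain ⟨c, hc, a, b, h⟩ := hM.conj i hi
    (by rw [show i ^ 4 = (i ^ 2) ^ 2 by group, ← ho, pow_orderOf_eq_one, one_pow])
  obtain ⟨b', hb'⟩ := inv_tS_zero hF hm (g := c * i * c⁻¹) (by rw [h, tS_oInf hF hm])
    (by rw [← pow_two, conj_pow, ← ho, pow_orderOf_eq_one]; group)
  refine ⟨b', fun h0 => ?_, ?_⟩
  · rw [h0, tS_zero hF, conj_eq_one_iff] at hb'
    rw [hb', orderOf_one] at ho
    omega
  · show tS hF 0 b' ∈ M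
    rw [← hb']
    exact mul_mem (mul_mem hc hi) (inv_mem hc)

/-- The torus parts act regularly on the involutions at infinity. -/
theorem mult_transitive {b b' : F} (hb : b ∈ cen hF M) (hb' : b' ∈ cen hF M) (hb0 : b ≠ 0) (hb0' : b' ≠ 0) :
    ∃ k ∈ mult hF M, (k : F) ^ (2 ^ (m + 1) + 1) * b = b' := by
  have hord : ∀ c : F, c ≠ 0 → orderOf (tS (m := m) hF 0 c) = 2 := fun c hc => by
    haveI : Fact (Nat.Prime 2) := ⟨Nat.prime_two⟩
    refine orderOf_eq_prime ?_ ?_
    · rw [pow_two, tS_mul hF, add_self hF, add_self hF, zero_pow (pow_ne_zero _ two_ne_zero), zero_mul, add_zero,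
        tS_zero hF]
    · rw [← tS_zero hF]; exact fun h => hc (Small.SuzukiAut.tS_injective hF h).2
  obtain ⟨g, hg, hgp⟩ := hM.moves
  set j := g * tS hF 0 b * g⁻¹ with hj
  have hjo : orderOf j = 2 := by rw [hj, ← hord b hb0]; exact (MulAut.conj g).orderOf_eq _
  have hjp : j • g • (oInf : Ω) = g • oInf := by rw [hj, mul_smul, mul_smul, inv_smul_smul, tS_oInf hF hm]
  have hjM : j ∈ M := mul_mem (mul_mem hg hb) (inv_mem hg)
  -- involutions with different fixed points are conjugate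
  have key : ∀ c : F, c ≠ 0 → c ∈ cen hF M → ∃ h ∈ M, h * tS hF 0 c * h⁻¹ = j := by
    intro c hc0 hc
    set i := tS (m := m) hF 0 c with hi
    have hii : i * i = 1 := by rw [← pow_two, ← hord c hc0, pow_orderOf_eq_one]
    have hjj : j * j = 1 := by rw [← pow_two, ← hjo, pow_orderOf_eq_one]
    have hiinv : i⁻¹ = i := inv_eq_of_mul_eq_one_right hii
    have hjinv : j⁻¹ = j := inv_eq_of_mul_eq_one_right hjj
    have hrev : ∀ n : ℕ, i * (i * j) ^ n * i⁻¹ = ((i * j) ^ n)⁻¹ := fun n => by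
      rw [← conj_pow, ← inv_pow, mul_inv_rev, hiinv, hjinv, ← mul_assoc, hii, one_mul]
    rcases Nat.even_or_odd (orderOf (i * j)) with ⟨r, hr⟩ | ⟨r, hr⟩
    · exfalso
      have hpos := orderOf_pos (i * j)
      set w := (i * j) ^ r with hw
      have hww : w * w = 1 := by rw [hw, ← pow_add, ← hr, pow_orderOf_eq_one]
      have hw1 : w ≠ 1 := pow_ne_one_of_lt_orderOf (by omega) (by omega)
      have hwi : i * w = w * i := by
        have := hrev r
        rw [← hw, inv_eq_of_mul_eq_one_right hww, mul_inv_eq_iff_eq_mul] at this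
        exact this
      have hwij : (i * j) * w = w * (i * j) := ((Commute.refl (i * j)).pow_right r).eq
      have hwj : j * w = w * j := by
        calc j * w = i * ((i * j) * w) := by rw [← mul_assoc, ← mul_assoc, hii, one_mul]
          _ = (i * w) * (i * j) := by rw [hwij, mul_assoc]
          _ = w * j := by rw [hwi, mul_assoc, ← mul_assoc i i j, hii, one_mul]
      haveI : Fact (Nat.Prime 2) := ⟨Nat.prime_two⟩
      obtain ⟨p, -, hu⟩ := involution_fixed hF hm (orderOf_eq_prime (by rw [pow_two, hww]) hw1)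
      obtain ⟨q₁, -, hu₁⟩ := involution_fixed hF hm (hord c hc0)
      obtain ⟨q₂, -, hu₂⟩ := involution_fixed hF hm hjo
      have hwinf : w • (oInf : Ω) = oInf := by
        have h := hu₁ (w • oInf) (by rw [← mul_smul, hwi, mul_smul, hi, tS_oInf hF hm])
        rw [h, ← hu₁ oInf (tS_oInf hF hm 0 c)]
      have hwp : w • g • (oInf : Ω) = g • oInf := by
        have h := hu₂ (w • g • oInf) (by rw [← mul_smul j w, hwj, mul_smul, hjp])
        rw [h, ← hu₂ _ hjp]
      exact hgp ((hu _ hwp).trans (hu _ hwinf).symm)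
    · refine ⟨(i * j) ^ r, pow_mem (mul_mem hc hjM) r, ?_⟩
      have h1 : i * ((i * j) ^ r)⁻¹ = (i * j) ^ r * i := by
        rw [← hrev r, hiinv, ← mul_assoc, ← mul_assoc, hii, one_mul]
      rw [mul_assoc, h1, ← mul_assoc, ← pow_add]
      have h2 : (i * j) ^ (r + r) = (i * j)⁻¹ := eq_inv_of_mul_eq_one_left (by
        rw [← pow_succ, show r + r + 1 = orderOf (i * j) by omega, pow_orderOf_eq_one])
      rw [h2, mul_inv_rev, hiinv, hjinv, mul_assoc, hii, mul_one]
  obtain ⟨h₁, hh₁, e₁⟩ := key b hb0 hb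
  obtain ⟨h₂, hh₂, e₂⟩ := key b' hb0' hb'
  have e : (h₂⁻¹ * h₁) * tS hF 0 b * (h₂⁻¹ * h₁)⁻¹ = tS hF 0 b' := by
    calc (h₂⁻¹ * h₁) * tS hF 0 b * (h₂⁻¹ * h₁)⁻¹ = h₂⁻¹ * (h₁ * tS hF 0 b * h₁⁻¹) * h₂ := by group
      _ = _ := by rw [e₁, ← e₂]; group
  set h := h₂⁻¹ * h₁
  have hfix : h • (oInf : Ω) = oInf := by
    obtain ⟨p, -, hu⟩ := involution_fixed hF hm (hord b' hb0')
    rw [hu (h • oInf) (by rw [← e, mul_smul, mul_smul, inv_smul_smul, tS_oInf hF hm]), ← hu oInf (tS_oInf hF hm 0 b')]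
  obtain ⟨a, c, k, hk⟩ := exists_decomp hF hm hfix
  refine ⟨k, ⟨a, c, hk ▸ mul_mem (inv_mem hh₂) hh₁⟩, ?_⟩
  rw [hk, mul_assoc (tS hF a c), dS_mul_tS hF hm, mul_zero, mul_assoc, mul_assoc, mul_inv_rev, ← mul_assoc (dS hF k),
    mul_inv_cancel, one_mul, ← mul_assoc, ← tS_zero_comm hF, mul_inv_cancel_right] at e
  exact (Small.SuzukiAut.tS_injective hF e).2

theorem card_cen : (cen hF M).ncard = (mult hF M).ncard + 1 := by
  obtain ⟨b₀, hb0, hb⟩ := exists_cen hF hm hM
  have h0 : (0 : F) ∈ cen hF M := by show tS hF 0 0 ∈ M; rw [tS_zero hF]; exact one_mem _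
  have himg : (fun k : Fˣ => (k : F) ^ (2 ^ (m + 1) + 1) * b₀) '' mult hF M = cen hF M \ {0} := by
    ext b
    constructor
    · rintro ⟨k, hk, rfl⟩
      exact ⟨mult_smul hF hm hk hb, mul_ne_zero (pow_ne_zero _ k.ne_zero) hb0⟩
    · rintro ⟨hb', hb0'⟩
      exact mult_transitive hF hm hM hb hb' hb0 hb0'
  rw [← Set.ncard_sdiff_singleton_add_one h0, ← himg, Set.ncard_image_of_injective]
  intro k l h
  exact Units.ext (sigma_inj hF (mul_right_cancel₀ hb0 h))

theorem four_le_cen : 4 ≤ (cen hF M).ncard := by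
  classical
  haveI : Fact (Nat.Prime 2) := ⟨Nat.prime_two⟩
  let B : AddSubgroup F :=
    { carrier := cen hF M
      zero_mem' := by show tS hF 0 0 ∈ M; rw [tS_zero hF]; exact one_mem _
      add_mem' := fun {a b} ha hb => by
        have := mul_mem (show tS hF 0 a ∈ M from ha) (show tS hF 0 b ∈ M from hb)
        rw [tS_mul hF, add_zero, zero_pow (pow_ne_zero _ two_ne_zero), zero_mul, add_zero] at this
        exact this
      neg_mem' := fun {a} ha => by rw [neg_eq hF]; exact ha }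
  have hd : (cen hF M).ncard ∣ 2 ^ (2 * m + 1) := by
    rw [← hF, ← Nat.card_eq_fintype_card, ← Nat.card_coe_set_eq]
    exact AddSubgroup.card_addSubgroup_dvd_card B
  obtain ⟨s, -, hs⟩ := (Nat.dvd_prime_pow Nat.prime_two).1 hd
  obtain ⟨b₀, hb0, hb⟩ := exists_cen hF hm hM
  by_contra hlt
  refine hM.insolvable ?_
  have hc : (cen hF M).ncard ≤ 2 := by
    rcases s with _ | _ | s
    · omega
    · omega
    · have : 2 ^ (s + 1 + 1) = 4 * 2 ^ s := by ring
      have : 0 < 2 ^ s := by positivity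
      omega
  have h0 : (0 : F) ∈ cen hF M := B.zero_mem
  have hcen : ∀ c ∈ cen hF M, c ≠ 0 → c = b₀ := fun c hc' hc0 => by
    by_contra hne
    have := Set.ncard_le_ncard (show ({0, b₀, c} : Set F) ⊆ cen hF M by
      rintro x (rfl | rfl | rfl) <;> assumption) (Set.toFinite _)
    rw [Set.ncard_insert_of_notMem (by simp [hb0.symm, Ne.symm hc0]), Set.ncard_pair (Ne.symm hne)] at this
    omega
  haveI : IsZGroup ↥M := by
    refine ⟨fun p hp P => ?_⟩
    haveI := Fact.mk hp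
    rcases eq_or_ne p 2 with rfl | hp2
    swap
    · obtain ⟨Q, hQ⟩ := (P.2.map M.subtype).exists_le_sylow
      haveI := sylow_cyclic hF hm hp2 Q
      exact isCyclic_of_injective ((Subgroup.inclusion hQ).comp (M.subtype.subgroupMap (P : Subgroup ↥M)))
        ((Subgroup.inclusion_injective hQ).comp fun x y h => Subtype.ext (M.subtype_injective (Subtype.ext_iff.1 h :)))
    obtain ⟨Q, hQ⟩ := (P.2.map M.subtype).exists_le_sylow
    obtain ⟨g, hg⟩ := Small.SuzukiFacts.exists_conj_uSub hF hm Q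
    have hPfix : ∀ x : (P : Subgroup ↥M), ((x : ↥M) : G) • g • (oInf : Ω) = g • oInf ∧ ((x : ↥M) : G) ^ 4 = 1 := by
      intro x
      have hx : ((x : ↥M) : G) ∈ (Q : Subgroup G) := hQ ⟨x, x.2, rfl⟩
      rw [hg] at hx
      obtain ⟨u, ⟨a, b, rfl⟩, e⟩ := hx
      rw [← e]
      refine ⟨?_, ?_⟩
      · show (g * tS hF a b * g⁻¹) • g • (oInf : Ω) = g • oInf
        rw [mul_smul, mul_smul, inv_smul_smul, tS_oInf hF hm]
      · show (g * tS hF a b * g⁻¹) ^ 4 = 1
        rw [conj_pow, uSub_pow_four hF ⟨a, b, rfl⟩]; group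
    rcases eq_or_ne (Nat.card (P : Subgroup ↥M)) 1 with h1 | h1
    · rw [Subgroup.card_eq_one.1 h1]; infer_instance
    obtain ⟨n, hn⟩ := IsPGroup.iff_card.1 P.2
    obtain ⟨z, hz⟩ : ∃ z : (P : Subgroup ↥M), orderOf z = 2 := exists_prime_orderOf_dvd_card' 2 (by
      rcases n with _ | n
      · exact absurd (hn.trans (pow_zero 2)) h1
      · rw [hn]; exact dvd_pow_self 2 n.succ_ne_zero)
    have hz2 : orderOf ((z : ↥M) : G) = 2 := by rw [Subgroup.orderOf_coe, Subgroup.orderOf_coe, hz]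
    obtain ⟨c, hc, a, b, e⟩ := hM.conj _ (z : ↥M).2 (hPfix z).2
    have hcp : c • g • (oInf : Ω) = oInf := by
      obtain ⟨q, -, hu⟩ := involution_fixed hF hm (z := c * ((z : ↥M) : G) * c⁻¹)
        ((MulAut.conj c).orderOf_eq _ |>.trans hz2)
      rw [hu (c • g • oInf) (by rw [mul_smul, mul_smul, inv_smul_smul, (hPfix z).1]),
        ← hu oInf (by rw [e, tS_oInf hF hm])]
    -- the conjugated Sylow subgroup consists of translations
    have hloc : ∀ x : (P : Subgroup ↥M), ∃ a b : F, c * ((x : ↥M) : G) * c⁻¹ = tS hF a b ∧ tS hF a b ∈ M := by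
      intro x
      have hfix : (c * ((x : ↥M) : G) * c⁻¹) • (oInf : Ω) = oInf := by
        rw [← hcp, mul_smul, mul_smul, inv_smul_smul, (hPfix x).1]
      obtain ⟨a, b, e⟩ := eq_tS_of_fix hF hm hfix (by rw [conj_pow, (hPfix x).2]; group)
      exact ⟨a, b, e, e ▸ mul_mem (mul_mem hc (x : ↥M).2) (inv_mem hc)⟩
    choose α β hαβ hαM using hloc
    -- at most two values of the first coordinate
    have hsq : ∀ x, α x ^ (2 ^ (m + 1) + 1) ∈ cen hF M := fun x => by
      have := mul_mem (hαM x) (hαM x)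
      rw [tS_mul hF, add_self hF, add_self hF, zero_add, ← pow_succ] at this
      exact this
    have hαval : ∀ x y, α x ≠ 0 → α y ≠ 0 → α x = α y := fun x y hx hy => sigma_inj hF
      ((hcen _ (hsq x) (pow_ne_zero _ hx)).trans (hcen _ (hsq y) (pow_ne_zero _ hy)).symm)
    have hdiff : ∀ x y, α x = α y → ((x⁻¹ * y : (P : Subgroup ↥M))) = 1 ∨
        c * ((((x⁻¹ * y : (P : Subgroup ↥M))) : ↥M) : G) * c⁻¹ = tS hF 0 b₀ := by
      intro x y hxy
      have e : c * ((((x⁻¹ * y : (P : Subgroup ↥M))) : ↥M) : G) * c⁻¹ = (tS hF (α x) (β x))⁻¹ * tS hF (α y) (β y) := by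
        rw [← hαβ x, ← hαβ y]
        simp only [Subgroup.coe_mul, Subgroup.coe_inv]
        group
      rw [tS_inv hF, tS_mul hF, hxy, add_self hF] at e
      obtain ⟨d, hd⟩ : ∃ d, c * ((((x⁻¹ * y : (P : Subgroup ↥M))) : ↥M) : G) * c⁻¹ = tS hF 0 d := ⟨_, e⟩
      have hdM : d ∈ cen hF M := by
        show tS hF 0 d ∈ M
        rw [← hd]
        exact mul_mem (mul_mem hc ((x⁻¹ * y : (P : Subgroup ↥M)) : ↥M).2) (inv_mem hc)
      rcases eq_or_ne d 0 with rfl | hd0
      · left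
        rw [tS_zero hF, conj_eq_one_iff, OneMemClass.coe_eq_one, OneMemClass.coe_eq_one] at hd
        exact hd
      · right
        rw [hd, hcen d hdM hd0]
    by_cases h4 : ∃ y, α y ≠ 0
    · obtain ⟨y, hy⟩ := h4
      refine ⟨⟨y, fun x => ?_⟩⟩
      -- every element lies among the powers of `y`
      have hy2 : c * ((((y * y : (P : Subgroup ↥M))) : ↥M) : G) * c⁻¹ = tS hF 0 b₀ := by
        simp only [Subgroup.coe_mul]
        rw [show c * ((((y : ↥M) : G)) * ((y : ↥M) : G)) * c⁻¹ =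
          (c * ((y : ↥M) : G) * c⁻¹) * (c * ((y : ↥M) : G) * c⁻¹) by group, hαβ y, tS_mul hF, add_self hF, add_self hF,
          zero_add, ← pow_succ, hcen _ (hsq y) (pow_ne_zero _ hy)]
      have hval : ∀ w : (P : Subgroup ↥M), c * (((w : ↥M)) : G) * c⁻¹ = tS hF 0 b₀ → w = y * y := fun w hw =>
        Subtype.ext (Subtype.ext (mul_left_cancel (mul_right_cancel (hw.trans hy2.symm))))
      have hα1 : α 1 = 0 := by
        have h := hαβ 1
        simp only [OneMemClass.coe_one, mul_one, mul_inv_cancel] at h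
        rw [← tS_zero hF] at h
        exact (Small.SuzukiAut.tS_injective hF h).1.symm
      rcases eq_or_ne (α x) 0 with hx | hx
      · rcases hdiff 1 x (hα1.trans hx.symm) with h | h
        · rw [inv_one, one_mul] at h
          exact ⟨0, by simp [h]⟩
        · rw [inv_one, one_mul] at h
          rw [hval x h]
          exact mul_mem (Subgroup.mem_zpowers y) (Subgroup.mem_zpowers y)
      · rcases hdiff y x (hαval y x hy hx) with h | h
        · rw [inv_mul_eq_one] at h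
          exact h ▸ Subgroup.mem_zpowers y
        · have := hval _ h
          rw [inv_mul_eq_iff_eq_mul] at this
          rw [this]
          exact mul_mem (Subgroup.mem_zpowers y) (mul_mem (Subgroup.mem_zpowers y) (Subgroup.mem_zpowers y))
    · push Not at h4
      refine ⟨⟨z, fun x => ?_⟩⟩
      have hz1 : z ≠ 1 := fun h => by rw [h, orderOf_one] at hz; omega
      rcases hdiff 1 x ((h4 1).trans (h4 x).symm) with h | h
      · rw [inv_one, one_mul] at h
        exact ⟨0, by simp [h]⟩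
      · rw [inv_one, one_mul] at h
        rcases hdiff 1 z ((h4 1).trans (h4 z).symm) with h' | h'
        · rw [inv_one, one_mul] at h'
          exact absurd h' hz1
        · rw [inv_one, one_mul] at h'
          have : x = z := Subtype.ext (Subtype.ext (mul_left_cancel (mul_right_cancel (h.trans h'.symm))))
          exact this ▸ Subgroup.mem_zpowers z
  infer_instance

/-- **Every two-point stabilizer is as large as possible, with an involution swapping the two points.** -/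
theorem two_points {p : Ω} (hp : p ∈ orb M) (hp' : p ≠ oInf) :
    {g : G | g ∈ M ∧ g • (oInf : Ω) = oInf ∧ g • p = p}.ncard = (mult hF M).ncard ∧
      ∃ i ∈ M, orderOf i = 2 ∧ i • (oInf : Ω) = p := by
  classical
  letI : Fintype G := Fintype.ofFinite _
  letI : Fintype Ω := Fintype.ofFinite _
  have hu : ∀ {i : G}, orderOf i = 2 → ∀ {a b : Ω}, i • a = a → i • b = b → a = b := fun hi a b ha hb => by
    obtain ⟨q, -, h⟩ := involution_fixed hF hm hi
    rw [h a ha, h b hb]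
  set O : Finset Ω := Finset.univ.filter fun q => q ∈ orb M ∧ q ≠ oInf with hO
  set S : Finset G := Finset.univ.filter fun i => i ∈ M ∧ orderOf i = 2 ∧ i • (oInf : Ω) ≠ oInf with hS
  have hcard : ∀ q ∈ O, (S.filter fun i => i • q = q).card = (mult hF M).ncard := by
    intro q hq
    obtain ⟨⟨g, hg, hgq⟩, hq'⟩ := (Finset.mem_filter.1 hq).2
    have e : (((S.filter fun i => i • q = q) : Finset G) : Set G) = (fun b => g * tS hF 0 b * g⁻¹) '' (cen hF M \ {0}) := by
      ext i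
      simp only [Finset.coe_filter, hS, Finset.mem_filter, Finset.mem_univ, true_and, Set.mem_setOf_eq, Set.mem_image,
        Set.mem_sdiff, Set.mem_singleton_iff]
      constructor
      · rintro ⟨⟨hi, ho, -⟩, hiq⟩
        obtain ⟨b, hb⟩ := inv_tS_zero hF hm (g := g⁻¹ * i * g)
          (by rw [mul_smul, mul_smul, hgq, hiq, ← hgq, inv_smul_smul])
          (by rw [show g⁻¹ * i * g * (g⁻¹ * i * g) = g⁻¹ * i ^ 2 * g by rw [pow_two]; group, ← ho, pow_orderOf_eq_one]; group)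
        have hi1 : g * tS hF 0 b * g⁻¹ = i := by rw [← hb]; group
        refine ⟨b, ⟨?_, fun h0 => ?_⟩, hi1⟩
        · show tS hF 0 b ∈ M
          rw [← hb]
          exact mul_mem (mul_mem (inv_mem hg) hi) hg
        · rw [h0, tS_zero hF, mul_one, mul_inv_cancel] at hi1
          rw [← hi1, orderOf_one] at ho
          omega
      · rintro ⟨b, ⟨hb, hb0⟩, rfl⟩
        have ho : orderOf (g * tS hF 0 b * g⁻¹) = 2 := by
          refine ((MulAut.conj g).orderOf_eq _).trans ?_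
          haveI : Fact (Nat.Prime 2) := ⟨Nat.prime_two⟩
          refine orderOf_eq_prime ?_ ?_
          · rw [pow_two, tS_mul hF, add_self hF, add_self hF, zero_pow (pow_ne_zero _ two_ne_zero), zero_mul, add_zero,
              tS_zero hF]
          · rw [← tS_zero hF]; exact fun h => hb0 (Small.SuzukiAut.tS_injective hF h).2
        have hfix : (g * tS hF 0 b * g⁻¹) • q = q := by
          rw [← hgq, mul_smul, mul_smul, inv_smul_smul, tS_oInf hF hm]
        exact ⟨⟨mul_mem (mul_mem hg hb) (inv_mem hg), ho, fun h => hq' (hu ho hfix h)⟩, hfix⟩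
    rw [← Set.ncard_coe_finset, e, Set.ncard_image_of_injective,
      Set.ncard_sdiff_singleton_of_mem (show (0 : F) ∈ cen hF M by show tS hF 0 0 ∈ M; rw [tS_zero hF]; exact one_mem _),
      card_cen hF hm hM, Nat.add_sub_cancel]
    intro a b h
    exact (Small.SuzukiAut.tS_injective hF (mul_left_cancel (mul_right_cancel h))).2
  -- each involution moving infinity has one fixed point in the orbit
  have hS1 : S.card = O.card * (mult hF M).ncard := by
    have h := Finset.sum_card_bipartiteAbove_eq_sum_card_bipartiteBelow (fun (q : Ω) (i : G) => i • q = q)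
      (s := O) (t := S)
    have e1 : ∀ q ∈ O, (Finset.bipartiteAbove (fun (q : Ω) (i : G) => i • q = q) S q).card = (mult hF M).ncard := hcard
    have e2 : ∀ i ∈ S, (Finset.bipartiteBelow (fun (q : Ω) (i : G) => i • q = q) O i).card = 1 := by
      intro i hi
      obtain ⟨hiM, hio, himv⟩ := (Finset.mem_filter.1 hi).2
      obtain ⟨q, hq, hiq⟩ := involution_orb hF hm hM hiM hio
      rw [Finset.card_eq_one]
      refine ⟨q, Finset.eq_singleton_iff_unique_mem.2 ⟨?_, fun r hr => ?_⟩⟩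
      · exact Finset.mem_filter.2 ⟨Finset.mem_filter.2 ⟨Finset.mem_univ _, hq, fun h => himv (h ▸ hiq)⟩, hiq⟩
      · exact hu hio (Finset.mem_filter.1 hr).2 hiq
    rw [Finset.sum_congr rfl e1, Finset.sum_congr rfl e2, Finset.sum_const, Finset.sum_const, smul_eq_mul,
      smul_eq_mul, mul_one] at h
    exact h.symm
  have hmaps : ∀ i ∈ S, i • (oInf : Ω) ∈ O := fun i hi =>
    Finset.mem_filter.2 ⟨Finset.mem_univ _, ⟨i, (Finset.mem_filter.1 hi).2.1, rfl⟩, (Finset.mem_filter.1 hi).2.2.2⟩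
  have hfib := Finset.card_eq_sum_card_fiberwise hmaps
  let D : Ω → Set G := fun q => {g : G | g ∈ M ∧ g • (oInf : Ω) = oInf ∧ g • q = q}
  have hDle : ∀ q ∈ O, (D q).ncard ≤ (mult hF M).ncard := by
    intro q hq
    obtain ⟨x, y, rfl⟩ := (point_cases q).resolve_left (Finset.mem_filter.1 hq).2.2
    have hex : ∀ g ∈ D (oPt x y), ∃ k ∈ mult hF M, ∃ a b : F, g = tS hF a b * dS hF k := fun g hg => by
      obtain ⟨a, b, k, hk⟩ := exists_decomp hF hm hg.2.1
      exact ⟨k, ⟨a, b, hk ▸ hg.1⟩, a, b, hk⟩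
    choose! κ hκ α β hαβ using hex
    refine Set.ncard_le_ncard_of_injOn κ hκ (fun g hg g' hg' e => ?_) (Set.toFinite _)
    have hgg : g' * g⁻¹ = tS hF (α g') (β g') * (tS hF (α g) (β g))⁻¹ := by
      conv_lhs => rw [hαβ g hg, hαβ g' hg', e]
      group
    obtain ⟨c, d, hcd⟩ : ∃ c d, g' * g⁻¹ = tS hF c d := ⟨_, _, by rw [hgg, tS_inv hF, tS_mul hF]⟩
    have hfix : tS hF c d • oPt (m := m) x y = oPt x y := by
      rw [← hcd, mul_smul, show g⁻¹ • oPt (m := m) x y = oPt x y from inv_smul_eq_iff.2 hg.2.2.symm, hg'.2.2]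
    obtain ⟨rfl, rfl⟩ := tS_eq_one hF hm hfix
    rw [tS_zero hF, mul_inv_eq_one] at hcd
    exact hcd.symm
  have hfle : ∀ q ∈ O, (S.filter fun i => i • (oInf : Ω) = q).card ≤ (D q).ncard := by
    intro q hq
    rcases Finset.eq_empty_or_nonempty (S.filter fun i => i • (oInf : Ω) = q) with h | ⟨i₀, hi₀⟩
    · rw [h]; exact Nat.zero_le _
    obtain ⟨hi₀S, hi₀q⟩ := Finset.mem_filter.1 hi₀
    have hsq : ∀ i ∈ S, i * i = 1 := fun i hi => by
      rw [← pow_two, ← (Finset.mem_filter.1 hi).2.2.1, pow_orderOf_eq_one]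
    have hback : ∀ i ∈ S, i • (oInf : Ω) = q → i • q = oInf := fun i hi e => by
      rw [← e, ← mul_smul, hsq i hi, one_smul]
    rw [← Set.ncard_coe_finset]
    refine Set.ncard_le_ncard_of_injOn (fun i => i₀ * i) (fun i hi => ?_)
      (fun a _ b _ e => mul_left_cancel e) (Set.toFinite _)
    obtain ⟨hiS, hiq⟩ := Finset.mem_filter.1 (Finset.mem_coe.1 hi)
    exact ⟨mul_mem (Finset.mem_filter.1 hi₀S).2.1 (Finset.mem_filter.1 hiS).2.1,
      by rw [mul_smul, hiq, hback i₀ hi₀S hi₀q], by rw [mul_smul, hback i hiS hiq, hi₀q]⟩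
  have hpO : p ∈ O := Finset.mem_filter.2 ⟨Finset.mem_univ _, hp, hp'⟩
  have hconst : ∑ q ∈ O, (mult hF M).ncard = ∑ q ∈ O, (S.filter fun i => i • (oInf : Ω) = q).card := by
    rw [← hfib, hS1, Finset.sum_const, smul_eq_mul]
  have hall : ∀ q ∈ O, (S.filter fun i => i • (oInf : Ω) = q).card = (mult hF M).ncard :=
    (Finset.sum_eq_sum_iff_of_le fun q hq => (hfle q hq).trans (hDle q hq)).1 hconst.symm
  refine ⟨le_antisymm (hDle p hpO) ((hall p hpO).symm.le.trans (hfle p hpO)), ?_⟩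
  have hpos : 0 < (mult hF M).ncard := by
    refine (Set.ncard_pos (Set.toFinite _)).2 ⟨1, 0, 0, ?_⟩
    rw [tS_zero hF, map_one, mul_one]; exact one_mem _
  rw [← hall p hpO, Finset.card_pos] at hpos
  obtain ⟨i, hi⟩ := hpos
  obtain ⟨hiS, hip⟩ := Finset.mem_filter.1 hi
  exact ⟨i, (Finset.mem_filter.1 hiS).2.1, (Finset.mem_filter.1 hiS).2.2.1, hip⟩

/-- Conjugation by an element fixing infinity keeps the standard position. -/
theorem map_conj (g : G) (hg : g • (oInf : Ω) = oInf) : Std hF (M.map (MulAut.conj g).toMonoidHom) := by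
  refine ⟨fun h => hM.insolvable ?_, ?_, ?_⟩
  · exact @Group.isSolvable_of_surjective _ _ _ _ ((MulAut.conj g).subgroupMap M).symm.toMonoidHom
      ((MulAut.conj g).subgroupMap M).symm.surjective h
  · rintro _ ⟨i, hi, rfl⟩ h4
    have hi4 : i ^ 4 = 1 := by
      rw [← map_pow] at h4
      exact (MulAut.conj g).map_eq_one_iff.1 h4
    obtain ⟨c, hc, a, b, e⟩ := hM.conj i hi hi4
    refine ⟨g * c * g⁻¹, ⟨c, hc, rfl⟩, ?_⟩
    have e' : g * c * g⁻¹ * (g * i * g⁻¹) * (g * c * g⁻¹)⁻¹ = g * tS hF a b * g⁻¹ := by rw [← e]; group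
    obtain ⟨u, v, k, rfl⟩ := exists_decomp hF hm hg
    obtain ⟨a', b', hab⟩ : tS hF u v * dS hF k * tS hF a b * (tS hF u v * dS hF k)⁻¹ ∈ uSub hF := by
      rw [show tS hF u v * dS hF k * tS hF a b * (tS hF u v * dS hF k)⁻¹ =
        tS hF u v * (dS hF k * tS hF a b * (dS hF k)⁻¹) * (tS hF u v)⁻¹ by group, tS_conj_dS hF hm]
      exact mul_mem (mul_mem ⟨_, _, rfl⟩ ⟨_, _, rfl⟩) (inv_mem ⟨_, _, rfl⟩)
    exact ⟨a', b', e'.trans hab⟩
  · obtain ⟨h, hh, hne⟩ := hM.moves
    refine ⟨g * h * g⁻¹, ⟨h, hh, rfl⟩, ?_⟩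
    rw [mul_smul, mul_smul, show g⁻¹ • (oInf : Ω) = oInf from inv_smul_eq_iff.2 hg.symm]
    exact fun e => hne (smul_left_cancel g (e.trans hg.symm))

/-- The facts in torus position. -/
theorem torus_position (h0 : oPt (0 : F) 0 ∈ orb M) :
    (∀ k ∈ mult hF M, dS hF k ∈ M) ∧ (∃ k : Fˣ, wS hF * dS hF k ∈ M) ∧
      ∀ q ∈ orb M, q = oInf ∨ ∃ a b : F, tS hF a b ∈ M ∧ q = oPt a b := by
  classical
  obtain ⟨hcard, i, hiM, hio, hi0⟩ := two_points hF hm hM h0 (oPt_ne 0 0)
  have hD : ∀ g : G, g • (oInf : Ω) = oInf → g • oPt (m := m) (0 : F) 0 = oPt (0 : F) 0 → ∃ k : Fˣ, g = dS hF k := by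
    intro g h1 h2
    obtain ⟨a, b, k, rfl⟩ := exists_decomp hF hm h1
    rw [mul_smul, dS_oPt hF hm, mul_zero, mul_zero] at h2
    obtain ⟨rfl, rfl⟩ := tS_eq_one hF hm h2
    exact ⟨k, by rw [tS_zero hF, one_mul]⟩
  have hmult : ∀ k ∈ mult hF M, dS hF k ∈ M := by
    have hsub : {k : Fˣ | dS hF k ∈ M} ⊆ mult hF M := fun k hk => ⟨0, 0, by rw [tS_zero hF, one_mul]; exact hk⟩
    have hle : (mult hF M).ncard ≤ {k : Fˣ | dS hF k ∈ M}.ncard := by
      rw [← hcard]
      refine (Set.ncard_le_ncard (t := (fun k : Fˣ => dS (m := m) hF k) '' {k : Fˣ | dS hF k ∈ M}) ?_ (Set.toFinite _)).trans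
        (Set.ncard_image_le (Set.toFinite _))
      rintro g ⟨hg, h1, h2⟩
      obtain ⟨k, rfl⟩ := hD g h1 h2
      exact ⟨k, hg, rfl⟩
    intro k hk
    rw [← Set.eq_of_subset_of_ncard_le hsub hle (Set.toFinite _)] at hk
    exact hk
  refine ⟨hmult, ?_, fun q hq => ?_⟩
  · have hii : i * i = 1 := by rw [← pow_two, ← hio, pow_orderOf_eq_one]
    have hi0' : i • oPt (m := m) (0 : F) 0 = oInf := by rw [← hi0, ← mul_smul, hii, one_smul]
    obtain ⟨k, hk⟩ := hD (wS hF * i) (by rw [mul_smul, hi0, wS_oPt_zero hF hm]) (by rw [mul_smul, hi0', wS_oInf hF hm])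
    refine ⟨k, ?_⟩
    rw [← hk, ← mul_assoc, wS_mul_self, one_mul]
    exact hiM
  · rcases eq_or_ne q oInf with h | hq'
    · exact Or.inl h
    refine Or.inr ?_
    obtain ⟨hqc, -⟩ := two_points hF hm hM hq hq'
    set H := {g : G | g ∈ M ∧ g • (oInf : Ω) = oInf ∧ ∀ a b : F, g ≠ tS hF a b} with hH
    let T := {z : (F × F) × Fˣ | z.1 ∈ tra hF M ∧ z.2 ∈ mult hF M ∧ z.2 ≠ 1}
    let f : (F × F) × Fˣ → G := fun z => tS hF z.1.1 z.1.2 * dS hF z.2 * (tS hF z.1.1 z.1.2)⁻¹
    have hnf : ∀ z : (F × F) × Fˣ, z.2 ≠ 1 → ∀ a b : F, f z ≠ tS hF a b := by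
      intro z hz a b e
      obtain ⟨⟨c, d⟩, k⟩ := z
      have e' : tS hF c d * dS hF k * (tS hF c d)⁻¹ = tS hF a b := e
      rw [mul_inv_eq_iff_eq_mul, tS_mul hF] at e'
      have e'' := e'.trans (mul_one _).symm
      rw [← map_one (dS (m := m) hF)] at e''
      exact hz (decomp_unique hF hm e'').2.2
    have hmapsT : Set.MapsTo f T H := fun z hz => ⟨mul_mem (mul_mem hz.1 (hmult _ hz.2.1)) (inv_mem hz.1),
      by simp only [f, tS_inv hF, mul_smul, tS_oInf hF hm, dS_oInf hF hm], hnf z hz.2.2⟩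
    have hinj : Set.InjOn f T := by
      rintro ⟨⟨a, b⟩, k⟩ ⟨-, -, hk1⟩ ⟨⟨c, d⟩, l⟩ - e
      have h2 : (f ((a, b), k)) • oPt (m := m) c d = oPt c d := by
        rw [e]
        show (tS hF c d * dS hF l * (tS hF c d)⁻¹) • oPt (m := m) c d = oPt c d
        rw [← tS_oPt_zero hF hm c d, mul_smul, mul_smul, inv_smul_smul, dS_oPt hF hm, mul_zero, mul_zero]
      have h1 : (f ((a, b), k)) • oPt (m := m) a b = oPt a b := by
        show (tS hF a b * dS hF k * (tS hF a b)⁻¹) • oPt (m := m) a b = oPt a b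
        rw [← tS_oPt_zero hF hm a b, mul_smul, mul_smul, inv_smul_smul, dS_oPt hF hm, mul_zero, mul_zero]
      have h3 : (f ((a, b), k)) • (oInf : Ω) = oInf := by
        simp only [f, tS_inv hF, mul_smul, tS_oInf hF hm, dS_oInf hF hm]
      have hne : f ((a, b), k) ≠ 1 := fun h => hnf ((a, b), k) hk1 0 0 (h.trans (tS_zero hF).symm)
      rcases eq_or_eq_of_fixed hF hm hne (oPt_ne a b).symm h3 h1 h2 with h | h
      · exact absurd h (oPt_ne c d)
      · obtain ⟨rfl, rfl⟩ := oPt_inj h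
        have e' : tS hF c d * dS hF k * (tS hF c d)⁻¹ = tS hF c d * dS hF l * (tS hF c d)⁻¹ := e
        rw [Small.SuzukiAut.dS_injective hF (mul_left_cancel (mul_right_cancel e'))]
    have hle : H.ncard ≤ T.ncard := by
      have hex : ∀ g ∈ H, ∃ z ∈ T, g = tS hF z.1.1 z.1.2 * dS hF z.2 := by
        rintro g ⟨hg, h1, h2⟩
        obtain ⟨a, b, k, rfl⟩ := exists_decomp hF hm h1
        have hk : k ∈ mult hF M := ⟨a, b, hg⟩
        refine ⟨((a, b), k), ⟨?_, hk, fun h => h2 a b (by rw [show k = 1 from h, map_one, mul_one])⟩, rfl⟩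
        show tS hF a b ∈ M
        have := mul_mem hg (inv_mem (hmult k hk))
        rwa [mul_inv_cancel_right] at this
      choose! φ hφ hφe using hex
      exact Set.ncard_le_ncard_of_injOn φ hφ (fun g hg g' hg' e => by rw [hφe g hg, hφe g' hg', e]) (Set.toFinite _)
    have himg : f '' T = H := Set.eq_of_subset_of_ncard_le hmapsT.image_subset
      (by rw [Set.ncard_image_of_injOn hinj]; exact hle) (Set.toFinite _)
    obtain ⟨g, ⟨hg, hg1, hgq⟩, hgne⟩ : ∃ g ∈ {g : G | g ∈ M ∧ g • (oInf : Ω) = oInf ∧ g • q = q}, g ≠ 1 := by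
      refine Set.exists_ne_of_one_lt_ncard ?_ 1
      rw [hqc]
      have := card_cen hF hm hM
      have := four_le_cen hF hm hM
      omega
    have hgH : g ∈ H := by
      refine ⟨hg, hg1, fun a b e => hgne ?_⟩
      obtain ⟨x, y, rfl⟩ := (point_cases q).resolve_left hq'
      rw [e] at hgq
      obtain ⟨rfl, rfl⟩ := tS_eq_one hF hm hgq
      rw [e, tS_zero hF]
    rw [← himg] at hgH
    obtain ⟨⟨⟨a, b⟩, k⟩, hz, rfl⟩ := hgH
    refine ⟨a, b, hz.1, ?_⟩
    have h1 : (f ((a, b), k)) • oPt (m := m) a b = oPt a b := by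
      show (tS hF a b * dS hF k * (tS hF a b)⁻¹) • oPt (m := m) a b = oPt a b
      rw [← tS_oPt_zero hF hm a b, mul_smul, mul_smul, inv_smul_smul, dS_oPt hF hm, mul_zero, mul_zero]
    exact ((eq_or_eq_of_fixed hF hm hgne (oPt_ne a b).symm hg1 h1 hgq).resolve_left hq')

theorem exists_tra_ne (h0 : oPt (0 : F) 0 ∈ orb M) : ∃ a b : F, a ≠ 0 ∧ tS hF a b ∈ M := by
  classical
  by_contra hno
  push Not at hno
  obtain ⟨hmult, ⟨k₁, hk₁⟩, horb⟩ := torus_position hF hm hM h0
  have horb' : orb M = insert oInf ((fun b => oPt (0 : F) b) '' cen hF M) := by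
    ext q
    constructor
    · intro hq
      rcases horb q hq with h | ⟨a, b, hab, rfl⟩
      · exact Or.inl h
      · rcases eq_or_ne a 0 with rfl | ha
        · exact Or.inr ⟨b, hab, rfl⟩
        · exact absurd hab (hno a b ha)
    · rintro (rfl | ⟨b, hb, rfl⟩)
      · exact ⟨1, one_mem _, one_smul _ _⟩
      · obtain ⟨g, hg, hg0⟩ := h0
        exact ⟨tS hF 0 b * g, mul_mem hb hg, by rw [mul_smul, hg0, tS_oPt_zero hF hm]⟩
  have hN : (orb M).ncard = (cen hF M).ncard + 1 := by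
    rw [horb', Set.ncard_insert_of_notMem, Set.ncard_image_of_injective _ fun a b h => (oPt_inj h).2]
    rintro ⟨b, -, h⟩
    exact oPt_ne 0 b h
  have hst : Nat.card ↥(stabilizer ↥M (oInf : Ω)) = (cen hF M).ncard * (mult hF M).ncard := by
    rw [← Nat.card_coe_set_eq (cen hF M), ← Nat.card_coe_set_eq (mult hF M), ← Nat.card_prod]
    refine (Nat.card_eq_of_bijective (fun z : cen hF M × mult hF M =>
      (⟨⟨tS hF 0 (z.1 : F) * dS hF (z.2 : Fˣ), mul_mem z.1.2 (hmult _ z.2.2)⟩, by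
        show (tS hF 0 (z.1 : F) * dS hF (z.2 : Fˣ)) • (oInf : Ω) = oInf
        rw [mul_smul, dS_oInf hF hm, tS_oInf hF hm]⟩ : ↥(stabilizer ↥M (oInf : Ω)))) ⟨?_, ?_⟩).symm
    · rintro ⟨⟨b, hb⟩, ⟨k, hk⟩⟩ ⟨⟨b', hb'⟩, ⟨k', hk'⟩⟩ e
      obtain ⟨-, rfl, rfl⟩ := decomp_unique hF hm (congrArg (fun w : ↥(stabilizer ↥M (oInf : Ω)) => ((w : ↥M) : G)) e)
      rfl
    · rintro ⟨⟨g, hg⟩, hfix⟩
      obtain ⟨a, b, k, rfl⟩ := exists_decomp hF hm (g := g) hfix
      have hk : k ∈ mult hF M := ⟨a, b, hg⟩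
      have hab : tS hF a b ∈ M := by
        have := mul_mem hg (inv_mem (hmult k hk))
        rwa [mul_inv_cancel_right] at this
      rcases eq_or_ne a 0 with rfl | ha
      · exact ⟨(⟨b, hab⟩, ⟨k, hk⟩), rfl⟩
      · exact absurd hab (hno a b ha)
  have hcard := (stabilizer ↥M (oInf : Ω)).index_mul_card
  rw [index_stabilizer, show orbit ↥M (oInf : Ω) = orb M from Set.ext fun q =>
    ⟨fun ⟨g, hg⟩ => ⟨g, g.2, hg⟩, fun ⟨g, hg, e⟩ => ⟨⟨g, hg⟩, e⟩⟩, hN, hst] at hcard
  have h3 : 3 ∣ Nat.card ↥M := by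
    rw [← hcard]
    have e1 := card_cen hF hm hM
    obtain ⟨s, -, hs⟩ : ∃ s, s ≤ 2 * m + 1 ∧ (cen hF M).ncard = 2 ^ s := by
      refine (Nat.dvd_prime_pow Nat.prime_two).1 ?_
      rw [← hF, ← Nat.card_eq_fintype_card, ← Nat.card_coe_set_eq]
      exact AddSubgroup.card_addSubgroup_dvd_card
        ({ carrier := cen hF M
           zero_mem' := by show tS hF 0 0 ∈ M; rw [tS_zero hF]; exact one_mem _
           add_mem' := fun {a b} ha hb => by
             have := mul_mem (show tS hF 0 a ∈ M from ha) (show tS hF 0 b ∈ M from hb)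
             rw [tS_mul hF, add_zero, zero_pow (pow_ne_zero _ two_ne_zero), zero_mul, add_zero] at this
             exact this
           neg_mem' := fun {a} ha => by rw [neg_eq hF]; exact ha } : AddSubgroup F)
    have hmod : (cen hF M).ncard % 3 ≠ 0 := fun h => by
      rw [hs] at h
      have := Nat.Prime.dvd_of_dvd_pow Nat.prime_three (Nat.dvd_of_mod_eq_zero h)
      omega
    rcases (show (cen hF M).ncard % 3 = 1 ∨ (cen hF M).ncard % 3 = 2 by omega) with h | h
    · exact Dvd.dvd.mul_left (Dvd.dvd.mul_left (by omega) _) _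
    · exact Dvd.dvd.mul_right (by omega) _
  have h3G := h3.trans (Subgroup.card_subgroup_dvd_card M)
  rw [card_sz hF hm] at h3G
  obtain ⟨h8, -, h31, -⟩ := q_facts hF hm
  rcases Nat.prime_three.dvd_mul.1 h3G with h | h
  · rcases Nat.prime_three.dvd_mul.1 h with h | h
    · rw [hF] at h
      have := Nat.Prime.dvd_of_dvd_pow Nat.prime_three (Nat.prime_three.dvd_of_dvd_pow h)
      omega
    · exact h31 h
  · rw [hF] at h
    have h4 : ∀ e : ℕ, 2 ^ (2 * e + 1) % 3 = 2 := fun e => by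
      rw [pow_succ, pow_mul, Nat.mul_mod, Nat.pow_mod]; norm_num
    have := h4 m
    omega

/-- **A non-solvable subgroup in torus position with a normal element is a subfield group.** -/
theorem eq_subfield (h0 : oPt (0 : F) 0 ∈ orb M) {b₁ : F} (hb₁ : tS hF 1 b₁ ∈ M) (hne : M ≠ ⊤) :
    ∃ (K : Type) (_ : Field K) (_ : Fintype K) (k : ℕ) (hK : Fintype.card K = 2 ^ (2 * k + 1)) (hk : 1 ≤ k)
      (hdiv : 2 * k + 1 ∣ 2 * m + 1) (ι : K →+* F),
      k < m ∧ M = (Lead.SuzukiSubfield.emb hF hK ι hk hdiv).range := by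
  classical
  obtain ⟨hmult, ⟨k₁, hk₁⟩, horb⟩ := torus_position hF hm hM h0
  have hone : (1 : F) ∈ cen hF M := by
    have := mul_mem hb₁ hb₁
    rw [tS_mul hF, add_self hF, add_self hF, zero_add, one_pow, one_mul] at this
    exact this
  let P : Subgroup Fˣ :=
    { carrier := mult hF M
      one_mem' := ⟨0, 0, by rw [tS_zero hF, map_one, mul_one]; exact one_mem _⟩
      mul_mem' := mult_mul hF hm
      inv_mem' := fun {k} hk => by
        refine ⟨0, 0, ?_⟩
        rw [tS_zero hF, one_mul, map_inv]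
        exact inv_mem (hmult k hk) }
  set v := (cen hF M).ncard with hv
  have hvc := card_cen hF hm hM
  have hv4 := four_le_cen hF hm hM
  have hPcard : Nat.card ↥P = v - 1 := by
    rw [hv, hvc, Nat.add_sub_cancel, ← Nat.card_coe_set_eq]
    rfl
  obtain ⟨s, hsn, hs⟩ : ∃ s, s ≤ 2 * m + 1 ∧ v = 2 ^ s := by
    refine (Nat.dvd_prime_pow Nat.prime_two).1 ?_
    rw [← hF, ← Nat.card_eq_fintype_card, hv, ← Nat.card_coe_set_eq]
    exact AddSubgroup.card_addSubgroup_dvd_card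
      ({ carrier := cen hF M
         zero_mem' := by show tS hF 0 0 ∈ M; rw [tS_zero hF]; exact one_mem _
         add_mem' := fun {a b} ha hb => by
           have := mul_mem (show tS hF 0 a ∈ M from ha) (show tS hF 0 b ∈ M from hb)
           rw [tS_mul hF, add_zero, zero_pow (pow_ne_zero _ two_ne_zero), zero_mul, add_zero] at this
           exact this
         neg_mem' := fun {a} ha => by rw [neg_eq hF]; exact ha } : AddSubgroup F)
  have hdivn : s ∣ 2 * m + 1 := by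
    have h1 : v - 1 ∣ Fintype.card F - 1 := by
      rw [← hPcard, ← Fintype.card_units, ← Nat.card_eq_fintype_card]
      exact Subgroup.card_subgroup_dvd_card P
    rw [hs, hF] at h1
    have h2 := Nat.gcd_eq_left h1
    rw [Nat.pow_sub_one_gcd_pow_sub_one] at h2
    have h3 : 2 ^ Nat.gcd s (2 * m + 1) = 2 ^ s := by
      have := Nat.one_le_two_pow (n := Nat.gcd s (2 * m + 1))
      have := Nat.one_le_two_pow (n := s)
      omega
    rw [← Nat.pow_right_injective le_rfl h3]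
    exact Nat.gcd_dvd_right _ _
  obtain ⟨k, rfl⟩ : ∃ k, s = 2 * k + 1 := by
    rcases Nat.even_or_odd s with ⟨r, hr⟩ | h
    · exfalso
      have : 2 ∣ 2 * m + 1 := (Dvd.intro r (by omega) : 2 ∣ s).trans hdivn
      omega
    · exact h
  have hk : 1 ≤ k := by
    rcases k with _ | k
    · rw [← hv, hs] at hv4; norm_num at hv4
    · omega
  haveI : Fact (Nat.Prime 2) := ⟨Nat.prime_two⟩
  let K := GaloisField 2 (2 * k + 1)
  letI : Fintype K := Fintype.ofFinite _
  have hK : Fintype.card K = 2 ^ (2 * k + 1) := by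
    rw [← Nat.card_eq_fintype_card, GaloisField.card 2 _ (by omega)]
  obtain ⟨ι⟩ := Lead.SuzukiSubfield.exists_embedding hF hK hdivn
  have hιcard : (Set.range ι).ncard = v := by
    rw [← Set.image_univ, Set.ncard_image_of_injective _ ι.injective, Set.ncard_univ, Nat.card_eq_fintype_card, hK, hs]
  -- the torus parts are the units of the subfield
  have hE : ∀ x : F, x ≠ 0 → (x ∈ Set.range ι ↔ ∃ l ∈ mult hF M, (l : F) = x) := by
    have hsub : Units.val '' (mult hF M) ∪ {0} ⊆ Set.range ι := by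
      have hroot : ∀ x : F, x ^ v = x → x ∈ Set.range ι := by
        intro x hx
        have hset : Set.range ι ⊆ ((Polynomial.X ^ v - Polynomial.X : Polynomial F).roots.toFinset : Set F) := by
          rintro _ ⟨y, rfl⟩
          rw [Finset.mem_coe, Multiset.mem_toFinset, Polynomial.mem_roots
            (FiniteField.X_pow_card_sub_X_ne_zero F (by omega)), Polynomial.IsRoot.def]
          simp only [Polynomial.eval_sub, Polynomial.eval_pow, Polynomial.eval_X]
          rw [← map_pow, hs, ← hK, FiniteField.pow_card, sub_self]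
        have heq := Set.eq_of_subset_of_ncard_le hset (by
          rw [hιcard, Set.ncard_coe_finset]
          refine (Multiset.toFinset_card_le _).trans ((Polynomial.card_roots' _).trans ?_)
          rw [FiniteField.X_pow_card_sub_X_natDegree_eq F (by omega)]) (Set.toFinite _)
        rw [heq, Finset.mem_coe, Multiset.mem_toFinset, Polynomial.mem_roots
          (FiniteField.X_pow_card_sub_X_ne_zero F (by omega)), Polynomial.IsRoot.def]
        simp [hx]
      rintro x (⟨l, hl, rfl⟩ | hx)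
      · refine hroot _ ?_
        have h : (⟨l, hl⟩ : ↥P) ^ (v - 1) = 1 := hPcard ▸ pow_card_eq_one'
        have h' : l ^ (v - 1) = 1 := congrArg Subtype.val h
        calc (l : F) ^ v = ((l ^ (v - 1) : Fˣ) : F) * l := by
              rw [Units.val_pow_eq_pow_val, ← pow_succ, Nat.sub_add_cancel (by omega)]
          _ = l := by rw [h']; simp
      · rw [Set.mem_singleton_iff.1 hx]
        exact ⟨0, map_zero ι⟩
    have heq := Set.eq_of_subset_of_ncard_le hsub (by
      rw [hιcard, Set.ncard_union_eq (Set.disjoint_singleton_right.2 (by rintro ⟨l, -, h⟩; exact l.ne_zero h)),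
        Set.ncard_image_of_injective _ Units.val_injective, Set.ncard_singleton, hv, hvc]) (Set.toFinite _)
    intro x hx
    rw [← heq]
    simp [hx]
  have hσ : ∀ x : F, x ^ (2 ^ (m + 1) + 1) ∈ Set.range ι → x ∈ Set.range ι := by
    rintro x ⟨y, hy⟩
    obtain ⟨z, hz⟩ : ∃ z : K, z ^ (2 ^ (k + 1) + 1) = y := ⟨_, (sg_add_one_left_inv hK y).1⟩
    refine ⟨z, sigma_inj hF ?_⟩
    rw [← hy, ← hz, map_pow, pow_succ (ι z), pow_succ (ι z), ← map_pow ι z, ← map_pow ι z,
      (Lead.SuzukiSubfield.map_pow_sg hK ι hdivn z).1, ← map_pow]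
  have hσ' : ∀ x : F, x ∈ Set.range ι → x ^ (2 ^ (m + 1) + 1) ∈ Set.range ι := by
    rintro _ ⟨y, rfl⟩
    exact ⟨y ^ 2 ^ (k + 1) * y, by rw [map_mul, (Lead.SuzukiSubfield.map_pow_sg hK ι hdivn y).1, ← pow_succ]⟩
  have hcen : ∀ b : F, b ∈ cen hF M ↔ b ∈ Set.range ι := by
    intro b
    rcases eq_or_ne b 0 with rfl | hb
    · exact iff_of_true (show tS hF 0 0 ∈ M by rw [tS_zero hF]; exact one_mem _) ⟨0, map_zero ι⟩
    constructor
    · intro h
      obtain ⟨l, hl, e⟩ := mult_transitive hF hm hM hone h one_ne_zero hb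
      rw [mul_one] at e
      exact e ▸ hσ' _ ((hE _ l.ne_zero).2 ⟨l, hl, rfl⟩)
    · intro h
      obtain ⟨l, hl⟩ : ∃ l : F, l ^ (2 ^ (m + 1) + 1) = b := ⟨_, (sg_add_one_left_inv hF b).1⟩
      have hl0 : l ≠ 0 := fun e => hb (by rw [← hl, e, zero_pow (Nat.succ_ne_zero _)])
      obtain ⟨u, hu, rfl⟩ := (hE l hl0).1 (hσ l (hl ▸ h))
      rw [← hl, ← mul_one ((u : F) ^ (2 ^ (m + 1) + 1))]
      exact mult_smul hF hm hu hone
  have hfst : ∀ a b : F, tS hF a b ∈ M → a ∈ Set.range ι := by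
    intro a b h
    refine hσ a ((hcen _).1 ?_)
    have := mul_mem h h
    rw [tS_mul hF, add_self hF, add_self hF, zero_add, ← pow_succ] at this
    exact this
  have hb1E : b₁ ∈ Set.range ι := by
    obtain ⟨y, hy0, hy1⟩ : ∃ y : K, y ≠ 0 ∧ y ≠ 1 := by
      by_contra h
      push Not at h
      have : Fintype.card K ≤ 2 := by
        rw [← Finset.card_univ]
        refine (Finset.card_le_card (t := {0, 1}) fun y _ => ?_).trans Finset.card_le_two
        rcases eq_or_ne y 0 with e | e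
        · simp [e]
        · simp [h y e]
      rw [hK] at this
      have : 2 ^ 3 ≤ 2 ^ (2 * k + 1) := Nat.pow_le_pow_right (by norm_num) (by omega)
      omega
    set l := ι y with hl
    have hl0 : l ≠ 0 := fun e => hy0 (ι.injective (e.trans (map_zero ι).symm))
    obtain ⟨u, hu, hul⟩ := (hE l hl0).1 ⟨y, rfl⟩
    have huM := hmult u hu
    have hlsg : l ^ 2 ^ (m + 1) ≠ l := by
      intro e
      have h2 : l ^ 2 = l := by conv_lhs => rw [← sg_sg hF l, e, e]
      have : l = 1 := (mul_eq_left₀ hl0).1 (by rw [← pow_two]; exact h2)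
      exact hy1 (ι.injective (this.trans (map_one ι).symm))
    have h1l : (1 : F) + l ≠ 0 := fun e => hy1 (ι.injective (by
      rw [map_one, ← hl]
      linear_combination e - two_eq_zero hF))
    obtain ⟨u₂, hu₂, hu₂l⟩ := (hE (1 + l)⁻¹ (inv_ne_zero h1l)).1 ⟨(1 + y)⁻¹, by rw [map_inv₀, map_add, map_one]⟩
    -- the commutator with a torus element, rescaled
    have hcomm : tS hF 1 b₁ * (dS hF u * (tS hF 1 b₁)⁻¹ * (dS hF u)⁻¹) ∈ M :=
      mul_mem hb₁ (mul_mem (mul_mem huM (inv_mem hb₁)) (inv_mem huM))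
    rw [tS_inv hF, tS_conj_dS hF hm, tS_mul hF] at hcomm
    simp only [one_pow, one_mul, mul_one, hul] at hcomm
    have h2 := mul_mem (mul_mem (mul_mem (hmult u₂ hu₂) hcomm) (inv_mem (hmult u₂ hu₂))) hb₁
    rw [tS_conj_dS hF hm, hu₂l, inv_mul_cancel₀ h1l, tS_mul hF, add_self hF, one_pow, one_mul] at h2
    obtain ⟨w, hw⟩ := (hcen _).1 h2
    -- solve for the second coordinate
    have hsg : (1 + l) ^ (2 ^ (m + 1) + 1) ≠ 0 := pow_ne_zero _ h1l
    have hexp : (1 + l) ^ (2 ^ (m + 1) + 1) = 1 + l + l ^ 2 ^ (m + 1) + l ^ (2 ^ (m + 1) + 1) := by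
      rw [pow_succ, add_pow_sg hF, one_pow, pow_succ]; ring
    have hL : ι (y ^ 2 ^ (k + 1)) = l ^ 2 ^ (m + 1) := (Lead.SuzukiSubfield.map_pow_sg hK ι hdivn y).1
    have hyne : y ^ 2 ^ (k + 1) + y ≠ 0 := fun e => hlsg (by
      rw [← hL, hl]
      congr 1
      linear_combination e - y * two_eq_zero hK)
    refine ⟨((w + 1) * ((1 + y) ^ 2 ^ (k + 1) * (1 + y)) + y ^ 2 ^ (k + 1) * y + y) / (y ^ 2 ^ (k + 1) + y), ?_⟩
    rw [map_div₀, map_add, map_add, map_mul, map_add, map_one, map_mul, map_mul, map_add, map_add,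
      (Lead.SuzukiSubfield.map_pow_sg hK ι hdivn (1 + y)).1, hL, map_add, map_one, ← hl, hw, ← pow_succ, ← pow_succ,
      div_eq_iff (fun e => hlsg (by linear_combination e - l * two_eq_zero hF)), inv_pow, hexp]
    rw [hexp] at hsg
    field_simp
    generalize l ^ (2 ^ (m + 1) + 1) = L'
    generalize l ^ 2 ^ (m + 1) = L
    linear_combination
      (b₁ + L' * b₁ + L' + l + 1 + L + L' + l) * two_eq_zero hF
  have hsnd : ∀ a b : F, tS hF a b ∈ M → b ∈ Set.range ι := by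
    intro a b h
    rcases eq_or_ne a 0 with rfl | ha
    · exact (hcen b).1 h
    obtain ⟨u, hu, hua⟩ := (hE a ha).1 (hfst a b h)
    have h1 : tS hF a (a ^ (2 ^ (m + 1) + 1) * b₁) ∈ M := by
      have := mul_mem (mul_mem (hmult u hu) hb₁) (inv_mem (hmult u hu))
      rwa [tS_conj_dS hF hm, mul_one, hua] at this
    have h2 := mul_mem h h1
    rw [tS_mul hF, add_self hF, ← pow_succ] at h2
    obtain ⟨w, hw⟩ := (hcen _).1 h2
    obtain ⟨a', ha'⟩ := hfst a b h
    obtain ⟨c, hc⟩ := hσ' _ ⟨a', ha'⟩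
    obtain ⟨d, hd⟩ := hb1E
    refine ⟨w + c * d + c, ?_⟩
    rw [map_add, map_add, map_mul, hw, hc, hd]
    linear_combination (a ^ (2 ^ (m + 1) + 1) * b₁ + a ^ (2 ^ (m + 1) + 1)) * two_eq_zero hF
  have htS : ∀ a b : K, tS hF (ι a) (ι b) ∈ M := by
    intro a b
    rcases eq_or_ne a 0 with rfl | ha
    · rw [map_zero]; exact (hcen _).2 ⟨b, rfl⟩
    have ha' : ι a ≠ 0 := fun e => ha (ι.injective (e.trans (map_zero ι).symm))
    obtain ⟨u, hu, hua⟩ := (hE _ ha').1 ⟨a, rfl⟩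
    have h1 : tS hF (ι a) (ι a ^ (2 ^ (m + 1) + 1) * b₁) ∈ M := by
      have := mul_mem (mul_mem (hmult u hu) hb₁) (inv_mem (hmult u hu))
      rwa [tS_conj_dS hF hm, mul_one, hua] at this
    obtain ⟨c, hc⟩ := hσ' _ ⟨a, rfl⟩
    obtain ⟨d, hd⟩ := hb1E
    have h2 := mul_mem ((hcen (ι (b + c * d))).2 ⟨_, rfl⟩) h1
    rw [tS_mul hF, zero_add, zero_pow (pow_ne_zero _ two_ne_zero), zero_mul, add_zero, map_add, map_mul, hc,
      hd, add_assoc, add_self hF, add_zero] at h2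
    exact h2
  have hdS : ∀ l : Kˣ, dS hF (Units.map (ι : K →* F) l) ∈ M := by
    intro l
    obtain ⟨u, hu, hul⟩ := (hE (ι (l : K)) (fun e => l.ne_zero (ι.injective (e.trans (map_zero ι).symm)))).1 ⟨_, rfl⟩
    rw [show Units.map (ι : K →* F) l = u from Units.ext hul.symm]
    exact hmult u hu
  have hk1 : (k₁ : F) ∈ Set.range ι := by
    have h1 : oPt (1 : F) b₁ ∈ orb M := by
      obtain ⟨g, hg, hg0⟩ := h0
      exact ⟨tS hF 1 b₁ * g, mul_mem hb₁ hg, by rw [mul_smul, hg0, tS_oPt_zero hF hm]⟩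
    obtain ⟨d, hd⟩ := hb1E
    have h2 : oPt (1 : F) 0 ∈ orb M := by
      obtain ⟨g, hg, hg0⟩ := h0
      have := htS 1 0
      rw [map_one, map_zero] at this
      exact ⟨tS hF 1 0 * g, mul_mem this hg, by rw [mul_smul, hg0, tS_oPt_zero hF hm]⟩
    obtain ⟨g, hg, hge⟩ := h2
    have hval : wS hF • oPt (m := m) (k₁ : F) 0 = oPt (0 : F) ((k₁ : F) / (k₁ : F) ^ (2 ^ (m + 1) + 2)) := by
      refine Subtype.ext ?_
      have hfv : fv m (k₁ : F) 0 = (k₁ : F) ^ (2 ^ (m + 1) + 2) := by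
        rw [fv, mul_zero, zero_add, zero_pow (pow_ne_zero _ two_ne_zero), add_zero]
      show wM F • pt m (k₁ : F) 0 = pt m 0 _
      rw [wM_pt hF (by rw [hfv]; exact pow_ne_zero _ k₁.ne_zero), hfv, zero_div]
    have hmem : (wS hF * dS hF k₁) • oPt (m := m) (1 : F) 0 ∈ orb M :=
      ⟨wS hF * dS hF k₁ * g, mul_mem hk₁ hg, by rw [mul_smul, hge]⟩
    rw [mul_smul, dS_oPt hF hm, mul_one, mul_zero, hval] at hmem
    rcases horb _ hmem with h | ⟨a, b, hab, h⟩
    · exact absurd h (oPt_ne _ _)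
    · obtain ⟨-, hb⟩ := oPt_inj h
      obtain ⟨c, hc⟩ := hsnd a b hab
      refine hσ _ ⟨c⁻¹, ?_⟩
      rw [map_inv₀, hc, ← hb, inv_div]
      field_simp
      ring
  have hwS : wS hF ∈ M := by
    obtain ⟨u, hu, hul⟩ := (hE _ k₁.ne_zero).1 hk1
    obtain rfl : u = k₁ := Units.ext hul
    have := mul_mem hk₁ (inv_mem (hmult u hu))
    rwa [mul_inv_cancel_right] at this
  have hfix : ∀ g ∈ M, g • (oInf : Ω) = oInf → g ∈ (Lead.SuzukiSubfield.emb hF hK ι hk hdivn).range := by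
    intro g hg h
    obtain ⟨a, b, l, rfl⟩ := exists_decomp hF hm h
    have hl : l ∈ mult hF M := ⟨a, b, hg⟩
    have hab : tS hF a b ∈ M := by
      have := mul_mem hg (inv_mem (hmult l hl))
      rwa [mul_inv_cancel_right] at this
    obtain ⟨a', rfl⟩ := hfst a b hab
    obtain ⟨b', rfl⟩ := hsnd _ b hab
    obtain ⟨l', hl'⟩ := (hE _ l.ne_zero).2 ⟨l, hl, rfl⟩
    have hl0 : l' ≠ 0 := fun e => l.ne_zero (by rw [← hl', e, map_zero])
    refine mul_mem ⟨tS hK a' b', Lead.SuzukiSubfield.emb_tS hF hK ι hk hdivn a' b'⟩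
      ⟨dS hK (Units.mk0 l' hl0), ?_⟩
    rw [Lead.SuzukiSubfield.emb_dS]
    congr 1
    exact Units.ext hl'
  have heq : M = (Lead.SuzukiSubfield.emb hF hK ι hk hdivn).range := by
    refine le_antisymm (fun g hg => ?_) ?_
    · rcases horb _ ⟨g, hg, rfl⟩ with h | ⟨a, b, hab, h⟩
      · exact hfix g hg h
      · obtain ⟨a', rfl⟩ := hfst a b hab
        obtain ⟨b', rfl⟩ := hsnd _ b hab
        have e : g = tS hF (ι a') (ι b') * wS hF * ((tS hF (ι a') (ι b') * wS hF)⁻¹ * g) := by group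
        rw [e]
        refine mul_mem (mul_mem ⟨tS hK a' b', Lead.SuzukiSubfield.emb_tS hF hK ι hk hdivn a' b'⟩
          ⟨wS hK, Lead.SuzukiSubfield.emb_wS hF hK ι hk hdivn⟩) (hfix _ (mul_mem (inv_mem (mul_mem hab hwS)) hg) ?_)
        rw [mul_smul, inv_smul_eq_iff, h, mul_smul, wS_oInf hF hm, tS_oPt_zero hF hm]
    · rintro _ ⟨g, rfl⟩
      rcases sz_decomp hK hk g with ⟨a, b, l, rfl⟩ | ⟨a, b, c, d, l, rfl⟩
      · rw [map_mul, Lead.SuzukiSubfield.emb_tS, Lead.SuzukiSubfield.emb_dS]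
        exact mul_mem (htS a b) (hdS l)
      · rw [map_mul, map_mul, map_mul, Lead.SuzukiSubfield.emb_tS, Lead.SuzukiSubfield.emb_tS,
          Lead.SuzukiSubfield.emb_dS, Lead.SuzukiSubfield.emb_wS]
        exact mul_mem (mul_mem (htS a b) hwS) (mul_mem (htS c d) (hdS l))
  refine ⟨K, inferInstance, inferInstance, k, hK, hk, hdivn, ι, ?_, heq⟩
  rcases (show k < m ∨ k = m by omega) with h | h
  · exact h
  · exfalso
    refine hne (Subgroup.eq_top_of_card_eq M ?_)
    rw [heq, ← Nat.card_congr (MonoidHom.ofInjective (Lead.SuzukiSubfield.emb_injective hF hK ι hk hdivn)).toEquiv,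
      card_sz hK hk, card_sz hF hm, hK, hF, h]

end Std

/-- **The non-solvable proper subgroups are contained in subfield groups.** -/
theorem subfield_of_insolvable {M : Subgroup G} (hM : ¬ Group.IsSolvable ↥M) (hne : M ≠ ⊤) :
    ∃ (K : Type) (_ : Field K) (_ : Fintype K) (k : ℕ), 1 ≤ k ∧ k < m ∧ Fintype.card K = 2 ^ (2 * k + 1) ∧
      2 * k + 1 ∣ 2 * m + 1 ∧ Nonempty (↥M ≃* ↥(Cfsg.Sz K k)) := by
  haveI : Fact (Nat.Prime 2) := ⟨Nat.prime_two⟩
  have hmove : ∀ g : G, ∃ h ∈ M.map (MulAut.conj g).toMonoidHom, h • (oInf : Ω) ≠ oInf := fun g => by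
    by_contra hno
    push Not at hno
    refine hM ?_
    haveI : Group.IsSolvable ↥(stabilizer G (oInf : Ω)) := stab_isSolvable hF hm _
    haveI : Group.IsSolvable ↥(M.map (MulAut.conj g).toMonoidHom) :=
      Group.isSolvable_of_isSolvable_injective (Subgroup.inclusion_injective
        (fun h hh => mem_stabilizer_iff.2 (hno h hh) : M.map (MulAut.conj g).toMonoidHom ≤ stabilizer G (oInf : Ω)))
    exact @Group.isSolvable_of_surjective _ _ _ _ ((MulAut.conj g).subgroupMap M).symm.toMonoidHom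
      ((MulAut.conj g).subgroupMap M).symm.surjective this
  -- standard position
  obtain ⟨P⟩ : Nonempty (Sylow 2 ↥M) := inferInstance
  obtain ⟨Q, hQ⟩ := (P.2.map M.subtype).exists_le_sylow
  obtain ⟨g, hg⟩ := Small.SuzukiFacts.exists_conj_uSub hF hm Q
  have hM₁ : Std hF (M.map (MulAut.conj g⁻¹).toMonoidHom) := by
    refine ⟨fun h => hM ?_, ?_, hmove _⟩
    · exact @Group.isSolvable_of_surjective _ _ _ _ ((MulAut.conj g⁻¹).subgroupMap M).symm.toMonoidHom
        ((MulAut.conj g⁻¹).subgroupMap M).symm.surjective h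
    · rintro _ ⟨i, hi, rfl⟩ h4
      have hi4 : i ^ 4 = 1 := by
        rw [← map_pow] at h4
        exact (MulAut.conj g⁻¹).map_eq_one_iff.1 h4
      have hp : IsPGroup 2 (Subgroup.zpowers (⟨i, hi⟩ : ↥M)) := by
        obtain ⟨e, -, he⟩ := (Nat.dvd_prime_pow Nat.prime_two).1
          (show orderOf (⟨i, hi⟩ : ↥M) ∣ 2 ^ 2 from orderOf_dvd_of_pow_eq_one (Subtype.ext hi4))
        exact IsPGroup.of_card (n := e) (by rw [Nat.card_zpowers, he])
      obtain ⟨R, hR⟩ := hp.exists_le_sylow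
      obtain ⟨d, hd⟩ := exists_smul_eq ↥M R P
      have : d * ⟨i, hi⟩ * d⁻¹ ∈ (P : Subgroup ↥M) := by
        rw [← hd]; exact ⟨_, hR (Subgroup.mem_zpowers _), rfl⟩
      have hQmem : (d : G) * i * (d : G)⁻¹ ∈ (Q : Subgroup G) := hQ ⟨_, this, rfl⟩
      rw [hg] at hQmem
      obtain ⟨u, ⟨a, b, rfl⟩, e⟩ := hQmem
      refine ⟨g⁻¹ * d * g, ⟨d, d.2, by simp⟩, a, b, ?_⟩
      have e' : g * tS hF a b * g⁻¹ = (d : G) * i * (d : G)⁻¹ := e
      show g⁻¹ * d * g * (g⁻¹ * i * g⁻¹⁻¹) * (g⁻¹ * d * g)⁻¹ = _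
      calc g⁻¹ * d * g * (g⁻¹ * i * g⁻¹⁻¹) * (g⁻¹ * d * g)⁻¹ = g⁻¹ * ((d : G) * i * (d : G)⁻¹) * g := by group
        _ = tS hF a b := by rw [← e']; group
  -- move a second point of the orbit to zero
  obtain ⟨h, hh, hne'⟩ := hM₁.moves
  obtain ⟨x, y, hxy⟩ := (point_cases (h • (oInf : Ω))).resolve_left hne'
  set M₁ := M.map (MulAut.conj g⁻¹).toMonoidHom
  set t := (tS (m := m) hF x y)⁻¹
  have ht : t • (oInf : Ω) = oInf := inv_smul_eq_iff.2 (tS_oInf hF hm x y).symm
  have hM₂ := Std.map_conj hF hm hM₁ t ht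
  have h0 : oPt (0 : F) 0 ∈ orb (M₁.map (MulAut.conj t).toMonoidHom) := by
    refine ⟨t * h * t⁻¹, ⟨h, hh, rfl⟩, ?_⟩
    rw [mul_smul, mul_smul, show t⁻¹ • (oInf : Ω) = oInf from inv_smul_eq_iff.2 ht.symm, hxy]
    exact inv_smul_eq_iff.2 (tS_oPt_zero hF hm x y).symm
  obtain ⟨a, b, ha, hab⟩ := Std.exists_tra_ne hF hm hM₂ h0
  -- scale to a normal element
  set M₂ := M₁.map (MulAut.conj t).toMonoidHom
  set d := dS (m := m) hF (Units.mk0 a⁻¹ (inv_ne_zero ha))
  have hd : d • (oInf : Ω) = oInf := dS_oInf hF hm _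
  have hM₃ := Std.map_conj hF hm hM₂ d hd
  have hne₃ : M₂.map (MulAut.conj d).toMonoidHom ≠ ⊤ := by
    intro e
    refine hne (Subgroup.eq_top_of_card_eq M ?_)
    rw [← (Subgroup.card_top : Nat.card (⊤ : Subgroup (Cfsg.Sz F m)) = _), ← e, Subgroup.card_map_of_injective (MulAut.conj d).injective,
      Subgroup.card_map_of_injective (MulAut.conj t).injective,
      Subgroup.card_map_of_injective (MulAut.conj g⁻¹).injective]
  have h0₃ : oPt (0 : F) 0 ∈ orb (M₂.map (MulAut.conj d).toMonoidHom) := by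
    obtain ⟨w, hw, hw0⟩ := h0
    refine ⟨d * w * d⁻¹, ⟨w, hw, rfl⟩, ?_⟩
    rw [mul_smul, mul_smul, show d⁻¹ • (oInf : Ω) = oInf from inv_smul_eq_iff.2 hd.symm, hw0, dS_oPt hF hm, mul_zero,
      mul_zero]
  have hb₁ : tS hF 1 ((a⁻¹) ^ (2 ^ (m + 1) + 1) * b) ∈ M₂.map (MulAut.conj d).toMonoidHom := by
    refine ⟨_, hab, ?_⟩
    show d * tS hF a b * d⁻¹ = _
    rw [tS_conj_dS hF hm, Units.val_mk0, inv_mul_cancel₀ ha]
  obtain ⟨K, i1, i2, k, hK, hk, hdiv, ι, hkm, heq⟩ := Std.eq_subfield hF hm hM₃ h0₃ hb₁ hne₃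
  refine ⟨K, i1, i2, k, hk, hkm, hK, hdiv, ⟨?_⟩⟩
  exact ((((MulAut.conj g⁻¹).subgroupMap M).trans ((MulAut.conj t).subgroupMap M₁)).trans
    ((MulAut.conj d).subgroupMap M₂)).trans
      ((MulEquiv.subgroupCongr heq).trans (MonoidHom.ofInjective (Lead.SuzukiSubfield.emb_injective hF hK ι hk hdiv)).symm)

end Cfsg.Agent.SzSubgroups
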