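import Cfsg.Agent.Lib.Lead.SuzukiSubgroups

/-!
# Triangles of elements of odd order in the Suzuki groups
-/

set_option autoImplicit false

namespace Cfsg.Agent.SzTriangle

open MulAction Cfsg.Agent.Lie.Suzuki Cfsg.Agent.SzSolvable Cfsg.Agent.SzSubgroups

variable {F : Type*} [Field F] {m : ℕ} [Fintype F] (hF : Fintype.card F = 2 ^ (2 * m + 1)) (hm : 1 ≤ m)

local notation "G" => Cfsg.Sz F m
local notation "Ω" => Cfsg.suzukiOvoid F m

include hF hm

theorem orderOf_cj (c g : G) : orderOf (c * g * c⁻¹) = orderOf g := (MulAut.conj c).orderOf_eq g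

theorem tS_zero_sq (b : F) : tS (m := m) hF 0 b * tS hF 0 b = 1 := by
  rw [tS_mul hF, add_self hF, add_self hF, zero_pow (pow_ne_zero _ two_ne_zero), zero_mul, add_zero, tS_zero hF]

theorem orderOf_tS_zero {b : F} (hb : b ≠ 0) : orderOf (tS (m := m) hF 0 b) = 2 := by
  haveI : Fact (Nat.Prime 2) := ⟨Nat.prime_two⟩
  refine orderOf_eq_prime (by rw [pow_two, tS_zero_sq hF hm]) ?_
  rw [← tS_zero hF]
  exact fun h => hb (Small.SuzukiAut.tS_injective hF h).2

/-- An involution centralizes no nontrivial element of odd order. -/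
theorem odd_no_comm {x w : G} (hx : x ≠ 1) (ho : ¬ 2 ∣ orderOf x) (hw : orderOf w = 2) (hc : Commute x w) :
    False := by
  obtain ⟨p, hp, hu⟩ := involution_fixed hF hm hw
  have hxp : x • p = p := hu _ (by rw [← mul_smul, ← hc.eq, mul_smul, hp])
  obtain ⟨q, hqp, hxq, hall⟩ := odd_two_fixed hF hm hx ho hxp
  have hwq : w • q = p ∨ w • q = q := hall _ (by rw [← mul_smul, hc.eq, mul_smul, hxq])
  rcases hwq with h | h
  · exact hqp (smul_left_cancel w (h.trans hp.symm))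
  · exact hqp (hu q h)

/-- The centralizer of a nontrivial element of odd order is abelian of odd order. -/
theorem centralizer_facts {x : G} (hx : x ≠ 1) (ho : ¬ 2 ∣ orderOf x) :
    (∀ y ∈ Subgroup.centralizer ({x} : Set G), ¬ 2 ∣ orderOf y) ∧
      ∀ y ∈ Subgroup.centralizer ({x} : Set G), ∀ z ∈ Subgroup.centralizer ({x} : Set G), y * z = z * y := by
  have hodd : ∀ y ∈ Subgroup.centralizer ({x} : Set G), ¬ 2 ∣ orderOf y := fun y hy h2 =>
    odd_no_comm hF hm hx ho (orderOf_pow_orderOf_div (orderOf_pos y).ne' h2)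
      ((show Commute y x from Subgroup.mem_centralizer_singleton_iff.1 hy).symm.pow_right _)
  refine ⟨hodd, ?_⟩
  by_cases hfix : ∃ a : Ω, x • a = a
  · obtain ⟨a, ha⟩ := hfix
    obtain ⟨b, hba, hb, hall⟩ := odd_two_fixed hF hm hx ho ha
    have hle : ∀ y ∈ Subgroup.centralizer ({x} : Set G), y ∈ pairTorus a b := by
      intro y hy
      have hc := Subgroup.mem_centralizer_singleton_iff.1 hy
      refine smul_a_of_odd (mem_pairStab.2 ?_) (hodd y hy)
      have h1 := hall (y • a) (by rw [← mul_smul, ← hc, mul_smul, ha])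
      have h2 := hall (y • b) (by rw [← mul_smul, ← hc, mul_smul, hb])
      have h3 : y • a ≠ y • b := fun h => hba (smul_left_cancel y h).symm
      rcases h1 with h1 | h1 <;> rcases h2 with h2 | h2
      · exact absurd (h1.trans h2.symm) h3
      · exact Or.inl ⟨h1, h2⟩
      · exact Or.inr ⟨h1, h2⟩
      · exact absurd (h1.trans h2.symm) h3
    intro y hy z hz
    haveI hcyc := pairTorus_isCyclic hF hm hba.symm
    exact congrArg Subtype.val (hcyc.commGroup.mul_comm (⟨y, hle y hy⟩ : pairTorus a b) ⟨z, hle z hz⟩)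
  · push Not at hfix
    obtain ⟨r, hr, hrd⟩ := Nat.exists_prime_and_dvd (fun h => hx (orderOf_eq_one_iff.1 h))
    obtain ⟨hc, -⟩ := torus hF hm hr (prime_dvd_of_fpf hF hm hfix hr hrd) (orderOf_pow_orderOf_div (orderOf_pos x).ne' hrd)
    have hle : ∀ y ∈ Subgroup.centralizer ({x} : Set G),
        y ∈ Subgroup.centralizer ({x ^ (orderOf x / r)} : Set G) := fun y hy =>
      Subgroup.mem_centralizer_singleton_iff.2
        ((show Commute y x from Subgroup.mem_centralizer_singleton_iff.1 hy).pow_right _).eq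
    intro y hy z hz
    exact congrArg Subtype.val (hc.commGroup.mul_comm (⟨y, hle y hy⟩ : ↥(Subgroup.centralizer _)) ⟨z, hle z hz⟩)

/-- An involution normalizing such a centralizer inverts it. -/
theorem inverts {x : G} (hx : x ≠ 1) (ho : ¬ 2 ∣ orderOf x) {w : G} (hw : orderOf w = 2)
    (hn : w * x * w⁻¹ ∈ Subgroup.centralizer ({x} : Set G)) : w * x * w⁻¹ = x⁻¹ := by
  obtain ⟨hodd, hcomm⟩ := centralizer_facts hF hm hx ho
  have hxm : x ∈ Subgroup.centralizer ({x} : Set G) := Subgroup.mem_centralizer_singleton_iff.2 rfl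
  have hww : w * w = 1 := by rw [← pow_two, ← hw, pow_orderOf_eq_one]
  have hwi : w⁻¹ = w := inv_eq_of_mul_eq_one_right hww
  set y := x * (w * x * w⁻¹) with hy
  have hfix : Commute y w := by
    show y * w = w * y
    rw [hy, hcomm x hxm _ hn, hwi]
    calc w * x * w * x * w = w * x * w * x * w := rfl
      _ = w * (x * (w * x * w)) := by group
      _ = w * (w * x * w * x) := by
          have h := hcomm x hxm _ hn
          rw [hwi] at h
          rw [h]
  by_contra hne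
  refine odd_no_comm hF hm (fun h1 => hne ?_) (hodd y (mul_mem hxm hn)) hw hfix
  exact (eq_inv_of_mul_eq_one_right h1)

/-- The standard pair of involutions. -/
theorem exists_form {x : G} (hx : x ≠ 1) (ho : ¬ 2 ∣ orderOf x) :
    ∃ (g : G) (b c : F), b ≠ 0 ∧ c ≠ 0 ∧ g * x * g⁻¹ = tS hF 0 b * (wS hF * tS hF 0 c * wS hF) := by
  obtain ⟨z, hz, hzx⟩ : ∃ z : G, orderOf z = 2 ∧ z * x * z⁻¹ = x⁻¹ := by
    by_cases hfix : ∃ a : Ω, x • a = a
    · obtain ⟨a, ha⟩ := hfix
      obtain ⟨b, hba, hb, -⟩ := odd_two_fixed hF hm hx ho ha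
      obtain ⟨h, h1, h2⟩ := MulAction.is_two_pretransitive_iff.1 (sz_two_pretransitive (m := m) hF) hba.symm
        (oPt_ne (m := m) (0 : F) 0).symm
      obtain ⟨k, hk⟩ := two_point hF hm (h * x * h⁻¹).2 (congrArg Subtype.val (by
          rw [← h1, mul_smul, mul_smul, inv_smul_smul, ha] : (h * x * h⁻¹) • (oInf : Ω) = oInf))
        (congrArg Subtype.val (by
          rw [← h2, mul_smul, mul_smul, inv_smul_smul, hb] :
            (h * x * h⁻¹) • oPt (m := m) (0 : F) 0 = oPt (0 : F) 0))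
      have hk' : h * x * h⁻¹ = dS hF k := Subtype.ext hk
      refine ⟨h⁻¹ * wS hF * h, ?_, ?_⟩
      · rw [show h⁻¹ * wS hF * h = h⁻¹ * wS hF * h⁻¹⁻¹ by group, orderOf_cj hF hm]
        haveI : Fact (Nat.Prime 2) := ⟨Nat.prime_two⟩
        refine orderOf_eq_prime (by rw [pow_two, wS_mul_self]) fun e => ?_
        have := congrArg (fun u : G => u • (oInf : Ω)) e
        simp only [wS_oInf hF hm, one_smul] at this
        exact oPt_ne 0 0 this
      · have e : wS hF * dS hF k * (wS hF)⁻¹ = (dS hF k)⁻¹ := by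
          rw [wS_inv, ← map_inv]; exact Subtype.ext (wM_dM_wM k)
        calc h⁻¹ * wS hF * h * x * (h⁻¹ * wS hF * h)⁻¹ = h⁻¹ * (wS hF * (h * x * h⁻¹) * (wS hF)⁻¹) * h := by group
          _ = x⁻¹ := by rw [hk', e, ← hk']; group
    · push Not at hfix
      obtain ⟨r, hr, hrd⟩ := Nat.exists_prime_and_dvd (fun h => hx (orderOf_eq_one_iff.1 h))
      have hy := orderOf_pow_orderOf_div (orderOf_pos x).ne' hrd
      have hd := prime_dvd_of_fpf hF hm hfix hr hrd
      set T := Subgroup.centralizer ({x ^ (orderOf x / r)} : Set G) with hTdef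
      have hT : IsTorus T := ⟨r, _, hr, hd, hy, rfl⟩
      have hxT : x ∈ T := Subgroup.mem_centralizer_singleton_iff.2 (Commute.self_pow x _).eq
      obtain ⟨g, hgN, -, hord, -⟩ := normalizer_structure hF hm hT
      refine ⟨g ^ 2 * 1, (hord 1 (one_mem _)).2.1, inverts hF hm hx ho (hord 1 (one_mem _)).2.1 ?_⟩
      rw [(hT.facts hF hm).2.2.1 x hxT hx, mul_one]
      exact (Subgroup.mem_set_normalizer_iff.1 (pow_mem hgN 2) x).1 hxT
  have hzz : z * z = 1 := by rw [← pow_two, ← hz, pow_orderOf_eq_one]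
  have hzi : z⁻¹ = z := inv_eq_of_mul_eq_one_right hzz
  have hj : z * x * (z * x) = 1 := by
    rw [← mul_assoc]
    rw [hzi] at hzx
    rw [hzx, inv_mul_cancel]
  have hzj : orderOf (z * x) = 2 := by
    haveI : Fact (Nat.Prime 2) := ⟨Nat.prime_two⟩
    refine orderOf_eq_prime (by rw [pow_two, hj]) fun h => ho ?_
    rw [← inv_eq_of_mul_eq_one_right h, hzi, hz]
  obtain ⟨p, hp, hpu⟩ := involution_fixed hF hm hz
  obtain ⟨p', hp', hpu'⟩ := involution_fixed hF hm hzj
  have hpp : p ≠ p' := by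
    rintro rfl
    obtain ⟨h, hh⟩ := (sz_pretransitive (m := m) hF).exists_smul_eq p (oInf : Ω)
    have hc : ∀ w : G, w • p = p → w * w = 1 → ∃ d : F, h * w * h⁻¹ = tS hF 0 d := fun w hw hw2 =>
      inv_tS_zero hF hm (by rw [← hh, mul_smul, mul_smul, inv_smul_smul, hw])
        (by rw [conj_mul, hw2]; group)
    obtain ⟨d, hd⟩ := hc z hp hzz
    obtain ⟨d', hd'⟩ := hc (z * x) hp' hj
    have e : h * x * h⁻¹ = tS hF 0 (d + d') := by
      have h2 : h * x * h⁻¹ = h * z * h⁻¹ * (h * (z * x) * h⁻¹) := by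
        calc h * x * h⁻¹ = h * (z * z) * x * h⁻¹ := by rw [hzz, mul_one]
          _ = _ := by group
      rw [h2, hd, hd', tS_mul hF, add_zero, zero_pow (pow_ne_zero _ two_ne_zero), zero_mul, add_zero]
    have h2 : orderOf x = orderOf (tS (m := m) hF 0 (d + d')) := by
      rw [← e, orderOf_cj hF hm]
    rcases eq_or_ne (d + d') 0 with h0 | h0
    · rw [h0, tS_zero hF, orderOf_one, orderOf_eq_one_iff] at h2
      exact hx h2
    · exact ho (by rw [h2, orderOf_tS_zero hF hm h0])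
  obtain ⟨h, h1, h2⟩ := MulAction.is_two_pretransitive_iff.1 (sz_two_pretransitive (m := m) hF) hpp
    (oPt_ne (m := m) (0 : F) 0).symm
  obtain ⟨b, hb⟩ := inv_tS_zero hF hm (g := h * z * h⁻¹) (by rw [← h1, mul_smul, mul_smul, inv_smul_smul, hp])
    (by rw [conj_mul, hzz]; group)
  obtain ⟨c, hc⟩ := inv_tS_zero hF hm (g := wS hF * (h * (z * x) * h⁻¹) * wS hF) (by
      rw [mul_smul, mul_smul, wS_oInf hF hm, ← h2, mul_smul, mul_smul, inv_smul_smul, hp', h2, wS_oPt_zero hF hm])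
    (by
      calc wS hF * (h * (z * x) * h⁻¹) * wS hF * (wS hF * (h * (z * x) * h⁻¹) * wS hF)
          = wS hF * (h * (z * x) * h⁻¹) * (wS hF * wS hF) * (h * (z * x) * h⁻¹) * wS hF := by group
        _ = wS hF * (h * (z * x * (z * x)) * h⁻¹) * wS hF := by rw [wS_mul_self]; group
        _ = 1 := by rw [hj]; simp [wS_mul_self])
  have hcc : wS hF * tS hF 0 c * wS hF = h * (z * x) * h⁻¹ := by
    rw [← hc]
    calc wS hF * (wS hF * (h * (z * x) * h⁻¹) * wS hF) * wS hF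
        = wS hF * wS hF * (h * (z * x) * h⁻¹) * (wS hF * wS hF) := by group
      _ = _ := by rw [wS_mul_self, one_mul, mul_one]
  refine ⟨h, b, c, fun h0 => ?_, fun h0 => ?_, ?_⟩
  · rw [h0, tS_zero hF, conj_eq_one_iff] at hb
    rw [hb, orderOf_one] at hz; omega
  · rw [h0, tS_zero hF, mul_one, wS_mul_self, eq_comm, conj_eq_one_iff] at hcc
    rw [hcc, orderOf_one] at hzj; omega
  · rw [hcc, ← hb]
    calc h * x * h⁻¹ = h * (z * z) * x * h⁻¹ := by rw [hzz, mul_one]
      _ = _ := by group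

theorem pair_conj {b c b' c' : F} (hb : b ≠ 0) (hb' : b' ≠ 0) (h : b * c = b' * c') :
    ∃ d : G, d * (tS hF 0 b * (wS hF * tS hF 0 c * wS hF)) * d⁻¹ = tS hF 0 b' * (wS hF * tS hF 0 c' * wS hF) := by
  obtain ⟨l, hl⟩ : ∃ l : F, l ^ (2 ^ (m + 1) + 1) = b' / b := ⟨_, (sg_add_one_left_inv hF (b' / b)).1⟩
  have hl0 : l ≠ 0 := fun e => div_ne_zero hb' hb (by rw [← hl, e, zero_pow (Nat.succ_ne_zero _)])
  refine ⟨dS hF (Units.mk0 l hl0), ?_⟩
  set k := Units.mk0 l hl0
  have hw : dS hF k * wS hF = wS hF * dS hF k⁻¹ := by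
    have e : wS hF * dS hF k * wS hF = dS hF k⁻¹ := Subtype.ext (wM_dM_wM k)
    rw [← e, ← mul_assoc, ← mul_assoc, wS_mul_self, one_mul]
  have hw' : wS hF * (dS hF k)⁻¹ = (dS hF k⁻¹)⁻¹ * wS hF := by
    have e := congrArg (fun g : G => g⁻¹) hw
    simp only [mul_inv_rev, wS_inv] at e
    exact e
  calc dS hF k * (tS hF 0 b * (wS hF * tS hF 0 c * wS hF)) * (dS hF k)⁻¹
      = dS hF k * tS hF 0 b * (dS hF k)⁻¹ * (dS hF k * wS hF) * tS hF 0 c * (wS hF * (dS hF k)⁻¹) := by group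
    _ = dS hF k * tS hF 0 b * (dS hF k)⁻¹ * (wS hF * (dS hF k⁻¹ * tS hF 0 c * (dS hF k⁻¹)⁻¹) * wS hF) := by
        rw [hw, hw']; group
    _ = _ := by
        rw [tS_conj_dS hF hm, tS_conj_dS hF hm, mul_zero, mul_zero, Units.val_inv_eq_inv_val, inv_pow, Units.val_mk0, hl,
          div_mul_cancel₀ b' hb, inv_div]
        congr 3
        congr 1
        field_simp
        linear_combination h

/-- The key relation. -/
theorem wuw {x y : F} (hxy : fv m x y ≠ 0) (c : F) :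
    ∃ X Y : F, wS hF * (tS hF x y * (wS hF * tS hF 0 c * wS hF) * (tS hF x y)⁻¹) * wS hF =
      tS hF X Y * (wS hF * tS hF 0 (fv m x y ^ 2 ^ (m + 1) * c) * wS hF) * (tS hF X Y)⁻¹ := by
  set g := wS (m := m) hF * tS hF x y * wS hF with hg
  rcases sz_decomp hF hm g with ⟨a, b, k, e⟩ | ⟨X, Y, a, b, k, e⟩
  · exfalso
    have h1 : g • (oInf : Ω) = oInf := by rw [e, mul_smul, dS_oInf hF hm, tS_oInf hF hm]
    rw [hg, mul_smul, mul_smul, wS_oInf hF hm, tS_oPt_zero hF hm] at h1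
    have h2 : oPt (m := m) x y = oPt (0 : F) 0 := smul_left_cancel (wS hF) (h1.trans (wS_oPt_zero hF hm).symm)
    obtain ⟨rfl, rfl⟩ := oPt_inj h2
    exact hxy fv_zero_zero
  · have hk : (k : F) ^ (2 ^ (m + 1) + 1) = fv m x y ^ 2 ^ (m + 1) := by
      have h1 : (k : F) ^ (2 ^ m + 1) = fv m x y := by
        have h := congrArg (fun u : G => (((u : Matrix.SpecialLinearGroup (Fin 4) F) : Matrix (Fin 4) (Fin 4) F).mulVec
          ![1, 0, 0, 0]) 3) e
        simp only [hg, Subgroup.coe_mul, Matrix.SpecialLinearGroup.coe_mul, ← Matrix.mulVec_mulVec] at h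
        simp [tS, wS, dS, wM_mulVec, tMat_mulVec, dM_mulVec, tM, fv_zero_zero] at h
        first
          | exact h.symm
          | exact h
      rw [← h1, ← pow_mul]
      have : (2 ^ m + 1) * 2 ^ (m + 1) = 2 ^ (2 * m + 1) + 2 ^ (m + 1) := by
        rw [add_mul, one_mul, ← pow_add]; congr 1; congr 1; omega
      rw [this, ← hF, pow_add (k : F) (Fintype.card F), FiniteField.pow_card, ← pow_succ']
    refine ⟨X, Y, ?_⟩
    calc wS hF * (tS hF x y * (wS hF * tS hF 0 c * wS hF) * (tS hF x y)⁻¹) * wS hF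
        = g * tS hF 0 c * g⁻¹ := by rw [hg, mul_inv_rev, mul_inv_rev, wS_inv]; group
      _ = tS hF X Y * (wS hF * (tS hF a b * (dS hF k * tS hF 0 c * (dS hF k)⁻¹) * (tS hF a b)⁻¹) * (wS hF)⁻¹) *
            (tS hF X Y)⁻¹ := by rw [e]; group
      _ = _ := by
        rw [tS_conj_dS hF hm, mul_zero, hk, wS_inv, ← tS_zero_comm hF, mul_inv_cancel_right]

/-- **Triangles.** Two conjugates of an element of odd order multiply to a third one, without commuting. -/
theorem odd_triangle {x : G} (hx : x ≠ 1) (ho : ¬ 2 ∣ orderOf x) :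
    ∃ g u : G, x * (g * x * g⁻¹) = u * x * u⁻¹ ∧ x * (g * x * g⁻¹) ≠ g * x * g⁻¹ * x ∧
      x * (u * x * u⁻¹) ≠ u * x * u⁻¹ * x := by
  obtain ⟨h, b, c, hb, hc, e⟩ := exists_form hF hm hx ho
  set t := b * c with ht
  have ht0 : t ≠ 0 := mul_ne_zero hb hc
  -- the choice of the translation
  obtain ⟨p, q, hf, hgood⟩ : ∃ p q : F, fv m p q ≠ 0 ∧ ∀ b₁ : F, b₁ ^ 2 = t * fv m p q ^ 2 ^ (m + 1) →
      tS (m := m) hF p q ≠ tS hF 0 b₁ ∧ tS (m := m) hF p q * tS hF p q ≠ tS hF 0 b₁ := by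
    have f01 : fv m (0 : F) 1 = 1 := by
      simp [fv, zero_pow (Nat.succ_ne_zero (2 ^ (m + 1) + 1))]
    rcases ne_or_eq t 1 with ht1 | ht1
    · refine ⟨0, 1, by rw [f01]; exact one_ne_zero, fun b₁ hb₁ => ⟨fun h' => ht1 ?_, fun h' => ?_⟩⟩
      · rw [(Small.SuzukiAut.tS_injective hF h').2.symm, f01, one_pow, one_pow, mul_one] at hb₁
        exact hb₁.symm
      · rw [tS_zero_sq hF hm, ← tS_zero hF] at h'
        rw [← (Small.SuzukiAut.tS_injective hF h').2, f01, one_pow, mul_one, zero_pow two_ne_zero] at hb₁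
        exact ht0 hb₁.symm
    · obtain ⟨k, hk⟩ := exists_unit_ne_one hF hm
      have hne : fv m (1 : F) k ≠ 1 := by
        intro h'
        have h1 : (k : F) ^ 2 ^ (m + 1) = k := by
          simp only [fv, one_mul, one_pow] at h'
          linear_combination h' - (k : F) * two_eq_zero hF
        have h2 : (k : F) ^ 2 = k := by conv_lhs => rw [← sg_sg hF (k : F), h1, h1]
        exact hk ((mul_eq_left₀ k.ne_zero).1 (by rw [← pow_two]; exact h2))
      refine ⟨1, k, fun h' => one_ne_zero (fv_eq_zero hF h').1, fun b₁ hb₁ => ⟨fun h' => ?_, fun h' => ?_⟩⟩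
      · exact one_ne_zero (Small.SuzukiAut.tS_injective hF h').1
      · rw [tS_mul hF, add_self hF, add_self hF, zero_add, one_pow, one_mul] at h'
        rw [← (Small.SuzukiAut.tS_injective hF h').2, ht1, one_mul, one_pow] at hb₁
        refine hne (sq_inj hF ?_)
        rw [one_pow, ← sg_sg hF (fv m (1 : F) k), ← hb₁, one_pow]
  set f := fv m p q ^ 2 ^ (m + 1) with hfdef
  have hf0 : f ≠ 0 := pow_ne_zero _ hf
  obtain ⟨l, hl⟩ := exists_sq hF (Units.mk0 (t / f) (div_ne_zero ht0 hf0))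
  have hll : (l : F) * l = t / f := congrArg Units.val hl
  set b₁ := t / (l : F) with hb₁
  have hb10 : b₁ ≠ 0 := div_ne_zero ht0 l.ne_zero
  have hb1sq : b₁ ^ 2 = t * f := by
    rw [hb₁, div_pow, pow_two (l : F), hll]
    field_simp
  obtain ⟨hne1, hne2⟩ := hgood b₁ hb1sq
  -- move `x` to the pair `b₁, l`
  obtain ⟨d, hd⟩ := pair_conj hF hm (c' := (l : F)) hb hb10 (by rw [← ht, hb₁, div_mul_cancel₀ _ l.ne_zero])
  set h₁ := d * h
  set i := tS (m := m) hF 0 b₁
  set j := wS (m := m) hF * tS hF 0 (l : F) * wS hF with hj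
  have hx₁ : h₁ * x * h₁⁻¹ = i * j := by
    show d * h * x * (d * h)⁻¹ = i * j
    rw [← hd, ← e]; group
  set u₀ := tS (m := m) hF p q with hu₀
  set lv := u₀ * j * u₀⁻¹ with hlv
  have hil : i * lv = u₀ * (i * j) * u₀⁻¹ := by
    rw [hlv, hu₀, ← mul_assoc, ← mul_assoc, show i * tS hF p q = tS hF p q * i from tS_zero_comm hF b₁ p q]
    group
  obtain ⟨X, Y, hw⟩ := wuw hF hm hf (l : F)
  obtain ⟨d', hd'⟩ := pair_conj hF hm (b := (l : F)) (c := f * l) (c' := (l : F)) l.ne_zero hb10 (by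
    rw [hb₁, div_mul_cancel₀ _ l.ne_zero, mul_comm f, ← mul_assoc, hll, div_mul_cancel₀ _ hf0])
  obtain ⟨g₀, hg₀⟩ : ∃ g₀ : G, g₀ * (i * j) * g₀⁻¹ = j * lv := by
    refine ⟨wS hF * tS hF X Y * d'⁻¹, ?_⟩
    rw [← hd']
    have h1 : lv = wS hF * (tS hF X Y * (wS hF * tS hF 0 (f * l) * wS hF) * (tS hF X Y)⁻¹) * wS hF := by
      rw [← hw, hlv, hu₀, hj]
      calc tS hF p q * (wS hF * tS hF 0 (l : F) * wS hF) * (tS hF p q)⁻¹
          = wS hF * wS hF * (tS hF p q * (wS hF * tS hF 0 (l : F) * wS hF) * (tS hF p q)⁻¹) * (wS hF * wS hF) := by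
            rw [wS_mul_self, one_mul, mul_one]
        _ = _ := by group
    rw [h1, hj]
    have hcm : (tS hF 0 (l : F)) * tS hF X Y = tS hF X Y * tS hF 0 (l : F) := tS_zero_comm hF _ _ _
    calc wS hF * tS hF X Y * d'⁻¹ * (d' * (tS hF 0 (l : F) * (wS hF * tS hF 0 (f * l) * wS hF)) * d'⁻¹) *
          (wS hF * tS hF X Y * d'⁻¹)⁻¹
        = wS hF * (tS hF X Y * tS hF 0 (l : F)) * (wS hF * tS hF 0 (f * l) * wS hF) * (tS hF X Y)⁻¹ * (wS hF)⁻¹ := by
          group
      _ = wS hF * (tS hF 0 (l : F) * tS hF X Y) * (wS hF * tS hF 0 (f * l) * wS hF) * (tS hF X Y)⁻¹ * wS hF := by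
          rw [← hcm, wS_inv]
      _ = wS hF * tS hF 0 (l : F) * (wS hF * wS hF) *
            (tS hF X Y * (wS hF * tS hF 0 (f * l) * wS hF) * (tS hF X Y)⁻¹) * wS hF := by
          rw [wS_mul_self, mul_one]; group
      _ = _ := by group
  have hjj : j * j = 1 := by
    rw [hj]
    calc wS hF * tS hF 0 (l : F) * wS hF * (wS hF * tS hF 0 (l : F) * wS hF)
        = wS hF * tS hF 0 (l : F) * (wS hF * wS hF) * tS hF 0 (l : F) * wS hF := by group
      _ = wS hF * (tS hF 0 (l : F) * tS hF 0 (l : F)) * wS hF := by rw [wS_mul_self]; group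
      _ = 1 := by rw [tS_zero_sq hF hm, mul_one, wS_mul_self]
  have hprod : (i * j) * (j * lv) = i * lv := by rw [mul_assoc, ← mul_assoc j j, hjj, one_mul]
  -- the conjugates in terms of `x`
  have hgx : h₁⁻¹ * (j * lv) * h₁ = (h₁⁻¹ * g₀ * h₁) * x * (h₁⁻¹ * g₀ * h₁)⁻¹ := by
    rw [← hg₀, ← hx₁]; group
  have hux : h₁⁻¹ * (i * lv) * h₁ = (h₁⁻¹ * u₀ * h₁) * x * (h₁⁻¹ * u₀ * h₁)⁻¹ := by
    rw [hil, ← hx₁]; group
  set y' := i * j with hy'
  have hy1 : y' ≠ 1 := by rw [← hx₁]; exact fun h' => hx (conj_eq_one_iff.1 h')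
  have hyo : ¬ 2 ∣ orderOf y' := by rw [← hx₁, orderOf_cj hF hm]; exact ho
  have hncomm : y' * (i * lv) ≠ i * lv * y' := by
    intro hc'
    obtain ⟨hodd, hab⟩ := centralizer_facts hF hm hy1 hyo
    rw [hil] at hc'
    have hmem : u₀ * y' * u₀⁻¹ ∈ Subgroup.centralizer ({y'} : Set G) :=
      Subgroup.mem_centralizer_singleton_iff.2 hc'.symm
    have hii : i * i = 1 := tS_zero_sq hF hm b₁
    have hiy : i * y' * i⁻¹ = y'⁻¹ := by
      rw [hy', mul_inv_rev, inv_eq_of_mul_eq_one_right hjj, ← mul_assoc i i j, hii, one_mul]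
    have hinv : ∀ w : G, orderOf w = 2 → w * y' * w⁻¹ = y'⁻¹ → ∀ a' b' : F, w = tS hF a' b' → w = i := by
      intro w hw2 hwy a' b' hwU
      by_contra hne
      have hcw : w⁻¹ * i ∈ Subgroup.centralizer ({y'} : Set G) := by
        refine Subgroup.mem_centralizer_singleton_iff.2 (mul_inv_eq_iff_eq_mul.1 ?_)
        have : w⁻¹ * i * y' * (w⁻¹ * i)⁻¹ = w⁻¹ * (i * y' * i⁻¹) * w := by group
        rw [this, hiy, ← hwy]; group
      have h4 : (w⁻¹ * i) ^ 4 = 1 := by
        rw [hwU]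
        exact uSub_pow_four hF (mul_mem (inv_mem ⟨a', b', rfl⟩) ⟨0, b₁, rfl⟩)
      refine hne (inv_mul_eq_one.1 ?_)
      by_contra hwi
      refine hodd _ hcw ?_
      obtain ⟨e', -, he'⟩ := (Nat.dvd_prime_pow Nat.prime_two).1
        (show orderOf (w⁻¹ * i) ∣ 2 ^ 2 from orderOf_dvd_of_pow_eq_one h4)
      rcases e' with _ | e'
      · rw [pow_zero, orderOf_eq_one_iff] at he'
        exact absurd he' hwi
      · rw [he']; exact dvd_pow_self 2 e'.succ_ne_zero
    haveI : Fact (Nat.Prime 2) := ⟨Nat.prime_two⟩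
    by_cases hu2 : u₀ * u₀ = 1
    · rcases eq_or_ne u₀ 1 with hu1 | hu1
      · rw [hu₀, ← tS_zero hF] at hu1
        obtain ⟨rfl, rfl⟩ := Small.SuzukiAut.tS_injective hF hu1
        exact hf fv_zero_zero
      · have ho2 : orderOf u₀ = 2 := orderOf_eq_prime (by rw [pow_two, hu2]) hu1
        exact hne1 (hinv u₀ ho2 (inverts hF hm hy1 hyo ho2 hmem) p q hu₀)
    · have ho2 : orderOf (u₀ * u₀) = 2 := by
        refine orderOf_eq_prime ?_ hu2
        have h4 : u₀ ^ 4 = 1 := uSub_pow_four hF ⟨p, q, hu₀⟩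
        rw [← h4, ← pow_two, ← pow_mul]
      -- `u₀` normalizes the centralizer, hence so does its square
      have hnorm : ∀ z ∈ Subgroup.centralizer ({y'} : Set G), u₀ * z * u₀⁻¹ ∈ Subgroup.centralizer ({y'} : Set G) := by
        intro z hz
        have hz' : (u₀ * z * u₀⁻¹) * (u₀ * y' * u₀⁻¹) = (u₀ * y' * u₀⁻¹) * (u₀ * z * u₀⁻¹) := by
          rw [conj_mul, conj_mul, Subgroup.mem_centralizer_singleton_iff.1 hz]
        obtain ⟨-, hab'⟩ := centralizer_facts hF hm (x := u₀ * y' * u₀⁻¹)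
          (fun h' => hy1 (conj_eq_one_iff.1 h')) (by rw [orderOf_cj hF hm]; exact hyo)
        refine Subgroup.mem_centralizer_singleton_iff.2 (hab' _ (Subgroup.mem_centralizer_singleton_iff.2 hz') y'
          (Subgroup.mem_centralizer_singleton_iff.2 hc'))
      have hmem2 : (u₀ * u₀) * y' * (u₀ * u₀)⁻¹ ∈ Subgroup.centralizer ({y'} : Set G) := by
        have := hnorm _ hmem
        simpa [mul_assoc] using this
      refine hne2 (hinv (u₀ * u₀) ho2 (inverts hF hm hy1 hyo ho2 hmem2) 0 (p ^ 2 ^ (m + 1) * p) ?_)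
      rw [hu₀, tS_mul hF, add_self hF, add_self hF, zero_add]
  refine ⟨h₁⁻¹ * g₀ * h₁, h₁⁻¹ * u₀ * h₁, ?_, ?_, ?_⟩
  · rw [← hgx, ← hux]
    calc x * (h₁⁻¹ * (j * lv) * h₁) = h₁⁻¹ * ((h₁ * x * h₁⁻¹) * (j * lv)) * h₁ := by group
      _ = _ := by rw [hx₁, hprod]
  · rw [← hgx]
    intro h'
    apply hncomm
    have h2 : (h₁ * x * h₁⁻¹) * (j * lv) = (j * lv) * (h₁ * x * h₁⁻¹) := by
      have := congrArg (fun z => h₁ * z * h₁⁻¹) h'
      simpa [mul_assoc] using this
    rw [hx₁] at h2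
    calc y' * (i * lv) = y' * ((j * lv) * y') := by rw [← hprod, ← h2]
      _ = i * lv * y' := by rw [← mul_assoc, hprod]
  · rw [← hux]
    intro h'
    apply hncomm
    have h2 : (h₁ * x * h₁⁻¹) * (i * lv) = (i * lv) * (h₁ * x * h₁⁻¹) := by
      have := congrArg (fun z => h₁ * z * h₁⁻¹) h'
      simpa [mul_assoc] using this
    rwa [hx₁] at h2

end Cfsg.Agent.SzTriangle
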