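import Mathlib
import Cfsg.Agent.Lib.Small.SL2.Orders
import Cfsg.Agent.Lib.Lead.SemiSpec

/-!
The twisted tensor square of the natural module of `SL₂` in characteristic three, as a module for
`PSL₂` times a group of order two acting as scalars of order two.
-/

set_option autoImplicit false
set_option linter.unusedSectionVars false

namespace Cfsg.Agent.TwistedTensor

open Matrix Cfsg.Agent.Small

variable {F : Type*} [Field F] [CharP F 3] [Fact (Nat.Prime 3)]

local notation "SL2" => Matrix.SpecialLinearGroup (Fin 2) F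
local notation "P2" => Matrix.ProjectiveSpecialLinearGroup (Fin 2) F
local notation "M2" => Matrix (Fin 2) (Fin 2) F

/-- The twisted congruence. -/
def act (A : M2) (M : M2) : M2 := A * M * (A.map (frobenius F 3))ᵀ

theorem act_mul (A B M : M2) : act (A * B) M = act A (act B M) := by
  simp only [act, Matrix.map_mul, Matrix.transpose_mul, Matrix.mul_assoc]

theorem act_one (M : M2) : act 1 M = M := by
  simp [act, Matrix.map_one]

theorem act_smul_eps (ε : F) (hε : ε * ε = 1) (A M : M2) : act (ε • A) M = act A M := by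
  have e : (ε • A).map (frobenius F 3) = ε • A.map (frobenius F 3) := by
    ext i j
    simp only [Matrix.map_apply, Matrix.smul_apply, smul_eq_mul, map_mul, frobenius_def]
    rw [show ε ^ 3 = ε by linear_combination ε * hε]
  rw [act, act, e, Matrix.transpose_smul, Matrix.smul_mul, Matrix.smul_mul, Matrix.mul_smul,
    smul_smul, hε, one_smul]

theorem act_add (A M N : M2) : act A (M + N) = act A M + act A N := by
  simp only [act, Matrix.mul_add, Matrix.add_mul]

theorem act_zero (A : M2) : act A 0 = 0 := by simp [act]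

/-- A representative of an element of `PSL₂`. -/
noncomputable def rep (x : P2) : SL2 := Classical.choose (PSL2.pr_surjective x)

theorem act_rep (g : SL2) (M : M2) : act (rep (PSL2.pr g)).1 M = act g.1 M := by
  obtain ⟨ε, hε, e⟩ :=
    (PSL2.pr_eq_iff _ _).1 (Classical.choose_spec (PSL2.pr_surjective (PSL2.pr g)))
  rw [rep, e, act_smul_eps ε hε]

/-- The module. -/
abbrev Mod (F : Type*) : Type _ := Matrix (Fin 2) (Fin 2) F

/-- The operators. -/
abbrev Op (F : Type*) [Field F] : Type _ :=
  Matrix.ProjectiveSpecialLinearGroup (Fin 2) F × ℤˣ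

/-- The matrix of a representative. -/
noncomputable def repM (x : P2) : M2 := (rep x).1

theorem act_repM (g : SL2) (M : M2) : act (repM (PSL2.pr g)) M = act g.1 M := act_rep g M

noncomputable instance : SMul (Op F) (Mod F) :=
  ⟨fun h M => ((h.2 : ℤ) : F) • act (repM h.1) M⟩

theorem smul_repM (h : Op F) (M : Mod F) : h • M = ((h.2 : ℤ) : F) • act (repM h.1) M := rfl

theorem smul_def (g : SL2) (e : ℤˣ) (M : Mod F) :
    ((PSL2.pr g, e) : Op F) • M = ((e : ℤ) : F) • act g.1 M := by
  rw [smul_repM, act_repM]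

noncomputable instance : DistribMulAction (Op F) (Mod F) where
  one_smul M := by
    rw [smul_repM, show (1 : Op F).1 = PSL2.pr 1 from (map_one _).symm, act_repM]
    simp [act_one]
  mul_smul := by
    rintro ⟨x, e⟩ ⟨y, f⟩ M
    obtain ⟨g, rfl⟩ := PSL2.pr_surjective x
    obtain ⟨k, rfl⟩ := PSL2.pr_surjective y
    rw [Prod.mk_mul_mk, ← map_mul, smul_def, smul_def, smul_def, PSL2.val_mul, act_mul]
    simp only [Units.val_mul, Int.cast_mul, act, Matrix.mul_smul, Matrix.smul_mul, smul_smul]
  smul_zero := by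
    intro h
    rw [smul_repM, act_zero, smul_zero]
  smul_add := by
    intro h M N
    rw [smul_repM, smul_repM, smul_repM, act_add, smul_add]

theorem three_nsmul (M : Mod F) : 3 • M = 0 := by
  ext i j
  rw [Matrix.smul_apply, nsmul_eq_mul, CharP.cast_eq_zero F 3, zero_mul, Matrix.zero_apply]

theorem adj_mul (A : M2) (h : A.det = 1) : (A.trace • (1 : M2) - A) * A = 1 := by
  rw [Matrix.det_fin_two] at h
  ext i j
  fin_cases i <;> fin_cases j <;>
    simp [Matrix.mul_apply, Fin.sum_univ_two, Matrix.trace_fin_two] <;>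
    first | linear_combination h | ring

theorem mul_adj (A : M2) (h : A.det = 1) : A * (A.trace • (1 : M2) - A) = 1 :=
  mul_eq_one_comm.1 (adj_mul A h)

/-- The trace relation of a non-zero eigenvector. -/
theorem trace_rel (g : SL2) (e : F) (he : e * e = 1) (M : M2) (hM : M ≠ 0)
    (h : act g.1 M = e • M) : g.1.trace = e * g.1.trace ^ 3 := by
  set A : M2 := g.1 with hA
  set B : M2 := (A.map (frobenius F 3))ᵀ with hB
  have hdB : B.det = 1 := by
    rw [hB, Matrix.det_transpose, ← RingHom.mapMatrix_apply, ← RingHom.map_det, hA, g.2, map_one]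
  have htB : B.trace = A.trace ^ 3 := by
    rw [hB, Matrix.trace_transpose, Matrix.trace_fin_two, Matrix.trace_fin_two, Matrix.map_apply,
      Matrix.map_apply, ← map_add, frobenius_def]
  have hAB : A * M * B = e • M := h
  have h1 : A * M = e • (M * (B.trace • (1 : M2) - B)) := by
    rw [← Matrix.smul_mul, ← hAB, Matrix.mul_assoc, mul_adj B hdB, Matrix.mul_one]
  rw [Matrix.mul_sub, Matrix.mul_smul, Matrix.mul_one, smul_sub, smul_smul, htB] at h1
  have h2 : M * B = e • ((A.trace • (1 : M2) - A) * M) := by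
    rw [← Matrix.mul_smul, ← hAB, Matrix.mul_assoc A, ← Matrix.mul_assoc, adj_mul A g.2, Matrix.one_mul]
  rw [Matrix.sub_mul, Matrix.smul_mul, Matrix.one_mul] at h2
  rw [h2, smul_smul, he, one_smul] at h1
  have h3 : (A.trace - e * A.trace ^ 3) • M = 0 := by
    rw [sub_smul]
    rw [eq_sub_iff_add_eq, add_sub_cancel] at h1
    rw [sub_eq_zero]
    exact h1
  exact sub_eq_zero.1 ((smul_eq_zero.1 h3).resolve_right hM)

variable [Fintype F]

theorem pr_cube {g : SL2} (ht : g.1.trace * g.1.trace = 4) : PSL2.pr g ^ 3 = 1 := by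
  by_cases hg : SL2C.IsSc g.1
  · rw [SL2C.pr_eq_one_iff.mpr hg, one_pow]
  obtain ⟨x, hx, hc⟩ := SL2C.exists_pr_uS hg ht
  obtain ⟨c, hc⟩ := isConj_iff.mp hc
  have h := SL2C.pr_uS_pow 3 x
  rw [← hc, conj_pow] at h
  exact conj_eq_one_iff.mp h

/-- Elements with a fixed vector. -/
theorem fixed_cases (hns : ¬ IsSquare (-1 : F)) (h : Op F) (M : Mod F) (hM : M ≠ 0)
    (hfix : h • M = M) : h ^ 2 = 1 ∨ h ^ 3 = 1 := by
  obtain ⟨x, e⟩ := h
  obtain ⟨g, rfl⟩ := PSL2.pr_surjective x
  rw [smul_def] at hfix
  have he : ((e : ℤ) : F) * ((e : ℤ) : F) = 1 := by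
    rcases Int.units_eq_one_or e with rfl | rfl <;> simp
  have h' : act g.1 M = ((e : ℤ) : F) • (M : M2) := by
    calc act g.1 M = ((e : ℤ) : F) • (((e : ℤ) : F) • act g.1 M) := by rw [smul_smul, he, one_smul]
      _ = ((e : ℤ) : F) • (M : M2) := congrArg _ hfix
  have ht := trace_rel g _ he M hM h'
  set t := g.1.trace with ht'
  by_cases h0 : t = 0
  · left
    refine Prod.ext ?_ (Int.units_sq e)
    show PSL2.pr g ^ 2 = 1
    rw [← map_pow, SL2C.pr_eq_one_iff]
    refine ⟨-1, ?_⟩
    have h1 := adj_mul g.1 g.2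
    rw [← ht', h0, zero_smul, zero_sub, Matrix.neg_mul] at h1
    rw [pow_two, PSL2.val_mul, neg_one_smul, ← h1, neg_neg]
  · have h1 : t * t = ((e : ℤ) : F) := by
      have : t * (((e : ℤ) : F) * (t * t) - 1) = 0 := by linear_combination -ht
      have h2 := (mul_eq_zero.1 this).resolve_left h0
      linear_combination ((e : ℤ) : F) * h2 - (t * t) * he
    rcases Int.units_eq_one_or e with rfl | rfl
    · right
      refine Prod.ext ?_ (one_pow 3)
      refine pr_cube ?_
      rw [← ht', h1]
      have h3 : (3 : F) = 0 := by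
        have := CharP.cast_eq_zero F 3
        exact_mod_cast this
      simp only [Units.val_one, Int.cast_one]
      linear_combination -h3
    · exact absurd ⟨t, by simpa using h1.symm⟩ hns

end Cfsg.Agent.TwistedTensor
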