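import Cfsg.Agent.Lib.Char.TwoClassesQuot
import Cfsg.Agent.Lib.Solv.Zipper

/-!
# Characters with two-class support whose support is the whole `p`-core
-/

set_option autoImplicit false

namespace Cfsg.Agent.Lead.TwoClassFrobenius

open Cfsg
open Cfsg.Agent.Char

universe u

variable {G : Type u} [Group G] [Fintype G] {χ : IrrCharacter G} {N : Subgroup G}

/-- Outside the support every coset lies in one class. -/
theorem fused [N.Normal] (hG : 2 < Nat.card G) (h : HasTwoClassSupport χ)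
    (hN : ∀ g : G, g ∈ N ↔ (χ : G → ℂ) g ≠ 0) {x n : G} (hx : x ∉ N) (hn : n ∈ N) :
    ∃ g : G, g * x * g⁻¹ = x * n := by
  classical
  refine isConj_iff.1 (isConj_of_forall_irr_eq fun ψ => ?_)
  by_cases hψ : ψ = χ
  · subst hψ
    have h1 : x * n ∉ N := fun e => hx ((Subgroup.mul_mem_cancel_right _ hn).1 e)
    rw [hN, not_not] at hx h1
    rw [hx, h1]
  · have htriv := (two_class_trivial_on hG h hN).2 (Or.inl hψ)
    obtain ⟨ψ', hψ'⟩ := exists_deflate (N := N) ψ.2 htriv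
    rw [← hψ' x, ← hψ' (x * n), QuotientGroup.mk_mul_of_mem _ hn]

variable {p : ℕ} [hp : Fact p.Prime]

section
variable [N.Normal] (hfus : ∀ x : G, x ∉ N → ∀ n ∈ N, ∃ g : G, g * x * g⁻¹ = x * n)
  (hab : ∀ a ∈ N, ∀ b ∈ N, a * b = b * a) (hexp : ∀ a ∈ N, a ^ p = 1)

include hfus hexp

/-- Elements of order prime to `p` fix nothing. -/
theorem fpf {x n : G} (hx : x ≠ 1) (hxp : ¬ p ∣ orderOf x) (hn : n ∈ N) (hc : x * n = n * x) :
    n = 1 := by
  by_contra hn1
  have ho : orderOf n = p := orderOf_eq_prime (hexp n hn) hn1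
  have hxN : x ∉ N := fun hxN => hx (by
    have h1 : orderOf x ∣ p := orderOf_dvd_of_pow_eq_one (hexp x hxN)
    rcases (Nat.dvd_prime hp.1).1 h1 with h1 | h1
    · exact orderOf_eq_one_iff.1 h1
    · exact absurd h1.symm.dvd hxp)
  obtain ⟨g, hg⟩ := hfus x hxN n hn
  have h1 : orderOf (g * x * g⁻¹) = orderOf x := by
    simpa using orderOf_injective (MulAut.conj g).toMonoidHom (MulAut.conj g).injective x
  rw [hg, Commute.orderOf_mul_eq_mul_orderOf_of_coprime (show Commute x n from hc)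
    (by rw [ho]; exact Nat.Coprime.symm ((Nat.Prime.coprime_iff_not_dvd hp.1).2 hxp)), ho] at h1
  have := orderOf_pos x
  have := hp.1.one_lt
  nlinarith

/-- The centralizer of the support. -/
theorem centralizer_le (hcore : N = Cfsg.pCore p G) (hN1 : N ≠ ⊥) :
    Subgroup.centralizer (N : Set G) ≤ N := by
  obtain ⟨n, hn, hn1⟩ := (Subgroup.bot_or_exists_ne_one N).resolve_left hN1
  conv_rhs => rw [hcore]
  refine Cfsg.Agent.Solv.normal_le_pCore (fun a => ?_)
  set b := (orderOf (a : G)).factorization p with hb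
  refine ⟨b, Subtype.ext ?_⟩
  rw [Subgroup.coe_pow, Subgroup.coe_one]
  by_contra hne
  refine hn1 (fpf hfus hexp hne ?_ hn ?_)
  · rw [orderOf_pow_of_dvd (pow_ne_zero _ hp.1.ne_zero) (Nat.ordProj_dvd _ _)]
    exact Nat.not_dvd_ordCompl hp.1 (orderOf_pos _).ne'
  · exact ((show Commute (a : G) n from (Subgroup.mem_centralizer_iff.1 a.2 n hn).symm).pow_left _).eq

include hab

/-- The index of the support is even only if ... : `p = 2` forces odd index. -/
theorem not_two_dvd_index (hp2 : p = 2) (hcore : N = Cfsg.pCore p G) (hN1 : N ≠ ⊥) :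
    ¬ p ∣ N.index := by
  subst hp2
  intro hdvd
  classical
  have hcen := centralizer_le hfus hexp hcore hN1
  have hinvN : ∀ a ∈ N, a⁻¹ = a := fun a ha =>
    inv_eq_of_mul_eq_one_right (by rw [← pow_two]; exact hexp a ha)
  obtain ⟨t, ht⟩ := exists_prime_orderOf_dvd_card' (G := G ⧸ N) 2 hdvd
  have htO : t ∉ Cfsg.pCore 2 (G ⧸ N) := fun hmem => by
    have hker : IsPGroup 2 (QuotientGroup.mk' N).ker := by
      rw [QuotientGroup.ker_mk', hcore]; exact Cfsg.Agent.Solv.pCore_isPGroup 2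
    have hP := IsPGroup.comap_of_ker_isPGroup (Cfsg.Agent.Solv.pCore_isPGroup (G := G ⧸ N) 2)
      (QuotientGroup.mk' N) hker
    haveI : (Cfsg.pCore 2 (G ⧸ N)).Normal := Cfsg.Agent.Solv.pCore_normal 2
    have hle := Cfsg.Agent.Solv.normal_le_pCore hP
    obtain ⟨x, rfl⟩ := QuotientGroup.mk'_surjective N t
    have hxN : x ∈ N := hcore ▸ hle (Subgroup.mem_comap.2 hmem)
    have h1 : (QuotientGroup.mk' N) x = 1 := (QuotientGroup.eq_one_iff x).2 hxN
    rw [h1, orderOf_one] at ht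
    exact absurd ht (by norm_num)
  obtain ⟨s, hs1, hsodd, hts⟩ := Cfsg.Agent.Solv.exists_odd_inverted ht htO
  obtain ⟨x, hxt⟩ := QuotientGroup.mk'_surjective N t
  obtain ⟨r₀, hr₀⟩ := QuotientGroup.mk'_surjective N s
  set a := (orderOf r₀).factorization 2 with ha
  set r := r₀ ^ 2 ^ a with hr
  have hrodd : ¬ 2 ∣ orderOf r := by
    rw [hr, orderOf_pow_of_dvd (pow_ne_zero _ two_ne_zero) (Nat.ordProj_dvd _ _)]
    exact Nat.not_dvd_ordCompl Nat.prime_two (orderOf_pos _).ne'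
  have hrs : (QuotientGroup.mk' N) r = s ^ 2 ^ a := by rw [hr, map_pow, hr₀]
  have hr1 : r ≠ 1 := fun e => hs1 (by
    rw [e, map_one] at hrs
    have h1 : orderOf s ∣ 2 ^ a := orderOf_dvd_of_pow_eq_one hrs.symm
    have h2 : Nat.Coprime (orderOf s) (2 ^ a) :=
      ((Nat.coprime_two_right).2 hsodd).pow_right a
    exact orderOf_eq_one_iff.1 (h2.eq_one_of_dvd h1))
  have sqN : ∀ y : G, (QuotientGroup.mk' N) y * (QuotientGroup.mk' N) y = 1 → y * y ∈ N := fun y e =>
    (QuotientGroup.eq_one_iff _).1 (by rw [← e]; rfl)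
  have htt : t * t = 1 := by rw [← pow_two, ← ht, pow_orderOf_eq_one]
  have hx2 : x * x ∈ N := sqN x (by rw [hxt, htt])
  have hxr2 : (x * r) * (x * r) ∈ N := by
    refine sqN _ ?_
    have h1 : t * s ^ 2 ^ a * t⁻¹ = (s ^ 2 ^ a)⁻¹ := by rw [← conj_pow, hts, inv_pow]
    have htinv : t⁻¹ = t := inv_eq_of_mul_eq_one_right htt
    rw [htinv] at h1
    rw [map_mul, hxt, hrs, show t * s ^ 2 ^ a * (t * s ^ 2 ^ a) = (t * s ^ 2 ^ a * t) * s ^ 2 ^ a by
      simp only [mul_assoc], h1, inv_mul_cancel]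
  have hxN : x ∉ N := fun e => by
    have h1 : (QuotientGroup.mk' N) x = 1 := (QuotientGroup.eq_one_iff x).2 e
    rw [hxt] at h1
    rw [h1, orderOf_one] at ht
    exact absurd ht (by norm_num)
  have mc : ∀ (y : G) (m : N), y * (m : G) * y⁻¹ ∈ N := fun y m =>
    (inferInstance : N.Normal).conj_mem _ m.2 y
  have habN : ∀ m k : N, m * k = k * m := fun m k => Subtype.ext (hab _ m.2 _ k.2)
  let φ : G → (↥N →* ↥N) := fun y =>
    MonoidHom.mk' (fun m => m * ⟨y * (m : G) * y⁻¹, mc y m⟩) fun m k => by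
      apply Subtype.ext
      show (m : G) * k * (y * ((m : G) * k) * y⁻¹) =
        (m : G) * (y * m * y⁻¹) * ((k : G) * (y * k * y⁻¹))
      calc (m : G) * k * (y * ((m : G) * k) * y⁻¹)
          = (m : G) * ((k : G) * (y * m * y⁻¹)) * (y * k * y⁻¹) := by group
        _ = (m : G) * ((y * m * y⁻¹) * k) * (y * k * y⁻¹) := by rw [hab k k.2 _ (mc y m)]
        _ = _ := by group
  have hker : ∀ y : G, ∀ m : N, m ∈ (φ y).ker ↔ y * (m : G) = m * y := fun y m => by
    rw [MonoidHom.mem_ker]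
    constructor
    · intro e
      have e' : (m : G) * (y * m * y⁻¹) = 1 := congrArg Subtype.val e
      have e2 : y * m * y⁻¹ = (m : G) := by rw [eq_inv_of_mul_eq_one_right e', hinvN _ m.2]
      rwa [mul_inv_eq_iff_eq_mul] at e2
    · intro e
      apply Subtype.ext
      show (m : G) * (y * m * y⁻¹) = 1
      rw [e, mul_inv_cancel_right, ← pow_two]
      exact hexp _ m.2
  have hrange : ∀ y : G, y * y ∈ N → (φ y).range ≤ (φ y).ker := by
    rintro y hy _ ⟨m, rfl⟩
    rw [hker]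
    show y * ((m : G) * (y * m * y⁻¹)) = (m : G) * (y * m * y⁻¹) * y
    have h1 : (y * y) * (m : G) = m * (y * y) := hab _ hy _ m.2
    have h2 : y * ((m : G) * (y * m * y⁻¹)) = (y * m * y⁻¹) * ((y * y) * m * (y * y)⁻¹) * y := by group
    rw [h2, h1, mul_inv_cancel_right, hab _ (mc y m) _ m.2]
  have hmul : ∀ y : G, Nat.card (φ y).range * Nat.card (φ y).ker = Nat.card N := fun y => by
    rw [← Subgroup.index_ker, mul_comm, Subgroup.card_mul_index]
  have hbig : ∀ y : G, y * y ∈ N → Nat.card N ≤ Nat.card (φ y).ker * Nat.card (φ y).ker := fun y hy => by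
    rw [← hmul y]
    exact Nat.mul_le_mul_right _ (Subgroup.card_le_of_le (hrange y hy))
  have hsmall : Nat.card (φ x).ker * Nat.card (φ (x * r)).ker ≤ Nat.card N := by
    rw [← Nat.card_prod]
    refine Nat.card_le_card_of_injective (fun q => (q.1 : N) * (q.2 : N)) ?_
    intro q q' e
    have e' : (q'.1 : N)⁻¹ * q.1 = (q'.2 : N) * (q.2 : N)⁻¹ := by
      rw [eq_mul_inv_iff_mul_eq, mul_assoc, inv_mul_eq_iff_eq_mul]
      exact e
    have h1 : (q'.1 : N)⁻¹ * q.1 ∈ (φ x).ker := mul_mem (inv_mem q'.1.2) q.1.2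
    have h2 : (q'.1 : N)⁻¹ * q.1 ∈ (φ (x * r)).ker := e' ▸ mul_mem q'.2.2 (inv_mem q.2.2)
    rw [hker] at h1 h2
    set w : G := (((q'.1 : N)⁻¹ * q.1 : N) : G) with hw
    have h3 : r * w = w * r := mul_left_cancel (a := x) (by
      rw [← mul_assoc, h2, ← mul_assoc, ← h1, mul_assoc])
    have hw1 : (q'.1 : N)⁻¹ * q.1 = 1 :=
      Subtype.ext (fpf hfus hexp hr1 hrodd (SetLike.coe_mem _) h3)
    rw [hw1] at e'
    exact Prod.ext (Subtype.ext (inv_mul_eq_one.1 hw1).symm) (Subtype.ext (mul_inv_eq_one.1 e'.symm).symm)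
  have hk1 := hbig x hx2
  have hk2 := hbig (x * r) hxr2
  set k1 := Nat.card (φ x).ker with hk1d
  set k2 := Nat.card (φ (x * r)).ker
  have hk1pos : 0 < k1 := Nat.card_pos
  have hk2pos : 0 < k2 := Nat.card_pos
  have heq : k1 = k2 := le_antisymm (Nat.le_of_mul_le_mul_right (hsmall.trans hk2) hk2pos)
    (Nat.le_of_mul_le_mul_left (hsmall.trans hk1) hk1pos)
  have hsq : Nat.card N = k1 * k1 := le_antisymm hk1 (by rw [← heq] at hsmall; exact hsmall)
  have hreq : (φ x).range = (φ x).ker := Subgroup.eq_of_le_of_card_ge (hrange x hx2)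
    (le_of_eq (Nat.eq_of_mul_eq_mul_right hk1pos ((hmul x).trans hsq)).symm)
  obtain ⟨m, hm⟩ : (⟨x * x, hx2⟩ : N) ∈ (φ x).range := by
    rw [hreq, hker]
    exact (mul_assoc x x x).symm
  have hm' : (m : G) * (x * m * x⁻¹) = x * x := congrArg Subtype.val hm
  have hy2 : (x * m) * (x * m) = 1 := by
    have h1 : x * m * (x * m) = x * m * x⁻¹ * ((x * x) * m) := by group
    rw [h1, hab _ hx2 _ m.2, ← mul_assoc, hab _ (mc x m) _ m.2, hm', ← pow_two]
    exact hexp _ hx2
  have hyN : x * m ∉ N := fun e => hxN ((Subgroup.mul_mem_cancel_right _ m.2).1 e)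
  refine hyN (hcen (Subgroup.mem_centralizer_iff.2 fun w hw => ?_))
  obtain ⟨g, hg⟩ := hfus _ hyN w hw
  have h2 : (x * m * w) * (x * m * w) = 1 := by
    rw [← hg, show g * (x * m) * g⁻¹ * (g * (x * m) * g⁻¹) = g * ((x * m) * (x * m)) * g⁻¹ by group, hy2]
    group
  have h3 : (x * m * w)⁻¹ = x * m * w := inv_eq_of_mul_eq_one_right h2
  rw [mul_inv_rev, hinvN w hw, inv_eq_of_mul_eq_one_right hy2] at h3
  exact h3

/-- For odd `p` the index is prime to `p`, by the central inversion. -/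
theorem not_odd_dvd_index (hp2 : p ≠ 2) (hcore : N = Cfsg.pCore p G) (hN1 : N ≠ ⊥)
    (h2 : 2 ∣ Nat.card G) : ¬ p ∣ N.index := by
  intro hdvd
  classical
  have hcen := centralizer_le hfus hexp hcore hN1
  obtain ⟨t, ht⟩ := exists_prime_orderOf_dvd_card' (G := G) 2 h2
  have ht1 : t ≠ 1 := fun e => by rw [e, orderOf_one] at ht; exact absurd ht (by norm_num)
  have htp : ¬ p ∣ orderOf t := fun hd => hp2 ((Nat.prime_dvd_prime_iff_eq hp.1 Nat.prime_two).1 (ht ▸ hd))
  have htt : t * t = 1 := by rw [← pow_two, ← ht, pow_orderOf_eq_one]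
  have htinv : t⁻¹ = t := inv_eq_of_mul_eq_one_right htt
  have mc : ∀ (y : G), ∀ m ∈ N, y * m * y⁻¹ ∈ N := fun y m hm =>
    (inferInstance : N.Normal).conj_mem m hm y
  have hinv : ∀ m ∈ N, t * m * t⁻¹ = m⁻¹ := fun m hm => by
    refine eq_inv_of_mul_eq_one_left (fpf hfus hexp ht1 htp (mul_mem (mc t m hm) hm) ?_)
    have h1 := hab _ (mc t m hm) m hm
    conv_lhs => rw [h1]
    rw [htinv]
    have : t * (m * (t * m * t)) = (t * m * t) * m * (t * t) * t⁻¹ * t * t := by
      rw [htt, htinv]; simp only [mul_assoc, htt, mul_one]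
    rw [this, htt, htinv]
    simp only [mul_assoc, htt, mul_one]
  have hpn : ∀ m ∈ N, ∃ s ∈ N, s * s = m := fun m hm => by
    refine ⟨m ^ ((p + 1) / 2), pow_mem hm _, ?_⟩
    have h1 : p % 2 = 1 := hp.1.eq_two_or_odd.resolve_left hp2
    rw [← pow_add, show (p + 1) / 2 + (p + 1) / 2 = p + 1 by omega, pow_succ, hexp m hm, one_mul]
  have hfac : ∀ g : G, ∃ s ∈ N, ∃ c : G, t * c = c * t ∧ g = s * c := fun g => by
    have hm : g * t * g⁻¹ * t⁻¹ ∈ N := hcen (Subgroup.mem_centralizer_iff.2 fun w hw => by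
      have e1 : (g * t * g⁻¹ * t⁻¹) * w * (g * t * g⁻¹ * t⁻¹)⁻¹ = w := by
        have h3 : g⁻¹ * (t⁻¹ * w * t) * g ∈ N := by
          simpa using mc g⁻¹ _ (by simpa using mc t⁻¹ w hw)
        calc (g * t * g⁻¹ * t⁻¹) * w * (g * t * g⁻¹ * t⁻¹)⁻¹
            = g * (t * (g⁻¹ * (t⁻¹ * w * t) * g) * t⁻¹) * g⁻¹ := by group
          _ = g * (g⁻¹ * (t⁻¹ * w * t) * g)⁻¹ * g⁻¹ := by rw [hinv _ h3]
          _ = (t⁻¹ * w * t)⁻¹ := by group
          _ = t⁻¹ * w⁻¹ * t := by group
          _ = t * w⁻¹ * t⁻¹ := by rw [htinv]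
          _ = w := by rw [hinv _ (inv_mem hw), inv_inv]
      exact (mul_inv_eq_iff_eq_mul.1 e1).symm)
    obtain ⟨s, hs, hss⟩ := hpn _ hm
    refine ⟨s, hs, s⁻¹ * g, ?_, by group⟩
    have h2 : (s⁻¹ * g) * t = t * (s⁻¹ * g) := by
      have e : g * t = s * s * t * g := by rw [hss]; group
      calc (s⁻¹ * g) * t = s⁻¹ * (g * t) := mul_assoc _ _ _
        _ = s⁻¹ * (s * s * t * g) := by rw [e]
        _ = (t * (t⁻¹ * s * t) * g) := by group
        _ = t * (s⁻¹ * g) := by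
            have := hinv s hs
            rw [htinv] at this ⊢
            rw [this, mul_assoc]
    exact h2.symm
  have hint : ∀ m ∈ N, t * m = m * t → m = 1 := fun m hm e => fpf hfus hexp ht1 htp hm e
  obtain ⟨u, hu⟩ := exists_prime_orderOf_dvd_card' (G := G ⧸ N) p hdvd
  obtain ⟨g₀, hg₀⟩ := QuotientGroup.mk'_surjective N u
  obtain ⟨s₀, hs₀, c, hct, hg₀c⟩ := hfac g₀
  have hcu : (QuotientGroup.mk' N) c = u := by
    rw [← hg₀, hg₀c, map_mul, show (QuotientGroup.mk' N) s₀ = 1 from (QuotientGroup.eq_one_iff s₀).2 hs₀,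
      one_mul]
  have hcN : c ∉ N := fun e => by
    have h1 : (QuotientGroup.mk' N) c = 1 := (QuotientGroup.eq_one_iff c).2 e
    rw [hcu] at h1
    rw [h1, orderOf_one] at hu
    exact hp.1.ne_one hu.symm
  have hcp : c ^ p = 1 := by
    refine hint _ ((QuotientGroup.eq_one_iff _).1 ?_) ((show Commute t c from hct).pow_right p).eq
    show (QuotientGroup.mk' N) (c ^ p) = 1
    rw [map_pow, hcu, ← hu, pow_orderOf_eq_one]
  let ψ : ↥N →* ↥N := MonoidHom.mk' (fun m => ⟨c⁻¹ * (m : G) * c * (m : G)⁻¹,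
      mul_mem (by simpa using mc c⁻¹ _ m.2) (inv_mem m.2)⟩) fun m k => by
    apply Subtype.ext
    show c⁻¹ * ((m : G) * k) * c * ((m : G) * k)⁻¹ =
      (c⁻¹ * m * c * (m : G)⁻¹) * (c⁻¹ * k * c * (k : G)⁻¹)
    have hk : c⁻¹ * (k : G) * c * (k : G)⁻¹ ∈ N :=
      mul_mem (by simpa using mc c⁻¹ _ k.2) (inv_mem k.2)
    rw [show c⁻¹ * ((m : G) * k) * c * ((m : G) * k)⁻¹ =
      (c⁻¹ * m * c) * ((c⁻¹ * k * c * (k : G)⁻¹) * (m : G)⁻¹) by group, hab _ hk _ (inv_mem m.2),
      ← mul_assoc]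
  have hnotsurj : ¬ Function.Surjective ψ := by
    intro hsur
    have hinj : Function.Injective ψ := Finite.injective_iff_surjective.2 hsur
    letI : MulAction ↥(Subgroup.zpowers c) ↥N :=
      MulAction.compHom ↥N ((MulAut.conjNormal (H := N)).comp (Subgroup.zpowers c).subtype)
    have hZ : IsPGroup p ↥(Subgroup.zpowers c) := fun z => ⟨1, by
      rw [pow_one]
      obtain ⟨i, hi⟩ := z.2
      apply Subtype.ext
      rw [Subgroup.coe_pow, Subgroup.coe_one, ← hi, ← zpow_natCast, ← zpow_mul, mul_comm,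
        zpow_mul, zpow_natCast, hcp, one_zpow]⟩
    have hdN : p ∣ Nat.card N := by
      obtain ⟨n, hn, hn1⟩ := (Subgroup.bot_or_exists_ne_one N).resolve_left hN1
      rw [← orderOf_eq_prime (hexp n hn) hn1, ← Subgroup.orderOf_mk n hn]
      exact orderOf_dvd_natCard _
    obtain ⟨m, hm, hm1⟩ := hZ.exists_fixed_point_of_prime_dvd_card_of_fixed_point ↥N hdN
      (a := (1 : N)) (fun z => map_one (MulAut.conjNormal (z : G)))
    refine hm1 (hinj ?_).symm
    rw [map_one]
    apply Subtype.ext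
    have h1 : c * (m : G) * c⁻¹ = m := congrArg Subtype.val (hm ⟨c, Subgroup.mem_zpowers c⟩)
    show c⁻¹ * (m : G) * c * (m : G)⁻¹ = 1
    have h2 : c * (m : G) = m * c := mul_inv_eq_iff_eq_mul.1 h1
    calc c⁻¹ * (m : G) * c * (m : G)⁻¹ = c⁻¹ * ((m : G) * c) * (m : G)⁻¹ := by group
      _ = 1 := by rw [← h2]; group
  simp only [Function.Surjective, not_forall, not_exists] at hnotsurj
  obtain ⟨m, hm⟩ := hnotsurj
  obtain ⟨g, hg⟩ := hfus c hcN m m.2
  obtain ⟨s, hs, d, hdt, rfl⟩ := hfac g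
  have hd1 : d * c * d⁻¹ * c⁻¹ ∈ N := by
    have e : d * c * d⁻¹ * c⁻¹ = s⁻¹ * (c * (m : G) * c⁻¹) * (c * s * c⁻¹) := by
      calc d * c * d⁻¹ * c⁻¹ = s⁻¹ * ((s * d) * c * (s * d)⁻¹) * s * c⁻¹ := by group
        _ = s⁻¹ * (c * m) * s * c⁻¹ := by rw [hg]
        _ = _ := by group
    rw [e]
    exact mul_mem (mul_mem (inv_mem hs) (mc c _ m.2)) (mc c s hs)
  have hd2 : d * c * d⁻¹ * c⁻¹ = 1 := hint _ hd1
    ((((show Commute t d from hdt).mul_right hct).mul_right
      (show Commute t d from hdt).inv_right).mul_right (show Commute t c from hct).inv_right).eq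
  rw [mul_inv_eq_one] at hd2
  refine hm ⟨s, hs⟩ (Subtype.ext ?_)
  show c⁻¹ * s * c * s⁻¹ = m
  have e : s * c * s⁻¹ = c * m := by
    rw [← hg, mul_inv_rev]
    calc s * c * s⁻¹ = s * (d * c * d⁻¹) * s⁻¹ := by rw [hd2]
      _ = _ := by group
  calc c⁻¹ * s * c * s⁻¹ = c⁻¹ * (s * c * s⁻¹) := by group
    _ = m := by rw [e, inv_mul_cancel_left]

end

/-- The support is the `p`-core exactly for a Frobenius group with the extremal complement. -/
theorem main [N.Normal] (hG : 2 < Nat.card G) (h : HasTwoClassSupport χ)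
    (hN : ∀ g : G, g ∈ N ↔ (χ : G → ℂ) g ≠ 0) (hNp : IsPGroup p N) (hN1 : N ≠ ⊥) :
    N = Cfsg.pCore p G ↔ ∃ H : Subgroup G, Cfsg.IsFrobeniusComplement H ∧
      Cfsg.frobeniusKernel H = (N : Set G) ∧ Nat.card H + 1 = Nat.card N := by
  classical
  obtain ⟨N', -, -, -, ⟨q, hq, hel⟩, hN', hconj⟩ := two_class_minimal hG h
  obtain rfl : N' = N := by
    ext g
    rw [← hN', hN]
  obtain ⟨x₀, hx₀, hx₀1⟩ := (Subgroup.bot_or_exists_ne_one N').resolve_left hN1
  obtain rfl : q = p := by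
    obtain ⟨k, hk⟩ := hNp ⟨x₀, hx₀⟩
    have h1 : orderOf x₀ ∣ p ^ k := orderOf_dvd_of_pow_eq_one (congrArg Subtype.val hk)
    haveI := Fact.mk hq
    rw [orderOf_eq_prime (hel.2 x₀ hx₀) hx₀1] at h1
    exact (Nat.prime_dvd_prime_iff_eq hq hp.1).1 (hq.dvd_of_dvd_pow h1)
  have hab : ∀ a ∈ N', ∀ b ∈ N', a * b = b * a := fun a ha b hb =>
    congrArg Subtype.val (hel.1.is_comm.comm (⟨a, ha⟩ : N') ⟨b, hb⟩)
  have hexp := hel.2
  have hfus : ∀ x : G, x ∉ N' → ∀ n ∈ N', ∃ g : G, g * x * g⁻¹ = x * n := fun x hx n hn =>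
    fused hG h hN hx hn
  constructor
  · intro hcore
    obtain ⟨hiff, hcls, -, -⟩ := two_class_class hG h hN hx₀ hx₀1
    have hcop : Nat.Coprime (Nat.card N') N'.index := by
      obtain ⟨k, hk⟩ := IsPGroup.iff_card.1 hNp
      rw [hk]
      refine Nat.Coprime.pow_left k ((Nat.Prime.coprime_iff_not_dvd hp.1).2 ?_)
      by_cases hp2 : q = 2
      · exact not_two_dvd_index hfus hab hexp hp2 hcore hN1
      · refine not_odd_dvd_index hfus hab hexp hp2 hcore hN1 ?_
        have h1 : 2 ∣ Nat.card {g : G // IsConj x₀ g} := by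
          have h2 : ¬ 2 ∣ Nat.card N' := fun hd => by
            rw [hk] at hd
            exact hp2 ((Nat.prime_dvd_prime_iff_eq Nat.prime_two hp.1).1
              (Nat.prime_two.dvd_of_dvd_pow hd)).symm
          omega
        exact h1.trans ⟨_, (card_conjClass_mul_centralizer x₀).symm⟩
    obtain ⟨H, hH⟩ := Subgroup.exists_right_complement'_of_coprime hcop
    have hHp : ∀ a ∈ H, ¬ q ∣ orderOf a := fun a ha hd => by
      have h1 : q ∣ N'.index := by
        rw [hH.symm.index_eq_card]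
        exact hd.trans (Subgroup.orderOf_mk a ha ▸ orderOf_dvd_natCard _)
      have hNd : q ∣ Nat.card N' := by
        rw [← orderOf_eq_prime (hexp x₀ hx₀) hx₀1, ← Subgroup.orderOf_mk x₀ hx₀]
        exact orderOf_dvd_natCard _
      exact hp.1.ne_one (Nat.eq_one_of_dvd_coprimes hcop hNd h1)
    have hdec : ∀ g : G, ∃ n ∈ N', ∃ a ∈ H, n * a = g := fun g => by
      obtain ⟨⟨⟨n, hn⟩, ⟨a, ha⟩⟩, e⟩ := (hH : Subgroup.IsComplement (N' : Set G) (H : Set G)).2 g
      exact ⟨n, hn, a, ha, e⟩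
    have hdisj : ∀ a ∈ H, a ∈ N' → a = 1 := fun a ha haN =>
      Subgroup.mem_bot.1 (hH.disjoint.le_bot ⟨haN, ha⟩)
    have hfree : ∀ a ∈ H, ∀ n ∈ N', a * n = n * a → a = 1 ∨ n = 1 := fun a ha n hn e => by
      by_contra hcon
      push Not at hcon
      exact hcon.2 (fpf hfus hexp hcon.1 (hHp a ha) hn e)
    have hC : Subgroup.centralizer ({x₀} : Set G) = N' := by
      refine le_antisymm (fun g hg => ?_) (fun g hg => Subgroup.mem_centralizer_singleton_iff.2 (hab g hg x₀ hx₀))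
      obtain ⟨n, hn, a, ha, rfl⟩ := hdec g
      have e := Subgroup.mem_centralizer_singleton_iff.1 hg
      have e2 : a * x₀ = x₀ * a := mul_left_cancel (a := n) (by
        rw [← mul_assoc, e, ← mul_assoc, ← mul_assoc, hab x₀ hx₀ n hn])
      rcases hfree a ha x₀ hx₀ e2 with rfl | h1
      · rwa [mul_one]
      · exact absurd h1 hx₀1
    have hcard : Nat.card H + 1 = Nat.card N' := by
      have h1 := card_conjClass_mul_centralizer x₀
      rw [hC, ← hH.card_mul] at h1
      rw [← hcls]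
      congr 1
      exact (Nat.eq_of_mul_eq_mul_right Nat.card_pos (h1.trans (mul_comm _ _))).symm
    refine ⟨H, ⟨?_, ?_, fun g hg => ?_⟩, ?_, hcard⟩
    · rintro rfl
      simp only [Subgroup.card_bot] at hcard
      have h1 := hH.card_mul
      rw [Subgroup.card_bot, mul_one] at h1
      omega
    · rintro rfl
      exact hx₀1 (hdisj x₀ (Subgroup.mem_top _) hx₀)
    · rw [eq_bot_iff]
      rintro a ⟨haH, b, hb, rfl⟩
      obtain ⟨n, hn, c, hc, rfl⟩ := hdec g
      have hn1 : n ≠ 1 := fun e => hg (by rw [e, one_mul]; exact hc)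
      change (n * c) * b * (n * c)⁻¹ ∈ H at haH
      set b' := c * b * c⁻¹ with hb'
      have hb'H : b' ∈ H := mul_mem (mul_mem hc hb) (inv_mem hc)
      have he : (n * c) * b * (n * c)⁻¹ = n * b' * n⁻¹ := by rw [hb']; group
      rw [he] at haH
      have h2 : n * b' * n⁻¹ * b'⁻¹ = 1 := by
        refine hdisj _ (mul_mem haH (inv_mem hb'H)) ?_
        rw [show n * b' * n⁻¹ * b'⁻¹ = n * (b' * n⁻¹ * b'⁻¹) by group]
        exact mul_mem hn ((inferInstance : N'.Normal).conj_mem _ (inv_mem hn) b')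
      rw [mul_inv_eq_one] at h2
      have h3 : b' = 1 := (hfree b' hb'H n hn (by
        have := mul_inv_eq_iff_eq_mul.1 h2; exact this.symm)).resolve_right hn1
      show (n * c) * b * (n * c)⁻¹ ∈ (⊥ : Subgroup G)
      rw [he, h3, Subgroup.mem_bot]
      group
    · ext x
      constructor
      · rintro (rfl | hx)
        · exact one_mem N'
        by_contra hxN
        obtain ⟨n, hn, a, ha, rfl⟩ := hdec x
        have ha1 : a ≠ 1 := fun e => hxN (by rw [e, mul_one]; exact hn)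
        have hmem : ∀ s : N', (s : G) * (a * (s : G)⁻¹ * a⁻¹) ∈ N' := fun s =>
          mul_mem s.2 ((inferInstance : N'.Normal).conj_mem _ (inv_mem s.2) a)
        let f : N' → N' := fun s => ⟨_, hmem s⟩
        have hinj : Function.Injective f := fun s u e => by
          have e' : (s : G) * (a * (s : G)⁻¹ * a⁻¹) = u * (a * (u : G)⁻¹ * a⁻¹) := congrArg Subtype.val e
          have h2 : a * ((u : G)⁻¹ * s) = (u : G)⁻¹ * s * a := by
            calc a * ((u : G)⁻¹ * s) = (u : G)⁻¹ * ((u : G) * (a * (u : G)⁻¹ * a⁻¹)) * a * s := by group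
              _ = (u : G)⁻¹ * ((s : G) * (a * (s : G)⁻¹ * a⁻¹)) * a * s := by rw [e']
              _ = _ := by group
          exact (Subtype.ext (inv_mul_eq_one.1
            ((hfree a ha _ (mul_mem (inv_mem u.2) s.2) h2).resolve_left ha1))).symm
        obtain ⟨s, hs⟩ := Finite.injective_iff_surjective.1 hinj ⟨n, hn⟩
        refine hx (s : G) ⟨a, ha, ?_⟩
        have hs' : (s : G) * (a * (s : G)⁻¹ * a⁻¹) = n := congrArg Subtype.val hs
        show (s : G) * a * (s : G)⁻¹ = n * a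
        rw [← hs']
        group
      · intro hx
        refine or_iff_not_imp_left.2 fun hx1 g hg => hx1 ?_
        obtain ⟨a, ha, rfl⟩ := hg
        have haN : a ∈ N' := by simpa [mul_assoc] using (inferInstance : N'.Normal).conj_mem _ hx g⁻¹
        simp [hdisj a ha haN]
  · rintro ⟨H, ⟨hHb, -, -⟩, hker, hcard⟩
    refine le_antisymm (Cfsg.Agent.Solv.normal_le_pCore hNp) fun x hx => ?_
    by_contra hxN
    have hx' : x ∉ Cfsg.frobeniusKernel H := by rw [hker]; exact hxN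
    simp only [Cfsg.frobeniusKernel, Set.mem_setOf_eq, not_or, not_forall, not_not] at hx'
    obtain ⟨hx1, g, a, ha, rfl⟩ := hx'
    obtain ⟨k, hk⟩ := Cfsg.Agent.Solv.pCore_isPGroup q ⟨_, hx⟩
    have h2 : orderOf ((MulDistribMulAction.toMonoidEnd (MulAut G) G (MulAut.conj g)) a) = orderOf a :=
      orderOf_injective (MulAut.conj g).toMonoidHom (MulAut.conj g).injective a
    have h3 : orderOf ((MulDistribMulAction.toMonoidEnd (MulAut G) G (MulAut.conj g)) a) ∣ q ^ k :=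
      orderOf_dvd_of_pow_eq_one (congrArg Subtype.val hk)
    rw [h2] at h3
    obtain ⟨j, hj, hja⟩ := (Nat.dvd_prime_pow hp.1).1 h3
    rcases Nat.eq_zero_or_pos j with rfl | hj0
    · rw [pow_zero, orderOf_eq_one_iff] at hja
      exact hx1 (by rw [hja]; exact map_one _)
    · have h4 : q ∣ Nat.card H := ((dvd_pow_self q (Nat.pos_iff_ne_zero.1 hj0)).trans
        (hja ▸ dvd_rfl)).trans (Subgroup.orderOf_mk a ha ▸ orderOf_dvd_natCard _)
      have h5 : q ∣ Nat.card N' := by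
        rw [← orderOf_eq_prime (hexp x₀ hx₀) hx₀1, ← Subgroup.orderOf_mk x₀ hx₀]
        exact orderOf_dvd_natCard _
      rw [← hcard] at h5
      exact hp.1.not_dvd_one ((Nat.dvd_add_right h4).1 h5)

end Cfsg.Agent.Lead.TwoClassFrobenius
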