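import Cfsg.Agent.Lib.Lead.TwoClassFrobenius
import Cfsg.Agent.Lib.Perm.Fpf.Basic
import Cfsg.Agent.Lib.Perm.Fpf.QuatAut

/-!
# Solvable groups with a character supported on two classes
-/

set_option autoImplicit false
set_option linter.style.haveILetI false

namespace Cfsg.Agent.Lead.TwoClassSolvable

open Cfsg QuaternionGroup
open Cfsg.Agent.Perm.Fpf

universe u v

variable {H : Type u} [Group H] [Finite H]

theorem q8_facts : (a 1 : QuaternionGroup 2) * a 1 = a 2 ∧
    (xa 0 : QuaternionGroup 2) * xa 0 = a 2 ∧ (a 1 : QuaternionGroup 2) * xa 0 * a 1 = xa 0 ∧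
    (a 2 : QuaternionGroup 2) * a 2 = 1 ∧ (a 2 : QuaternionGroup 2) ≠ 1 ∧
    (-1 : ZMod 3) ≠ 1 ∧ (∀ c d : ZMod 3, c * c + d * d = 0 → c = 0 ∧ d = 0) := by
  decide +kernel

section Eight

variable {V : Type v} [AddCommGroup V] [Module (ZMod 3) V] [Finite V] [Nontrivial V]

/-- A quaternion normal subgroup of a transitive linear group in characteristic three. -/
theorem eight (ρ : H →* Module.End (ZMod 3) V) (hinj : Function.Injective ρ) (R : Subgroup H)
    [R.Normal] (e : R ≃* QuaternionGroup 2)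
    (hfix : ∀ g : H, ∀ x : V, g ≠ 1 → ¬ 3 ∣ orderOf g → ρ g x = x → x = 0)
    (htrans : ∀ x y : V, x ≠ 0 → y ≠ 0 → ∃ g, ρ g x = y) : commutator H ≤ R := by
  classical
  haveI : Fact (Nat.Prime 3) := ⟨Nat.prime_three⟩
  obtain ⟨q1, q2, q3, q4, q5, q6, q7⟩ := q8_facts
  have hcard : Nat.card R = 8 := by
    rw [Nat.card_congr e.toEquiv, Nat.card_eq_fintype_card, QuaternionGroup.card]
  have hR3 : ∀ r : R, ¬ 3 ∣ orderOf (r : H) := fun r hd => by
    have h1 := hd.trans (Subgroup.orderOf_coe r ▸ orderOf_dvd_natCard r)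
    rw [hcard] at h1
    omega
  have hfpf : IsFpf (ρ.comp R.subtype) := fun r hr x hx =>
    hfix (r : H) x (fun e => hr (Subtype.ext e)) (hR3 r) hx
  set σ : QuaternionGroup 2 →* Module.End (ZMod 3) V :=
    (ρ.comp R.subtype).comp e.symm.toMonoidHom with hσ
  set I := σ (a 1) with hI
  set J := σ (xa 0) with hJ
  have hz : σ (a 2) = -1 := hfpf.involution
    (fun e1 => q5 (e.symm.injective (e1.trans (map_one e.symm).symm)))
    (by rw [pow_two]; show e.symm (a 2) * e.symm (a 2) = 1; rw [← map_mul, q4, map_one])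
  have hII : ∀ x, I (I x) = -x := fun x => by
    have h1 : I * I = -1 := by rw [hI, ← map_mul, q1, hz]
    simpa using LinearMap.congr_fun h1 x
  have hJJ : ∀ x, J (J x) = -x := fun x => by
    have h1 : J * J = -1 := by rw [hJ, ← map_mul, q2, hz]
    simpa using LinearMap.congr_fun h1 x
  have hJI : ∀ x, J (I x) = -(I (J x)) := fun x => by
    have h1 : I * J * I = J := by rw [hI, hJ, ← map_mul, ← map_mul, q3]
    have h2 := LinearMap.congr_fun h1 (I x)
    simp only [Module.End.mul_apply, hII, map_neg] at h2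
    exact h2.symm
  let S : V →ₗ[ZMod 3] V := I + J
  let T : V →ₗ[ZMod 3] V := I - J
  have h3 : ∀ x : V, x + x + x = 0 := fun x => by
    calc x + x + x = ((1 : ZMod 3) + 1 + 1) • x := by simp [add_smul]
      _ = 0 := by rw [show ((1 : ZMod 3) + 1 + 1) = 0 from rfl, zero_smul]
  have hneg : ∀ x : V, x + x = -x := fun x => eq_neg_of_add_eq_zero_left (h3 x)
  have hSS : ∀ x, S (S x) = x := fun x => by
    simp only [S, LinearMap.add_apply, map_add, hII, hJJ, hJI]
    have := h3 x
    calc -x + -(I (J x)) + (I (J x) + -x) = -(x + x) := by abel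
      _ = x := by rw [hneg, neg_neg]
  have hTT : ∀ x, T (T x) = x := fun x => by
    simp only [T, LinearMap.sub_apply, map_sub, hII, hJJ, hJI]
    calc -x - -(I (J x)) - (I (J x) - -x) = -(x + x) := by abel
      _ = x := by rw [hneg, neg_neg]
  have hST : ∀ x, S (T x) = -(T (S x)) := fun x => by
    simp only [S, T, LinearMap.add_apply, LinearMap.sub_apply, map_sub, map_add, hII, hJJ, hJI]
    abel
  obtain ⟨w, hw0, hwS⟩ : ∃ w : V, w ≠ 0 ∧ S w = w := by
    obtain ⟨v, hv⟩ := exists_ne (0 : V)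
    by_cases h1 : v + S v = 0
    · refine ⟨T v, fun e1 => hv (by rw [← hTT v, e1, map_zero]), ?_⟩
      rw [hST, eq_neg_of_add_eq_zero_right h1, map_neg, neg_neg]
    · exact ⟨v + S v, h1, by rw [map_add, hSS, add_comm]⟩
  have hJw : J w = w - I w := eq_sub_of_add_eq' hwS
  set M := Submodule.span (ZMod 3) ({w, I w} : Set V) with hM
  have hwM : w ∈ M := Submodule.subset_span (Set.mem_insert _ _)
  have hIwM : I w ∈ M := Submodule.subset_span (Set.mem_insert_of_mem _ rfl)
  have hMI : ∀ x ∈ M, I x ∈ M := fun x hx => by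
    obtain ⟨c, d, rfl⟩ := Submodule.mem_span_pair.1 hx
    rw [map_add, map_smul, map_smul, hII]
    exact M.add_mem (M.smul_mem _ hIwM) (M.smul_mem _ (M.neg_mem hwM))
  have hMJ : ∀ x ∈ M, J x ∈ M := fun x hx => by
    obtain ⟨c, d, rfl⟩ := Submodule.mem_span_pair.1 hx
    rw [map_add, map_smul, map_smul, hJI, hJw, map_sub, hII]
    exact M.add_mem (M.smul_mem _ (M.sub_mem hwM hIwM))
      (M.smul_mem _ (M.neg_mem (M.sub_mem hIwM (M.neg_mem hwM))))
  have hMpow : ∀ (n : ℕ), ∀ x ∈ M, (I ^ n) x ∈ M := fun n => by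
    induction n with
    | zero => intro x hx; simpa using hx
    | succ n ih => intro x hx; rw [pow_succ', Module.End.mul_apply]; exact hMI _ (ih x hx)
  have hMσ : ∀ y : QuaternionGroup 2, σ y w ∈ M := fun y => by
    cases y with
    | a i => rw [QuatAut.a_pow i, map_pow]; exact hMpow _ w hwM
    | xa i =>
      rw [show (xa i : QuaternionGroup 2) = xa 0 * a i by rw [xa_mul_a, zero_add], map_mul,
        Module.End.mul_apply, QuatAut.a_pow i, map_pow]
      exact hMJ _ (hMpow _ w hwM)
  have hMR : ∀ r : R, ρ (r : H) w ∈ M := fun r => by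
    simpa [σ] using hMσ (e r)
  have noeig : ∀ (v : V) (c : ZMod 3), v ≠ 0 → I v ≠ c • v := fun v c hv e1 => by
    have e2 : ((c * c) + 1 * 1) • v = 0 := by
      rw [add_smul, mul_smul, ← e1, ← map_smul, ← e1, hII, one_mul, one_smul, neg_add_cancel]
    rcases smul_eq_zero.1 e2 with e3 | e3
    · exact one_ne_zero (q7 _ _ e3).2
    · exact hv e3
  have hprop : ∀ v : V, v ≠ 0 → ∃ c d : ZMod 3, J v = c • v + d • I v := fun v hv => by
    obtain ⟨g, hg⟩ := htrans w v hw0 hv
    have hcv : ∀ y : QuaternionGroup 2, ∃ c d : ZMod 3, σ y v = c • v + d • ρ g (I w) := fun y => by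
      have hm : g⁻¹ * (e.symm y : H) * g ∈ R := by
        simpa using ‹R.Normal›.conj_mem _ (e.symm y).2 g⁻¹
      obtain ⟨c, d, hcd⟩ := Submodule.mem_span_pair.1 (hMR ⟨_, hm⟩)
      refine ⟨c, d, ?_⟩
      have e1 : σ y v = ρ g (ρ (g⁻¹ * (e.symm y : H) * g) w) := by
        show ρ (e.symm y : H) v = _
        rw [← hg, ← Module.End.mul_apply, ← map_mul, ← Module.End.mul_apply, ← map_mul]
        congr 2
        group
      rw [e1, ← hcd, map_add, map_smul, map_smul, hg]
    obtain ⟨c, d, hcd⟩ := hcv (xa 0)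
    obtain ⟨c', d', hcd'⟩ := hcv (a 1)
    have hd' : d' ≠ 0 := fun e1 => noeig v c' hv (by rw [hI, hcd', e1, zero_smul, add_zero])
    refine ⟨c - d * d'⁻¹ * c', d * d'⁻¹, ?_⟩
    rw [hJ, hcd, hI, hcd', smul_add, smul_smul, smul_smul, mul_assoc, mul_assoc,
      inv_mul_cancel₀ hd', mul_one, sub_smul]
    abel
  have hplus : ∀ u : V, S u = u → u ∈ M := fun u hu => by
    by_contra huM
    have hJu : J u = u - I u := eq_sub_of_add_eq' hu
    have hx : w + I u ≠ 0 := fun e1 => huM (by
      rw [show u = -(I (I u)) by rw [hII, neg_neg], eq_neg_of_add_eq_zero_right e1, map_neg, neg_neg]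
      exact hIwM)
    obtain ⟨c, d, hcd⟩ := hprop _ hx
    rw [map_add, map_add, hJI, hJw, hJu, map_sub, hII] at hcd
    have hy : (1 - d) • u + (1 + c) • I u = (1 - c) • w - (1 + d) • I w := by
      simp only [sub_smul, add_smul, one_smul, smul_add, smul_neg] at hcd ⊢
      linear_combination (norm := abel) (-1 : ℤ) • hcd
    have hyM : (1 - d) • u + (1 + c) • I u ∈ M := hy ▸
      M.sub_mem (M.smul_mem _ hwM) (M.smul_mem _ hIwM)
    have h2 : ((1 - d) * (1 - d) + (1 + c) * (1 + c)) • u ∈ M := by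
      have h3 := M.sub_mem (M.smul_mem (1 - d) hyM) (M.smul_mem (1 + c) (hMI _ hyM))
      convert h3 using 1
      simp only [map_add, map_smul, hII]
      module
    by_cases hzero : (1 - d) * (1 - d) + (1 + c) * (1 + c) = 0
    · obtain ⟨hd, hc⟩ := q7 _ _ hzero
      have h30 : (3 : ZMod 3) = 0 := rfl
      rw [hd, hc, zero_smul, zero_smul, add_zero,
        show (1 - c : ZMod 3) = -1 by linear_combination (-1 : ZMod 3) * hc + h30,
        show (1 + d : ZMod 3) = -1 by linear_combination (-1 : ZMod 3) * hd + h30,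
        neg_one_smul, neg_one_smul, sub_neg_eq_add, neg_add_eq_sub] at hy
      exact noeig w 1 hw0 (by rw [one_smul]; exact (sub_eq_zero.1 hy.symm))
    · have h5 := M.smul_mem ((1 - d) * (1 - d) + (1 + c) * (1 + c))⁻¹ h2
      rw [smul_smul, inv_mul_cancel₀ hzero, one_smul] at h5
      exact huM h5
  have hall : ∀ v : V, v ∈ M := fun v => by
    have h1 : v + S v ∈ M := hplus _ (by rw [map_add, hSS, add_comm])
    have h2 : T (v - S v) ∈ M := hplus _ (by rw [hST, map_sub S, hSS, ← map_neg, neg_sub])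
    have h4 : v - S v ∈ M := by
      rw [← hTT (v - S v)]
      exact M.sub_mem (hMI _ h2) (hMJ _ h2)
    have := M.neg_mem (M.add_mem h1 h4)
    rwa [show v + S v + (v - S v) = v + v by abel, hneg, neg_neg] at this
  have hV9 : Nat.card V ≤ 9 := by
    refine (Nat.card_le_card_of_surjective (fun q : ZMod 3 × ZMod 3 => q.1 • w + q.2 • I w) ?_).trans
      (le_of_eq (by simp))
    intro v
    obtain ⟨c, d, hcd⟩ := Submodule.mem_span_pair.1 (hall v)
    exact ⟨(c, d), hcd⟩
  have hV8 : Nat.card {x : V // x ≠ 0} ≤ 8 := by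
    have h1 : Nat.card {x : V // x ≠ 0} < Nat.card V :=
      Finite.card_subtype_lt (x := (0 : V)) (fun h => h rfl)
    omega
  have hRw : ∀ x : V, x ≠ 0 → ∃ r : R, ρ (r : H) w = x := by
    have hne : ∀ r : R, ρ (r : H) w ≠ 0 := fun r e1 => hw0 (by
      have h1 := congrArg (ρ (r : H)⁻¹) e1
      rwa [map_zero, ← Module.End.mul_apply, ← map_mul, inv_mul_cancel, map_one,
        Module.End.one_apply] at h1)
    let f : R → {x : V // x ≠ 0} := fun r => ⟨ρ (r : H) w, hne r⟩
    have hf : Function.Injective f := fun r s h1 => by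
      by_contra hrs
      have h2 : ρ ((s⁻¹ * r : R) : H) w = w := by
        rw [Subgroup.coe_mul, map_mul, Module.End.mul_apply]
        rw [show ρ (r : H) w = ρ (s : H) w from congrArg Subtype.val h1, ← Module.End.mul_apply,
          ← map_mul, Subgroup.coe_inv, inv_mul_cancel, map_one, Module.End.one_apply]
      exact hw0 (hfpf _ (fun h5 => hrs (inv_mul_eq_one.1 h5).symm) w h2)
    intro x hx
    obtain ⟨r, hr⟩ := (hf.bijective_of_nat_card_le (hV8.trans hcard.ge)).2 ⟨x, hx⟩
    exact ⟨r, congrArg Subtype.val hr⟩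
  let St : Subgroup H :=
    { carrier := {g | ρ g w = w}
      one_mem' := by simp
      mul_mem' := fun {x y} hx hy => by
        show ρ (x * y) w = w
        rw [map_mul, Module.End.mul_apply, show ρ y w = w from hy]; exact hx
      inv_mem' := fun {x} hx => by
        have hx' : ρ x w = w := hx
        show ρ x⁻¹ w = w
        conv_lhs => rw [← hx']
        rw [← Module.End.mul_apply, ← map_mul, inv_mul_cancel, map_one, Module.End.one_apply] }
  have hSt : IsPGroup 3 St := by
    intro g
    refine ⟨(orderOf (g : H)).factorization 3, Subtype.ext ?_⟩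
    rw [Subgroup.coe_pow, Subgroup.coe_one]
    by_contra hne
    refine hw0 (hfix _ w hne ?_ ?_)
    · rw [orderOf_pow_of_dvd (pow_ne_zero _ three_ne_zero) (Nat.ordProj_dvd _ _)]
      exact Nat.not_dvd_ordCompl Nat.prime_three (orderOf_pos _).ne'
    · exact (pow_mem g.2 _ : (g : H) ^ 3 ^ (orderOf (g : H)).factorization 3 ∈ St)
  have hIw0 : I w ≠ 0 := fun e1 => hw0 (by
    have := hII w
    rw [e1, map_zero] at this
    exact neg_eq_zero.1 this.symm)
  have hStcomm : ∀ x y : St, x * y = y * x := by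
    let f : St → {x : V // x ≠ 0} := fun g => ⟨ρ (g : H) (I w), fun e1 => hIw0 (by
      have h1 := congrArg (ρ (g : H)⁻¹) e1
      rwa [map_zero, ← Module.End.mul_apply, ← map_mul, inv_mul_cancel, map_one,
        Module.End.one_apply] at h1)⟩
    have hf : Function.Injective f := fun g k h1 => by
      refine Subtype.ext (hinj (LinearMap.ext fun v => ?_))
      obtain ⟨c, d, rfl⟩ := Submodule.mem_span_pair.1 (hall v)
      rw [map_add, map_add, map_smul, map_smul, map_smul, map_smul, g.2, k.2,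
        show ρ (g : H) (I w) = ρ (k : H) (I w) from congrArg Subtype.val h1]
    obtain ⟨k, hk⟩ := IsPGroup.iff_card.1 hSt
    have hle : 3 ^ k ≤ 8 := hk ▸ (Nat.card_le_card_of_injective f hf).trans hV8
    have hk1 : k ≤ 1 := by
      by_contra hc
      have := Nat.pow_le_pow_right (show 0 < 3 by norm_num) (show 2 ≤ k by omega)
      omega
    haveI : IsCyclic St := by
      rcases Nat.le_one_iff_eq_zero_or_eq_one.1 hk1 with rfl | rfl
      · haveI := (Nat.card_eq_one_iff_unique.1 (by simpa using hk : Nat.card St = 1)).1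
        exact isCyclic_of_subsingleton
      · exact isCyclic_of_prime_card (p := 3) (by simpa using hk)
    exact fun x y => IsCyclic.commGroup.mul_comm x y
  have hsurj : Function.Surjective ((QuotientGroup.mk' R).comp St.subtype) := fun t => by
    obtain ⟨g, rfl⟩ := QuotientGroup.mk'_surjective R t
    have hne : ρ g w ≠ 0 := fun e1 => hw0 (by
      have h1 := congrArg (ρ g⁻¹) e1
      rwa [map_zero, ← Module.End.mul_apply, ← map_mul, inv_mul_cancel, map_one,
        Module.End.one_apply] at h1)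
    obtain ⟨r, hr⟩ := hRw _ hne
    refine ⟨⟨(r : H)⁻¹ * g, ?_⟩, ?_⟩
    · show ρ _ w = w
      rw [map_mul, Module.End.mul_apply, ← hr, ← Module.End.mul_apply, ← map_mul, inv_mul_cancel,
        map_one, Module.End.one_apply]
    · show QuotientGroup.mk' R ((r : H)⁻¹ * g) = _
      rw [map_mul, map_inv, show QuotientGroup.mk' R (r : H) = 1 from
        (QuotientGroup.eq_one_iff _).2 r.2, inv_one, one_mul]
  haveI : IsMulCommutative (H ⧸ R) := ⟨⟨fun s t => by
    obtain ⟨x, rfl⟩ := hsurj s
    obtain ⟨y, rfl⟩ := hsurj t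
    rw [← map_mul, hStcomm, map_mul]⟩⟩
  exact Subgroup.Normal.quotient_commutative_iff_commutator_le.1 inferInstance

end Eight

variable {p : ℕ} [hp : Fact p.Prime] {V : Type v} [AddCommGroup V] [Module (ZMod p) V] [Finite V]
  [Nontrivial V]

/-- The commutator subgroup of a transitive solvable group has order prime to `p`. -/
theorem commutator_free (hs : Group.IsSolvable H) (ρ : H →* Module.End (ZMod p) V)
    (hinj : Function.Injective ρ)
    (hfix : ∀ g : H, ∀ x : V, g ≠ 1 → ¬ p ∣ orderOf g → ρ g x = x → x = 0)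
    (htrans : ∀ x y : V, x ≠ 0 → y ≠ 0 → ∃ g, ρ g x = y) (hO : Cfsg.pCore p H = ⊥)
    {c : H} (hc : c ∈ commutator H) (hcp : c ^ p = 1) : c = 1 := by
  classical
  haveI hFn : (Cfsg.fittingSubgroup H).Normal := Cfsg.Agent.Solv.fittingSubgroup_normal
  have key : ∀ r : Nat.Primes,
      Cfsg.pCore (r : ℕ) H ≤ Subgroup.centralizer ({c} : Set H) ∨ c = 1 := by
    rintro ⟨r, hr⟩
    show Cfsg.pCore r H ≤ _ ∨ _
    haveI := Fact.mk hr
    by_cases hrp : r = p
    · subst hrp; rw [hO]; exact Or.inl bot_le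
    set R := Cfsg.pCore r H with hR
    haveI : R.Normal := Cfsg.Agent.Solv.pCore_normal r
    have hRp : IsPGroup r R := Cfsg.Agent.Solv.pCore_isPGroup r
    have hRord : ∀ x : R, ¬ p ∣ orderOf (x : H) := fun x hd => by
      obtain ⟨k, hk⟩ := hRp x
      have h1 : orderOf (x : H) ∣ r ^ k := by
        rw [Subgroup.orderOf_coe]; exact orderOf_dvd_of_pow_eq_one hk
      exact hrp ((Nat.prime_dvd_prime_iff_eq hp.1 hr).1
        (hp.1.dvd_of_dvd_pow (hd.trans h1))).symm
    have hfpf : IsFpf (ρ.comp R.subtype) := fun x hx v hv =>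
      hfix (x : H) v (fun e => hx (Subtype.ext e)) (hRord x) hv
    let θ : H →* MulAut R := MulAut.conjNormal
    suffices h1 : θ c = 1 ∨ c = 1 by
      rcases h1 with h1 | h1
      · refine Or.inl fun x hx => Subgroup.mem_centralizer_singleton_iff.2 ?_
        have h2 : c * x * c⁻¹ = x := congrArg Subtype.val (MulEquiv.congr_fun h1 (⟨x, hx⟩ : R))
        exact (mul_inv_eq_iff_eq_mul.1 h2).symm
      · exact Or.inr h1
    have hcyc : IsCyclic R → θ c = 1 := fun hcy => by
      have h2 : commutator H ≤ θ.ker := by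
        rw [commutator_def, Subgroup.commutator_le]
        intro x _ y _
        rw [MonoidHom.mem_ker, map_commutatorElement, commutatorElement_eq_one_iff_mul_comm]
        refine MulEquiv.ext fun z => ?_
        obtain ⟨m, hm⟩ := (θ x).toMonoidHom.map_cyclic
        obtain ⟨n, hn⟩ := (θ y).toMonoidHom.map_cyclic
        show (θ x).toMonoidHom ((θ y).toMonoidHom z) = (θ y).toMonoidHom ((θ x).toMonoidHom z)
        rw [hn, hm, hm, hn, ← zpow_mul, ← zpow_mul, mul_comm]
      exact h2 hc
    rcases hfpf.isCyclic_or_quaternion (⊤ : Subgroup R)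
        (hRp.of_equiv Subgroup.topEquiv.symm) with hcy | ⟨rfl, n, ⟨e'⟩⟩
    · exact Or.inl (hcyc (isCyclic_of_surjective _ (Subgroup.topEquiv (G := R)).surjective))
    have e : R ≃* QuaternionGroup (2 ^ n) := Subgroup.topEquiv.symm.trans e'
    haveI : NeZero (2 ^ n) := ⟨pow_ne_zero n two_ne_zero⟩
    have hodd : Odd p := hp.1.odd_of_ne_two (Ne.symm hrp)
    have hT : MulAut.congr e (θ c) ^ p = 1 := by rw [← map_pow, ← map_pow, hcp, map_one, map_one]
    rcases n with _ | _ | n
    · haveI : IsCyclic (QuaternionGroup (2 ^ 0)) := QuaternionGroup.quaternionGroup_one_isCyclic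
      exact Or.inl (hcyc (isCyclic_of_surjective e.symm.toMonoidHom e.symm.surjective))
    · by_cases hp3 : p = 3
      · subst hp3
        refine Or.inr ?_
        have hcR := eight ρ hinj R e hfix htrans hc
        have h2 : orderOf c ∣ 8 := by
          have h4 : Nat.card R = 8 := by
            rw [Nat.card_congr e.toEquiv, Nat.card_eq_fintype_card, QuaternionGroup.card]
            norm_num
          rw [← h4, ← Subgroup.orderOf_mk c hcR]
          exact orderOf_dvd_natCard _
        exact orderOf_eq_one_iff.1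
          (Nat.eq_one_of_dvd_coprimes (by norm_num) h2 (orderOf_dvd_of_pow_eq_one hcp))
      · refine Or.inl ((MulAut.congr e).injective ?_)
        rw [map_one]
        obtain ⟨φ, hφ⟩ := QuatAut.aut_perm
        have hcop : Nat.Coprime 24 p := by
          rw [show (24 : ℕ) = 2 ^ 3 * 3 by norm_num]
          exact Nat.Coprime.mul_left (Nat.Coprime.pow_left 3
            ((Nat.coprime_primes Nat.prime_two hp.1).2 hrp))
            ((Nat.coprime_primes Nat.prime_three hp.1).2 (Ne.symm hp3))
        have h2 : orderOf (φ (MulAut.congr e (θ c))) ∣ 24 := by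
          have := orderOf_dvd_natCard (φ (MulAut.congr e (θ c)))
          rwa [Nat.card_perm, Nat.card_eq_fintype_card, Fintype.card_fin] at this
        have h3 : orderOf (φ (MulAut.congr e (θ c))) ∣ p :=
          orderOf_dvd_of_pow_eq_one ((map_pow φ _ p).symm.trans ((congrArg φ hT).trans (map_one φ)))
        exact hφ ((orderOf_eq_one_iff.1 (Nat.eq_one_of_dvd_coprimes hcop h2 h3)).trans
          (map_one φ).symm)
    · refine Or.inl ((MulAut.congr e).injective ?_)
      rw [map_one]
      exact QuatAut.eq_one_of_odd_big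
        (le_trans (by norm_num : 3 ≤ 2 ^ 2) (Nat.pow_le_pow_right (by norm_num) (by omega)))
        (hRp.of_equiv e) hodd hT
  by_contra hc1
  set C := Subgroup.centralizer (Cfsg.fittingSubgroup H : Set H) with hC
  have hcC : c ∈ C := by
    rw [hC, Subgroup.mem_centralizer_iff]
    intro x hx
    have h1 : Cfsg.fittingSubgroup H ≤ Subgroup.centralizer ({c} : Set H) := by
      rw [Cfsg.Agent.Solv.fitting_eq_iSup_pCore]
      exact iSup_le fun r => (key r).resolve_right hc1
    exact Subgroup.mem_centralizer_singleton_iff.1 (h1 hx)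
  have hCle : C ≤ Cfsg.fittingSubgroup H := Cfsg.Agent.Solv.centralizer_fitting_le hs
  have hcomm : ∀ x ∈ C, ∀ y ∈ C, x * y = y * x := fun x hx y hy =>
    Subgroup.mem_centralizer_iff.1 hy x (hCle hx)
  let K : Subgroup H :=
    { carrier := {x | x ∈ C ∧ x ^ p = 1}
      one_mem' := ⟨one_mem _, one_pow _⟩
      mul_mem' := fun {x y} hx hy => ⟨mul_mem hx.1 hy.1, by
        rw [(show Commute x y from hcomm x hx.1 y hy.1).mul_pow, hx.2, hy.2, one_mul]⟩
      inv_mem' := fun {x} hx => ⟨inv_mem hx.1, by rw [inv_pow, hx.2, inv_one]⟩ }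
  haveI : C.Normal := by rw [hC]; infer_instance
  haveI : K.Normal := ⟨fun x hx g => ⟨‹C.Normal›.conj_mem x hx.1 g, by
    rw [conj_pow, hx.2, mul_one, mul_inv_cancel]⟩⟩
  have hK : IsPGroup p K := fun x => ⟨1, Subtype.ext (by simpa using x.2.2)⟩
  have := Cfsg.Agent.Solv.normal_le_pCore hK (show c ∈ K from ⟨hcC, hcp⟩)
  rw [hO] at this
  exact hc1 (Subgroup.mem_bot.1 this)

omit [Finite V] [Nontrivial V] in
/-- Normal complement when the commutator subgroup has order prime to `p`. -/
theorem npc (hK : ∀ c ∈ commutator H, c ^ p = 1 → c = 1) :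
    Cfsg.HasNormalPComplement p H ∧ ∀ P : Sylow p H, IsMulCommutative (P : Subgroup H) := by
  classical
  have hKp : ∀ c ∈ commutator H, ∀ k : ℕ, c ^ p ^ k = 1 → c = 1 := fun c hc k => by
    induction k generalizing c with
    | zero => intro h; simpa using h
    | succ k ih =>
      intro h
      refine hK c hc (ih (c ^ p) (pow_mem hc p) ?_)
      rw [← pow_mul, ← pow_succ', h]
  have hab : ∀ P : Sylow p H, IsMulCommutative (P : Subgroup H) := fun P => ⟨⟨fun x y => by
    obtain ⟨k, hk⟩ := P.isPGroup' (x * y * x⁻¹ * y⁻¹)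
    have h1 : ((x * y * x⁻¹ * y⁻¹ : (P : Subgroup H)) : H) = 1 := by
      refine hKp _ ?_ k (by simpa using congrArg Subtype.val hk)
      simpa [commutatorElement_def, commutator_def] using
        Subgroup.commutator_mem_commutator (Subgroup.mem_top (x : H)) (Subgroup.mem_top (y : H))
    exact Subtype.ext (by
      have h2 : (x : H) * y * (x : H)⁻¹ * (y : H)⁻¹ = 1 := by simpa using h1
      exact commutatorElement_eq_one_iff_mul_comm.1 h2)⟩⟩
  refine ⟨?_, hab⟩
  obtain ⟨P⟩ : Nonempty (Sylow p H) := inferInstance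
  set a := (Nat.card H).factorization p with ha
  set m := Nat.card H / p ^ a with hm
  let φ : H →* Abelianization H := (powMonoidHom m).comp Abelianization.of
  have hPcard : Nat.card (P : Subgroup H) = p ^ a := P.card_eq_multiplicity
  have hcop : Nat.Coprime (p ^ a) m :=
    Nat.Coprime.pow_left a ((hp.1.coprime_iff_not_dvd).2
      (Nat.not_dvd_ordCompl hp.1 Nat.card_pos.ne'))
  have hnd : ¬ p ∣ Nat.card φ.ker := fun hd => by
    obtain ⟨g, hg⟩ := exists_prime_orderOf_dvd_card' (G := φ.ker) p hd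
    have hgp : (g : H) ^ p = 1 := by
      rw [← Subgroup.coe_pow, ← hg, pow_orderOf_eq_one, Subgroup.coe_one]
    have h1 : (g : H) ^ m ∈ commutator H := by
      rw [← Abelianization.ker_of, MonoidHom.mem_ker, map_pow]
      exact MonoidHom.mem_ker.1 g.2
    have h2 : (g : H) ^ m = 1 := hK _ h1 (by rw [← pow_mul, mul_comm, pow_mul, hgp, one_pow])
    have h3 : orderOf (g : H) ∣ m := orderOf_dvd_of_pow_eq_one h2
    rw [Subgroup.orderOf_coe, hg] at h3
    exact Nat.not_dvd_ordCompl hp.1 Nat.card_pos.ne' h3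
  have hrange : IsPGroup p φ.range := by
    rintro ⟨_, g, rfl⟩
    refine ⟨a, Subtype.ext ?_⟩
    show (Abelianization.of g ^ m) ^ p ^ a = 1
    rw [← pow_mul, mul_comm, show p ^ a * m = Nat.card H from Nat.ordProj_mul_ordCompl_eq_self _ _,
      ← map_pow, pow_card_eq_one', map_one]
  obtain ⟨j, hj⟩ := IsPGroup.iff_card.1 hrange
  have hidx : φ.ker.index = p ^ j := by rw [Subgroup.index_ker, hj]
  have hmul := φ.ker.card_mul_index
  have hja : j = a := by
    refine le_antisymm ?_ ?_
    · refine (hp.1.pow_dvd_iff_le_factorization Nat.card_pos.ne').1 ?_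
      rw [← hmul, hidx]; exact Dvd.intro_left _ rfl
    · refine (Nat.pow_dvd_pow_iff_le_right hp.1.one_lt).1 ?_
      refine Nat.Coprime.dvd_of_dvd_mul_left
        (Nat.Coprime.pow_left a ((hp.1.coprime_iff_not_dvd).2 hnd)) ?_
      rw [← hidx, hmul]; exact Nat.ordProj_dvd _ _
  refine ⟨P, φ.ker, inferInstance, Subgroup.isComplement'_of_coprime ?_ ?_⟩
  · rw [hPcard, ← hja, ← hidx, hmul]
  · rw [hPcard]
    exact Nat.Coprime.pow_right a ((hp.1.coprime_iff_not_dvd).2 hnd).symm

end Cfsg.Agent.Lead.TwoClassSolvable
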