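import Cfsg.Agent.Lib.Lead.TwoClassSolvable

/-!
# The quotient by the `p`-core for a character supported on two classes
-/

set_option autoImplicit false
set_option linter.style.haveILetI false

namespace Cfsg.Agent.Lead.TwoClassSolvable

open Cfsg Cfsg.Agent.Char
open scoped IsMulCommutative

universe u

/-- Automorphisms as linear maps. -/
def autEnd {r : ℕ} {W : Type u} [CommGroup W] [Module (ZMod r) (Additive W)] :
    MulAut W →* Module.End (ZMod r) (Additive W) where
  toFun β := (MonoidHom.toAdditive β.toMonoidHom).toZModLinearMap r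
  map_one' := LinearMap.ext fun _ => rfl
  map_mul' _ _ := LinearMap.ext fun _ => rfl

/-- A transitive solvable group of automorphisms of an elementary abelian group. -/
theorem of_action {W : Type u} [CommGroup W] [Finite W] [Nontrivial W] {p : ℕ} [Fact p.Prime]
    {H : Type u} [Group H] [Finite H] (hs : Group.IsSolvable H) (hexp : ∀ x : W, x ^ p = 1)
    (φ : H →* MulAut W) (hinj : Function.Injective φ)
    (hfix : ∀ g : H, ∀ x : W, g ≠ 1 → ¬ p ∣ orderOf g → φ g x = x → x = 1)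
    (htrans : ∀ x y : W, x ≠ 1 → y ≠ 1 → ∃ g, φ g x = y) (hO : Cfsg.pCore p H = ⊥)
    {c : H} (hc : c ∈ commutator H) (hcp : c ^ p = 1) : c = 1 := by
  haveI : Module (ZMod p) (Additive W) :=
    AddCommGroup.zmodModule (fun v => hexp (Additive.toMul v))
  refine commutator_free (V := Additive W) hs ((autEnd (r := p) (W := W)).comp φ) ?_ ?_ ?_ hO hc hcp
  · intro g k e
    exact hinj (MulEquiv.ext fun x => congrArg Additive.toMul (LinearMap.congr_fun e (Additive.ofMul x)))
  · intro g x hg hgp hx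
    exact congrArg Additive.ofMul (hfix g (Additive.toMul x) hg hgp (congrArg Additive.toMul hx))
  · intro x y hx hy
    obtain ⟨g, hg⟩ := htrans (Additive.toMul x) (Additive.toMul y)
      (fun e => hx (congrArg Additive.ofMul e)) (fun e => hy (congrArg Additive.ofMul e))
    exact ⟨g, congrArg Additive.ofMul hg⟩

/-- One nontrivial core, and the quotient has a normal complement and abelian Sylow subgroups. -/
theorem main {G : Type u} [Group G] [Fintype G] (hs : Group.IsSolvable G) (hG : 2 < Nat.card G)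
    {χ : IrrCharacter G} (h : HasTwoClassSupport χ) :
    ∃ p : ℕ, p.Prime ∧ (∀ q : ℕ, q.Prime → (Cfsg.pCore q G ≠ ⊥ ↔ q = p)) ∧
      Cfsg.HasNormalPComplement p (G ⧸ Cfsg.pCore p G) ∧
      ∀ Q : Sylow p (G ⧸ Cfsg.pCore p G), IsMulCommutative (Q : Subgroup (G ⧸ Cfsg.pCore p G)) := by
  classical
  obtain ⟨N, hNn, hN1, hmin, ⟨p, hp, hel⟩, hN', hconj⟩ := two_class_minimal hG h
  haveI := Fact.mk hp
  have hN : ∀ g : G, g ∈ N ↔ (χ : G → ℂ) g ≠ 0 := fun g => (hN' g).symm
  have hexp := hel.2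
  have hNp : IsPGroup p N := fun x => ⟨1, Subtype.ext (by simpa using hexp x x.2)⟩
  obtain ⟨x₀, hx₀, hx₀1⟩ := (Subgroup.bot_or_exists_ne_one N).resolve_left hN1
  refine ⟨p, hp, fun q hq => ⟨fun hne => ?_, ?_⟩, ?_⟩
  · haveI := Fact.mk hq
    have hle := hmin _ (Cfsg.Agent.Solv.pCore_normal q) hne
    obtain ⟨k, hk⟩ := (Cfsg.Agent.Solv.pCore_isPGroup (G := G) q) ⟨x₀, hle hx₀⟩
    have h1 : orderOf x₀ ∣ q ^ k := orderOf_dvd_of_pow_eq_one (congrArg Subtype.val hk)
    rw [orderOf_eq_prime (hexp x₀ hx₀) hx₀1] at h1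
    exact ((Nat.prime_dvd_prime_iff_eq hp hq).1 (hp.dvd_of_dvd_pow h1)).symm
  · rintro rfl hbot
    exact hN1 (le_bot_iff.1 (hbot ▸ Cfsg.Agent.Solv.normal_le_pCore hNp))
  have hfus : ∀ x : G, x ∉ N → ∀ n ∈ N, ∃ g : G, g * x * g⁻¹ = x * n := fun x hx n hn =>
    Cfsg.Agent.Lead.TwoClassFrobenius.fused hG h hN hx hn
  have hfpf : ∀ (x n : G), x ≠ 1 → ¬ p ∣ orderOf x → n ∈ N → x * n = n * x → n = 1 :=
    fun x n hx hxp hn hc => Cfsg.Agent.Lead.TwoClassFrobenius.fpf hfus hexp hx hxp hn hc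
  set Q := Cfsg.pCore p G with hQdef
  haveI : Q.Normal := Cfsg.Agent.Solv.pCore_normal p
  have hQp : IsPGroup p Q := Cfsg.Agent.Solv.pCore_isPGroup p
  have hdN : p ∣ Nat.card N := by
    rw [← orderOf_eq_prime (hexp x₀ hx₀) hx₀1, ← Subgroup.orderOf_mk x₀ hx₀]
    exact orderOf_dvd_natCard _
  have hQC : Q ≤ Subgroup.centralizer (N : Set G) := by
    letI : MulAction ↥Q ↥N :=
      MulAction.compHom ↥N ((MulAut.conjNormal (H := N)).comp Q.subtype)
    obtain ⟨m, hm, hm1⟩ := hQp.exists_fixed_point_of_prime_dvd_card_of_fixed_point ↥N hdN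
      (a := (1 : N)) (fun z => map_one (MulAut.conjNormal (z : G)))
    have hmQ : (m : G) ∈ N ⊓ Subgroup.centralizer (Q : Set G) := by
      refine ⟨m.2, Subgroup.mem_centralizer_iff.2 fun z hz => ?_⟩
      have h1 : z * (m : G) * z⁻¹ = m := congrArg Subtype.val (hm ⟨z, hz⟩)
      exact mul_inv_eq_iff_eq_mul.1 h1
    have h2 := hmin (N ⊓ Subgroup.centralizer (Q : Set G)) inferInstance (fun e => hm1 (Subtype.ext
      (Subgroup.mem_bot.1 (e ▸ hmQ)).symm))
    exact Subgroup.le_centralizer_iff.1 (h2.trans inf_le_right)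
  have hCQ : Subgroup.centralizer (N : Set G) ≤ Q := by
    refine Cfsg.Agent.Solv.normal_le_pCore (fun a => ⟨(orderOf (a : G)).factorization p, ?_⟩)
    refine Subtype.ext ?_
    rw [Subgroup.coe_pow, Subgroup.coe_one]
    by_contra hne
    refine hx₀1 (hfpf _ x₀ hne ?_ hx₀ ?_)
    · rw [orderOf_pow_of_dvd (pow_ne_zero _ hp.ne_zero) (Nat.ordProj_dvd _ _)]
      exact Nat.not_dvd_ordCompl hp (orderOf_pos _).ne'
    · exact ((show Commute (a : G) x₀ from
        (Subgroup.mem_centralizer_iff.1 a.2 x₀ hx₀).symm).pow_left _).eq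
  haveI : IsMulCommutative N := hel.1
  haveI : Nontrivial N := ⟨⟨⟨x₀, hx₀⟩, 1, fun e => hx₀1 (congrArg Subtype.val e)⟩⟩
  let φ : G →* MulAut N := MulAut.conjNormal
  have hfx : ∀ (g : G) (x : N), φ g x = x ↔ g * (x : G) = (x : G) * g := fun g x => by
    rw [← mul_inv_eq_iff_eq_mul]
    exact ⟨fun e => congrArg Subtype.val e, fun e => Subtype.ext e⟩
  have hker : Q ≤ φ.ker := fun g hg => by
    rw [MonoidHom.mem_ker]
    refine MulEquiv.ext fun x => (hfx g x).2 ?_
    exact (Subgroup.mem_centralizer_iff.1 (hQC hg) _ x.2).symm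
  have hO : Cfsg.pCore p (G ⧸ Q) = ⊥ := by
    rw [eq_bot_iff]
    intro t ht
    haveI : (Cfsg.pCore p (G ⧸ Q)).Normal := Cfsg.Agent.Solv.pCore_normal p
    have hP := IsPGroup.comap_of_ker_isPGroup (Cfsg.Agent.Solv.pCore_isPGroup (G := G ⧸ Q) p)
      (QuotientGroup.mk' Q) (by rw [QuotientGroup.ker_mk']; exact hQp)
    obtain ⟨x, rfl⟩ := QuotientGroup.mk'_surjective Q t
    exact Subgroup.mem_bot.2 ((QuotientGroup.eq_one_iff x).2
      (Cfsg.Agent.Solv.normal_le_pCore hP (Subgroup.mem_comap.2 ht)))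
  set φ' : G ⧸ Q →* MulAut N := QuotientGroup.lift Q φ hker with hφ'
  have hmk : ∀ g : G, φ' (QuotientGroup.mk' Q g) = φ g := fun g => rfl
  have hinj : Function.Injective φ' := by
    rw [injective_iff_map_eq_one]
    intro t ht
    obtain ⟨g, rfl⟩ := QuotientGroup.mk'_surjective Q t
    refine (QuotientGroup.eq_one_iff g).2 (hCQ (Subgroup.mem_centralizer_iff.2 fun n hn => ?_))
    exact ((hfx g ⟨n, hn⟩).1 (by rw [← hmk, ht]; rfl)).symm
  refine npc fun c hc hcp => of_action (W := N) inferInstance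
    (fun x => Subtype.ext (by simpa using hexp x x.2)) φ' hinj ?_ ?_ hO hc hcp
  · intro t v ht htp hv
    obtain ⟨g, rfl⟩ := QuotientGroup.mk'_surjective Q t
    set y := g ^ p ^ (orderOf g).factorization p with hy
    have hyp : ¬ p ∣ orderOf y := by
      rw [hy, orderOf_pow_of_dvd (pow_ne_zero _ hp.ne_zero) (Nat.ordProj_dvd _ _)]
      exact Nat.not_dvd_ordCompl hp (orderOf_pos _).ne'
    have hy1 : y ≠ 1 := fun e => ht (by
      have h1 : orderOf (QuotientGroup.mk' Q g) ∣ p ^ (orderOf g).factorization p :=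
        orderOf_dvd_of_pow_eq_one (by rw [← map_pow, ← hy, e, map_one])
      have h2 : Nat.Coprime (orderOf (QuotientGroup.mk' Q g)) (p ^ (orderOf g).factorization p) :=
        Nat.Coprime.pow_right _ ((hp.coprime_iff_not_dvd).2 htp).symm
      exact orderOf_eq_one_iff.1 (h2.eq_one_of_dvd h1))
    have h1 := hfpf y _ hy1 hyp v.2 ((show Commute g _ from (hfx g v).1 hv).pow_left _).eq
    exact Subtype.ext h1
  · intro v w hv hw
    obtain ⟨g, hg⟩ := hconj _ v.2 _ w.2 (fun e => hv (Subtype.ext e)) (fun e => hw (Subtype.ext e))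
    exact ⟨QuotientGroup.mk' Q g, Subtype.ext hg⟩

end Cfsg.Agent.Lead.TwoClassSolvable
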