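import Cfsg.Agent.Lib.Lead.PairSylow

/-!
Maximal overgroups of Sylow 2-subgroups of symmetric and alternating groups.
The group is given by an injective map to the permutations whose range contains all even ones.
-/

set_option autoImplicit false

namespace Cfsg.Agent.Lead

open Equiv MulAction
open scoped Pointwise

variable {n : ℕ}

/-- Two transpositions give an even permutation moving `x` to `y` and fixing a given set. -/
theorem exists_even_move (F : Finset (Fin n)) {x y : Fin n} (hx : x ∉ F) (hy : y ∉ F)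
    (h : 2 ≤ (Finset.univ \ (insert x (insert y F))).card) :
    ∃ u v : Fin n, u ≠ v ∧ u ∉ insert x (insert y F) ∧ v ∉ insert x (insert y F) ∧
      Perm.sign (swap x y * if x = y then 1 else swap u v) = 1 ∧
      (swap x y * if x = y then 1 else swap u v) x = y ∧
      ∀ z ∈ F, (swap x y * if x = y then 1 else swap u v) z = z := by
  obtain ⟨u, hu, v, hv, huv⟩ := Finset.one_lt_card.1 (show 1 < _ from h)
  simp only [Finset.mem_sdiff, Finset.mem_univ, true_and] at hu hv
  refine ⟨u, v, huv, hu, hv, ?_, ?_, fun z hz => ?_⟩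
  · by_cases hxy : x = y
    · simp [hxy]
    · simp [hxy, Perm.sign_swap huv, Perm.sign_swap hxy]
  · by_cases hxy : x = y
    · simp [hxy]
    · rw [if_neg hxy, Perm.mul_apply, swap_apply_of_ne_of_ne (x := x)]
      · simp
      · rintro rfl; simp at hu
      · rintro rfl; simp at hv
  · have hzx : z ≠ x := by rintro rfl; exact hx hz
    have hzy : z ≠ y := by rintro rfl; exact hy hz
    by_cases hxy : x = y
    · simp [hxy]
    · rw [if_neg hxy, Perm.mul_apply, swap_apply_of_ne_of_ne (x := z) (a := u) (b := v),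
        swap_apply_of_ne_of_ne hzx hzy]
      · rintro rfl; simp [hz] at hu
      · rintro rfl; simp [hz] at hv

variable {G : Type*} [Group G] [Finite G] (ι : G →* Perm (Fin n))

/-- Stabiliser in `G` of a set of points. -/
def setStab (s : Set (Fin n)) : Subgroup G := (stabilizer (Perm (Fin n)) s).comap ι

omit [Finite G] in
theorem mem_setStab {s : Set (Fin n)} {g : G} :
    g ∈ setStab ι s ↔ ∀ x, ι g x ∈ s ↔ x ∈ s := by
  rw [setStab, Subgroup.mem_comap, mem_stabilizer_set]
  rfl

theorem setStab_ne (hA : alternatingGroup (Fin n) ≤ ι.range) (hn : 5 ≤ n) {s t : Set (Fin n)}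
    (ht1 : t.Nonempty) (ht2 : tᶜ.Nonempty) (hts : t ≠ s) (htc : t ≠ sᶜ) :
    setStab ι s ≠ setStab ι t := by
  classical
  intro heq
  -- `t` splits `s` or its complement
  obtain ⟨x, hx, y, hy, hxy⟩ : ∃ x ∈ t, ∃ y, y ∉ t ∧ (x ∈ s ↔ y ∈ s) := by
    by_contra hno
    push Not at hno
    obtain ⟨x, hx⟩ := ht1
    obtain ⟨y, hy⟩ := ht2
    by_cases hxs : x ∈ s
    · apply hts
      ext z
      constructor
      · intro hz; by_contra hzs
        rcases hno x hx y hy with h | h
        · exact (hno z hz y hy).elim (fun h' => hzs h'.1) (fun h' => h.2 h'.2)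
        · exact h.1 hxs
      · intro hz; by_contra hzt
        exact (hno x hx z hzt).elim (fun h' => h'.2 hz) (fun h' => h'.1 hxs)
    · apply htc
      ext z
      constructor
      · intro hz hzs
        rcases hno x hx y hy with h | h
        · exact hxs h.1
        · exact (hno z hz y hy).elim (fun h' => h'.2 h.2) (fun h' => h'.1 hzs)
      · intro hz; by_contra hzt
        exact (hno x hx z hzt).elim (fun h' => hxs h'.1) (fun h' => hz h'.2)
  have hne : x ≠ y := by rintro rfl; exact hy hx
  obtain ⟨u, v, huv, huvs, hu, hv⟩ : ∃ u v, u ≠ v ∧ (u ∈ s ↔ v ∈ s) ∧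
      u ∉ ({x, y} : Finset (Fin n)) ∧ v ∉ ({x, y} : Finset (Fin n)) := by
    have h3 : 2 * 1 < ((Finset.univ : Finset (Fin n)) \ {x, y}).card := by
      rw [Finset.card_sdiff_of_subset (Finset.subset_univ _), Finset.card_pair hne]
      simp; omega
    obtain ⟨b, -, hb⟩ := Finset.exists_lt_card_fiber_of_mul_lt_card_of_maps_to
      (t := (Finset.univ : Finset Bool)) (f := fun z => decide (z ∈ s))
      (fun _ _ => Finset.mem_univ _) (n := 1) (by simpa using h3)
    obtain ⟨u, hu, v, hv, huv⟩ := Finset.one_lt_card.1 hb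
    simp only [Finset.mem_filter, Finset.mem_sdiff, Finset.mem_univ, true_and] at hu hv
    exact ⟨u, v, huv, by simpa using hu.2.trans hv.2.symm, hu.1, hv.1⟩
  obtain ⟨g, hg⟩ := hA (show swap x y * swap u v ∈ alternatingGroup (Fin n) by
    simp [Perm.mem_alternatingGroup, Perm.sign_swap hne, Perm.sign_swap huv])
  have hmem : g ∈ setStab ι s := by
    rw [mem_setStab]
    intro z
    rw [hg, Perm.mul_apply]
    have h1 : ∀ w, (swap x y w ∈ s ↔ w ∈ s) := fun w => by
      rw [swap_apply_def]; split_ifs with h h' <;> simp_all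
    have h2 : ∀ w, (swap u v w ∈ s ↔ w ∈ s) := fun w => by
      rw [swap_apply_def]; split_ifs with h h' <;> simp_all
    rw [h1, h2]
  rw [heq, mem_setStab] at hmem
  have := (hmem x).2 hx
  simp only [Finset.mem_insert, Finset.mem_singleton, not_or] at hu hv
  rw [hg, Perm.mul_apply, swap_apply_of_ne_of_ne (Ne.symm hu.1) (Ne.symm hv.1),
    swap_apply_left] at this
  exact hy this

/-- A subgroup containing a Sylow 2-subgroup and all even elements is everything. -/
theorem eq_top_of_even_le (hι : Function.Injective ι) (R : Sylow 2 G) (M : Subgroup G)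
    (hR : (R : Subgroup G) ≤ M) (hM : alternatingGroup (Fin n) ≤ M.map ι) : M = ⊤ := by
  have hle : (alternatingGroup (Fin n)).comap ι ≤ M := by
    intro x hx
    obtain ⟨y, hy, hyx⟩ := hM hx
    exact hι hyx ▸ hy
  have h2 : ((alternatingGroup (Fin n)).comap ι).index ∣ 2 := by
    rw [Subgroup.index_comap]
    refine (Subgroup.relIndex_dvd_index_of_normal _ _).trans ?_
    rw [alternatingGroup, Subgroup.index_ker]
    exact (Subgroup.card_subgroup_dvd_card _).trans (by simp)
  have h3 : M.index ∣ 2 := (Subgroup.index_dvd_of_le hle).trans h2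
  rcases (Nat.dvd_prime Nat.prime_two).1 h3 with h | h
  · exact Subgroup.index_eq_one.1 h
  · have h4 := Subgroup.index_dvd_of_le hR
    rw [h] at h4
    exact absurd h4 R.not_dvd_index

/-- A pairing adapted to a Sylow 2-subgroup of `G`. -/
theorem exists_pairing_of_sylow (hι : Function.Injective ι) (R : Sylow 2 G) :
    ∃ (e : (Fin (n / 2) × Fin 2) ⊕ Fin (n % 2) ≃ Fin n) (P : Sylow 2 (Perm (Fin (n / 2)))),
      ∀ x, x ∈ (R : Subgroup G) ↔ ι x ∈ pairGroup e P := by
  obtain ⟨S, hS⟩ := (R.2.map ι).exists_le_sylow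
  have hle : (R : Subgroup G) ≤ (S : Subgroup (Perm (Fin n))).comap ι :=
    Subgroup.map_le_iff_le_comap.1 hS
  have heq : (S : Subgroup (Perm (Fin n))).comap ι = R :=
    R.3 (S.2.comap_of_injective _ hι) hle
  obtain ⟨e, P, h, hh⟩ := exists_conj_pairSylow S
  refine ⟨e.trans h, P, fun x => ?_⟩
  rw [← heq, Subgroup.mem_comap, hh, mem_pairGroup, mem_pairGroup]
  refine exists_congr fun d => exists_congr fun σ => and_congr_right fun _ => ?_
  have : pairLift (e.trans h) d σ = h * pairLift e d σ * h⁻¹ := by
    ext z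
    simp [pairLift, Equiv.permCongr_apply, Perm.inv_def]
  rw [this]
  constructor
  · intro h1; rw [← h1]; group
  · intro h1; rw [h1]; group

end Cfsg.Agent.Lead
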