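import Cfsg.Agent.Lib.Lead.UniqueMaxUp

/-!
In degrees other than `2 ^ k + 1` a Sylow 2-subgroup has two maximal overgroups.
-/

set_option autoImplicit false

namespace Cfsg.Agent.Lead

open Equiv MulAction
open scoped Pointwise

variable {n : ℕ} {G : Type*} [Group G] [Finite G] (ι : G →* Perm (Fin n))

/-- Setwise stabiliser of the partition into a set and its complement. -/
def halvesStab (s : Set (Fin n)) : Subgroup G :=
  (stabilizer (Perm (Fin n)) ({s, sᶜ} : Set (Set (Fin n)))).comap ι

omit [Finite G] in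
theorem mem_halvesStab {s : Set (Fin n)} {g : G} (h : ι g • s = s ∨ ι g • s = sᶜ) :
    g ∈ halvesStab ι s := by
  rw [halvesStab, Subgroup.mem_comap, mem_stabilizer_iff]
  have h' : ι g • sᶜ = (ι g • s)ᶜ := Set.smul_set_compl
  rw [Set.smul_set_insert, Set.smul_set_singleton, h']
  rcases h with h | h <;> rw [h]
  rw [compl_compl, Set.pair_comm]

omit [Finite G] in
theorem halvesStab_spec {s : Set (Fin n)} {g : G} (hg : g ∈ halvesStab ι s) :
    ι g • s = s ∨ ι g • s = sᶜ := by
  rw [halvesStab, Subgroup.mem_comap, mem_stabilizer_iff] at hg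
  have : ι g • s ∈ ({s, sᶜ} : Set (Set (Fin n))) := hg ▸ Set.smul_mem_smul_set (Set.mem_insert _ _)
  simpa using this

/-- A subgroup with all even elements preserving the halves and one moving them is big. -/
theorem even_le_of_halves (hA : alternatingGroup (Fin n) ≤ ι.range) (hn : 8 ≤ n)
    (s : Set (Fin n)) (hs : 2 * s.ncard = n) (M : Subgroup G) (hM : halvesStab ι s ≤ M)
    (g₀ : G) (hg₀ : g₀ ∈ M) (h1 : ι g₀ • s ≠ s) (h2 : ι g₀ • s ≠ sᶜ) :
    alternatingGroup (Fin n) ≤ M.map ι := by
  classical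
  have hcompl : sᶜ.ncard = s.ncard := by
    rw [Set.ncard_compl, Nat.card_fin]; omega
  -- moves inside one half fixing a given point
  have hmove : ∀ x y z : Fin n, x ≠ z → y ≠ z → (x ∈ s ↔ y ∈ s) →
      ∃ g ∈ M, ι g x = y ∧ ι g z = z := by
    intro x y z hxz hyz hxy
    rcases eq_or_ne x y with rfl | hne
    · exact ⟨1, one_mem _, by simp, by simp⟩
    obtain ⟨u, v, huv, huvs, hu, hv⟩ : ∃ u v, u ≠ v ∧ (u ∈ s ↔ v ∈ s) ∧
        u ∉ ({x, y, z} : Finset (Fin n)) ∧ v ∉ ({x, y, z} : Finset (Fin n)) := by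
      have h3 : 2 * 1 < ((Finset.univ : Finset (Fin n)) \ {x, y, z}).card := by
        rw [Finset.card_sdiff_of_subset (Finset.subset_univ _)]
        have := Finset.card_le_three (a := x) (b := y) (c := z)
        simp; omega
      obtain ⟨b, -, hb⟩ := Finset.exists_lt_card_fiber_of_mul_lt_card_of_maps_to
        (t := (Finset.univ : Finset Bool)) (f := fun w => decide (w ∈ s))
        (fun _ _ => Finset.mem_univ _) (n := 1) (by simpa using h3)
      obtain ⟨u, hu, v, hv, huv⟩ := Finset.one_lt_card.1 hb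
      simp only [Finset.mem_filter, Finset.mem_sdiff, Finset.mem_univ, true_and] at hu hv
      exact ⟨u, v, huv, by simpa using hu.2.trans hv.2.symm, hu.1, hv.1⟩
    obtain ⟨g, hg⟩ := hA (show swap x y * swap u v ∈ alternatingGroup (Fin n) by
      simp [Perm.mem_alternatingGroup, Perm.sign_swap hne, Perm.sign_swap huv])
    have hmem : g ∈ setStab ι s := by
      rw [mem_setStab]
      intro w
      rw [hg, Perm.mul_apply]
      have h3 : ∀ w, (swap x y w ∈ s ↔ w ∈ s) := fun w => by
        rw [swap_apply_def]; split_ifs with h h' <;> simp_all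
      have h4 : ∀ w, (swap u v w ∈ s ↔ w ∈ s) := fun w => by
        rw [swap_apply_def]; split_ifs with h h' <;> simp_all
      rw [h3, h4]
    simp only [Finset.mem_insert, Finset.mem_singleton, not_or] at hu hv
    refine ⟨g, hM (mem_halvesStab ι (Or.inl hmem)), ?_, ?_⟩
    · rw [hg, Perm.mul_apply, swap_apply_of_ne_of_ne (Ne.symm hu.1) (Ne.symm hv.1), swap_apply_left]
    · rw [hg, Perm.mul_apply, swap_apply_of_ne_of_ne (Ne.symm hu.2.2) (Ne.symm hv.2.2),
        swap_apply_of_ne_of_ne hxz.symm hyz.symm]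
  obtain ⟨p, hp⟩ : s.Nonempty := Set.nonempty_of_ncard_ne_zero (by omega)
  obtain ⟨q, hq⟩ : sᶜ.Nonempty := Set.nonempty_of_ncard_ne_zero (by omega)
  -- transitivity
  have htr : ∀ x : Fin n, ∃ g ∈ M, ι g p = x := by
    intro x
    by_cases hx : x ∈ s
    · obtain ⟨g, hg, hg', -⟩ := hmove p x q (fun h => hq (h ▸ hp)) (fun h => hq (h ▸ hx))
        (by simp [hp, hx])
      exact ⟨g, hg, hg'⟩
    · -- cross the halves
      obtain ⟨g, hg, w, hw, hgw⟩ : ∃ g ∈ M, ∃ w ∈ s, ι g w ∉ s := by
        refine ⟨g₀, hg₀, ?_⟩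
        by_contra hno
        push Not at hno
        apply h1
        refine Set.eq_of_subset_of_ncard_le ?_ (Set.ncard_smul_set _ _).ge
        rintro _ ⟨w, hw, rfl⟩
        exact hno w hw
      obtain ⟨g1, hg1, hg1', -⟩ := hmove p w q (fun h => hq (h ▸ hp)) (fun h => hq (h ▸ hw))
        (by simp [hp, hw])
      obtain ⟨g2, hg2, hg2', -⟩ := hmove (ι g w) x p (fun h => hgw (h ▸ hp))
        (fun h => hx (h ▸ hp)) (by simp [hgw, hx])
      exact ⟨g2 * g * g1, mul_mem (mul_mem hg2 hg) hg1, by simp [hg1', hg2']⟩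
  haveI : IsPretransitive (M.map ι) (Fin n) := by
    constructor
    intro x y
    obtain ⟨m, hm, hmx⟩ := htr x
    obtain ⟨m', hm', hmy⟩ := htr y
    refine ⟨⟨ι (m' * m⁻¹), Subgroup.mem_map_of_mem ι (mul_mem hm' (inv_mem hm))⟩, ?_⟩
    change ι (m' * m⁻¹) x = y
    rw [← hmx, map_mul, map_inv, Perm.mul_apply]
    simpa using hmy
  have hblock : ∀ B : Set (Fin n), IsBlock (M.map ι) B → ¬ B.Subsingleton →
      B = Set.univ ∨ B = s ∨ B = sᶜ := by
    intro B hB hns
    -- the half of a point of `B` containing another one is inside `B`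
    have hin : ∀ x ∈ B, ∀ y ∈ B, x ≠ y → ∀ w, (w ∈ s ↔ y ∈ s) → w ∈ B := by
      intro x hx y hy hxy w hw
      rcases eq_or_ne w x with rfl | hwx
      · exact hx
      obtain ⟨g, hg, hgy, hgx⟩ := hmove y w x hxy.symm hwx hw.symm
      let g' : M.map ι := ⟨ι g, Subgroup.mem_map_of_mem ι hg⟩
      have : g' • B = B := hB.smul_eq_of_nonempty ⟨x, ⟨x, hx, hgx⟩, hx⟩
      rw [← this]
      exact ⟨y, hy, hgy⟩
    obtain ⟨x, hx, y, hy, hxy⟩ := Set.not_subsingleton_iff.1 hns
    by_cases hboth : (∃ w ∈ B, w ∈ s) ∧ ∃ w ∈ B, w ∉ s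
    · left
      obtain ⟨⟨u, huB, hu⟩, v, hvB, hv⟩ := hboth
      have huv : u ≠ v := fun h => hv (h ▸ hu)
      refine Set.eq_univ_of_forall fun w => ?_
      by_cases hw : w ∈ s
      · exact hin v hvB u huB huv.symm w (by simp [hw, hu])
      · exact hin u huB v hvB huv w (by simp [hw, hv])
    · right
      by_cases hys : y ∈ s
      · left
        refine Set.Subset.antisymm (fun w hw => ?_) (fun w hw => hin x hx y hy hxy w (by simp [hys, hw]))
        by_contra hws
        exact hboth ⟨⟨y, hy, hys⟩, w, hw, hws⟩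
      · right
        refine Set.Subset.antisymm (fun w hw hws => hboth ⟨⟨w, hw, hws⟩, y, hy, hys⟩)
          (fun w hw => hin x hx y hy hxy w (iff_of_false (Set.notMem_of_mem_compl hw) hys))
  have hprim : IsPreprimitive (M.map ι) (Fin n) := by
    constructor
    intro B hB
    rw [IsTrivialBlock, or_iff_not_imp_left]
    intro hns
    rcases hblock B hB hns with h | h | h
    · exact h
    all_goals exfalso
    all_goals
      let g' : M.map ι := ⟨ι g₀, Subgroup.mem_map_of_mem ι hg₀⟩
      have hns' : ¬ (g' • B).Subsingleton := by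
        intro hss
        apply hns
        have := Set.ncard_le_one_iff_subsingleton.2 hss
        rw [show (g' • B).ncard = B.ncard from Set.ncard_smul_set _ _] at this
        rwa [Set.ncard_le_one_iff_subsingleton] at this
      have hcase := hblock _ (hB.translate g') hns'
      have hval : g' • B = ι g₀ • B := rfl
      rw [hval, h] at hcase
    · rcases hcase with h' | h' | h'
      · have := congrArg Set.ncard h'
        rw [Set.ncard_smul_set, Set.ncard_univ, Nat.card_fin] at this; omega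
      · exact h1 h'
      · exact h2 h'
    · rw [Set.smul_set_compl] at hcase
      rcases hcase with h' | h' | h'
      · have := congrArg Set.ncard (compl_eq_comm.1 h')
        rw [Set.ncard_smul_set, Set.ncard_compl, Set.ncard_univ] at this; omega
      · exact h2 (compl_eq_comm.1 h').symm
      · exact h1 (compl_injective h')
  -- a 3-cycle inside `s`
  obtain ⟨a, ha, b, hb, c, hc, hab, hac, hbc⟩ : ∃ a ∈ s, ∃ b ∈ s, ∃ c ∈ s, a ≠ b ∧ a ≠ c ∧ b ≠ c := by
    obtain ⟨a, b, c, ha, hb, hc, h⟩ := (Set.two_lt_ncard_iff s.toFinite).1 (by omega)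
    exact ⟨a, ha, b, hb, c, hc, h⟩
  have h3 : (swap a b * swap a c).IsThreeCycle := Perm.isThreeCycle_swap_mul_swap_same hab hac hbc
  obtain ⟨g, hg⟩ := hA h3.mem_alternatingGroup
  have hmem : g ∈ setStab ι s := by
    rw [mem_setStab]
    intro w
    rw [hg, Perm.mul_apply]
    have h4 : ∀ w, (swap a b w ∈ s ↔ w ∈ s) := fun w => by
      rw [swap_apply_def]; split_ifs with h h' <;> simp_all
    have h5 : ∀ w, (swap a c w ∈ s ↔ w ∈ s) := fun w => by
      rw [swap_apply_def]; split_ifs with h h' <;> simp_all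
    rw [h4, h5]
  exact Perm.alternatingGroup_le_of_isPreprimitive_of_isThreeCycle_mem hprim h3
    (hg ▸ Subgroup.mem_map_of_mem ι (hM (mem_halvesStab ι (Or.inl hmem))))

/-- A transitive 2-group with more than one point preserves a partition into halves. -/
theorem exists_half_orbit (R : Subgroup G) (hR : IsPGroup 2 R) (hn : 2 ≤ n)
    (htr : ∀ x y : Fin n, ∃ r ∈ R, ι r x = y) :
    ∃ s : Set (Fin n), 2 * s.ncard = n ∧ ∀ r ∈ R, ι r • s = s ∨ ι r • s = sᶜ := by
  classical
  letI : MulAction R (Fin n) := MulAction.compHom (Fin n) (ι.comp R.subtype)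
  have hsm : ∀ (r : R) (x : Fin n), r • x = ι r x := fun _ _ => rfl
  let a : Fin n := ⟨0, by omega⟩
  have horb : orbit R a = Set.univ := by
    refine Set.eq_univ_of_forall fun z => ?_
    obtain ⟨r, hr, h⟩ := htr a z
    exact ⟨⟨r, hr⟩, h⟩
  have hidx : (stabilizer R a).index = n := by
    rw [index_stabilizer, horb, Set.ncard_univ, Nat.card_fin]
  haveI : Fact (Nat.Prime 2) := ⟨Nat.prime_two⟩
  obtain ⟨v, hv⟩ := IsPGroup.iff_card.1 hR
  obtain ⟨w, hw⟩ := IsPGroup.iff_card.1 (hR.to_subgroup (stabilizer R a))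
  have hwv : w < v := by
    have h := (stabilizer R a).card_mul_index
    rw [hidx, hw, hv] at h
    by_contra hle
    have := Nat.pow_le_pow_right (show 0 < 2 by norm_num) (not_lt.1 hle)
    nlinarith [Nat.two_pow_pos w]
  obtain ⟨H, hH, hle⟩ := Sylow.exists_subgroup_card_pow_prime_le (G := R) 2 (n := w) (m := v - 1)
    (by rw [hv]; exact pow_dvd_pow 2 (Nat.sub_le _ _)) (stabilizer R a) hw (by omega)
  have hH2 : H.index = 2 := by
    have h := H.card_mul_index
    rw [hH, hv, show 2 ^ v = 2 ^ (v - 1) * 2 by rw [← pow_succ]; congr 1; omega] at h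
    exact Nat.eq_of_mul_eq_mul_left (Nat.two_pow_pos _) h
  haveI : H.Normal := Subgroup.normal_of_index_eq_two hH2
  have hcount : 2 * (orbit H a).ncard = n := by
    rw [← index_stabilizer]
    refine Eq.trans ?_ hidx
    rw [← hH2]
    have : stabilizer H a = (stabilizer R a).subgroupOf H := rfl
    rw [this, mul_comm]
    exact Subgroup.relIndex_mul_index hle
  refine ⟨orbit H a, hcount, fun r hr => ?_⟩
  set r' : R := ⟨r, hr⟩
  have hsmul : ι r • orbit H a = r' • orbit H a := rfl
  rw [hsmul]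
  have hsub : r' • orbit H a = orbit H (r' • a) := by
    ext z
    simp only [Set.mem_smul_set, mem_orbit_iff]
    constructor
    · rintro ⟨_, ⟨h, rfl⟩, rfl⟩
      refine ⟨⟨r' * h * r'⁻¹, Subgroup.Normal.conj_mem inferInstance _ h.2 r'⟩, ?_⟩
      rw [Subgroup.smul_def, Subgroup.smul_def, smul_smul, smul_smul]
      simp
    · rintro ⟨h, rfl⟩
      refine ⟨(r'⁻¹ * h * r') • a, ⟨⟨r'⁻¹ * h * r', ?_⟩, rfl⟩, ?_⟩
      · simpa using Subgroup.Normal.conj_mem ‹H.Normal› _ h.2 r'⁻¹
      · rw [Subgroup.smul_def, smul_smul, smul_smul]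
        simp [mul_assoc]
  rw [hsub]
  by_cases hmem : r' • a ∈ orbit H a
  · left; exact orbit_eq_iff.2 hmem
  · right
    refine Set.eq_of_subset_of_ncard_le (fun z hz hz' => hmem ?_) ?_
    · rw [← orbit_eq_iff] at hz hz' ⊢
      rw [← hz, hz']
    · rw [Set.ncard_compl, Nat.card_fin, ← hsub, Set.ncard_smul_set]
      omega

/-- In other degrees there are two maximal overgroups. -/
theorem two_maximal_not_pow (hι : Function.Injective ι) (hA : alternatingGroup (Fin n) ≤ ι.range)
    (hC : ∀ s : Set (Fin n), s.Nonempty → sᶜ.Nonempty → n ≠ 2 * s.ncard → IsCoatom (setStab ι s))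
    (hn : 5 ≤ n) (h6 : n ≠ 6) (R : Sylow 2 G) (hk : ∀ k, 2 ≤ k → n ≠ 2 ^ k + 1) :
    ¬ ∃! M : Subgroup G, IsCoatom M ∧ (R : Subgroup G) ≤ M := by
  classical
  rintro ⟨M, -, huniq⟩
  obtain ⟨e, P, hP⟩ := exists_pairing_of_sylow ι hι R
  haveI : Fact (Nat.Prime 2) := ⟨Nat.prime_two⟩
  letI : MulAction (R : Subgroup G) (Fin n) :=
    MulAction.compHom (Fin n) (ι.comp (R : Subgroup G).subtype)
  have horbinv : ∀ x, (R : Subgroup G) ≤ setStab ι (orbit (R : Subgroup G) x) := by
    intro x r hr
    rw [mem_setStab]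
    intro z
    constructor
    · intro hz
      have := mem_orbit_of_mem_orbit ((⟨r, hr⟩ : (R : Subgroup G))⁻¹) hz
      have h' : (⟨r, hr⟩ : (R : Subgroup G))⁻¹ • ι r z = z := inv_smul_smul (⟨r, hr⟩ : (R : Subgroup G)) z
      rwa [h'] at this
    · exact fun hz => mem_orbit_of_mem_orbit (⟨r, hr⟩ : (R : Subgroup G)) hz
  rcases Nat.even_or_odd n with heven | hodd
  · -- even degree
    have hmod : n % 2 = 0 := Nat.even_iff.1 heven
    have hn8 : 8 ≤ n := by omega
    let K := (pairGroup e ⊤).comap ι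
    have hz : ∀ z : Fin n, ∃ i β, z = e (.inl (i, β)) := by
      intro z
      obtain ⟨w, rfl⟩ := e.surjective z
      rcases w with ⟨i, β⟩ | w
      · exact ⟨i, β, rfl⟩
      · exact absurd w.2 (by omega)
    have hKtr : ∀ x y : Fin n, ∃ g ∈ K, ι g x = y := by
      intro x y
      obtain ⟨i, β, rfl⟩ := hz x
      obtain ⟨j, γ, rfl⟩ := hz y
      obtain ⟨l, hl⟩ : ∃ l : Fin (n / 2), l ∉ ({i, j} : Finset (Fin (n / 2))) := by
        by_contra hall
        push Not at hall
        have h6 : (Finset.univ : Finset (Fin (n / 2))).card ≤ ({i, j} : Finset _).card :=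
          Finset.card_le_card fun z _ => hall z
        have := Finset.card_le_two (a := i) (b := j)
        simp at h6; omega
      simp only [Finset.mem_insert, Finset.mem_singleton, not_or] at hl
      have hg : pairLift e (fun t => if t = i then swap β γ else 1) (swap i j) ∈
          pairGroup e (⊤ : Subgroup _) := ⟨_, _, trivial, rfl⟩
      set f := pairLift e (fun t => if t = i then swap β γ else 1) (swap i j) with hf
      have hfx : f (e (.inl (i, β))) = e (.inl (j, γ)) := by simp [hf, pairLift_inl]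
      rcases Int.units_eq_one_or (Perm.sign f) with h | h
      · obtain ⟨g, hg'⟩ := hA h
        exact ⟨g, by rw [Subgroup.mem_comap, hg']; exact hg, by rw [hg', hfx]⟩
      · obtain ⟨g, hg'⟩ := hA (show pairSwap e l * f ∈ alternatingGroup (Fin n) by
          simp [Perm.mem_alternatingGroup, sign_pairSwap, h])
        refine ⟨g, by rw [Subgroup.mem_comap, hg']; exact mul_mem (pairSwap_mem e _ _) hg, ?_⟩
        rw [hg', Perm.mul_apply, hfx, pairSwap, swap_apply_of_ne_of_ne] <;> simp [Ne.symm hl.2]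
    have hKne : K ≠ ⊤ := by
      intro htop
      obtain ⟨g, hg, hgF⟩ := even_mem_range ι hA (e (.inl (⟨0, by omega⟩, 1)))
        (e (.inl (⟨1, by omega⟩, 0))) {e (.inl (⟨0, by omega⟩, 0))} (by simp) (by simp)
        (by simp; omega)
      have hgK : g ∈ K := by rw [htop]; exact Subgroup.mem_top g
      obtain ⟨d, σ, -, h⟩ : ι g ∈ pairGroup e ⊤ := Subgroup.mem_comap.1 hgK
      have h0 := hgF _ (Finset.mem_singleton_self _)
      rw [h, pairLift_inl] at h0 hg
      simp only [EmbeddingLike.apply_eq_iff_eq, Sum.inl.injEq, Prod.mk.injEq] at h0 hg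
      have := h0.1.symm.trans hg.1
      simp only [Fin.mk.injEq] at this
      omega
    obtain ⟨M₁, hM₁, hKM₁⟩ := (eq_top_or_exists_le_coatom K).resolve_left hKne
    have hRK : (R : Subgroup G) ≤ K := fun r hr => pairGroup_mono e le_top ((hP r).1 hr)
    have h1 := huniq M₁ ⟨hM₁, hRK.trans hKM₁⟩
    -- no intransitive overgroup
    have hint : ∀ x : Fin n, orbit (R : Subgroup G) x ≠ Set.univ →
        n ≠ 2 * (orbit (R : Subgroup G) x).ncard → False := by
      intro x hne h2
      obtain ⟨y, hy⟩ := (Set.ne_univ_iff_exists_notMem _).1 hne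
      have hco := hC _ (nonempty_orbit x) ⟨y, hy⟩ h2
      have h3 := huniq _ ⟨hco, horbinv x⟩
      obtain ⟨g, hg, hgx⟩ := hKtr x y
      have h4 := hKM₁ hg
      rw [h1, ← h3, mem_setStab] at h4
      exact hy (hgx ▸ (h4 x).2 (mem_orbit_self x))
    obtain ⟨s, hs, hsR⟩ : ∃ s : Set (Fin n), 2 * s.ncard = n ∧
        ∀ r ∈ (R : Subgroup G), ι r • s = s ∨ ι r • s = sᶜ := by
      let a : Fin n := ⟨0, by omega⟩
      by_cases htr : orbit (R : Subgroup G) a = Set.univ
      · refine exists_half_orbit ι _ R.2 (by omega) fun x y => ?_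
        obtain ⟨r₁, h₁⟩ : x ∈ orbit (R : Subgroup G) a := htr ▸ Set.mem_univ x
        obtain ⟨r₂, h₂⟩ : y ∈ orbit (R : Subgroup G) a := htr ▸ Set.mem_univ y
        refine ⟨_, (r₂ * r₁⁻¹).2, ?_⟩
        change (r₂ * r₁⁻¹) • x = y
        simp only at h₁ h₂
        rw [← h₁, mul_smul, inv_smul_smul, h₂]
      · refine ⟨orbit (R : Subgroup G) a, ?_, fun r hr => Or.inl ?_⟩
        · by_contra h
          exact hint a htr (Ne.symm h)
        · exact mem_stabilizer_iff.1 (Subgroup.mem_comap.1 (horbinv a hr))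
    have hHne : halvesStab ι s ≠ ⊤ := by
      intro htop
      obtain ⟨u, hu, v, hv, huv⟩ := (Set.one_lt_ncard s.toFinite).1 (show 1 < s.ncard by omega)
      obtain ⟨q, hq⟩ : sᶜ.Nonempty := Set.nonempty_of_ncard_ne_zero (by
        rw [Set.ncard_compl, Nat.card_fin]; omega)
      obtain ⟨g, hg, hgF⟩ := even_mem_range ι hA v q {u} (by simpa using huv.symm)
        (by simp; rintro rfl; exact hq hu) (by simp; omega)
      have hu' : ι g u = u := hgF u (Finset.mem_singleton_self u)
      rcases halvesStab_spec ι (htop ▸ Subgroup.mem_top g : g ∈ halvesStab ι s) with h | h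
      · exact hq (h ▸ ⟨v, hv, hg⟩ : q ∈ s)
      · exact (h ▸ ⟨u, hu, hu'⟩ : u ∈ sᶜ) hu
    obtain ⟨M₂, hM₂, hHM₂⟩ := (eq_top_or_exists_le_coatom _).resolve_left hHne
    have hRH : (R : Subgroup G) ≤ halvesStab ι s := fun r hr => mem_halvesStab ι (hsR r hr)
    have h2 := huniq M₂ ⟨hM₂, hRH.trans hHM₂⟩
    -- an element of the pairing group moving the halves
    obtain ⟨f, hfK, hfs, hfsc⟩ : ∃ f ∈ pairGroup e (⊤ : Subgroup (Perm (Fin (n / 2)))),
        Perm.sign f = 1 ∧ f • s ≠ s ∧ f • s ≠ sᶜ := by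
      have hs' : 4 ≤ s.ncard := by omega
      by_cases hsplit : ∃ i β, e (.inl (i, β)) ∈ s ∧ e (.inl (i, β + 1)) ∉ s
      · obtain ⟨i, β, hi, hi'⟩ := hsplit
        obtain ⟨j, hj, l, hl, hjl⟩ : ∃ j, j ≠ i ∧ ∃ l, l ≠ i ∧ j ≠ l := by
          have h4 : 1 < ((Finset.univ : Finset (Fin (n / 2))).erase i).card := by
            rw [Finset.card_erase_of_mem (Finset.mem_univ i), Finset.card_univ, Fintype.card_fin]
            omega
          obtain ⟨j, hj, l, hl, hjl⟩ := Finset.one_lt_card.1 h4
          simp only [Finset.mem_erase] at hj hl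
          exact ⟨j, hj.1, l, hl.1, hjl⟩
        refine ⟨_, mul_mem (pairSwap_mem e _ i) (pairSwap_mem e _ j), by simp [sign_pairSwap], ?_, ?_⟩
        · intro h
          apply hi'
          rw [← h]
          refine ⟨_, hi, ?_⟩
          fin_cases β <;>
            simp [pairSwap, swap_apply_of_ne_of_ne, Ne.symm hj]
        · intro h
          have key : ∀ γ, e (.inl (l, γ)) ∈ s → False := by
            intro γ hγ
            have h5 : e (.inl (l, γ)) ∈ sᶜ := by
              rw [← h]
              refine ⟨_, hγ, ?_⟩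
              simp [pairSwap, swap_apply_of_ne_of_ne, hl, hjl.symm]
            exact h5 hγ
          have h5 : e (.inl (l, 0)) ∈ sᶜ := fun h6 => key 0 h6
          have h6 := h ▸ h5
          obtain ⟨w, hw, hw'⟩ := h6
          have : w = e (.inl (l, 0)) := by
            have h7 : (pairSwap e i * pairSwap e j) (e (.inl (l, 0))) = e (.inl (l, 0)) := by
              simp [pairSwap, swap_apply_of_ne_of_ne, hl, hjl.symm]
            exact (pairSwap e i * pairSwap e j).injective (hw'.trans h7.symm)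
          exact key 0 (this ▸ hw)
      · push Not at hsplit
        have hunion : ∀ i β γ, e (.inl (i, β)) ∈ s → e (.inl (i, γ)) ∈ s := by
          intro i β γ h
          have key : ∀ β γ : Fin 2, γ = β ∨ γ = β + 1 := by decide
          rcases key β γ with rfl | rfl
          · exact h
          · exact hsplit i β h
        obtain ⟨x, hx⟩ : s.Nonempty := Set.nonempty_of_ncard_ne_zero (by omega)
        obtain ⟨y, hy⟩ : sᶜ.Nonempty := Set.nonempty_of_ncard_ne_zero (by
          rw [Set.ncard_compl, Nat.card_fin]; omega)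
        obtain ⟨i, β, rfl⟩ := hz x
        obtain ⟨j, γ, rfl⟩ := hz y
        have hij : i ≠ j := fun h => hy (hunion j β γ (h ▸ hx))
        refine ⟨pairLift e (fun _ => 1) (swap i j), ⟨_, _, trivial, rfl⟩, ?_, ?_, ?_⟩
        · have hf : pairLift e (fun _ => 1) (swap i j) =
              swap (e (.inl (i, 0))) (e (.inl (j, 0))) * swap (e (.inl (i, 1))) (e (.inl (j, 1))) := by
            apply perm_ext_pairing e
            · intro t δ
              rw [pairLift_inl, Perm.mul_apply]
              rcases eq_or_ne t i with rfl | hti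
              · fin_cases δ <;> simp [swap_apply_of_ne_of_ne, hij]
              rcases eq_or_ne t j with rfl | htj
              · fin_cases δ <;> simp [swap_apply_of_ne_of_ne, hij, hti]
              fin_cases δ <;> simp [swap_apply_of_ne_of_ne, hti, htj]
            · intro c; exact absurd c.2 (by omega)
          rw [hf]
          simp [Perm.sign_swap, hij]
        · intro h
          apply hy
          refine hunion j β γ (?_ : e (.inl (j, β)) ∈ s)
          rw [← h]
          exact ⟨_, hx, by simp [pairLift_inl]⟩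
        · intro h
          -- a third pair inside `s` is fixed
          obtain ⟨w, hw, hwi⟩ : ∃ w ∈ s, ∀ δ, w ≠ e (.inl (i, δ)) := by
            by_contra hall
            push Not at hall
            have h7 : s ⊆ {e (.inl (i, 0)), e (.inl (i, 1))} := by
              intro w hw
              obtain ⟨δ, rfl⟩ := hall w hw
              fin_cases δ <;> simp
            have := (Set.ncard_le_ncard h7).trans (Set.ncard_insert_le _ _)
            rw [Set.ncard_singleton] at this; omega
          obtain ⟨t, δ, rfl⟩ := hz w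
          have hti : t ≠ i := fun h' => hwi δ (by rw [h'])
          have htj : t ≠ j := fun h' => hy (hunion j δ γ (h' ▸ hw))
          have h8 : e (.inl (t, δ)) ∈ sᶜ := by
            rw [← h]
            exact ⟨_, hw, by simp [pairLift_inl, swap_apply_of_ne_of_ne hti htj]⟩
          exact h8 hw
    obtain ⟨g, hg⟩ := hA hfs
    have hgM : g ∈ M₂ := by
      rw [h2, ← h1]
      exact hKM₁ (by rw [Subgroup.mem_comap, hg]; exact hfK)
    refine hM₂.1 (eq_top_of_even_le ι hι R M₂ (hRH.trans hHM₂) ?_)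
    exact even_le_of_halves ι hA hn8 s hs M₂ hHM₂ g hgM (by rw [hg]; exact hfsc.1)
      (by rw [hg]; exact hfsc.2)
  · -- odd degree
    have hmod : n % 2 = 1 := Nat.odd_iff.1 hodd
    set a := e (.inr ⟨0, by omega⟩) with ha
    have hfix : (R : Subgroup G) ≤ setStab ι {a} := by
      intro r hr
      rw [mem_setStab_singleton]
      obtain ⟨d, σ, -, h⟩ := (hP r).1 hr
      rw [h, ha, pairLift_inr]
    obtain ⟨b, hb⟩ : ∃ b : Fin n, b ≠ a := ⟨e (.inl (⟨0, by omega⟩, 0)), by simp [a]⟩
    obtain ⟨j, hj⟩ := IsPGroup.card_orbit R.2 b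
    rw [Nat.card_coe_set_eq] at hj
    have hba : a ∉ orbit (R : Subgroup G) b := by
      rintro ⟨⟨r, hr⟩, h⟩
      exact hb ((ι r).injective (h.trans ((mem_setStab_singleton ι).1 (hfix hr)).symm))
    have hlt : (orbit (R : Subgroup G) b).ncard + 1 < n := by
      have h1 : (orbit (R : Subgroup G) b).ncard ≤ ({a}ᶜ : Set (Fin n)).ncard :=
        Set.ncard_le_ncard fun z hz h => hba (Set.mem_singleton_iff.1 h ▸ hz)
      rw [Set.ncard_compl, Set.ncard_singleton, Nat.card_fin] at h1
      refine lt_of_le_of_ne (by omega) ?_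
      rw [hj]
      intro h
      rcases Nat.lt_or_ge j 2 with hj2 | hj2
      · interval_cases j <;> omega
      · exact hk j hj2 h.symm
    have hC1 := hC {a} (Set.singleton_nonempty a) ⟨b, hb⟩ (by rw [Set.ncard_singleton]; omega)
    have hC2 := hC _ (nonempty_orbit b) ⟨a, hba⟩ (by omega)
    have h1 := (huniq _ ⟨hC1, hfix⟩).trans (huniq _ ⟨hC2, horbinv b⟩).symm
    refine setStab_ne ι hA hn (nonempty_orbit b) ⟨a, hba⟩ ?_ ?_ h1
    · exact fun h => hba (h.symm ▸ Set.mem_singleton a)
    · intro h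
      rw [h, Set.ncard_compl, Set.ncard_singleton, Nat.card_fin] at hlt
      omega

end Cfsg.Agent.Lead
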