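import Cfsg.Agent.Lib.Lead.UniqueMax

/-!
In degree `2 ^ k + 1` the point stabiliser is the only maximal overgroup of a Sylow 2-subgroup.
-/

set_option autoImplicit false

namespace Cfsg.Agent.Lead

open Equiv MulAction
open scoped Pointwise

variable {n : ℕ}

theorem commute_swap_swap {a b c d : Fin n} (hac : a ≠ c) (had : a ≠ d) (hbc : b ≠ c) (hbd : b ≠ d) :
    Commute (swap a b) (swap c d) := by
  refine Equiv.ext fun z => ?_
  simp only [Perm.mul_apply, swap_apply_def]
  split_ifs <;> simp_all

/-- Two double transpositions with one common point give a 3-cycle. -/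
theorem isThreeCycle_double_swaps {a b b' c d f f' : Fin n} (hab : a ≠ b) (hbb : b ≠ b')
    (hab' : a ≠ b') (hac : a ≠ c) (had : a ≠ d) (hbc : b ≠ c) (hbd : b ≠ d) (hb'c : b' ≠ c)
    (hb'd : b' ≠ d) (hfa : f ≠ a) (hfb : f ≠ b) (hfb' : f ≠ b') (hf'a : f' ≠ a) (hf'b : f' ≠ b)
    (hf'b' : f' ≠ b') (hfc : f ≠ c) (hfd : f ≠ d) (hf'c : f' ≠ c) (hf'd : f' ≠ d) :
    (((swap b b' * swap f f') * (swap a b * swap c d)) ^ 2).IsThreeCycle := by
  have hBC : Commute (swap f f') (swap a b) := commute_swap_swap hfa hfb hf'a hf'b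
  have hBD : Commute (swap f f') (swap c d) := commute_swap_swap hfc hfd hf'c hf'd
  have hAB : Commute (swap b b') (swap f f') :=
    (commute_swap_swap hfb hfb' hf'b hf'b').symm
  have hCD : Commute (swap a b) (swap c d) := commute_swap_swap hac had hbc hbd
  have hAD : Commute (swap b b') (swap c d) := commute_swap_swap hbc hbd hb'c hb'd
  have h1 : (swap b b' * swap f f') * (swap a b * swap c d) =
      (swap b b' * swap a b) * (swap f f' * swap c d) := by
    rw [mul_assoc, ← mul_assoc (swap f f'), hBC.eq, mul_assoc (swap a b), ← mul_assoc]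
  have h2 : Commute (swap b b' * swap a b) (swap f f' * swap c d) :=
    (hAB.mul_right hAD).mul_left (hBC.symm.mul_right hCD)
  have h3 : (swap f f' * swap c d) ^ 2 = 1 := by
    rw [hBD.mul_pow, pow_two, pow_two, swap_mul_self, swap_mul_self, one_mul]
  rw [h1, h2.mul_pow, h3, mul_one, swap_comm a b]
  have h4 : (swap b b' * swap b a).IsThreeCycle :=
    Perm.isThreeCycle_swap_mul_swap_same hbb hab.symm hab'.symm
  exact Perm.IsThreeCycle.isThreeCycle_sq h4

set_option synthInstance.maxHeartbeats 400000 in
set_option synthInstance.maxSize 20000 in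
/-- For the pairing of four of five points every even involution fixing the last point preserves it. -/
theorem pairing_five : ∀ x : Perm ((Fin 2 × Fin 2) ⊕ Fin 1), Perm.sign x = 1 →
    x (.inr 0) = .inr 0 → x * x = 1 →
    ∃ d : Fin 2 → Perm (Fin 2), ∃ σ : Perm (Fin 2),
      ∀ z, x z = Sum.map (pairPerm d σ) id z := by
  decide +kernel

variable {G : Type*} [Group G] [Finite G] (ι : G →* Perm (Fin n))

theorem mem_setStab_singleton {a : Fin n} {g : G} : g ∈ setStab ι {a} ↔ ι g a = a := by
  rw [setStab, Subgroup.mem_comap, stabilizer_singleton, mem_stabilizer_iff]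
  rfl

theorem even_mem_range (hA : alternatingGroup (Fin n) ≤ ι.range) (x y : Fin n) (F : Finset (Fin n))
    (hx : x ∉ F) (hy : y ∉ F) (h : F.card + 4 ≤ n) :
    ∃ g : G, ι g x = y ∧ ∀ z ∈ F, ι g z = z := by
  obtain ⟨u, v, -, -, -, h1, h2, h3⟩ := exists_even_move F hx hy (by
    have h4 := Finset.card_insert_le x (insert y F)
    have h5 := Finset.card_insert_le y F
    rw [Finset.card_sdiff_of_subset (Finset.subset_univ _), Finset.card_univ, Fintype.card_fin]
    omega)
  obtain ⟨g, hg⟩ := hA h1
  exact ⟨g, by rw [hg]; exact h2, fun z hz => by rw [hg]; exact h3 z hz⟩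

/-- The Sylow subgroup is transitive away from the fixed point. -/
theorem sylow_transitive_rest (hA : alternatingGroup (Fin n) ≤ ι.range) (k : ℕ) (hn : 5 ≤ n)
    (hk : n = 2 ^ k + 1) (R : Sylow 2 G) (a : Fin n) (hRa : ∀ r ∈ (R : Subgroup G), ι r a = a)
    (x y : Fin n) (hx : x ≠ a) (hy : y ≠ a) : ∃ r ∈ (R : Subgroup G), ι r x = y := by
  classical
  letI : MulAction G (Fin n) := MulAction.compHom (Fin n) ι
  have hsmul : ∀ (g : G) (z : Fin n), g • z = ι g z := fun _ _ => rfl
  let Ga := stabilizer G a
  have h1 : Ga.index = n := by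
    rw [index_stabilizer]
    have : orbit G a = Set.univ := by
      refine Set.eq_univ_of_forall fun z => ?_
      obtain ⟨g, hg, -⟩ := even_mem_range ι hA a z ∅ (by simp) (by simp) (by simp; omega)
      exact ⟨g, hg⟩
    rw [this, Set.ncard_univ, Nat.card_fin]
  have h2 : (stabilizer Ga x).index = n - 1 := by
    rw [index_stabilizer]
    have : orbit Ga x = {a}ᶜ := by
      ext z
      simp only [mem_orbit_iff, Set.mem_compl_iff, Set.mem_singleton_iff]
      constructor
      · rintro ⟨⟨g, hg⟩, rfl⟩ h
        exact hx (smul_left_cancel g (h.trans hg.symm))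
      · intro hz
        obtain ⟨g, hg, hga⟩ := even_mem_range ι hA x z {a} (by simpa) (by simpa) (by simp; omega)
        exact ⟨⟨g, hga a (by simp)⟩, hg⟩
    rw [this, Set.ncard_compl, Set.ncard_singleton, Nat.card_fin]
  have hR : (R : Subgroup G) ≤ Ga := fun r hr => hRa r hr
  let Q := stabilizer (R : Subgroup G) x
  have hQ : Nat.card Q ∣ Nat.card (stabilizer Ga x) := by
    refine Subgroup.card_dvd_of_injective
      (⟨⟨fun q => ⟨⟨(q.1 : G), hR q.1.2⟩, q.2⟩, rfl⟩, fun _ _ => rfl⟩ : Q →* stabilizer Ga x) ?_
    intro p q h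
    exact Subtype.ext (Subtype.ext (congrArg (fun t : stabilizer Ga x => ((t : Ga) : G)) h))
  have hcard : Nat.card G = n * ((n - 1) * Nat.card (stabilizer Ga x)) := by
    rw [← h2, mul_comm (stabilizer Ga x).index, Subgroup.card_mul_index, ← h1, mul_comm,
      Subgroup.card_mul_index]
  obtain ⟨i, hi⟩ := IsPGroup.iff_card.1 (R.2.to_subgroup Q)
  obtain ⟨j, hj⟩ := IsPGroup.card_orbit R.2 x
  have horb : orbit (R : Subgroup G) x ⊆ {a}ᶜ := by
    rintro _ ⟨⟨r, hr⟩, rfl⟩ h
    exact hx ((ι r).injective ((Set.mem_singleton_iff.1 h).trans (hRa r hr).symm))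
  have hmul : 2 ^ i * 2 ^ j = 2 ^ (Nat.card G).factorization 2 := by
    rw [← hi, ← hj, ← Sylow.card_eq_multiplicity R, ← Subgroup.card_mul_index Q,
      index_stabilizer, ← Nat.card_coe_set_eq]
  have hge : k ≤ j := by
    rw [← pow_add, hcard] at hmul
    have h3 := Nat.pow_right_injective le_rfl hmul
    have hn' : n - 1 = 2 ^ k := by omega
    rw [Nat.factorization_mul (by omega) (Nat.mul_ne_zero (by omega) Nat.card_pos.ne'),
      Nat.factorization_mul (by omega) Nat.card_pos.ne'] at h3
    have h4 : Nat.factorization n 2 = 0 := by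
      refine Nat.factorization_eq_zero_of_not_dvd ?_
      rcases k with _ | k
      · omega
      · rw [hk, pow_succ]; omega
    have h5 : Nat.factorization (n - 1) 2 = k := by
      rw [hn', Nat.factorization_pow, Finsupp.smul_apply, Nat.prime_two.factorization_self]
      simp
    have h6 : i ≤ (Nat.card (stabilizer Ga x)).factorization 2 := by
      rw [← Nat.Prime.pow_dvd_iff_le_factorization Nat.prime_two Nat.card_pos.ne', ← hi]
      exact hQ
    simp only [Finsupp.add_apply] at h3
    omega
  have hall : orbit (R : Subgroup G) x = {a}ᶜ := by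
    refine Set.eq_of_subset_of_ncard_le horb ?_
    rw [Set.ncard_compl, Set.ncard_singleton, Nat.card_fin, ← Nat.card_coe_set_eq, hj]
    have := Nat.pow_le_pow_right (show 0 < 2 by norm_num) hge
    omega
  obtain ⟨⟨r, hr⟩, hry⟩ : y ∈ orbit (R : Subgroup G) x := hall ▸ hy
  exact ⟨r, hr, hry⟩

/-- In degree `2 ^ k + 1` the point stabiliser is the only maximal overgroup. -/
theorem unique_maximal_pow (hι : Function.Injective ι) (hA : alternatingGroup (Fin n) ≤ ι.range)
    (hC : ∀ s : Set (Fin n), s.Nonempty → sᶜ.Nonempty → n ≠ 2 * s.ncard → IsCoatom (setStab ι s))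
    (k : ℕ) (hk2 : 2 ≤ k) (hk : n = 2 ^ k + 1) (R : Sylow 2 G) :
    ∃! M : Subgroup G, IsCoatom M ∧ (R : Subgroup G) ≤ M := by
  classical
  have hk4 : 4 ≤ 2 ^ k := le_trans (by norm_num) (Nat.pow_le_pow_right (by norm_num) hk2)
  have hmod : n % 2 = 1 := by
    obtain ⟨k', rfl⟩ := Nat.exists_eq_add_of_le hk2
    rw [hk, pow_add]; omega
  obtain ⟨e, P, hP⟩ := exists_pairing_of_sylow ι hι R
  set a := e (.inr ⟨0, by omega⟩) with ha
  have hfix : ∀ r ∈ (R : Subgroup G), ι r a = a := by
    intro r hr
    obtain ⟨d, σ, -, h⟩ := (hP r).1 hr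
    rw [h, ha, pairLift_inr]
  have htr := sylow_transitive_rest ι hA k (by omega) hk R a hfix
  have hC0 : IsCoatom (setStab ι {a}) := by
    refine hC _ (Set.singleton_nonempty a) ?_ ?_
    · exact ⟨e (.inl (⟨0, by omega⟩, 0)), by simp [a]⟩
    · rw [Set.ncard_singleton]; omega
  refine ⟨setStab ι {a}, ⟨hC0, fun r hr => (mem_setStab_singleton ι).2 (hfix r hr)⟩, ?_⟩
  rintro M ⟨hM, hRM⟩
  by_cases hMa : ∀ m ∈ M, ι m a = a
  · rcases eq_or_lt_of_le (show M ≤ setStab ι {a} from fun m hm =>
      (mem_setStab_singleton ι).2 (hMa m hm)) with h | h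
    · exact h
    · exact absurd (hM.2 _ h) hC0.1
  exfalso
  push Not at hMa
  obtain ⟨m₀, hm₀, hm₀a⟩ := hMa
  refine hM.1 (eq_top_of_even_le ι hι R M hRM ?_)
  -- transitivity
  have htrans : ∀ z : Fin n, ∃ m ∈ M, ι m a = z := by
    intro z
    rcases eq_or_ne z a with rfl | hz
    · exact ⟨1, one_mem _, by simp⟩
    · obtain ⟨r, hr, hrz⟩ := htr _ z hm₀a hz
      exact ⟨r * m₀, mul_mem (hRM hr) hm₀, by simp [hrz]⟩
  haveI : IsPretransitive (M.map ι) (Fin n) := by
    constructor
    intro x y
    obtain ⟨m, hm, hmx⟩ := htrans x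
    obtain ⟨m', hm', hmy⟩ := htrans y
    refine ⟨⟨ι (m' * m⁻¹), Subgroup.mem_map_of_mem ι (mul_mem hm' (inv_mem hm))⟩, ?_⟩
    change ι (m' * m⁻¹) x = y
    rw [← hmx, map_mul, map_inv, Perm.mul_apply]
    simpa using hmy
  have hprim : IsPreprimitive (M.map ι) (Fin n) := by
    constructor
    intro B hB
    rw [IsTrivialBlock, or_iff_not_imp_left]
    intro hns
    obtain ⟨x, hx, y, hy, hxy⟩ := Set.not_subsingleton_iff.1 hns
    obtain ⟨g, hg⟩ := exists_smul_eq (M.map ι) x a
    have hBa : a ∈ g • B := hg ▸ Set.smul_mem_smul_set hx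
    have hall : g • B = Set.univ := by
      refine Set.eq_univ_of_forall fun z => ?_
      rcases eq_or_ne z a with rfl | hz
      · exact hBa
      have hgy : g • y ≠ a := by rw [← hg]; simpa using hxy.symm
      obtain ⟨r, hr, hrz⟩ := htr _ z hgy hz
      let r' : M.map ι := ⟨ι r, Subgroup.mem_map_of_mem ι (hRM hr)⟩
      have hra : r' • a = a := hfix r hr
      have : r' • (g • B) = g • B :=
        (hB.translate g).smul_eq_of_nonempty ⟨a, ⟨a, hBa, hra⟩, hBa⟩
      rw [← this]
      exact ⟨g • y, Set.smul_mem_smul_set hy, hrz⟩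
    have := congrArg (fun T => g⁻¹ • T) hall
    simpa using this
  -- a 3-cycle
  obtain ⟨t, ht3, htM⟩ : ∃ t : Perm (Fin n), t.IsThreeCycle ∧ t ∈ M.map ι := by
    have hpair : ∀ i j, pairSwap e i * pairSwap e j ∈ M.map ι := by
      intro i j
      obtain ⟨g, hg⟩ : pairSwap e i * pairSwap e j ∈ ι.range := hA (by
        simp [Perm.mem_alternatingGroup, sign_pairSwap])
      refine hg ▸ Subgroup.mem_map_of_mem ι (hRM ((hP g).2 ?_))
      rw [hg]; exact mul_mem (pairSwap_mem e _ _) (pairSwap_mem e _ _)
    obtain ⟨g, hg⟩ := exists_smul_eq (M.map ι) (e (.inl (⟨0, by omega⟩, 0))) a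
    have hy := mul_mem (mul_mem g.2 (hpair ⟨0, by omega⟩ ⟨1, by omega⟩)) (inv_mem g.2)
    set f : Perm (Fin n) := g.1 with hf
    set b := f (e (.inl (⟨0, by omega⟩, 1)))
    set c := f (e (.inl (⟨1, by omega⟩, 0)))
    set d := f (e (.inl (⟨1, by omega⟩, 1)))
    have hg' : f (e (.inl (⟨0, by omega⟩, 0))) = a := hg
    have hy' : f * (pairSwap e ⟨0, by omega⟩ * pairSwap e ⟨1, by omega⟩) * f⁻¹ =
        swap a b * swap c d := by
      rw [← hg']
      show f * _ * f⁻¹ = swap (f (e (.inl (⟨0, by omega⟩, 0)))) (f (e (.inl (⟨0, by omega⟩, 1)))) *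
        swap (f (e (.inl (⟨1, by omega⟩, 0)))) (f (e (.inl (⟨1, by omega⟩, 1))))
      rw [swap_apply_apply, swap_apply_apply]
      simp only [pairSwap]
      group
    rw [hy'] at hy
    have hab : a ≠ b := by rw [← hg']; simp [b]
    have hac : a ≠ c := by rw [← hg']; simp [c]
    have had : a ≠ d := by rw [← hg']; simp [d]
    have hbc : b ≠ c := by simp [b, c]
    have hbd : b ≠ d := by simp [b, d]
    have hcd : c ≠ d := by simp [c, d]
    have hz : ∀ z, z ≠ a → ∃ i β, z = e (.inl (i, β)) := by
      intro z hz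
      obtain ⟨w, rfl⟩ := e.surjective z
      rcases w with ⟨i, β⟩ | w
      · exact ⟨i, β, rfl⟩
      · refine absurd ?_ hz
        rw [ha]; congr 2; exact Fin.ext (by omega)
    obtain ⟨ib, βb, hb⟩ := hz b hab.symm
    obtain ⟨ic, βc, hc⟩ := hz c hac.symm
    obtain ⟨id', βd, hd⟩ := hz d had.symm
    have hflip : ∀ β : Fin 2, β + 1 ≠ β := by decide
    have hflip' : ∀ β γ : Fin 2, γ ≠ β → γ = β + 1 := by decide
    by_cases h5 : n = 5
    · subst h5
      obtain ⟨q, hq⟩ : ∃ q : Fin 5, q ∉ ({a, b, c, d} : Finset (Fin 5)) := by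
        by_contra hall
        push Not at hall
        have h6 : (Finset.univ : Finset (Fin 5)).card ≤ ({a, b, c, d} : Finset (Fin 5)).card :=
          Finset.card_le_card fun z _ => hall z
        have := Finset.card_le_four (a := a) (b := b) (c := c) (d := d)
        simp at h6; omega
      simp only [Finset.mem_insert, Finset.mem_singleton, not_or] at hq
      obtain ⟨hqa, hqb, hqc, hqd⟩ := hq
      have hcomm : Commute (swap c d) (swap b q) :=
        commute_swap_swap hbc.symm (Ne.symm hqc) hbd.symm (Ne.symm hqd)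
      obtain ⟨r, hr⟩ : swap c d * swap b q ∈ ι.range := hA (by
        simp [Perm.mem_alternatingGroup, Perm.sign_swap hcd, Perm.sign_swap (Ne.symm hqb)])
      have hrR : r ∈ (R : Subgroup G) := by
        rw [hP, hr]
        obtain ⟨dd, σ, hx⟩ := pairing_five (e.symm.permCongr (swap c d * swap b q))
          (by simp [Perm.sign_permCongr, Perm.sign_swap hcd, Perm.sign_swap (Ne.symm hqb)])
          (by
            apply e.injective
            simp only [Equiv.permCongr_apply, Equiv.symm_symm, Equiv.apply_symm_apply, Perm.mul_apply]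
            change swap c d (swap b q a) = a
            rw [swap_apply_of_ne_of_ne hab (Ne.symm hqa), swap_apply_of_ne_of_ne hac had])
          (by
            rw [← Equiv.permCongr_mul, ← pow_two, hcomm.mul_pow, pow_two, pow_two, swap_mul_self,
              swap_mul_self, one_mul]
            ext z; simp [Equiv.permCongr_apply])
        refine ⟨dd, σ, ?_, ?_⟩
        · have : (P : Subgroup (Perm (Fin (5 / 2)))) = ⊤ :=
            (P.3 (IsPGroup.of_card (n := 1) (by rw [Subgroup.card_top, Nat.card_perm, Nat.card_fin]; rfl))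
              le_top).symm
          rw [this]; exact Subgroup.mem_top _
        · ext z
          obtain ⟨w, rfl⟩ := e.surjective z
          have := hx w
          rw [Equiv.permCongr_apply, Equiv.symm_symm] at this
          rcases w with ⟨i, β⟩ | w
          · rw [pairLift_inl]
            have h7 : e (e.symm ((swap c d * swap b q) (e (.inl (i, β))))) =
                e (.inl (σ i, dd i β)) := congrArg e this
            rw [Equiv.apply_symm_apply] at h7
            rw [h7]
          · rw [pairLift_inr]
            have h7 : e (e.symm ((swap c d * swap b q) (e (.inr w)))) = e (.inr w) :=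
              congrArg e this
            rw [Equiv.apply_symm_apply] at h7
            rw [h7]
      refine ⟨(swap a b * swap c d) * (swap c d * swap b q), ?_,
        mul_mem hy (hr ▸ Subgroup.mem_map_of_mem ι (hRM hrR))⟩
      rw [mul_assoc, ← mul_assoc (swap c d), swap_mul_self, one_mul, swap_comm a b]
      exact Perm.isThreeCycle_swap_mul_swap_same hab.symm (Ne.symm hqb) (Ne.symm hqa)
    · have h4 : 4 ≤ n / 2 := by
        rcases Nat.lt_or_ge k 3 with h | h
        · have : k = 2 := by omega
          subst this; omega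
        · have : 2 ^ 3 ≤ 2 ^ k := Nat.pow_le_pow_right (by norm_num) h
          omega
      obtain ⟨j, hj⟩ : ∃ j : Fin (n / 2), j ∉ ({ib, ic, id'} : Finset (Fin (n / 2))) := by
        by_contra hall
        push Not at hall
        have h6 : (Finset.univ : Finset (Fin (n / 2))).card ≤ ({ib, ic, id'} : Finset _).card :=
          Finset.card_le_card fun z _ => hall z
        have := Finset.card_le_three (a := ib) (b := ic) (c := id')
        simp at h6; omega
      simp only [Finset.mem_insert, Finset.mem_singleton, not_or] at hj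
      obtain ⟨hjb, hjc, hjd⟩ := hj
      have hswap : ∀ i β, pairSwap e i = swap (e (.inl (i, β))) (e (.inl (i, β + 1))) := by
        intro i β
        fin_cases β
        · rfl
        · rw [swap_comm]; rfl
      by_cases hb' : e (.inl (ib, βb + 1)) = c ∨ e (.inl (ib, βb + 1)) = d
      · rcases hb' with hb' | hb'
        · -- partner of b is c: use the pair of d
          have hid : id' ≠ ib := by
            rintro rfl
            rcases eq_or_ne βd βb with h | h
            · exact hbd (by rw [hb, hd, h])
            · exact hcd (by rw [← hb', hd, hflip' _ _ h])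
          refine ⟨_, ?_, pow_mem (mul_mem (hpair id' j) hy) 2⟩
          rw [hswap id' βd, ← hd, hswap j 0, (commute_swap_swap hac had hbc hbd).eq]
          apply isThreeCycle_double_swaps <;>
            first
            | assumption
            | exact Ne.symm hac | exact Ne.symm had | exact Ne.symm hbc | exact Ne.symm hbd
            | (first | rw [← hb'] | skip; first | rw [hb] | skip; first | rw [hd] | skip; first | rw [ha] | skip
               simp [hflip, hid, hid.symm, hjb, hjd, Ne.symm hjb, Ne.symm hjd])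
        · -- partner of b is d: use the pair of c
          have hic : ic ≠ ib := by
            rintro rfl
            rcases eq_or_ne βc βb with h | h
            · exact hbc (by rw [hb, hc, h])
            · exact hcd (by rw [← hb', hc, hflip' _ _ h])
          refine ⟨_, ?_, pow_mem (mul_mem (hpair ic j) hy) 2⟩
          rw [hswap ic βc, ← hc, hswap j 0, (commute_swap_swap hac had hbc hbd).eq, swap_comm c d]
          apply isThreeCycle_double_swaps <;>
            first
            | assumption
            | exact Ne.symm hac | exact Ne.symm had | exact Ne.symm hbc | exact Ne.symm hbd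
            | exact Ne.symm hcd
            | (first | rw [← hb'] | skip; first | rw [hb] | skip; first | rw [hc] | skip; first | rw [ha] | skip
               simp [hflip, hic, hic.symm, hjb, hjc, Ne.symm hjb, Ne.symm hjc])
      · push Not at hb'
        refine ⟨_, ?_, pow_mem (mul_mem (hpair ib j) hy) 2⟩
        rw [hswap ib βb, ← hb, hswap j 0]
        apply isThreeCycle_double_swaps <;>
          first
          | assumption
          | exact hb'.1 | exact hb'.2
          | (first | rw [hc] | skip; first | rw [hd] | skip; first | rw [hb] | skip; first | rw [ha] | skip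
             simp [hflip, (hflip _).symm, hjb, hjc, hjd, Ne.symm hjb, Ne.symm hjc, Ne.symm hjd])
  exact Perm.alternatingGroup_le_of_isPreprimitive_of_isThreeCycle_mem hprim ht3 htM

end Cfsg.Agent.Lead
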