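import Cfsg.Agent.Lib.Lead.WardSigma
import Cfsg.Agent.Lib.Lead.QdTwoBasic
import Cfsg.Agent.Lib.Solv.Generation
import Cfsg.Agent.Lib.Solv.PGroupPhi
import Cfsg.Agent.Lib.Fusion.WeakClosedTools

/-!
The core of Ward's theorem: a coprime four-group type action forces commuting.
-/

set_option autoImplicit false

open scoped Classical commutatorElement

namespace Cfsg.Agent.Lead.Ward

variable {Δ : Type*} [Group Δ] [Finite Δ]

/-- Conjugation notation. -/
theorem conj_mem {g x : Δ} {H : Subgroup Δ} (hg : g ∈ Subgroup.normalizer (H : Set Δ)) (hx : x ∈ H) :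
    g * x * g⁻¹ ∈ H := (Subgroup.mem_normalizer_iff.1 hg x).1 hx

/-- A map `u ↦ u⁻¹ * d u d⁻¹` without nontrivial fixed points is onto. -/
theorem displacement {d : Δ} (Y : Subgroup Δ) (hd : ∀ u ∈ Y, d * u * d⁻¹ ∈ Y)
    (hfix : ∀ u ∈ Y, d * u = u * d → u = 1) {y : Δ} (hy : y ∈ Y) :
    ∃ u ∈ Y, u⁻¹ * (d * u * d⁻¹) = y := by
  let φ : Y → Y := fun u => ⟨(u : Δ)⁻¹ * (d * u * d⁻¹), mul_mem (inv_mem u.2) (hd u u.2)⟩
  have hinj : Function.Injective φ := by
    intro u w e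
    have e : (u : Δ)⁻¹ * (d * u * d⁻¹) = (w : Δ)⁻¹ * (d * w * d⁻¹) := congrArg Subtype.val e
    have h1 : d * ((w : Δ) * (u : Δ)⁻¹) = (w : Δ) * (u : Δ)⁻¹ * d := by
      calc d * ((w : Δ) * (u : Δ)⁻¹)
          = (w : Δ) * ((w : Δ)⁻¹ * (d * w * d⁻¹)) * (d * u * d⁻¹)⁻¹ * d := by group
        _ = (w : Δ) * ((u : Δ)⁻¹ * (d * u * d⁻¹)) * (d * u * d⁻¹)⁻¹ * d := by rw [e]
        _ = (w : Δ) * (u : Δ)⁻¹ * d := by group
    exact Subtype.ext (mul_inv_eq_one.1 (hfix _ (mul_mem w.2 (inv_mem u.2)) h1)).symm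
  obtain ⟨u, hu⟩ := Finite.injective_iff_surjective.1 hinj ⟨y, hy⟩
  exact ⟨u, u.2, congrArg Subtype.val hu⟩

section

variable {p : ℕ} [hp : Fact p.Prime] {A : Subgroup Δ} (hAab : ∀ a ∈ A, ∀ b ∈ A, a * b = b * a)
  (hAp : ∀ a ∈ A, a ^ p = 1) (hAcard : Nat.card A = p ^ 2)

include hAp hAcard in
theorem hyp_zpowers {b : Δ} (hb : b ∈ A) (hb1 : b ≠ 1) : Hyp p A (Subgroup.zpowers b) :=
  ⟨Subgroup.zpowers_le.2 hb, by rw [Nat.card_zpowers, orderOf_eq_prime (hAp b hb) hb1, hAcard, pow_two]⟩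

include hAp hAcard in
/-- Two independent elements generate. -/
theorem commute_of_two {b d : Δ} (hb : b ∈ A) (hb1 : b ≠ 1) (hd : d ∈ A)
    (hdb : d ∉ Subgroup.zpowers b) {x : Δ} (hxb : b * x = x * b) (hxd : d * x = x * d) :
    x ∈ Subgroup.centralizer (A : Set Δ) := by
  rw [Subgroup.mem_centralizer_iff]
  intro a ha
  rw [SetLike.mem_coe, ← hyp_sup hAp (hyp_zpowers hAp hAcard hb hb1) hd hdb] at ha
  induction ha using Subgroup.closure_induction with
  | mem y hy =>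
    rcases hy with rfl | hy
    · exact hxd
    · obtain ⟨i, rfl⟩ := Subgroup.mem_zpowers_iff.1 hy
      exact ((show Commute b x from hxb).zpow_left i).eq
  | one => simp
  | mul u w _ _ eu ew =>
    exact (Commute.mul_left (show Commute u x from eu) (show Commute w x from ew)).eq
  | inv u _ eu => exact (show Commute u x from eu).inv_left.eq

include hp hAab hAp hAcard in
/-- Generation by fixed points of nontrivial elements. -/
theorem le_of_fixed {K P : Subgroup Δ} (hAK : A ≤ Subgroup.normalizer (K : Set Δ))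
    (hco : (Nat.card K).Coprime p)
    (h : ∀ d ∈ A, d ≠ 1 → ∀ x ∈ K, d * x = x * d → x ∈ P) : K ≤ P := by
  have hA : IsMulCommutative A := ⟨⟨fun a b => Subtype.ext (hAab a a.2 b b.2)⟩⟩
  rw [← Solv.gen_eq A K hA hAK (by rw [hAcard]; exact (hco.symm).pow_left 2)]
  refine iSup₂_le fun B hB => ?_
  obtain ⟨hBA, a, ha, hBa⟩ := hB
  have hBne : B ≠ ⊥ := by
    rintro rfl
    rw [bot_sup_eq] at hBa
    have h1 : Nat.card A ≤ p := by
      rw [← hBa, Nat.card_zpowers]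
      exact Nat.le_of_dvd hp.out.pos (orderOf_dvd_of_pow_eq_one (hAp a ha))
    rw [hAcard, pow_two] at h1
    have := Nat.lt_mul_self_iff.2 hp.out.one_lt
    omega
  obtain ⟨d, hd, hd1⟩ := B.bot_or_exists_ne_one.resolve_left hBne
  intro x hx
  exact h d (hBA hd) hd1 x hx.1 (Subgroup.mem_centralizer_iff.1 hx.2 d hd)

end

section core

variable {V : Type*} [AddCommGroup V] {p : ℕ} [hp : Fact p.Prime] {q : ℕ} [hq : Fact q.Prime]
  {A : Subgroup Δ} (hAab : ∀ a ∈ A, ∀ b ∈ A, a * b = b * a) (hAp : ∀ a ∈ A, a ^ p = 1)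
  (hAcard : Nat.card A = p ^ 2) (ρ : Δ →* AddMonoid.End V)
  (hinv : ∀ v : V, q • v = 0 → v = 0)

/-- The elements centralizing `Z / K`. -/
def InL (Z K : Subgroup Δ) (a : Δ) : Prop := ∀ z ∈ Z, ⁅a, z⁆ ∈ K

omit [Finite Δ] in
theorem InL.conj_mem {Z K : Subgroup Δ} (hK : K ≤ Z) {a k : Δ} (h : InL Z K a) (hk : k ∈ K) :
    a * k * a⁻¹ ∈ K := by
  have := mul_mem (h k (hK hk)) hk
  rwa [commutatorElement_def, inv_mul_cancel_right] at this

theorem InL.cjSub_eq {Z K : Subgroup Δ} (hK : K ≤ Z) {a : Δ} (h : InL Z K a) : cjSub a K = K := by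
  refine Subgroup.eq_of_le_of_card_ge ?_ (card_cjSub a K).ge
  rintro _ ⟨k, hk, rfl⟩
  exact h.conj_mem hK hk

omit [Finite Δ] in
theorem InL.mul {Z K : Subgroup Δ} (hK : K ≤ Z) {a b : Δ} (ha : InL Z K a) (hb : InL Z K b) :
    InL Z K (a * b) := by
  intro z hz
  rw [show ⁅a * b, z⁆ = a * ⁅b, z⁆ * a⁻¹ * ⁅a, z⁆ by simp only [commutatorElement_def]; group]
  exact mul_mem (ha.conj_mem hK (hb z hz)) (ha z hz)

omit [Finite Δ] in
theorem InL.pow {Z K : Subgroup Δ} (hK : K ≤ Z) {a : Δ} (ha : InL Z K a) (n : ℕ) :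
    InL Z K (a ^ n) := by
  induction n with
  | zero => intro z _; simp
  | succ n ih => rw [pow_succ]; exact ih.mul hK ha

section parts

variable {Z : Subgroup Δ} (hZab : ∀ a ∈ Z, ∀ b ∈ Z, a * b = b * a) (hZq : ∀ a ∈ Z, a ^ q = 1)
  (hAZ : A ≤ Subgroup.normalizer (Z : Set Δ))

theorem hyp_cjSub {K : Subgroup Δ} (hK : Hyp q Z K) {g : Δ}
    (hg : g ∈ Subgroup.normalizer (Z : Set Δ)) : Hyp q Z (cjSub g K) :=
  ⟨fun x hx => by
    obtain ⟨k, hk, rfl⟩ := hx
    exact conj_mem hg (hK.1 hk), by rw [card_cjSub]; exact hK.2⟩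

theorem inW_cjSub {K : Subgroup Δ} {g : Δ}
    (hg : g ∈ Subgroup.normalizer (Z : Set Δ)) {w : V} (hw : InW ρ Z K w) :
    InW ρ Z (cjSub g K) (ρ g w) := by
  refine ⟨fun k hk => ?_, ?_⟩
  · obtain ⟨k, hk, rfl⟩ := hk
    show ρ (g * k * g⁻¹) (ρ g w) = ρ g w
    rw [rho_mul, inv_mul_cancel_right, ← rho_mul, hw.1 k hk]
  · have hgZ : cjSub g Z = Z := by
      refine Subgroup.eq_of_le_of_card_ge ?_ (card_cjSub g Z).ge
      rintro _ ⟨k, hk, rfl⟩
      exact conj_mem hg hk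
    conv_lhs => rw [← hgZ]
    rw [sigma_cjSub, hw.2, map_zero]

include hp hinv hZab hZq hAp hAZ in
/-- Elements fixed by `d` act trivially on a part whose quotient `d` moves. -/
theorem kill {K : Subgroup Δ} (hK : Hyp q Z K) {w : V} (hw : InW ρ Z K w) {d : Δ} (hd : d ∈ A)
    (hdL : ¬ InL Z K d) {x : Δ} (hxZ : ∀ z ∈ Z, x * z = z * x)
    (hfix : ∀ v : V, ρ d v = v → ρ x v = v) : ρ x w = w := by
  have hdn := hAZ hd
  have hdp := hAp d hd
  have hdN : ∀ j : ℕ, d ^ j ∈ Subgroup.normalizer (Z : Set Δ) := fun j => pow_mem hdn j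
  let tau : V → V := fun v => ∑ j ∈ Finset.range p, ρ (d ^ j) v
  have htau : ∀ v, ρ d (tau v) = tau v := by
    intro v
    have h1 := Finset.sum_range_succ' (fun j => ρ (d ^ j) v) p
    rw [Finset.sum_range_succ, hdp, pow_zero] at h1
    simp only [tau, map_sum, rho_mul, ← pow_succ']
    exact (add_right_cancel h1).symm
  have hdne : d ≠ 1 := by rintro rfl; exact hdL fun z _ => by simp
  have hord : orderOf d = p := orderOf_eq_prime hdp hdne
  have hgen : ∀ j : ℕ, j < p → j ≠ 0 → ∃ m, (d ^ j) ^ m = d := fun j hj hj0 => by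
    have hco : Nat.Coprime j p := ((hp.out.coprime_iff_not_dvd).2 fun h =>
      absurd (Nat.le_of_dvd (Nat.pos_of_ne_zero hj0) h) (by omega)).symm
    obtain ⟨m, -, hm⟩ := Nat.exists_mul_mod_eq_one_of_coprime hco hp.out.one_lt
    exact ⟨m, by rw [← pow_mul, ← pow_mod_orderOf, hord, hm, pow_one]⟩
  by_cases hstab : cjSub d K = K
  · -- `d` moves `Z / K`
    letI := Fintype.ofFinite Z
    have hkey : Nat.card Z • w = ∑ z : Z, ρ (z : Δ) (tau (ρ (z : Δ)⁻¹ w)) := by
      simp only [tau, map_sum, rho_mul]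
      rw [Finset.sum_comm, ← Finset.add_sum_erase _ _ (Finset.mem_range.2 hp.out.pos)]
      have h0 : ∑ z : Z, ρ ((z : Δ) * (d ^ 0 * (z : Δ)⁻¹)) w = Nat.card Z • w := by
        simp [rho_one, Nat.card_eq_fintype_card]
      rw [h0, left_eq_add]
      refine Finset.sum_eq_zero fun j hj => ?_
      rw [Finset.mem_erase, Finset.mem_range] at hj
      set e := d ^ j with he
      have heK : cjSub e K = K := by
        rw [he]; clear hj he e
        induction j with
        | zero => rw [pow_zero, cjSub_one]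
        | succ j ih => rw [pow_succ, ← cjSub_mul, hstab, ih]
      set w' := ρ e w with hw'
      have hw'W : InW ρ Z K w' := heK ▸ inW_cjSub ρ (hdN j) hw
      have hterm : ∀ z : Z, ρ ((z : Δ) * (e * (z : Δ)⁻¹)) w = ρ ⁅(z : Δ), e⁆ w' := fun z => by
        rw [hw', rho_mul, commutatorElement_def, inv_mul_cancel_right, mul_assoc]
      simp only [hterm]
      obtain ⟨z₁, hz₁, hz₁K⟩ : ∃ z₁ ∈ Z, ⁅z₁, e⁆ ∉ K := by
        by_contra h
        push Not at h
        obtain ⟨m, hm⟩ := hgen j hj.2 hj.1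
        have hL : InL Z K e := fun z hz => by rw [← commutatorElement_inv]; exact inv_mem (h z hz)
        exact hdL (hm ▸ hL.pow hK.1 m)
      have hcZ : ∀ z ∈ Z, ⁅z, e⁆ ∈ Z := fun z hz => by
        rw [commutatorElement_def, mul_assoc, mul_assoc, ← mul_assoc e]
        exact mul_mem hz (conj_mem (hdN j) (inv_mem hz))
      refine inW_fixed ρ hinv hZq hK ⟨fun k hk => ?_, ?_⟩ (hcZ z₁ hz₁) hz₁K ?_
      · rw [map_sum]
        refine Finset.sum_congr rfl fun z _ => ?_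
        rw [rho_mul, hZab k (hK.1 hk) _ (hcZ z z.2), ← rho_mul, hw'W.1 k hk]
      · rw [sigma_sum]
        exact Finset.sum_eq_zero fun z _ => by rw [sigma_rho ρ Z (hcZ z z.2), hw'W.2]
      · rw [map_sum]
        simp only [rho_mul]
        have he1 : ∀ z : Z, ⁅z₁, e⁆ * ⁅(z : Δ), e⁆ = ⁅z₁ * z, e⁆ := fun z => by
          rw [show ⁅z₁ * (z : Δ), e⁆ = z₁ * ⁅(z : Δ), e⁆ * z₁⁻¹ * ⁅z₁, e⁆ by
            simp only [commutatorElement_def]; group,
            hZab z₁ hz₁ _ (hcZ z z.2), mul_inv_cancel_right]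
          exact hZab _ (hcZ z₁ hz₁) _ (hcZ z z.2)
        simp only [he1]
        exact Equiv.sum_comp (Equiv.mulLeft (⟨z₁, hz₁⟩ : Z)) fun z : Z => ρ ⁅(z : Δ), e⁆ w'
    refine sub_eq_zero.1 (card_cancel hinv hZq (le_refl Z) ?_)
    rw [nsmul_sub, ← map_nsmul, hkey, map_sum, ← Finset.sum_sub_distrib]
    refine Finset.sum_eq_zero fun z _ => ?_
    rw [rho_mul, hxZ z z.2, ← rho_mul, hfix _ (htau _), sub_self]
  · -- `d` moves `K`
    have hsig : sigma ρ K (tau w) = Nat.card K • w := by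
      simp only [tau]
      rw [sigma_sum, ← Finset.add_sum_erase _ _ (Finset.mem_range.2 hp.out.pos)]
      rw [pow_zero, rho_one, sigma_self ρ hw, add_eq_left]
      refine Finset.sum_eq_zero fun j hj => ?_
      rw [Finset.mem_erase, Finset.mem_range] at hj
      refine sigma_other ρ hinv hZab hZq (hyp_cjSub hK (hdN j)) hK (fun e => hstab ?_)
        (inW_cjSub ρ (hdN j) hw)
      obtain ⟨m, hm⟩ := hgen j hj.2 hj.1
      rw [← hm]
      clear hm
      induction m with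
      | zero => rw [pow_zero, cjSub_one]
      | succ m ih => rw [pow_succ, ← cjSub_mul, e, ih]
    refine sub_eq_zero.1 (card_cancel hinv hZq hK.1 ?_)
    rw [nsmul_sub, ← map_nsmul, ← hsig, ← sigma_commute ρ K (fun k hk => hxZ k (hK.1 hk)),
      hfix _ (htau w), sub_self]

include hp hq hZab hZq hAZ hAcard in
/-- `A` does not centralize `Z / K`. -/
theorem not_all_inL (hqp : q ≠ p) (hfZ : Z ⊓ Subgroup.centralizer (A : Set Δ) = ⊥) {K : Subgroup Δ}
    (hK : Hyp q Z K) : ∃ d ∈ A, ¬ InL Z K d := by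
  by_contra h
  push Not at h
  have hZK : Z ≤ K := by
    intro z hz
    obtain ⟨k, hk⟩ := IsPGroup.iff_card.1 (show IsPGroup q Z from fun a =>
      ⟨1, Subtype.ext (by simpa using hZq a a.2)⟩)
    obtain ⟨c, hc, hzc⟩ := Solv.exists_fixed_in_coset' A Z K hAZ (by
        rw [hAcard, hk]
        exact ((Nat.coprime_primes hp.out hq.out).2 (Ne.symm hqp)).pow 2 k)
      (Or.inr (Group.isSolvable_of_comm fun a b => Subtype.ext (hZab a a.2 b b.2))) hK.1
      (fun a ha => Subgroup.mem_normalizer_iff.2 fun y => by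
        refine ⟨(h a ha).conj_mem hK.1, fun hy => ?_⟩
        rw [← (h a ha).cjSub_eq hK.1, mem_cjSub] at hy
        simpa [mul_assoc] using hy) hz
      (fun a ha => by
        have h1 := h a ha z hz
        have h2 : z⁻¹ * (a * z * a⁻¹) = z⁻¹ * (⁅a, z⁆ * z) := by
          rw [commutatorElement_def]; group
        rw [h2, hZab _ (hK.1 h1) z hz, inv_mul_cancel_left]
        exact h1)
    have : c = 1 := Subgroup.mem_bot.1 (hfZ ▸ hc)
    rw [this, mul_one] at hzc
    simpa using inv_mem hzc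
  have := hK.2
  rw [le_antisymm hZK hK.1] at this
  have hpos : 0 < Nat.card K := Nat.card_pos
  have := hq.out.one_lt
  nlinarith

end parts

variable {S Q : Subgroup Δ} (hQ : IsPGroup q Q) (hAS : A ≤ Subgroup.normalizer (S : Set Δ))
  (hAQ : A ≤ Subgroup.normalizer (Q : Set Δ)) (hSQ : S ≤ Subgroup.normalizer (Q : Set Δ))
  (hSp : (Nat.card S).Coprime p) (hqp : q ≠ p) (hSq : (Nat.card S).Coprime q)
  (hfS : S ⊓ Subgroup.centralizer (A : Set Δ) = ⊥) (hfQ : Q ⊓ Subgroup.centralizer (A : Set Δ) = ⊥)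
  (hnil : ∀ d ∈ A, d ≠ 1 → ∀ x ∈ Q, ∀ y ∈ S, d * x = x * d → d * y = y * d → y * x = x * y)
  (hfaith : ∀ x ∈ Q, (∀ v : V, ρ x v = v) → x = 1)
  (hfV : ∀ v : V, (∀ a ∈ A, ρ a v = v) → v = 0)
  (hVQ : ∀ d ∈ A, d ≠ 1 → ∀ x ∈ Q, d * x = x * d → ∀ v : V, ρ d v = v → ρ x v = v)

include hp hq hAab hAp hAcard hinv hQ hAS hAQ hSQ hSp hqp hSq hfS hfQ hnil hfaith hVQ in
/-- The core. -/
theorem core : ∀ y ∈ S, ∀ x ∈ Q, y * x = x * y := by
  by_contra hbad
  -- minimal choices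
  obtain ⟨T, ⟨hTS, hAT, hTbad⟩, hTmin⟩ := Set.Finite.exists_minimal (s := {T : Subgroup Δ |
      T ≤ S ∧ A ≤ Subgroup.normalizer (T : Set Δ) ∧ ¬ ∀ y ∈ T, ∀ x ∈ Q, y * x = x * y})
    (Set.toFinite _) ⟨S, le_rfl, hAS, hbad⟩
  obtain ⟨R, ⟨hRQ, hAR, hTR, hRbad⟩, hRmin⟩ := Set.Finite.exists_minimal (s := {R : Subgroup Δ |
      R ≤ Q ∧ A ≤ Subgroup.normalizer (R : Set Δ) ∧ T ≤ Subgroup.normalizer (R : Set Δ) ∧
        ¬ ∀ y ∈ T, ∀ x ∈ R, y * x = x * y})
    (Set.toFinite _) ⟨Q, le_rfl, hAQ, hTS.trans hSQ, hTbad⟩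
  have hTco : (Nat.card T).Coprime p := hSp.coprime_dvd_left (Subgroup.card_dvd_of_le hTS)
  have hRp : IsPGroup q R := hQ.to_le hRQ
  have hRco : (Nat.card R).Coprime p := by
    obtain ⟨k, hk⟩ := IsPGroup.iff_card.1 hRp
    rw [hk]
    exact ((Nat.coprime_primes hq.out hp.out).2 hqp).pow_left k
  have hyord : ∀ y ∈ T, (orderOf y).Coprime q := fun y hy =>
    hSq.coprime_dvd_left (by
      rw [← Subgroup.orderOf_mk y (hTS hy)]
      exact orderOf_dvd_natCard _)
  have hRmin' : ∀ P : Subgroup Δ, P ≤ R → A ≤ Subgroup.normalizer (P : Set Δ) →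
      T ≤ Subgroup.normalizer (P : Set Δ) → P ≠ R → ∀ y ∈ T, ∀ x ∈ P, y * x = x * y := by
    intro P hP hAP hTP hne
    by_contra h
    exact hne (le_antisymm hP (hRmin ⟨hP.trans hRQ, hAP, hTP, h⟩ hP))
  -- `T` is centralized by some `b`
  have hcn : ∀ a ∈ A, ∀ d ∈ A, ∀ y, d * y = y * d → d * (a * y * a⁻¹) = a * y * a⁻¹ * d := by
    intro a ha d hd y hy
    calc d * (a * y * a⁻¹) = d * a * y * a⁻¹ := by group
      _ = a * (d * y) * a⁻¹ := by rw [hAab d hd a ha]; group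
      _ = a * y * (d * a⁻¹) := by rw [hy]; group
      _ = a * y * a⁻¹ * d := by rw [hAab d hd _ (inv_mem ha)]; group
  obtain ⟨b, hb, hb1, hTb⟩ : ∃ b ∈ A, b ≠ 1 ∧ ∀ y ∈ T, b * y = y * b := by
    by_contra h
    push Not at h
    refine hTbad fun y hy x hx => ?_
    refine (Subgroup.mem_centralizer_iff.1 ((le_of_fixed hAab hAp hAcard hAT hTco
      (P := Subgroup.centralizer (Q : Set Δ)) fun d hd hd1 u hu hdu => ?_) hy) x hx).symm
    set T' := T ⊓ Subgroup.centralizer ({d} : Set Δ) with hT'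
    have hmem : ∀ {u}, u ∈ T' ↔ u ∈ T ∧ d * u = u * d := fun {u} =>
      ⟨fun h => ⟨h.1, Subgroup.mem_centralizer_iff.1 h.2 d rfl⟩, fun h =>
        ⟨h.1, Subgroup.mem_centralizer_iff.2 (by intro z hz; rw [Set.mem_singleton_iff] at hz; rw [hz]; exact h.2)⟩⟩
    have hT'bad : ∀ w ∈ T', ∀ x ∈ Q, w * x = x * w := by
      by_contra hb'
      have hle : T ≤ T' := hTmin ⟨inf_le_left.trans hTS, fun a ha => ?_, hb'⟩ inf_le_left
      · obtain ⟨y', hy', hne⟩ := h d hd hd1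
        exact hne (hmem.1 (hle hy')).2
      · refine Subgroup.mem_normalizer_iff.2 fun w => ⟨fun hw => ?_, fun hw => ?_⟩
        · exact hmem.2 ⟨conj_mem (hAT ha) (hmem.1 hw).1, hcn a ha d hd w (hmem.1 hw).2⟩
        · have h1 := hcn a⁻¹ (inv_mem ha) d hd _ (hmem.1 hw).2
          rw [show a⁻¹ * (a * w * a⁻¹) * a⁻¹⁻¹ = w by group] at h1
          exact hmem.2 ⟨(Subgroup.mem_normalizer_iff.1 (hAT ha) w).2 (hmem.1 hw).1, h1⟩
    exact Subgroup.mem_centralizer_iff.2 fun x hx => (hT'bad u (hmem.2 ⟨hu, hdu⟩) x hx).symm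
  -- other elements act without fixed points on `T`
  have hTfix : ∀ d ∈ A, d ∉ Subgroup.zpowers b → ∀ u ∈ T, d * u = u * d → u = 1 := fun d hd hdb u hu h =>
    Subgroup.mem_bot.1 (hfS ▸ ⟨hTS hu, commute_of_two hAp hAcard hb hb1 hd hdb (hTb u hu) h⟩)
  -- the centralized part `P`
  set P := R ⊓ Subgroup.centralizer (T : Set Δ) with hPdef
  have hPcomm : ∀ y ∈ T, ∀ x ∈ P, y * x = x * y := fun y hy x hx => Subgroup.mem_centralizer_iff.1 hx.2 y hy
  have hcent_norm : ∀ g, g ∈ Subgroup.normalizer (T : Set Δ) → ∀ x ∈ Subgroup.centralizer (T : Set Δ),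
      g * x * g⁻¹ ∈ Subgroup.centralizer (T : Set Δ) := by
    intro g hg x hx
    refine Subgroup.mem_centralizer_iff.2 fun y hy => ?_
    have h1 := Subgroup.mem_centralizer_iff.1 hx (g⁻¹ * y * g) (by
      have := conj_mem (inv_mem hg) hy
      rwa [inv_inv] at this)
    calc y * (g * x * g⁻¹) = g * (g⁻¹ * y * g * x) * g⁻¹ := by group
      _ = g * (x * (g⁻¹ * y * g)) * g⁻¹ := by rw [h1]
      _ = g * x * g⁻¹ * y := by group
  have hPn : ∀ g, g ∈ Subgroup.normalizer (T : Set Δ) → g ∈ Subgroup.normalizer (R : Set Δ) →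
      g ∈ Subgroup.normalizer (P : Set Δ) := fun g hgT hgR => Subgroup.mem_normalizer_iff.2 fun x =>
    ⟨fun hx => ⟨conj_mem hgR hx.1, hcent_norm g hgT x hx.2⟩, fun hx =>
      ⟨(Subgroup.mem_normalizer_iff.1 hgR x).2 hx.1, by
        have := hcent_norm g⁻¹ (inv_mem hgT) _ hx.2
        rwa [show g⁻¹ * (g * x * g⁻¹) * g⁻¹⁻¹ = x by group] at this⟩⟩
  have hPne : P ≠ R := fun e => hRbad fun y hy x hx => hPcomm y hy x (e.ge hx)
  haveI : Nontrivial R := by
    refine (Subgroup.nontrivial_iff_ne_bot R).2 fun e => hRbad fun y _ x hx => ?_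
    rw [e, Subgroup.mem_bot] at hx; rw [hx, mul_one, one_mul]
  -- the Frattini subgroup of `R`
  set Φ := (frattini R).map R.subtype with hΦ
  have hΦR : Φ ≤ R := Subgroup.map_subtype_le _
  have hΦn : ∀ g, g ∈ Subgroup.normalizer (R : Set Δ) → g ∈ Subgroup.normalizer (Φ : Set Δ) := by
    intro g hg
    have key : ∀ h, h ∈ Subgroup.normalizer (R : Set Δ) → ∀ x ∈ Φ, h * x * h⁻¹ ∈ Φ := by
      rintro h hh _ ⟨x, hx, rfl⟩
      let e : MulAut R := MulEquiv.ofBijective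
        (((MulAut.conj h).toMonoidHom.comp R.subtype).codRestrict R fun r => conj_mem hh r.2)
        (Finite.injective_iff_bijective.1 fun r r' e =>
          Subtype.ext ((MulAut.conj h).injective (congrArg Subtype.val e)))
      exact ⟨e x, by
        have := Subgroup.characteristic_iff_map_eq.1 (inferInstance : (frattini R).Characteristic) e
        exact this.le ⟨x, hx, rfl⟩, rfl⟩
    refine Subgroup.mem_normalizer_iff.2 fun x => ⟨key g hg x, fun hx => ?_⟩
    have := key g⁻¹ (inv_mem hg) _ hx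
    rwa [show g⁻¹ * (g * x * g⁻¹) * g⁻¹⁻¹ = x by group] at this
  have hΦne : Φ ≠ R := by
    intro e
    obtain ⟨M, hM, -⟩ := (eq_top_or_exists_le_coatom (⊥ : Subgroup R)).resolve_left bot_ne_top
    refine hM.1 (top_le_iff.1 fun r _ => frattini_le_coatom hM ?_)
    obtain ⟨r', hr', er⟩ := e.ge r.2
    rwa [← Subtype.ext er]
  have hΦT : ∀ y ∈ T, ∀ x ∈ Φ, y * x = x * y :=
    hRmin' Φ hΦR (fun a ha => hΦn a (hAR ha)) (fun y hy => hΦn y (hTR hy)) hΦne
  have hΦP : Φ ≤ P := fun x hx =>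
    ⟨hΦR hx, Subgroup.mem_centralizer_iff.2 fun y hy => hΦT y hy x hx⟩
  have hcomΦ : ∀ x ∈ R, ∀ z ∈ R, ⁅x, z⁆ ∈ Φ := fun x hx z hz =>
    ⟨⁅(⟨x, hx⟩ : R), (⟨z, hz⟩ : R)⁆, Solv.commutatorElement_mem_frattini hRp _ _, rfl⟩
  have hpowΦ : ∀ x ∈ R, x ^ q ∈ Φ := fun x hx =>
    ⟨(⟨x, hx⟩ : R) ^ q, Solv.pow_mem_frattini hRp _, rfl⟩
  -- stabilizing lemma
  have hstab : ∀ y ∈ T, ∀ x ∈ R, ⁅y, x⁆ ∈ P → y * x = x * y := by
    intro y hy x hx hxy
    let E : Subgroup Δ :=
      { carrier := {d | d ∈ R ∧ ⁅y, d⁆ ∈ P}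
        one_mem' := ⟨one_mem _, by rw [commutatorElement_one_right]; exact one_mem _⟩
        mul_mem' := fun {u v} hu hv => ⟨mul_mem hu.1 hv.1, by
          rw [show ⁅y, u * v⁆ = ⁅y, u⁆ * (⁅u, ⁅y, v⁆⁆ * ⁅y, v⁆) by
            simp only [commutatorElement_def]; group]
          exact mul_mem hu.2 (mul_mem (hΦP (hcomΦ u hu.1 _ hv.2.1)) hv.2)⟩
        inv_mem' := fun {u} hu => ⟨inv_mem hu.1, by
          rw [show ⁅y, u⁻¹⁆ = ⁅u⁻¹, ⁅y, u⁆⁻¹⁆ * ⁅y, u⁆⁻¹ by
            simp only [commutatorElement_def]; group]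
          exact mul_mem (hΦP (hcomΦ _ (inv_mem hu.1) _ (inv_mem hu.2.1))) (inv_mem hu.2)⟩ }
    exact QdTwo.fix_of_series (p := q) E P (hPcomm y hy) (fun d hd => hd.2) (hRp.to_le inf_le_left)
      (hyord y hy) x ⟨hx, hxy⟩
  -- `Φ` is central in `R`
  have hΦcen : ∀ f ∈ Φ, ∀ r ∈ R, f * r = r * f := by
    set CΦ := R ⊓ Subgroup.centralizer (Φ : Set Δ) with hCΦ
    have hn : ∀ g, g ∈ Subgroup.normalizer (R : Set Δ) → g ∈ Subgroup.normalizer (CΦ : Set Δ) := by
      intro g hg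
      have key : ∀ h, h ∈ Subgroup.normalizer (R : Set Δ) → ∀ x ∈ CΦ, h * x * h⁻¹ ∈ CΦ := by
        intro h hh x hx
        refine ⟨conj_mem hh hx.1, Subgroup.mem_centralizer_iff.2 fun f hf => ?_⟩
        have h1 := conj_mem (inv_mem (hΦn h hh)) hf
        rw [inv_inv] at h1
        have h2 := Subgroup.mem_centralizer_iff.1 hx.2 _ h1
        calc f * (h * x * h⁻¹) = h * (h⁻¹ * f * h * x) * h⁻¹ := by group
          _ = h * (x * (h⁻¹ * f * h)) * h⁻¹ := by rw [h2]
          _ = h * x * h⁻¹ * f := by group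
      refine Subgroup.mem_normalizer_iff.2 fun x => ⟨key g hg x, fun hx => ?_⟩
      have := key g⁻¹ (inv_mem hg) _ hx
      rwa [show g⁻¹ * (g * x * g⁻¹) * g⁻¹⁻¹ = x by group] at this
    rcases eq_or_ne CΦ R with e | e
    · exact fun f hf r hr => Subgroup.mem_centralizer_iff.1 (e.ge hr).2 f hf
    have hcC := hRmin' CΦ inf_le_left (fun a ha => hn a (hAR ha)) (fun y hy => hn y (hTR hy)) e
    exfalso
    refine hRbad fun y hy u hu => hstab y hy u hu ?_
    set v := u⁻¹ * (y * u * y⁻¹) with hv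
    have hyu : y * u * y⁻¹ ∈ R := conj_mem (hTR hy) hu
    have hvR : v ∈ R := mul_mem (inv_mem hu) hyu
    have hvC : v ∈ CΦ := by
      refine ⟨hvR, Subgroup.mem_centralizer_iff.2 fun f hf => ?_⟩
      have h1 : y * f * y⁻¹ = f := by rw [hΦT y hy f hf, mul_inv_cancel_right]
      have hz := hcomΦ u hu f (hΦR hf)
      have h3 : y * ⁅u, f⁆ * y⁻¹ = ⁅u, f⁆ := by rw [hΦT y hy _ hz, mul_inv_cancel_right]
      have h4 : ⁅y * u * y⁻¹, f⁆ = ⁅u, f⁆ := by
        calc ⁅y * u * y⁻¹, f⁆ = ⁅y * u * y⁻¹, y * f * y⁻¹⁆ := by rw [h1]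
          _ = y * ⁅u, f⁆ * y⁻¹ := by simp only [commutatorElement_def]; group
          _ = ⁅u, f⁆ := h3
      calc f * v = u⁻¹ * (⁅u, f⁆ * f * u) * v := by rw [commutatorElement_def]; group
        _ = u⁻¹ * (⁅y * u * y⁻¹, f⁆ * f * u) * v := by rw [h4]
        _ = v * f := by rw [hv, commutatorElement_def]; group
    have hvP : v ∈ P := ⟨hvR, Subgroup.mem_centralizer_iff.2 fun y' hy' => hcC y' hy' v hvC⟩
    rw [show ⁅y, u⁆ = ⁅u, v⁆ * v by rw [hv]; simp only [commutatorElement_def]; group]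
    exact mul_mem (hΦP (hcomΦ u hu v hvR)) hvP
  have hcomq : ∀ x ∈ R, ∀ z ∈ R, ⁅z, x⁆ ^ q = 1 := fun x hx z hz =>
    congrArg Subtype.val (Fusion.commutator_pow_eq_one_of_commute (p := q)
      (x := (⟨x, hx⟩ : R)) (y := (⟨z, hz⟩ : R))
      (fun g => Subtype.ext (hΦcen _ (hcomΦ z hz x hx) g g.2))
      (Subtype.ext (hΦcen _ (hpowΦ z hz) x hx)))
  -- stability under a displacement
  have hstep : ∀ N : Subgroup Δ, ∀ u ∈ T, ∀ c ∈ A, (∀ k ∈ N, u⁻¹ * k * u ∈ N) →
      (∀ k ∈ N, u * k * u⁻¹ ∈ N) → (∀ k ∈ N, c * k * c⁻¹ ∈ N) → (∀ r ∈ R, ⁅c, r⁆ ∈ N) →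
      (∀ r ∈ R, ⁅c⁻¹, r⁆ ∈ N) → ∀ x ∈ R, ⁅u⁻¹ * (c * u * c⁻¹), x⁆ ∈ N := by
    intro N u hu c hc hu1 hu2 hc1 hcR hcR' x hx
    have e1 : c⁻¹ * x * c * x⁻¹ ∈ N := by
      have := hcR' x hx
      rwa [commutatorElement_def, inv_inv] at this
    have e2 : u * (c⁻¹ * x * c) * u⁻¹ * (u * x * u⁻¹)⁻¹ ∈ N := by
      rw [show u * (c⁻¹ * x * c) * u⁻¹ * (u * x * u⁻¹)⁻¹ = u * (c⁻¹ * x * c * x⁻¹) * u⁻¹ by group]
      exact hu2 _ e1
    have e3 := mul_mem (hc1 _ e2) (hcR _ (conj_mem (hTR hu) hx))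
    have e4 := hu1 _ e3
    convert e4 using 1
    simp only [commutatorElement_def]; group
  -- lines
  have hline : ∀ Z : Subgroup Δ, Z ≤ R → (∀ z ∈ Z, ∀ r ∈ R, r * z = z * r) → (∀ a ∈ Z, a ^ q = 1) →
      A ≤ Subgroup.normalizer (Z : Set Δ) → ∀ K, Hyp q Z K → ∀ w, InW ρ Z K w → w ≠ 0 →
      ∃ a ∈ A, a ≠ 1 ∧ InL Z K a ∧ (∀ i : ℤ, InL Z K (a ^ i)) ∧
        (∀ d ∈ A, d ∉ Subgroup.zpowers a → ¬ InL Z K d) := by
    intro Z hZR hcen hZq hAZ K hK w hw hw0
    have hZab : ∀ a ∈ Z, ∀ b ∈ Z, a * b = b * a := fun a ha b hb => hcen b hb a (hZR ha)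
    let L : Subgroup Δ :=
      { carrier := {a | InL Z K a}
        one_mem' := fun z _ => by simp
        mul_mem' := fun {u v} hu hv => InL.mul hK.1 hu hv
        inv_mem' := fun {u} hu => by
          obtain ⟨n, hn⟩ := ((isOfFinOrder_of_finite u).mem_powers_iff_mem_zpowers).2
            (inv_mem (Subgroup.mem_zpowers u))
          show InL Z K u⁻¹
          rw [← hn]; exact InL.pow hK.1 hu n }
    obtain ⟨a, ha, ha1, haL⟩ : ∃ a ∈ A, a ≠ 1 ∧ InL Z K a := by
      by_contra h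
      push Not at h
      let F : Subgroup Δ :=
        { carrier := {x | ∀ v, InW ρ Z K v → ρ x v = v}
          one_mem' := fun v _ => rho_one ρ v
          mul_mem' := fun {u u'} hu hu' v hv => by rw [← rho_mul, hu' v hv, hu v hv]
          inv_mem' := fun {u} hu v hv => by
            conv_lhs => rw [← hu v hv, rho_mul, inv_mul_cancel, rho_one] }
      have hRF : R ≤ F := le_of_fixed hAab hAp hAcard hAR hRco fun d hd hd1 x hx hdx v hv =>
        kill hAp ρ hinv hZab hZq hAZ hK hv hd (h d hd hd1) (fun z hz => hcen z hz x hx)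
          (hVQ d hd hd1 x (hRQ hx) hdx)
      obtain ⟨z, hz, hzK⟩ : ∃ z ∈ Z, z ∉ K := by
        by_contra hh
        push Not at hh
        have := hK.2
        rw [le_antisymm hh hK.1] at this
        have hpos : 0 < Nat.card K := Nat.card_pos
        have := hq.out.one_lt
        nlinarith
      exact hw0 (inW_fixed ρ hinv hZq hK hw hz hzK (hRF (hZR hz) w hw))
    refine ⟨a, ha, ha1, haL, fun i => L.zpow_mem (show a ∈ L from haL) i, fun d hd hda hdL => ?_⟩
    obtain ⟨e, he, heL⟩ := not_all_inL hAcard hZab hZq hAZ hqp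
      (eq_bot_iff.2 fun z hz => hfQ.le ⟨hRQ (hZR hz.1), hz.2⟩) hK
    refine heL ?_
    have hmem : e ∈ L := by
      rw [← hyp_sup hAp (hyp_zpowers hAp hAcard ha ha1) hd hda] at he
      exact (Subgroup.closure_le L).2
        (Set.insert_subset hdL (Subgroup.zpowers_le.2 (show a ∈ L from haL))) he
    exact hmem
  have hpart : ∀ Z : Subgroup Δ, Z ≤ R → (∀ a ∈ Z, ∀ b ∈ Z, a * b = b * a) → (∀ a ∈ Z, a ^ q = 1) →
      ∀ z ∈ Z, z ≠ 1 → ∃ K, Hyp q Z K ∧ ∃ w, InW ρ Z K w ∧ ρ z w ≠ w := by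
    intro Z hZR hZab hZq z hz hz1
    by_contra h
    push Not at h
    exact hz1 (hfaith z (hRQ (hZR hz)) (eq_of_all_parts ρ hinv hZab hZq hz h))
  have hzp : ∀ {d : Δ}, d ∈ A → d ≠ 1 → ∀ {e : Δ}, d ∈ Subgroup.zpowers e → e ∈ A → e ∈ Subgroup.zpowers d := by
    intro d hd hd1 e hde he
    have he1 : e ≠ 1 := fun h => hd1 (by rw [h, Subgroup.zpowers_one_eq_bot] at hde; exact hde)
    have := Subgroup.eq_of_le_of_card_ge (Subgroup.zpowers_le.2 hde) (by
      rw [Nat.card_zpowers, Nat.card_zpowers, orderOf_eq_prime (hAp d hd) hd1, orderOf_eq_prime (hAp e he) he1])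
    exact this.ge (Subgroup.mem_zpowers e)
  have hbcomm : ∀ d ∈ A, d ≠ 1 → ∀ e ∈ A, d ∈ Subgroup.zpowers e → ∀ x, d * x = x * d → e * x = x * e := by
    intro d hd hd1 e he hde x hx
    obtain ⟨i, rfl⟩ := Subgroup.mem_zpowers_iff.1 (hzp hd hd1 hde he)
    exact ((show Commute d x from hx).zpow_left i).eq
  have hTc : ∀ c ∈ A, c ≠ 1 → c ∉ Subgroup.zpowers b → ∀ y ∈ T, ∀ y' ∈ T,
      y⁻¹ * (c * y * c⁻¹) = y'⁻¹ * (c * y' * c⁻¹) → y = y' := by
    intro c hc hc1 hcb y hy y' hy' e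
    refine (mul_inv_eq_one.1 (hTfix c hc hcb _ (mul_mem hy (inv_mem hy')) ?_))
    calc c * (y * y'⁻¹) = y * (y⁻¹ * (c * y * c⁻¹)) * (c * y' * c⁻¹)⁻¹ * c := by group
      _ = y * (y'⁻¹ * (c * y' * c⁻¹)) * (c * y' * c⁻¹)⁻¹ * c := by rw [e]
      _ = y * y'⁻¹ * c := by group
  by_cases hab : ∀ u ∈ R, ∀ v ∈ R, u * v = v * u
  · -- abelian case
    have hexp : ∀ u ∈ R, u ^ q = 1 := by
      let Ω : Subgroup Δ :=
        { carrier := {x | x ∈ R ∧ x ^ q = 1}
          one_mem' := ⟨one_mem _, one_pow q⟩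
          mul_mem' := fun {u v} hu hv => ⟨mul_mem hu.1 hv.1, by
            rw [(show Commute u v from hab u hu.1 v hv.1).mul_pow, hu.2, hv.2, one_mul]⟩
          inv_mem' := fun {u} hu => ⟨inv_mem hu.1, by rw [inv_pow, hu.2, inv_one]⟩ }
      have hn : ∀ g, g ∈ Subgroup.normalizer (R : Set Δ) → g ∈ Subgroup.normalizer (Ω : Set Δ) :=
        fun g hg => Subgroup.mem_normalizer_iff.2 fun x =>
          ⟨fun hx => ⟨conj_mem hg hx.1, by rw [conj_pow, hx.2, mul_one, mul_inv_cancel]⟩,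
            fun hx => ⟨(Subgroup.mem_normalizer_iff.1 hg x).2 hx.1, by
              have h2 := hx.2
              rw [conj_pow] at h2
              simpa using h2⟩⟩
      rcases eq_or_ne Ω R with e | e
      · exact fun u hu => (e.ge hu).2
      have hcC := hRmin' Ω (fun x hx => hx.1) (fun a ha => hn a (hAR ha)) (fun y hy => hn y (hTR hy)) e
      exfalso
      refine hRbad fun y hy => Fusion.commute_of_coprime_fixed_omega hRp hab (hTR hy)
        (n := orderOf y) (fun h => hq.out.one_lt.ne' (Nat.eq_one_of_dvd_coprimes (hyord y hy) h dvd_rfl))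
        (fun v _ => by rw [pow_orderOf_eq_one, one_mul, mul_one]) fun v hv hvq => hcC y hy v ⟨hv, hvq⟩
    refine hRbad fun y₀ hy₀ x₀ hx₀ => commutatorElement_eq_one_iff_mul_comm.1 ?_
    by_contra hne
    have hmemR : ⁅y₀, x₀⁆ ∈ R := by
      rw [commutatorElement_def]; exact mul_mem (conj_mem (hTR hy₀) hx₀) (inv_mem hx₀)
    obtain ⟨K, hK, w, hw, hwne⟩ := hpart R le_rfl hab hexp _ hmemR hne
    have hw0 : w ≠ 0 := fun e => hwne (by rw [e, map_zero])
    apply hwne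
    refine hw.1 _ ?_
    -- the fixed part lies in the hyperplane
    have hout : ∀ K', Hyp q R K' → ∀ w', InW ρ R K' w' → w' ≠ 0 → ∀ d ∈ A, ¬ InL R K' d →
        ∀ u ∈ R, d * u = u * d → u ∈ K' := by
      intro K' hK' w' hw' hw'0 d hd hdL u hu hdu
      by_contra huK
      have hd1 : d ≠ 1 := fun e => hdL fun z _ => by rw [e]; simp
      exact hw'0 (inW_fixed ρ hinv hexp hK' hw' hu huK (kill hAp ρ hinv hab hexp hAR hK' hw' hd hdL
        (fun z hz => hab u hu z hz) (hVQ d hd hd1 u (hRQ hu) hdu)))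
    have hyK : ∀ y ∈ T, Hyp q R (cjSub y K) ∧ InW ρ R (cjSub y K) (ρ y w) ∧ ρ y w ≠ 0 :=
      fun y hy => ⟨hyp_cjSub hK (hTR hy), inW_cjSub ρ (hTR hy) hw, fun e => hw0 (by
        have := congrArg (ρ y⁻¹) e
        rwa [map_zero, rho_mul, inv_mul_cancel, rho_one] at this)⟩
    have hbL : ∀ y ∈ T, ∀ K', InL R K' b → InL R (cjSub y K') b := by
      intro y hy K' hb' z hz
      rw [mem_cjSub]
      have h1 := hb' (y⁻¹ * z * y) (by
        have := conj_mem (inv_mem (hTR hy)) hz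
        rwa [inv_inv] at this)
      convert h1 using 1
      have hbi : b⁻¹ * y = y * b⁻¹ := ((show Commute b y from hTb y hy).inv_left).eq
      calc y⁻¹ * ⁅b, z⁆ * y = y⁻¹ * b * z * (b⁻¹ * y) * (y⁻¹ * z⁻¹ * y) := by
            rw [commutatorElement_def]; group
        _ = y⁻¹ * (b * y) * (y⁻¹ * z * y) * b⁻¹ * (y⁻¹ * z⁻¹ * y) := by rw [hbi]; group
        _ = ⁅b, y⁻¹ * z * y⁆ := by rw [hTb y hy, commutatorElement_def]; group
    obtain ⟨a, ha, ha1, haL, haLz, haout⟩ := hline R le_rfl (fun z hz r hr => hab r hr z hz) hexp hAR K hK w hw hw0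
    by_cases hbK : InL R K b
    · have hout' : ∀ y ∈ T, ∀ d ∈ A, d ∉ Subgroup.zpowers b → ¬ InL R (cjSub y K) d := by
        intro y hy d hd hdb
        obtain ⟨h1, h2, h3⟩ := hyK y hy
        obtain ⟨a', ha', -, -, -, ha'out⟩ := hline R le_rfl (fun z hz r hr => hab r hr z hz) hexp hAR _ h1 _ h2 h3
        intro hdL
        have hd' : d ∈ Subgroup.zpowers a' := by_contra fun h => ha'out d hd h hdL
        have hb' : b ∈ Subgroup.zpowers a' := by_contra fun h => ha'out b hb h (hbL y hy K hbK)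
        exact hdb ((Subgroup.zpowers_le.2 (hzp hb hb1 hb' ha')) hd')
      let D : Subgroup Δ :=
        { carrier := {x | ∃ m ∈ K ⊓ cjSub y₀ K, ∃ c ∈ R, b * c = c * b ∧ x = m * c}
          one_mem' := ⟨1, one_mem _, 1, one_mem _, by simp, by simp⟩
          mul_mem' := by
            rintro _ _ ⟨m, hm, c, hc, hbc, rfl⟩ ⟨m', hm', c', hc', hbc', rfl⟩
            refine ⟨m * m', mul_mem hm hm', c * c', mul_mem hc hc',
              (Commute.mul_right (show Commute b c from hbc) (show Commute b c' from hbc')).eq, ?_⟩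
            calc m * c * (m' * c') = m * (c * m') * c' := by group
              _ = m * m' * (c * c') := by rw [hab c hc m' (hK.1 hm'.1)]; group
          inv_mem' := by
            rintro _ ⟨m, hm, c, hc, hbc, rfl⟩
            refine ⟨m⁻¹, inv_mem hm, c⁻¹, inv_mem hc, (show Commute b c from hbc).inv_right.eq, ?_⟩
            rw [mul_inv_rev, hab _ (inv_mem hc) _ (inv_mem (hK.1 hm.1))] }
      have hRD : R ≤ D := le_of_fixed hAab hAp hAcard hAR hRco fun d hd hd1 u hu hdu => by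
        by_cases hdb : d ∈ Subgroup.zpowers b
        · exact ⟨1, one_mem _, u, hu, hbcomm d hd hd1 b hb hdb u hdu, (one_mul u).symm⟩
        · have e1 : ¬ InL R K d := by
            have := hout' 1 (one_mem T) d hd hdb
            rwa [cjSub_one] at this
          exact ⟨u, ⟨hout K hK w hw hw0 d hd e1 u hu hdu, hout _ (hyK y₀ hy₀).1 _ (hyK y₀ hy₀).2.1
            (hyK y₀ hy₀).2.2 d hd (hout' y₀ hy₀ d hd hdb) u hu hdu⟩, 1, one_mem _, by simp, by simp⟩
      have hfixc : ∀ c ∈ R, b * c = c * b → y₀ * c * y₀⁻¹ = c := fun c hc hbc => by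
        rw [hnil b hb hb1 c (hRQ hc) y₀ (hTS hy₀) hbc (hTb y₀ hy₀), mul_inv_cancel_right]
      have hKy : cjSub y₀ K = K := by
        refine (Subgroup.eq_of_le_of_card_ge (fun k hk => ?_) (card_cjSub y₀ K).le).symm
        obtain ⟨m, hm, c, hc, hbc, rfl⟩ := hRD (hK.1 hk)
        refine mul_mem hm.2 ?_
        have hcK : c ∈ K := by
          have := Subgroup.mul_mem _ (Subgroup.inv_mem _ hm.1) hk
          rwa [inv_mul_cancel_left] at this
        exact ⟨c, hcK, hfixc c hc hbc⟩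
      obtain ⟨m, hm, c, hc, hbc, hx⟩ := hRD hx₀
      rw [hx, show ⁅y₀, m * c⁆ = (y₀ * m * y₀⁻¹) * (y₀ * c * y₀⁻¹ * c⁻¹) * m⁻¹ by
        rw [commutatorElement_def]; group, hfixc c hc hbc, mul_inv_cancel, mul_one]
      exact mul_mem (hKy.le ⟨m, hm.1, rfl⟩) (inv_mem hm.1)
    · have hab' : a ∉ Subgroup.zpowers b := fun h => by
        obtain ⟨i, hi⟩ := Subgroup.mem_zpowers_iff.1 (hzp ha ha1 h hb)
        exact hbK (hi ▸ haLz i)
      have hcs : ∀ u v : Δ, cjSub u K = cjSub v K → cjSub (u⁻¹ * v) K = K := fun u v e => by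
        rw [← cjSub_mul, ← e, cjSub_mul, inv_mul_cancel, cjSub_one]
      have hfixK : ∀ y ∈ T, cjSub y K = K := by
        intro y hy
        obtain ⟨h1, h2, h3⟩ := hyK y hy
        obtain ⟨a', ha', ha'1, ha'L, -, -⟩ := hline R le_rfl (fun z hz r hr => hab r hr z hz) hexp hAR _ h1 _ h2 h3
        have ha'b : a' ∉ Subgroup.zpowers b := fun h => by
          obtain ⟨i, hi⟩ := Subgroup.mem_zpowers_iff.1 (hzp ha' ha'1 h hb)
          have h4 : InL R (cjSub y K) b := by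
            obtain ⟨n, hn⟩ := ((isOfFinOrder_of_finite a').mem_powers_iff_mem_zpowers).2 ⟨i, hi⟩
            exact hn ▸ ha'L.pow h1.1 n
          have := hbL y⁻¹ (inv_mem hy) _ h4
          rw [cjSub_mul, inv_mul_cancel, cjSub_one] at this
          exact hbK this
        obtain ⟨i, j, hij⟩ : ∃ i j : ℤ, a' = a ^ i * b ^ j := by
          suffices hdec : ∀ g ∈ Subgroup.closure (insert a (Subgroup.zpowers b : Set Δ)),
              ∃ i j : ℤ, g = a ^ i * b ^ j from
            hdec a' (by rw [hyp_sup hAp (hyp_zpowers hAp hAcard hb hb1) ha hab']; exact ha')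
          intro g hg
          induction hg using Subgroup.closure_induction with
          | mem z hz =>
            rcases hz with rfl | hz
            · exact ⟨1, 0, by simp⟩
            · obtain ⟨j, rfl⟩ := Subgroup.mem_zpowers_iff.1 hz
              exact ⟨0, j, by simp⟩
          | one => exact ⟨0, 0, by simp⟩
          | mul u v _ _ eu ev =>
            obtain ⟨i, j, rfl⟩ := eu
            obtain ⟨i', j', rfl⟩ := ev
            refine ⟨i + i', j + j', ?_⟩
            calc a ^ i * b ^ j * (a ^ i' * b ^ j') = a ^ i * (b ^ j * a ^ i') * b ^ j' := by group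
              _ = _ := by rw [hAab _ (zpow_mem hb j) _ (zpow_mem ha i'), zpow_add, zpow_add]; group
          | inv u _ eu =>
            obtain ⟨i, j, rfl⟩ := eu
            refine ⟨-i, -j, ?_⟩
            rw [mul_inv_rev, hAab _ (inv_mem (zpow_mem hb j)) _ (inv_mem (zpow_mem ha i)), zpow_neg, zpow_neg]
        set c := a ^ i with hc
        have hcA : c ∈ A := zpow_mem ha i
        have hc1 : c ≠ 1 := fun e => ha'b (by
          rw [hij, e, one_mul]; exact Subgroup.zpow_mem_zpowers b j)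
        have hcb : c ∉ Subgroup.zpowers b := fun h => by
          obtain ⟨m, hm⟩ := Subgroup.mem_zpowers_iff.1 (hzp hcA hc1 (Subgroup.zpow_mem_zpowers a i) ha)
          exact hab' (hm ▸ zpow_mem h m)
        have hcK : cjSub c K = K := (haLz i).cjSub_eq hK.1
        set y1 := c * y * c⁻¹ with hy1
        have hy1T : y1 ∈ T := conj_mem (hAT hcA) hy
        have h5 : cjSub y1 (cjSub (b ^ j) K) = cjSub y K := by
          have h6 := ha'L.cjSub_eq h1.1
          rw [cjSub_mul, hij] at h6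
          rw [cjSub_mul, hy1]
          conv_rhs => rw [← h6]
          rw [show c * b ^ j * y = c * (b ^ j * y) from mul_assoc _ _ _,
            ((show Commute b y from hTb y hy).zpow_left j).eq,
            show c * (y * b ^ j) = c * y * c⁻¹ * (c * b ^ j) by group,
            hAab c hcA _ (zpow_mem hb j), ← mul_assoc, ← cjSub_mul _ c, hcK]
        set y2 := y1⁻¹ * y with hy2
        have hy2T : y2 ∈ T := mul_mem (inv_mem hy1T) hy
        have h7 : cjSub (b ^ j) K = cjSub y2 K := by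
          rw [hy2, ← cjSub_mul y1⁻¹ y, ← h5, cjSub_mul y1⁻¹, inv_mul_cancel, cjSub_one]
        let Y : Subgroup Δ :=
          { carrier := {u | u ∈ T ∧ cjSub u K = K}
            one_mem' := ⟨one_mem _, cjSub_one K⟩
            mul_mem' := fun {u v} hu hv => ⟨mul_mem hu.1 hv.1, by rw [← cjSub_mul, hv.2, hu.2]⟩
            inv_mem' := fun {u} hu => ⟨inv_mem hu.1, by
              conv_lhs => rw [← hu.2, cjSub_mul, inv_mul_cancel, cjSub_one]⟩ }
        have hYc : ∀ u ∈ Y, c * u * c⁻¹ ∈ Y := fun u hu => ⟨conj_mem (hAT hcA) hu.1, by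
          have hci : cjSub c⁻¹ K = K := by
            conv_lhs => rw [← hcK, cjSub_mul, inv_mul_cancel, cjSub_one]
          rw [← cjSub_mul, ← cjSub_mul, hci, hu.2, hcK]⟩
        have hreach : ∀ v ∈ T, cjSub (c * v * c⁻¹) K = cjSub v K → v ∈ Y := by
          intro v hv hvK
          have hmem : v⁻¹ * (c * v * c⁻¹) ∈ Y :=
            ⟨mul_mem (inv_mem hv) (conj_mem (hAT hcA) hv), hcs _ _ hvK.symm⟩
          obtain ⟨u, hu, hue⟩ := displacement Y hYc (fun u hu h => hTfix c hcA hcb u hu.1 h) hmem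
          rwa [← hTc c hcA hc1 hcb u hu.1 v hv hue]
        have hci : cjSub c⁻¹ K = K := by
          conv_lhs => rw [← hcK, cjSub_mul, inv_mul_cancel, cjSub_one]
        have h8 : y2 ∈ Y := hreach y2 hy2T (by
          rw [← cjSub_mul, hci, ← cjSub_mul, ← h7, cjSub_mul,
            hAab c hcA _ (zpow_mem hb j), ← cjSub_mul, hcK])
        rw [h7, h8.2] at h5
        exact (hreach y hy h5).2
      obtain ⟨u, hu, rfl⟩ := displacement T (fun u hu => conj_mem (hAT ha) hu)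
        (fun u hu h => hTfix a ha hab' u hu h) hy₀
      have hkey : ∀ v ∈ T, ∀ k ∈ K, v * k * v⁻¹ ∈ K := fun v hv k hk =>
        (hfixK v hv).le ⟨k, hk, rfl⟩
      exact hstep K u hu a ha (fun k hk => by simpa using hkey u⁻¹ (inv_mem hu) k hk) (hkey u hu)
        (fun k hk => haL.conj_mem hK.1 hk) haL (zpow_neg_one a ▸ haLz (-1)) x₀ hx₀
  · -- nonabelian case
    set Z := ⁅R, R⁆ with hZ
    have hZΦ : Z ≤ Φ := Subgroup.commutator_le.2 hcomΦ
    have hZR : Z ≤ R := hZΦ.trans hΦR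
    have hZcen : ∀ z ∈ Z, ∀ r ∈ R, r * z = z * r := fun z hz r hr => (hΦcen z (hZΦ hz) r hr).symm
    have hZab : ∀ u ∈ Z, ∀ v ∈ Z, u * v = v * u := fun u hu v hv => hZcen v hv u (hZR hu)
    have hZq : ∀ z ∈ Z, z ^ q = 1 := by
      have hle : Z ≤ Subgroup.closure {z | z ∈ Φ ∧ z ^ q = 1} := Subgroup.commutator_le.2
        fun u hu v hv => Subgroup.subset_closure ⟨hcomΦ u hu v hv, hcomq v hv u hu⟩
      have hcl : Subgroup.closure {z | z ∈ Φ ∧ z ^ q = 1} ≤ Φ := (Subgroup.closure_le _).2 fun z hz => hz.1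
      suffices hall : ∀ z ∈ Subgroup.closure {z | z ∈ Φ ∧ z ^ q = 1}, z ^ q = 1 from
        fun z hz => hall z (hle hz)
      intro z hz
      induction hz using Subgroup.closure_induction with
      | mem u hu => exact hu.2
      | one => exact one_pow q
      | mul u v hu hv eu ev =>
        rw [(show Commute u v from hΦcen u (hcl hu) v (hΦR (hcl hv))).mul_pow, eu, ev, one_mul]
      | inv u _ eu => rw [inv_pow, eu, inv_one]
    have hcomm_n : ∀ g, g ∈ Subgroup.normalizer (R : Set Δ) → g ∈ Subgroup.normalizer (Z : Set Δ) := by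
      intro g hg
      have key : ∀ h, h ∈ Subgroup.normalizer (R : Set Δ) → ∀ x ∈ Z, h * x * h⁻¹ ∈ Z := by
        intro h hh x hx
        have hle : Z ≤ Z.comap (MulAut.conj h).toMonoidHom := Subgroup.commutator_le.2 fun u hu v hv => by
          show h * ⁅u, v⁆ * h⁻¹ ∈ Z
          rw [show h * ⁅u, v⁆ * h⁻¹ = ⁅h * u * h⁻¹, h * v * h⁻¹⁆ by
            simp only [commutatorElement_def]; group]
          exact Subgroup.commutator_mem_commutator (conj_mem hh hu) (conj_mem hh hv)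
        exact hle hx
      refine Subgroup.mem_normalizer_iff.2 fun x => ⟨key g hg x, fun hx => ?_⟩
      have := key g⁻¹ (inv_mem hg) _ hx
      rwa [show g⁻¹ * (g * x * g⁻¹) * g⁻¹⁻¹ = x by group] at this
    have hAZ : A ≤ Subgroup.normalizer (Z : Set Δ) := fun a ha => hcomm_n a (hAR ha)
    have hTZ : ∀ y ∈ T, ∀ z ∈ Z, y * z = z * y := fun y hy z hz => hΦT y hy z (hZΦ hz)
    obtain ⟨z₀, hz₀, hz₀1⟩ : ∃ z ∈ Z, z ≠ 1 := by
      by_contra h
      push Not at h
      exact hab fun u hu v hv =>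
        commutatorElement_eq_one_iff_mul_comm.1 (h _ (Subgroup.commutator_mem_commutator hu hv))
    obtain ⟨K, hK, w, hw, hwne⟩ := hpart Z hZR hZab hZq z₀ hz₀ hz₀1
    have hw0 : w ≠ 0 := fun e => hwne (by rw [e, map_zero])
    obtain ⟨a, ha, ha1, haL, -, haout⟩ := hline Z hZR hZcen hZq hAZ K hK w hw hw0
    -- the elements trivial on the orbit of the part
    let P0 : Subgroup Δ :=
      { carrier := {x | x ∈ R ∧ ∀ α ∈ A, ∀ v, InW ρ Z (cjSub α K) v → ρ x v = v}
        one_mem' := ⟨one_mem _, fun α _ v _ => rho_one ρ v⟩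
        mul_mem' := fun {u u'} hu hu' => ⟨mul_mem hu.1 hu'.1, fun α hα v hv => by
          rw [← rho_mul, hu'.2 α hα v hv, hu.2 α hα v hv]⟩
        inv_mem' := fun {u} hu => ⟨inv_mem hu.1, fun α hα v hv => by
          conv_lhs => rw [← hu.2 α hα v hv, rho_mul, inv_mul_cancel, rho_one]⟩ }
    have hAP0 : A ≤ Subgroup.normalizer (P0 : Set Δ) := by
      have key : ∀ β ∈ A, ∀ x ∈ P0, β * x * β⁻¹ ∈ P0 := by
        intro β hβ x hx
        refine ⟨conj_mem (hAR hβ) hx.1, fun α hα v hv => ?_⟩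
        have h1 := inW_cjSub ρ (inv_mem (hAZ hβ)) hv
        rw [cjSub_mul] at h1
        have h2 := hx.2 _ (mul_mem (inv_mem hβ) hα) _ h1
        rw [← rho_mul, ← rho_mul, h2, rho_mul, mul_inv_cancel, rho_one]
      intro β hβ
      refine Subgroup.mem_normalizer_iff.2 fun x => ⟨key β hβ x, fun hx => ?_⟩
      have := key β⁻¹ (inv_mem hβ) _ hx
      rwa [show β⁻¹ * (β * x * β⁻¹) * β⁻¹⁻¹ = x by group] at this
    have hTP0 : T ≤ Subgroup.normalizer (P0 : Set Δ) := by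
      have key : ∀ y ∈ T, ∀ x ∈ P0, y * x * y⁻¹ ∈ P0 := by
        intro y hy x hx
        refine ⟨conj_mem (hTR hy) hx.1, fun α hα v hv => ?_⟩
        have h1 := inW_cjSub ρ (inv_mem (hcomm_n y (hTR hy))) hv
        have hfix : cjSub y⁻¹ (cjSub α K) = cjSub α K := by
          refine Subgroup.eq_of_le_of_card_ge ?_ (card_cjSub _ _).ge
          rintro _ ⟨k, hk, rfl⟩
          show y⁻¹ * k * y⁻¹⁻¹ ∈ cjSub α K
          rwa [hTZ y⁻¹ (inv_mem hy) k ((hyp_cjSub hK (hAZ hα)).1 hk), mul_inv_cancel_right]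
        rw [hfix] at h1
        have h2 := hx.2 α hα _ h1
        rw [← rho_mul, ← rho_mul, h2, rho_mul, mul_inv_cancel, rho_one]
      intro y hy
      refine Subgroup.mem_normalizer_iff.2 fun x => ⟨key y hy x, fun hx => ?_⟩
      have := key y⁻¹ (inv_mem hy) _ hx
      rwa [show y⁻¹ * (y * x * y⁻¹) * y⁻¹⁻¹ = x by group] at this
    have hP0ne : P0 ≠ R := by
      intro e
      obtain ⟨z, hz, hzK⟩ : ∃ z ∈ Z, z ∉ K := by
        by_contra hh
        push Not at hh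
        exact hwne (hw.1 z₀ (hh z₀ hz₀))
      exact hw0 (inW_fixed ρ hinv hZq hK hw hz hzK
        ((e.ge (hZR hz)).2 1 (one_mem A) w (by rwa [cjSub_one])))
    have hP0P : ∀ x ∈ P0, x ∈ P := fun x hx => ⟨hx.1, Subgroup.mem_centralizer_iff.2 fun y hy =>
      hRmin' P0 (fun u hu => hu.1) hAP0 hTP0 hP0ne y hy x hx⟩
    have hLα : ∀ α ∈ A, ∀ d ∈ A, InL Z (cjSub α K) d → InL Z K d := by
      intro α hα d hd hL z hz
      have h1 := hL (α * z * α⁻¹) (conj_mem (hAZ hα) hz)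
      rw [mem_cjSub] at h1
      convert h1 using 1
      calc ⁅d, z⁆ = α⁻¹ * ⁅α * d * α⁻¹, α * z * α⁻¹⁆ * α := by
            simp only [commutatorElement_def]; group
        _ = α⁻¹ * ⁅d, α * z * α⁻¹⁆ * α := by rw [hAab α hα d hd, mul_inv_cancel_right]
    have hPnorm : ∀ c ∈ R, ∀ m ∈ P, c * m * c⁻¹ ∈ P := fun c hc m hm => by
      have := mul_mem (hΦP (hcomΦ c hc m hm.1)) hm
      rwa [commutatorElement_def, inv_mul_cancel_right] at this
    let D : Subgroup Δ :=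
      { carrier := {x | ∃ m ∈ P, ∃ c ∈ R, a * c = c * a ∧ x = m * c}
        one_mem' := ⟨1, one_mem _, 1, one_mem _, by simp, by simp⟩
        mul_mem' := by
          rintro _ _ ⟨m, hm, c, hc, hac, rfl⟩ ⟨m', hm', c', hc', hac', rfl⟩
          exact ⟨m * (c * m' * c⁻¹), mul_mem hm (hPnorm c hc m' hm'), c * c', mul_mem hc hc',
            (Commute.mul_right (show Commute a c from hac) (show Commute a c' from hac')).eq, by group⟩
        inv_mem' := by
          rintro _ ⟨m, hm, c, hc, hac, rfl⟩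
          exact ⟨c⁻¹ * m⁻¹ * c⁻¹⁻¹, hPnorm _ (inv_mem hc) _ (inv_mem hm), c⁻¹, inv_mem hc,
            (show Commute a c from hac).inv_right.eq, by group⟩ }
    have hRD : R ≤ D := le_of_fixed hAab hAp hAcard hAR hRco fun d hd hd1 u hu hdu => by
      by_cases hda : d ∈ Subgroup.zpowers a
      · exact ⟨1, one_mem _, u, hu, hbcomm d hd hd1 a ha hda u hdu, (one_mul u).symm⟩
      · exact ⟨u, hP0P u ⟨hu, fun α hα v hv => kill hAp ρ hinv hZab hZq hAZ
          (hyp_cjSub hK (hAZ hα)) hv hd (fun h => haout d hd hda (hLα α hα d hd h))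
          (fun z hz => hZcen z hz u hu) (hVQ d hd hd1 u (hRQ hu) hdu)⟩,
          1, one_mem _, by simp, by simp⟩
    apply hRbad
    intro y hy x hx
    by_cases hab' : a ∈ Subgroup.zpowers b
    · obtain ⟨m, hm, c, hc, hac, rfl⟩ := hRD hx
      have hc' : y * c = c * y :=
        hnil b hb hb1 c (hRQ hc) y (hTS hy) (hbcomm a ha ha1 b hb hab' c hac) (hTb y hy)
      exact (Commute.mul_right (show Commute y m from hPcomm y hy m hm) hc').eq
    · have hPa : ∀ g ∈ A, ∀ k ∈ P, g * k * g⁻¹ ∈ P := fun g hg k hk =>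
        conj_mem (hPn g (hAT hg) (hAR hg)) hk
      have hra : ∀ r ∈ R, ⁅a, r⁆ ∈ P := by
        intro r hr
        obtain ⟨m, hm, c, hc, hac, rfl⟩ := hRD hr
        rw [show ⁅a, m * c⁆ = a * m * a⁻¹ * (a * c * a⁻¹ * c⁻¹) * m⁻¹ by
          rw [commutatorElement_def]; group, hac, mul_inv_cancel_right, mul_inv_cancel, mul_one]
        exact mul_mem (hPa a ha m hm) (inv_mem hm)
      obtain ⟨u, hu, rfl⟩ := displacement T (fun u hu => conj_mem (hAT ha) hu)
        (fun u hu h => hTfix a ha hab' u hu h) hy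
      have hPu : ∀ v ∈ T, ∀ k ∈ P, v * k * v⁻¹ ∈ P := fun v hv k hk =>
        conj_mem (hPn v (Subgroup.le_normalizer hv) (hTR hv)) hk
      refine hstab _ hy x hx (hstep P u hu a ha
        (fun k hk => by simpa using hPu u⁻¹ (inv_mem hu) k hk) (hPu u hu) (hPa a ha) hra
        (fun r hr => ?_) x hx)
      rw [show ⁅a⁻¹, r⁆ = a⁻¹ * ⁅a, r⁆⁻¹ * a⁻¹⁻¹ by simp only [commutatorElement_def]; group]
      exact hPa _ (inv_mem ha) _ (inv_mem (hra r hr))

end core

end Cfsg.Agent.Lead.Ward
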