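import Mathlib.GroupTheory.PGroup
import Mathlib.GroupTheory.Commutator.Basic
import Mathlib.Algebra.Group.End
import Mathlib.Algebra.BigOperators.Group.Finset.Basic
import Mathlib.Algebra.Module.BigOperators
import Mathlib.GroupTheory.OrderOfElement

/-!
Sums over subgroups of an elementary abelian group acting on a coprime module.
-/

set_option autoImplicit false

open scoped Classical commutatorElement

namespace Cfsg.Agent.Lead.Ward

variable {Δ : Type*} [Group Δ] [Finite Δ] {V : Type*} [AddCommGroup V]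

/-- The sum of the operators of a subgroup. -/
noncomputable def sigma (ρ : Δ →* AddMonoid.End V) (H : Subgroup Δ) (v : V) : V :=
  letI := Fintype.ofFinite H
  ∑ h : H, ρ (h : Δ) v

variable (ρ : Δ →* AddMonoid.End V)

theorem rho_mul (g h : Δ) (v : V) : ρ g (ρ h v) = ρ (g * h) v := by rw [map_mul]; rfl

theorem rho_one (v : V) : ρ 1 v = v := by rw [map_one]; rfl

theorem sigma_eq (H : Subgroup Δ) [Fintype H] (v : V) : sigma ρ H v = ∑ h : H, ρ (h : Δ) v :=
  Finset.sum_congr (by ext; simp) fun _ _ => rfl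

theorem sigma_add (H : Subgroup Δ) (v w : V) : sigma ρ H (v + w) = sigma ρ H v + sigma ρ H w := by
  letI := Fintype.ofFinite H
  simp [sigma_eq, Finset.sum_add_distrib]

theorem sigma_sum {ι : Type*} (H : Subgroup Δ) (s : Finset ι) (f : ι → V) :
    sigma ρ H (∑ i ∈ s, f i) = ∑ i ∈ s, sigma ρ H (f i) := by
  letI := Fintype.ofFinite H
  simp only [sigma_eq, map_sum]
  exact Finset.sum_comm

theorem sigma_zero (H : Subgroup Δ) : sigma ρ H 0 = 0 := by
  letI := Fintype.ofFinite H
  simp [sigma_eq]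

theorem sigma_sub (H : Subgroup Δ) (v w : V) : sigma ρ H (v - w) = sigma ρ H v - sigma ρ H w := by
  letI := Fintype.ofFinite H
  simp [sigma_eq, Finset.sum_sub_distrib]

theorem sigma_nsmul (H : Subgroup Δ) (n : ℕ) (v : V) : sigma ρ H (n • v) = n • sigma ρ H v := by
  letI := Fintype.ofFinite H
  simp [sigma_eq, Finset.sum_nsmul]

theorem rho_sigma (H : Subgroup Δ) {t : Δ} (ht : t ∈ H) (v : V) :
    ρ t (sigma ρ H v) = sigma ρ H v := by
  letI := Fintype.ofFinite H
  rw [sigma_eq, map_sum]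
  simp only [rho_mul]
  exact Equiv.sum_comp (Equiv.mulLeft (⟨t, ht⟩ : H)) fun h : H => ρ (h : Δ) v

theorem sigma_rho (H : Subgroup Δ) {t : Δ} (ht : t ∈ H) (v : V) :
    sigma ρ H (ρ t v) = sigma ρ H v := by
  letI := Fintype.ofFinite H
  rw [sigma_eq, sigma_eq]
  simp only [rho_mul]
  exact Equiv.sum_comp (Equiv.mulRight (⟨t, ht⟩ : H)) fun h : H => ρ (h : Δ) v

theorem sigma_fixed (H : Subgroup Δ) {v : V} (hv : ∀ h ∈ H, ρ h v = v) :
    sigma ρ H v = Nat.card H • v := by
  letI := Fintype.ofFinite H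
  rw [sigma_eq, Finset.sum_congr rfl (fun (h : H) _ => hv h h.2), Finset.sum_const, Finset.card_univ,
    Nat.card_eq_fintype_card]

theorem sigma_commute (H : Subgroup Δ) {g : Δ} (hg : ∀ h ∈ H, g * h = h * g) (v : V) :
    sigma ρ H (ρ g v) = ρ g (sigma ρ H v) := by
  letI := Fintype.ofFinite H
  rw [sigma_eq, sigma_eq, map_sum]
  simp only [rho_mul]
  exact Finset.sum_congr rfl fun h _ => by rw [hg h h.2]

/-- The conjugate of a subgroup. -/
abbrev cjSub (g : Δ) (H : Subgroup Δ) : Subgroup Δ := H.map (MulAut.conj g).toMonoidHom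

theorem mem_cjSub {g x : Δ} {H : Subgroup Δ} : x ∈ cjSub g H ↔ g⁻¹ * x * g ∈ H := by
  constructor
  · rintro ⟨h, hh, rfl⟩
    simpa [mul_assoc] using hh
  · exact fun h => ⟨_, h, by simp [mul_assoc]⟩

theorem cjSub_mul (g h : Δ) (H : Subgroup Δ) : cjSub g (cjSub h H) = cjSub (g * h) H := by
  ext x; simp [mem_cjSub, mul_assoc]

theorem cjSub_one (H : Subgroup Δ) : cjSub 1 H = H := by ext x; simp [mem_cjSub]

theorem card_cjSub (g : Δ) (H : Subgroup Δ) : Nat.card (cjSub g H) = Nat.card H :=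
  Subgroup.card_map_of_injective (MulAut.conj g).injective

theorem sigma_cjSub (g : Δ) (H : Subgroup Δ) (v : V) :
    sigma ρ (cjSub g H) (ρ g v) = ρ g (sigma ρ H v) := by
  letI := Fintype.ofFinite H
  letI := Fintype.ofFinite (cjSub g H)
  rw [sigma_eq, sigma_eq, map_sum]
  simp only [rho_mul]
  refine (Finset.sum_bij (fun h _ => (H.equivMapOfInjective (MulAut.conj g).toMonoidHom
    (MulAut.conj g).injective h : cjSub g H)) (fun _ _ => Finset.mem_univ _) ?_ ?_ ?_).symm
  · exact fun a _ b _ e => (H.equivMapOfInjective _ (MulAut.conj g).injective).injective e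
  · exact fun b _ => ⟨(H.equivMapOfInjective _ (MulAut.conj g).injective).symm b, Finset.mem_univ _,
      MulEquiv.apply_symm_apply _ b⟩
  · intro h _
    erw [Subgroup.coe_equivMapOfInjective_apply]
    simp [mul_assoc]

/-- Hyperplanes of `Z`. -/
def Hyp (q : ℕ) (Z K : Subgroup Δ) : Prop := K ≤ Z ∧ Nat.card Z = q * Nat.card K

/-- The part of the module belonging to a hyperplane. -/
def InW (Z K : Subgroup Δ) (w : V) : Prop := (∀ k ∈ K, ρ k w = w) ∧ sigma ρ Z w = 0

variable {q : ℕ} [hq : Fact q.Prime] (hinv : ∀ v : V, q • v = 0 → v = 0) {Z : Subgroup Δ}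
  (hZab : ∀ a ∈ Z, ∀ b ∈ Z, a * b = b * a) (hZq : ∀ a ∈ Z, a ^ q = 1)

omit [Finite Δ] hq in
include hinv in
theorem pow_cancel (n : ℕ) {v : V} (h : q ^ n • v = 0) : v = 0 := by
  induction n generalizing v with
  | zero => simpa using h
  | succ n ih => exact hinv _ (ih (by rwa [pow_succ, mul_smul] at h))

include hinv hZq in
theorem card_cancel {H : Subgroup Δ} (hH : H ≤ Z) {v : V} (h : Nat.card H • v = 0) : v = 0 := by
  obtain ⟨n, hn⟩ := IsPGroup.iff_card.1 (show IsPGroup q H from fun a =>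
    ⟨1, Subtype.ext (by simpa using hZq a (hH a.2))⟩)
  exact pow_cancel hinv n (hn ▸ h)

include hZq in
theorem hyp_sup {K : Subgroup Δ} (hK : Hyp q Z K) {t : Δ} (ht : t ∈ Z) (htK : t ∉ K) :
    Subgroup.closure (insert t (K : Set Δ)) = Z := by
  set M := Subgroup.closure (insert t (K : Set Δ)) with hM
  have hMZ : M ≤ Z := (Subgroup.closure_le _).2 (Set.insert_subset ht hK.1)
  have hKM : K ≤ M := fun k hk => Subgroup.subset_closure (Or.inr hk)
  obtain ⟨c, hc⟩ := Subgroup.card_dvd_of_le hKM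
  have hd : c ∣ q := by
    have := Subgroup.card_dvd_of_le hMZ
    rw [hc, hK.2, mul_comm q] at this
    exact Nat.dvd_of_mul_dvd_mul_left Nat.card_pos this
  rcases (Nat.dvd_prime hq.out).1 hd with rfl | rfl
  · rw [mul_one] at hc
    exact absurd ((Subgroup.eq_of_le_of_card_ge hKM hc.le).ge (Subgroup.subset_closure (Or.inl rfl))) htK
  · exact Subgroup.eq_of_le_of_card_ge hMZ (by rw [hc, hK.2, mul_comm])

include hinv hZq in
theorem inW_fixed {K : Subgroup Δ} (hK : Hyp q Z K) {w : V} (hw : InW ρ Z K w) {t : Δ} (ht : t ∈ Z)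
    (htK : t ∉ K) (hfix : ρ t w = w) : w = 0 := by
  have hall : ∀ z ∈ Z, ρ z w = w := by
    intro z hz
    rw [← hyp_sup hZq hK ht htK] at hz
    induction hz using Subgroup.closure_induction with
    | mem y hy => rcases hy with rfl | hy; exacts [hfix, hw.1 y hy]
    | one => exact rho_one ρ w
    | mul a b _ _ ha hb => rw [← rho_mul, hb, ha]
    | inv a _ ha => conv_lhs => rw [← ha, rho_mul, inv_mul_cancel, rho_one]
  exact card_cancel hinv hZq le_rfl ((sigma_fixed ρ Z hall).symm.trans hw.2)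

include hinv hZq hZab in
/-- Different hyperplanes are independent. -/
theorem sigma_other {K K' : Subgroup Δ} (hK : Hyp q Z K) (hK' : Hyp q Z K') (hne : K ≠ K') {w : V}
    (hw : InW ρ Z K w) : sigma ρ K' w = 0 := by
  obtain ⟨t, htK', htK⟩ : ∃ t ∈ K', t ∉ K := by
    by_contra h
    push Not at h
    exact hne (Subgroup.eq_of_le_of_card_ge h (by
      have := hK.2.symm.trans hK'.2
      exact (Nat.eq_of_mul_eq_mul_left hq.out.pos this).le)).symm
  have hcomm : ∀ g ∈ Z, ∀ h ∈ K', g * h = h * g := fun g hg h hh => hZab g hg h (hK'.1 hh)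
  refine inW_fixed ρ hinv hZq hK ⟨fun k hk => ?_, ?_⟩ (hK'.1 htK') htK (rho_sigma ρ K' htK' w)
  · rw [← sigma_commute ρ K' (hcomm k (hK.1 hk)), hw.1 k hk]
  · letI := Fintype.ofFinite K'
    rw [sigma_eq ρ K', sigma_sum]
    refine Finset.sum_eq_zero fun h _ => ?_
    rw [sigma_commute ρ Z (fun z hz => (hcomm z hz h h.2).symm), hw.2, map_zero]

omit hq in
theorem sigma_self {K : Subgroup Δ} {w : V} (hw : InW ρ Z K w) :
    sigma ρ K w = Nat.card K • w := sigma_fixed ρ K hw.1

include hZab in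
/-- Projection into the part of a hyperplane. -/
theorem inW_proj {K : Subgroup Δ} (hK : K ≤ Z) (v : V) :
    InW ρ Z K (Nat.card Z • sigma ρ K v - sigma ρ Z (sigma ρ K v)) := by
  refine ⟨fun k hk => ?_, ?_⟩
  · rw [map_sub, map_nsmul, rho_sigma ρ K hk, rho_sigma ρ Z (hK hk)]
  · rw [sigma_sub, sigma_nsmul, sigma_fixed ρ Z (v := sigma ρ Z (sigma ρ K v))
      (fun z hz => rho_sigma ρ Z hz _), sub_self]

include hinv hZq hZab in
theorem killed_induction : ∀ (n : ℕ) (H : Subgroup Δ), H ≤ Z → Nat.card Z - Nat.card H = n →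
    ∀ u : V, (∀ h ∈ H, ρ h u = u) → (∀ K, Hyp q Z K → H ≤ K → sigma ρ K u = 0) →
    sigma ρ Z u = 0 → u = 0 := by
  intro n
  induction n using Nat.strong_induction_on with
  | _ n ih =>
  intro H hHZ hn u hu hKu hZu
  by_cases hHh : Hyp q Z H
  · exact card_cancel hinv hZq hHZ ((sigma_fixed ρ H hu).symm.trans (hKu H hHh le_rfl))
  by_cases hHt : H = Z
  · subst hHt
    exact card_cancel hinv hZq le_rfl ((sigma_fixed ρ H hu).symm.trans hZu)
  have hstep : ∀ x ∈ Z, x ∉ H → sigma ρ (Subgroup.zpowers x) u = 0 := by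
    intro x hx hxH
    set H' := Subgroup.closure (insert x (H : Set Δ))
    have hH'Z : H' ≤ Z := (Subgroup.closure_le _).2 (Set.insert_subset hx hHZ)
    have hle : H ≤ H' := fun h hh => Subgroup.subset_closure (Or.inr hh)
    have hlt : Nat.card H < Nat.card H' := lt_of_le_of_ne
      (Nat.le_of_dvd Nat.card_pos (Subgroup.card_dvd_of_le hle))
      fun e => hxH ((Subgroup.eq_of_le_of_card_ge hle e.ge).ge (Subgroup.subset_closure (Or.inl rfl)))
    have := Nat.le_of_dvd Nat.card_pos (Subgroup.card_dvd_of_le hH'Z)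
    refine ih (Nat.card Z - Nat.card H') (by omega) H' hH'Z rfl _ (fun h hh => ?_)
      (fun K hK hK' => ?_) ?_
    · induction hh using Subgroup.closure_induction with
      | mem y hy =>
        rcases hy with rfl | hy
        · exact rho_sigma ρ _ (Subgroup.mem_zpowers y) u
        · rw [← sigma_commute ρ _ (fun z hz => hZab y (hHZ hy) z (Subgroup.zpowers_le.2 hx hz)),
            hu y hy]
      | one => exact rho_one ρ _
      | mul a b _ _ ha hb => rw [← rho_mul, hb, ha]
      | inv a _ ha => conv_lhs => rw [← ha, rho_mul, inv_mul_cancel, rho_one]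
    · letI := Fintype.ofFinite (Subgroup.zpowers x)
      rw [sigma_eq ρ (Subgroup.zpowers x), sigma_sum]
      refine Finset.sum_eq_zero fun y _ => ?_
      rw [sigma_commute ρ K (fun k hk => hZab _ (Subgroup.zpowers_le.2 hx y.2) k (hK.1 hk)),
        hKu K hK (hle.trans hK'), map_zero]
    · letI := Fintype.ofFinite (Subgroup.zpowers x)
      rw [sigma_eq ρ (Subgroup.zpowers x), sigma_sum]
      refine Finset.sum_eq_zero fun y _ => ?_
      rw [sigma_rho ρ Z (Subgroup.zpowers_le.2 hx y.2), hZu]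
  obtain ⟨x, hx, hxH⟩ : ∃ x ∈ Z, x ∉ H := by
    by_contra h
    push Not at h
    exact hHt (le_antisymm hHZ h)
  set H₁ := Subgroup.closure (insert x (H : Set Δ)) with hH₁
  obtain ⟨y, hy, hyH⟩ : ∃ y ∈ Z, y ∉ H₁ := by
    by_contra h
    push Not at h
    refine hHh ⟨hHZ, ?_⟩
    have hcl : H₁ = Z := le_antisymm ((Subgroup.closure_le _).2 (Set.insert_subset hx hHZ)) h
    have hn1 : Subgroup.zpowers x ≤ Subgroup.normalizer (H : Set Δ) :=
      Subgroup.zpowers_le.2 (Subgroup.mem_normalizer_iff.2 fun g => ⟨fun hg => by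
        rwa [hZab x hx g (hHZ hg), mul_inv_cancel_right], fun hg => by
        have := hZab x hx _ (hHZ hg)
        rwa [show x * g * x⁻¹ = g by
          apply mul_left_cancel (a := x)
          rw [this]; group] at hg⟩)
    have hcard : Nat.card Z ∣ q * Nat.card H := by
      rw [← hcl]
      haveI : (H.subgroupOf H₁).Normal := ⟨fun h hh g => by
        show (g : Δ) * h * (g : Δ)⁻¹ ∈ H
        have hgZ : (g : Δ) ∈ Z := hcl.le g.2
        have hh' : (h : Δ) ∈ H := hh
        rw [hZab _ hgZ _ (hHZ hh'), mul_inv_cancel_right]; exact hh'⟩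
      have hgen : ∀ g : H₁ ⧸ H.subgroupOf H₁,
          g ∈ Subgroup.zpowers ((⟨x, Subgroup.subset_closure (Or.inl rfl)⟩ : H₁) : H₁ ⧸ H.subgroupOf H₁) := by
        intro g
        induction g using QuotientGroup.induction_on with
        | H g =>
          obtain ⟨g, hg⟩ := g
          induction hg using Subgroup.closure_induction with
          | mem z hz =>
            rcases hz with rfl | hz
            · exact Subgroup.mem_zpowers _
            · rw [(QuotientGroup.eq_one_iff (N := H.subgroupOf H₁)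
                (⟨z, Subgroup.subset_closure (Or.inr hz)⟩ : H₁)).2 hz]
              exact one_mem _
          | one => exact one_mem _
          | mul a b ha hb ea eb => exact mul_mem ea eb
          | inv a ha ea => exact inv_mem ea
      rw [Subgroup.card_eq_card_quotient_mul_card_subgroup (H.subgroupOf H₁),
        Nat.card_congr (Subgroup.subgroupOfEquivOfLe
          (fun h hh => Subgroup.subset_closure (Or.inr hh) : H ≤ H₁)).toEquiv]
      refine Nat.mul_dvd_mul ?_ dvd_rfl
      rw [← Subgroup.card_top, ← (Subgroup.eq_top_iff' _).2 hgen, Nat.card_zpowers]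
      refine orderOf_dvd_of_pow_eq_one ?_
      rw [← QuotientGroup.mk_pow]
      refine (QuotientGroup.eq_one_iff _).2 ?_
      show x ^ q ∈ H
      rw [hZq x hx]; exact one_mem H
    obtain ⟨c, hc⟩ := Subgroup.card_dvd_of_le hHZ
    rw [hc, mul_comm q] at hcard
    rcases (Nat.dvd_prime hq.out).1 (Nat.dvd_of_mul_dvd_mul_left Nat.card_pos hcard) with rfl | rfl
    · rw [mul_one] at hc
      exact absurd (Subgroup.eq_of_le_of_card_ge hHZ hc.le) hHt
    · rw [hc, mul_comm]
  -- sums over the lines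
  have hord : ∀ g ∈ Z, g ∉ H → orderOf g = q := fun g hg hgH =>
    orderOf_eq_prime (hZq g hg) fun e => hgH (e ▸ one_mem H)
  have hline : ∀ g ∈ Z, g ∉ H → ∑ j ∈ Finset.range q, ρ (g ^ j) u = 0 := by
    intro g hg hgH
    rw [← hstep g hg hgH]
    letI := Fintype.ofFinite (Subgroup.zpowers g)
    rw [sigma_eq, ← hord g hg hgH, Finset.sum_range]
    exact Equiv.sum_comp (finEquivZPowers (isOfFinOrder_of_finite g))
      (fun z : Subgroup.zpowers g => ρ (z : Δ) u)
  have hxy : ∀ i : ℕ, x ^ i * y ∉ H := fun i h => hyH (by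
    have h1 : x ^ i ∈ H₁ :=
      Subgroup.pow_mem _ (show x ∈ H₁ from Subgroup.subset_closure (Or.inl rfl)) i
    have h2 : x ^ i * y ∈ H₁ := Subgroup.subset_closure (Or.inr h)
    simpa using mul_mem (inv_mem h1) h2)
  have hsum : ∑ i ∈ Finset.range q, ∑ j ∈ Finset.range q, ρ ((x ^ i * y) ^ j) u = 0 :=
    Finset.sum_eq_zero fun i _ => hline _ (mul_mem (pow_mem hx i) hy) (hxy i)
  rw [Finset.sum_comm, ← Finset.add_sum_erase _ _ (Finset.mem_range.2 hq.out.pos)] at hsum
  have hrest : ∑ j ∈ (Finset.range q).erase 0, ∑ i ∈ Finset.range q, ρ ((x ^ i * y) ^ j) u = 0 := by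
    refine Finset.sum_eq_zero fun j hj => ?_
    rw [Finset.mem_erase, Finset.mem_range] at hj
    have e : ∀ i, ρ ((x ^ i * y) ^ j) u = ρ (y ^ j) (ρ ((x ^ j) ^ i) u) := fun i => by
      rw [rho_mul, Commute.mul_pow (hZab _ (pow_mem hx i) _ hy), ← pow_mul, ← pow_mul, mul_comm i j,
        hZab _ (pow_mem hy j) _ (pow_mem hx _)]
    simp only [e, ← map_sum]
    rw [hline _ (pow_mem hx j) (fun h => hxH ?_), map_zero]
    have hco : Nat.Coprime j q := ((hq.out.coprime_iff_not_dvd).2 fun hd =>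
      absurd (Nat.le_of_dvd (Nat.pos_of_ne_zero hj.1) hd) (by omega)).symm
    obtain ⟨m, hm⟩ := Nat.exists_mul_mod_eq_one_of_coprime hco hq.out.one_lt
    have e2 : (x ^ j) ^ m = x := by
      rw [← pow_mul, ← pow_mod_orderOf, hord x hx hxH, hm.2, pow_one]
    rw [← e2]; exact pow_mem h m
  rw [hrest, add_zero] at hsum
  simp only [pow_zero, Finset.sum_const, Finset.card_range, rho_one] at hsum
  exact hinv _ hsum

include hinv hZq hZab in
/-- An element trivial on every part is trivial. -/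
theorem eq_of_all_parts {z : Δ} (hz : z ∈ Z)
    (h : ∀ K, Hyp q Z K → ∀ w, InW ρ Z K w → ρ z w = w) (v : V) : ρ z v = v := by
  have hc : ∀ H ≤ Z, ∀ k ∈ H, z * k = k * z := fun H hH k hk => hZab z hz k (hH hk)
  refine sub_eq_zero.1 (killed_induction ρ hinv hZab hZq (Nat.card Z - Nat.card (⊥ : Subgroup Δ)) ⊥
    bot_le rfl _ (fun k hk => by rw [Subgroup.mem_bot.1 hk, rho_one]) (fun K hK _ => ?_) ?_)
  · set s := sigma ρ K v
    have h1 := h K hK _ (inW_proj ρ hZab hK.1 v)
    rw [map_sub, map_nsmul, rho_sigma ρ Z hz] at h1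
    rw [sigma_sub, sigma_commute ρ K (hc K hK.1)]
    refine card_cancel hinv hZq (le_refl Z) ?_
    rw [nsmul_sub]
    exact sub_eq_zero.2 (sub_left_injective h1)
  · rw [sigma_sub, sigma_rho ρ Z hz, sub_self]

end Cfsg.Agent.Lead.Ward
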