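import Mathlib
import Cfsg.Agent.Lib.Lead.SpDegreeBound

/-!
# The Weil representation of a symplectic group in odd characteristic
-/

set_option autoImplicit false

namespace Cfsg.Agent.Weil

open Matrix Cfsg.Agent.Small.PSpn
open scoped ComplexConjugate

variable {F : Type*} [Field F] [Fintype F] [DecidableEq F] {n : ℕ}

local notation "T" => Fin n → F
local notation "V2" => Fin n ⊕ Fin n → F
local notation "Gm" => Matrix.symplecticGroup (Fin n) F
local notation "MT" => Matrix (Fin n → F) (Fin n → F) ℂ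

/-- First half. -/
def la (v : V2) : T := fun i => v (.inl i)
/-- Second half. -/
def lb (v : V2) : T := fun i => v (.inr i)

/-- The alternating form used for the phases. -/
def om (u v : V2) : F := la u ⬝ᵥ lb v - la v ⬝ᵥ lb u

theorem om_eq (u v : V2) : om u v = - sf u v := by
  rw [sf, Cfsg.Agent.Lead.Symp.form_eq, om, dotProduct, dotProduct, ← Finset.sum_neg_distrib,
    ← Finset.sum_sub_distrib]
  exact Finset.sum_congr rfl fun i _ => by simp only [la, lb]; ring

theorem om_act (g : Gm) (u v : V2) : om (act g u) (act g v) = om u v := by rw [om_eq, om_eq, sf_act]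

variable (ψ : AddChar F ℂ)

/-- The Heisenberg operators. -/
noncomputable def W (v : V2) : MT :=
  Matrix.of fun t s => if s = t + la v then ψ (lb v ⬝ᵥ t + 2⁻¹ * (la v ⬝ᵥ lb v)) else 0

theorem la_add (u v : V2) : la (u + v) = la u + la v := rfl
theorem lb_add (u v : V2) : lb (u + v) = lb u + lb v := rfl
theorem la_neg (v : V2) : la (-v) = -la v := rfl
theorem lb_neg (v : V2) : lb (-v) = -lb v := rfl
theorem la_zero : la (0 : V2) = 0 := rfl
theorem lb_zero : lb (0 : V2) = 0 := rfl

theorem W_zero : W ψ (0 : V2) = 1 := by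
  ext t s
  simp [W, la_zero, lb_zero, Matrix.one_apply, eq_comm]

theorem W_mul (h2 : (2 : F) ≠ 0) (u v : V2) : W ψ u * W ψ v = ψ (2⁻¹ * om u v) • W ψ (u + v) := by
  ext t s
  simp only [Matrix.mul_apply, Matrix.smul_apply, W, Matrix.of_apply, ite_mul, zero_mul, Finset.sum_ite_eq',
    Finset.mem_univ, if_true, smul_eq_mul, la_add, lb_add, ← add_assoc]
  split_ifs with h
  · rw [← AddChar.map_add_eq_mul, ← AddChar.map_add_eq_mul]
    congr 1
    simp only [om, add_dotProduct, dotProduct_add, dotProduct_comm (lb v) (la u), dotProduct_comm (lb u) (la v)]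
    field_simp
    ring
  · simp

theorem W_conjTranspose (h2 : (2 : F) ≠ 0) (v : V2) : (W ψ v)ᴴ = W ψ (-v) := by
  ext t s
  simp only [Matrix.conjTranspose_apply, W, Matrix.of_apply]
  by_cases h : t = s + la v
  · have h' : s = t + la (-v) := by rw [la_neg, h, add_neg_cancel_right]
    rw [if_pos h, if_pos h', Complex.star_def, ← AddChar.map_neg_eq_conj]
    congr 1
    rw [la_neg, lb_neg, h, neg_dotProduct, neg_dotProduct_neg, dotProduct_add, dotProduct_comm (lb v) (la v)]
    field_simp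
    ring
  · rw [if_neg h, if_neg (fun h' => h (by rw [la_neg] at h'; rw [h', neg_add_cancel_right])), star_zero]

variable {ψ}

theorem sum_char (hψ : ψ ≠ 0) {b : T} (hb : b ≠ 0) : ∑ t : T, ψ (b ⬝ᵥ t) = 0 := by
  obtain ⟨i, hi⟩ := Function.ne_iff.1 hb
  obtain ⟨x, hx⟩ := AddChar.ne_zero_iff.1 hψ
  have h := Fintype.sum_equiv (Equiv.addRight (Pi.single i (x / b i) : T)) (fun t => ψ (b ⬝ᵥ t) * ψ x)
    (fun t => ψ (b ⬝ᵥ t)) fun t => by
      rw [Equiv.coe_addRight, dotProduct_add, dotProduct_single, mul_div_cancel₀ _ hi, AddChar.map_add_eq_mul]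
  rw [← Finset.sum_mul] at h
  exact (mul_eq_zero.1 (by linear_combination h : (∑ t : T, ψ (b ⬝ᵥ t)) * (ψ x - 1) = 0)).resolve_right
    (sub_ne_zero.2 hx)

theorem trace_W (hψ : ψ ≠ 0) {v : V2} (hv : v ≠ 0) : (W ψ v).trace = 0 := by
  simp only [Matrix.trace, Matrix.diag, W, Matrix.of_apply]
  by_cases ha : la v = 0
  · have hb : lb v ≠ 0 := fun hb => hv (funext fun k => by
      rcases k with i | i
      · exact congrFun ha i
      · exact congrFun hb i)
    simp only [ha, add_zero, if_true, zero_dotProduct, mul_zero]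
    exact sum_char hψ hb
  · refine Finset.sum_eq_zero fun t _ => if_neg fun h => ha ?_
    simpa using h.symm

theorem W_indep (h2 : (2 : F) ≠ 0) (hψ : ψ ≠ 0) {c : V2 → ℂ} (h : ∑ v, c v • W ψ v = 0) (u : V2) : c u = 0 := by
  have h1 := congrArg (fun M : MT => (M * W ψ (-u)).trace) h
  simp only [Finset.sum_mul, Matrix.trace_sum, smul_mul_assoc, Matrix.trace_smul, W_mul ψ h2, Matrix.zero_mul,
    Matrix.trace_zero, smul_eq_mul] at h1
  rw [Fintype.sum_eq_single u (fun v hv => by
    rw [trace_W hψ (fun h0 => hv (by rwa [← sub_eq_zero, sub_eq_add_neg])), mul_zero, mul_zero])] at h1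
  rw [add_neg_cancel, W_zero, Matrix.trace_one, om_eq, sf, ← neg_one_smul F u, ← sf, sf_smul_right,
    show sf u u = 0 from Cfsg.Agent.Lead.Symp.form_self u, mul_zero, neg_zero, mul_zero, AddChar.map_zero_eq_one,
    one_mul] at h1
  exact (mul_eq_zero.1 h1).resolve_right (Nat.cast_ne_zero.2 Fintype.card_ne_zero)

theorem commutant (hψ : ψ ≠ 0) {C : MT} (h : ∀ v : V2, C * W ψ v = W ψ v * C) : ∃ c : ℂ, C = c • 1 := by
  classical
  have hd : ∀ t s : T, t ≠ s → C t s = 0 := by
    intro t s hts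
    obtain ⟨i, hi⟩ := Function.ne_iff.1 hts
    obtain ⟨x, hx⟩ := AddChar.ne_zero_iff.1 hψ
    set b : T := Pi.single i (x / (t i - s i)) with hb
    have hlav : la (Sum.elim (0 : T) b) = 0 := rfl
    have hlbv : lb (Sum.elim (0 : T) b) = b := rfl
    have h1 := congrFun (congrFun (h (Sum.elim 0 b)) t) s
    simp only [Matrix.mul_apply, W, Matrix.of_apply, hlav, hlbv, add_zero, zero_dotProduct, mul_zero, mul_ite,
      ite_mul, zero_mul, Finset.sum_ite_eq, Finset.sum_ite_eq', Finset.mem_univ, if_true] at h1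
    have e : b ⬝ᵥ t = x + b ⬝ᵥ s := by
      rw [hb, single_dotProduct, single_dotProduct]
      have : t i - s i ≠ 0 := sub_ne_zero.2 hi
      field_simp
      ring
    rw [e, AddChar.map_add_eq_mul] at h1
    have h2 : C t s * ψ (b ⬝ᵥ s) * (ψ x - 1) = 0 := by linear_combination -h1
    rcases mul_eq_zero.1 h2 with h3 | h3
    · exact (mul_eq_zero.1 h3).resolve_right (AddChar.val_isUnit ψ _).ne_zero
    · exact absurd h3 (sub_ne_zero.2 hx)
  refine ⟨C 0 0, ?_⟩
  ext t s
  by_cases hts : t = s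
  · subst hts
    have hlav : la (Sum.elim t (0 : T)) = t := rfl
    have hlbv : lb (Sum.elim t (0 : T)) = 0 := rfl
    have h1 := congrFun (congrFun (h (Sum.elim t 0)) 0) t
    simp only [Matrix.mul_apply, W, Matrix.of_apply, hlav, hlbv, zero_add, zero_dotProduct, dotProduct_zero, mul_zero,
      add_zero, AddChar.map_zero_eq_one, mul_ite, ite_mul, mul_one, one_mul, zero_mul, Finset.sum_ite_eq',
      Finset.mem_univ, if_true] at h1
    rw [Fintype.sum_eq_single (0 : T) (fun r hr => if_neg fun e => hr (by simpa using e.symm))] at h1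
    simp at h1 ⊢
    exact h1.symm
  · simp [hd t s hts, hts]

variable (ψ) in
/-- Intertwiners for a symplectic element. -/
def Inter (g : Gm) (A : MT) : Prop := ∀ v : V2, A * W ψ v = W ψ (act g v) * A

theorem act_neg (g : Gm) (v : V2) : act g (-v) = -act g v := Matrix.mulVec_neg _ _

theorem exists_inter (h2 : (2 : F) ≠ 0) (hψ : ψ ≠ 0) (g : Gm) : ∃ A : MT, Inter ψ g A ∧ A ≠ 0 := by
  classical
  let A : MT → MT := fun E => ∑ v : V2, W ψ (act g v) * E * W ψ (-v)
  have hA : ∀ E, Inter ψ g (A E) := by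
    intro E u
    simp only [A, Finset.sum_mul, Finset.mul_sum]
    refine (Fintype.sum_equiv (Equiv.addLeft u) _ _ fun v => ?_).symm
    rw [Equiv.coe_addLeft]
    rw [Matrix.mul_assoc _ (W ψ (-(u + v))) (W ψ u), W_mul ψ h2, ← Matrix.mul_assoc, ← Matrix.mul_assoc, W_mul ψ h2,
      om_act, ← act_add, show -(u + v) + u = -v by abel]
    simp only [Matrix.smul_mul, Matrix.mul_smul]
    congr 2
    simp only [om, la_neg, lb_neg, la_add, lb_add, neg_dotProduct, dotProduct_neg, add_dotProduct, dotProduct_add]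
    ring
  by_contra! hno
  have hent : ∀ j s : T, ∀ v : V2, W ψ (-v) j s = 0 := by
    intro j s v₀
    have h : ∀ t i : T, ∑ v : V2, W ψ (act g v) t i * W ψ (-v) j s = 0 := by
      intro t i
      have h1 := congrFun (congrFun (hno _ (hA (Matrix.single i j 1))) t) s
      simp only [A, Matrix.sum_apply, Matrix.zero_apply] at h1
      rw [← h1]
      refine Finset.sum_congr rfl fun v _ => ?_
      simp [Matrix.mul_apply, Matrix.single, ite_and, Finset.sum_ite_eq, Finset.sum_ite_eq', mul_ite, ite_mul]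
    have h3 : ∑ v : V2, W ψ (-act g⁻¹ v) j s • W ψ v = 0 := by
      ext t i
      rw [Matrix.sum_apply, Matrix.zero_apply, ← h t i]
      refine (Fintype.sum_equiv
        ⟨act g, act g⁻¹, fun v => act_inv_act g v, fun v => act_act_inv g v⟩ _ _ fun v => ?_).symm
      simp [act_inv_act, mul_comm]
    have := W_indep h2 hψ h3 (act g v₀)
    rwa [act_inv_act] at this
  have := hent 0 0 0
  rw [neg_zero, W_zero, Matrix.one_apply_eq] at this
  exact one_ne_zero this

theorem Inter.gram (h2 : (2 : F) ≠ 0) (hψ : ψ ≠ 0) {g : Gm} {A : MT} (hA : Inter ψ g A) (h0 : A ≠ 0) :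
    ∃ B : MT, A * B = 1 ∧ B * A = 1 := by
  have hadj : ∀ v, W ψ v * Aᴴ = Aᴴ * W ψ (act g v) := by
    intro v
    have h := congrArg Matrix.conjTranspose (hA (-v))
    rwa [Matrix.conjTranspose_mul, Matrix.conjTranspose_mul, W_conjTranspose ψ h2, W_conjTranspose ψ h2, act_neg,
      neg_neg, neg_neg] at h
  obtain ⟨c, hc⟩ := commutant hψ (C := Aᴴ * A) fun v => by
    rw [Matrix.mul_assoc, hA, ← Matrix.mul_assoc, ← hadj, Matrix.mul_assoc]
  have hc0 : c ≠ 0 := by
    rintro rfl
    rw [zero_smul] at hc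
    open scoped ComplexOrder in
    exact h0 (Matrix.conjTranspose_mul_self_eq_zero.1 hc)
  refine ⟨c⁻¹ • Aᴴ, ?_, by rw [Matrix.smul_mul, hc, inv_smul_smul₀ hc0]⟩
  rw [mul_eq_one_comm, Matrix.smul_mul, hc, inv_smul_smul₀ hc0]

theorem inter_unique (h2 : (2 : F) ≠ 0) (hψ : ψ ≠ 0) {g : Gm} {A A' : MT} (hA : Inter ψ g A) (h0 : A ≠ 0)
    (hA' : Inter ψ g A') : ∃ c : ℂ, A' = c • A := by
  obtain ⟨B, hAB, hBA⟩ := hA.gram h2 hψ h0
  obtain ⟨c, hc⟩ := commutant hψ (C := B * A') fun v => by
    rw [Matrix.mul_assoc, hA', ← Matrix.mul_assoc,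
      show B * W ψ (act g v) = W ψ v * B by
        calc B * W ψ (act g v) = B * (W ψ (act g v) * A) * B := by
              rw [Matrix.mul_assoc B, Matrix.mul_assoc (W ψ (act g v)), hAB, Matrix.mul_one]
          _ = W ψ v * B := by rw [← hA, ← Matrix.mul_assoc, hBA, Matrix.one_mul],
      Matrix.mul_assoc]
  refine ⟨c, ?_⟩
  calc A' = A * (B * A') := by rw [← Matrix.mul_assoc, hAB, Matrix.one_mul]
    _ = c • A := by rw [hc, Matrix.mul_smul, Matrix.mul_one]

theorem Inter.mul {g h : Gm} {A B : MT} (hA : Inter ψ g A) (hB : Inter ψ h B) : Inter ψ (g * h) (A * B) := by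
  intro v
  rw [Matrix.mul_assoc, hB, ← Matrix.mul_assoc, hA, Matrix.mul_assoc, act_mul]

theorem inter_one : Inter ψ (1 : Gm) 1 := fun v => by rw [act_one, Matrix.one_mul, Matrix.mul_one]

/-! ### Parity -/

variable (F n) in
/-- The parity operator. -/
def par : MT := Matrix.of fun t s => if s = -t then 1 else 0

theorem par_par : par F n * par F n = 1 := by
  ext t s
  rw [Matrix.mul_apply, Fintype.sum_eq_single (-t) (fun j hj => by simp [par, hj])]
  simp [par, Matrix.one_apply, eq_comm]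

theorem par_conj (v : V2) : par F n * W ψ v * par F n = W ψ (-v) := by
  ext t s
  rw [Matrix.mul_apply, Fintype.sum_eq_single (-s) (fun j hj => by
    have : par F n j s = 0 := by
      simp only [par, Matrix.of_apply, ite_eq_right_iff, one_ne_zero, imp_false]
      exact fun e => hj (by rw [e, neg_neg])
    rw [this, mul_zero])]
  rw [Matrix.mul_apply, Fintype.sum_eq_single (-t) (fun j hj => by simp [par, hj])]
  simp only [par, W, Matrix.of_apply, neg_neg, if_true, one_mul, mul_one]
  by_cases h : -s = -t + la v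
  · have h' : s = t + la (-v) := by rw [la_neg, ← neg_neg s, h]; abel
    rw [if_pos h, if_pos h', la_neg, lb_neg]
    congr 1
    simp [neg_dotProduct, dotProduct_neg]
  · rw [if_neg h, if_neg (fun h' => h (by rw [la_neg] at h'; rw [h']; abel))]

theorem neg_eq_self_iff' (h2 : (2 : F) ≠ 0) (t : T) : t = -t ↔ t = 0 := by
  refine ⟨fun h => funext fun i => ?_, fun h => by rw [h, neg_zero]⟩
  have hi : t i = -t i := congrFun h i
  exact (mul_eq_zero.1 (by linear_combination hi : (2 : F) * t i = 0)).resolve_left h2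

theorem trace_par (h2 : (2 : F) ≠ 0) : (par F n).trace = 1 := by
  simp only [Matrix.trace, Matrix.diag, par, Matrix.of_apply, neg_eq_self_iff' h2, Finset.sum_ite_eq',
    Finset.mem_univ, if_true]

theorem Inter.commute_par (h2 : (2 : F) ≠ 0) (hψ : ψ ≠ 0) {g : Gm} {A : MT} (hA : Inter ψ g A) (h0 : A ≠ 0) :
    par F n * A = A * par F n := by
  have hP : Inter ψ g (par F n * A * par F n) := by
    intro v
    have e1 : par F n * W ψ v = W ψ (-v) * par F n := by
      rw [← par_conj, Matrix.mul_assoc, par_par, Matrix.mul_one]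
    have e2 : W ψ (act g v) * par F n = par F n * W ψ (-act g v) := by
      rw [← par_conj, ← Matrix.mul_assoc, ← Matrix.mul_assoc, par_par, Matrix.one_mul]
    calc par F n * A * par F n * W ψ v = par F n * (A * (par F n * W ψ v)) := by simp only [Matrix.mul_assoc]
      _ = par F n * (W ψ (-act g v) * A * par F n) := by
          rw [e1, ← Matrix.mul_assoc A, hA, act_neg]
      _ = _ := by rw [← Matrix.mul_assoc, ← Matrix.mul_assoc, ← e2]; simp only [Matrix.mul_assoc]
  obtain ⟨c, hc⟩ := inter_unique h2 hψ hA h0 hP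
  have h1 : par F n * A = c • (A * par F n) := by
    calc par F n * A = par F n * A * par F n * par F n := by rw [Matrix.mul_assoc _ (par F n), par_par, Matrix.mul_one]
      _ = c • (A * par F n) := by rw [hc, Matrix.smul_mul]
  obtain ⟨B, hAB, hBA⟩ := hA.gram h2 hψ h0
  have ht : (par F n).trace = c * (par F n).trace := by
    calc (par F n).trace = (par F n * A * B).trace := by rw [Matrix.mul_assoc, hAB, Matrix.mul_one]
      _ = c * (A * par F n * B).trace := by rw [h1, Matrix.smul_mul, Matrix.trace_smul, smul_eq_mul]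
      _ = _ := by rw [Matrix.trace_mul_comm, ← Matrix.mul_assoc, hBA, Matrix.one_mul]
  rw [trace_par h2, mul_one] at ht
  rw [h1, ← ht, one_smul]

/-- The projection to one eigenspace of the parity. -/
noncomputable def proj (ε : ℂ) : MT := (2⁻¹ : ℂ) • (1 + ε • par F n)

theorem proj_idem {ε : ℂ} (hε : ε * ε = 1) : proj (F := F) (n := n) ε * proj ε = proj ε := by
  rw [proj, Matrix.smul_mul, Matrix.mul_smul, smul_smul, Matrix.add_mul, Matrix.one_mul, Matrix.mul_add, Matrix.mul_one,
    Matrix.smul_mul, Matrix.mul_smul, par_par, smul_smul, hε, one_smul]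
  rw [show ε • par F n + 1 = 1 + ε • par F n from add_comm _ _, ← two_smul ℂ (1 + ε • par F n), smul_smul]
  norm_num

/-- An eigenspace of the parity. -/
noncomputable def half (ε : ℂ) : Submodule ℂ (T → ℂ) := LinearMap.range (Matrix.toLin' (proj (F := F) (n := n) ε))

theorem mem_half {ε : ℂ} (hε : ε * ε = 1) {f : T → ℂ} :
    f ∈ half (F := F) (n := n) ε ↔ Matrix.toLin' (proj ε) f = f := by
  refine ⟨?_, fun h => ⟨f, h⟩⟩
  rintro ⟨f, rfl⟩
  rw [← LinearMap.comp_apply, ← Matrix.toLin'_mul, proj_idem hε]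

theorem finrank_half (h2 : (2 : F) ≠ 0) {ε : ℂ} (hε : ε * ε = 1) :
    (Module.finrank ℂ (half (F := F) (n := n) ε) : ℂ) = ((Fintype.card F : ℂ) ^ n + ε) / 2 := by
  have h : LinearMap.IsProj (half (F := F) (n := n) ε) (Matrix.toLin' (proj ε)) :=
    ⟨fun x => ⟨x, rfl⟩, fun x hx => (mem_half hε).1 hx⟩
  rw [← h.trace, Matrix.trace_toLin'_eq, proj, Matrix.trace_smul, Matrix.trace_add, Matrix.trace_one,
    Matrix.trace_smul, trace_par h2]
  simp
  ring

/-- The compression to an eigenspace. -/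
noncomputable def res (ε : ℂ) (A : MT) : Module.End ℂ (half (F := F) (n := n) ε) :=
  (Matrix.toLin' (proj ε) ∘ₗ Matrix.toLin' A).restrict (p := half ε) (q := half ε) fun _ _ => ⟨_, rfl⟩

theorem res_apply (ε : ℂ) (A : MT) (f : half (F := F) (n := n) ε) :
    ((res ε A f : half (F := F) (n := n) ε) : T → ℂ) = proj ε *ᵥ (A *ᵥ (f : T → ℂ)) := rfl

theorem res_one {ε : ℂ} (hε : ε * ε = 1) : res (F := F) (n := n) ε 1 = 1 := by
  refine LinearMap.ext fun f => Subtype.ext ?_
  rw [res_apply, Matrix.one_mulVec]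
  exact (mem_half hε).1 f.2

theorem res_smul (ε : ℂ) (c : ℂ) (A : MT) : res ε (c • A) = c • res ε A := by
  refine LinearMap.ext fun f => Subtype.ext ?_
  rw [LinearMap.smul_apply, Submodule.coe_smul, res_apply, res_apply, Matrix.smul_mulVec, Matrix.mulVec_smul]

theorem res_mul {ε : ℂ} (hε : ε * ε = 1) {A B : MT} (hB : par F n * B = B * par F n) :
    res ε (A * B) = res ε A * res ε B := by
  refine LinearMap.ext fun f => Subtype.ext ?_
  have hc : proj ε * B = B * proj ε := by
    rw [proj, Matrix.smul_mul, Matrix.mul_smul, Matrix.add_mul, Matrix.mul_add, Matrix.one_mul, Matrix.mul_one,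
      Matrix.smul_mul, Matrix.mul_smul, hB]
  have hf : proj ε *ᵥ (f : T → ℂ) = f := (mem_half hε).1 f.2
  have hfix : proj ε *ᵥ (B *ᵥ (f : T → ℂ)) = B *ᵥ (f : T → ℂ) := by
    rw [Matrix.mulVec_mulVec, hc, ← Matrix.mulVec_mulVec, hf]
  rw [Module.End.mul_apply, res_apply, res_apply, res_apply, hfix, Matrix.mulVec_mulVec _ A B]

theorem det_res_ne_zero {ε : ℂ} (hε : ε * ε = 1) {A B : MT} (hB : par F n * B = B * par F n) (h : A * B = 1) :
    LinearMap.det (res ε A) ≠ 0 := by
  intro h0
  have h1 := congrArg LinearMap.det ((res_mul (A := A) hε hB).symm.trans (by rw [h, res_one hε]))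
  rw [map_mul, h0, zero_mul, map_one] at h1
  exact zero_ne_one h1

variable (ψ) in
/-- A normalised intertwiner. -/
def Good (g : Gm) (A : MT) : Prop :=
  A ≠ 0 ∧ Inter ψ g A ∧ LinearMap.det (res 1 A) = LinearMap.det (res (-1) A)

theorem finrank_succ (h2 : (2 : F) ≠ 0) :
    Module.finrank ℂ (half (F := F) (n := n) 1) = Module.finrank ℂ (half (F := F) (n := n) (-1)) + 1 := by
  have e1 := finrank_half (F := F) (n := n) h2 (ε := 1) (one_mul 1)
  have e2 := finrank_half (F := F) (n := n) h2 (ε := -1) (by norm_num)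
  have : (Module.finrank ℂ (half (F := F) (n := n) 1) : ℂ) = (Module.finrank ℂ (half (F := F) (n := n) (-1)) : ℂ) + 1 := by
    rw [e1, e2]; ring
  exact_mod_cast this

theorem exists_good (h2 : (2 : F) ≠ 0) (hψ : ψ ≠ 0) (g : Gm) : ∃ A, Good ψ g A := by
  obtain ⟨A, hA, h0⟩ := exists_inter h2 hψ g
  obtain ⟨B, hAB, hBA⟩ := hA.gram h2 hψ h0
  have hP := hA.commute_par h2 hψ h0
  have hB : par F n * B = B * par F n := by
    calc par F n * B = B * (A * par F n) * B := by rw [← Matrix.mul_assoc B A, hBA, Matrix.one_mul]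
      _ = B * par F n := by rw [← hP, Matrix.mul_assoc B, Matrix.mul_assoc (par F n), hAB, Matrix.mul_one]
  set dp := LinearMap.det (res 1 A)
  set dm := LinearMap.det (res (-1) A)
  have hp : dp ≠ 0 := det_res_ne_zero (one_mul 1) hB hAB
  have hm : dm ≠ 0 := det_res_ne_zero (by norm_num) hB hAB
  refine ⟨(dm / dp) • A, smul_ne_zero (div_ne_zero hm hp) h0,
    fun v => by rw [Matrix.smul_mul, Matrix.mul_smul, hA v], ?_⟩
  rw [res_smul, res_smul, LinearMap.det_smul, LinearMap.det_smul, finrank_succ h2, pow_succ]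
  field_simp
  show dm * dp = dp * dm
  exact mul_comm _ _

theorem good_unique (h2 : (2 : F) ≠ 0) (hψ : ψ ≠ 0) {g : Gm} {A A' : MT} (hA : Good ψ g A) (hA' : Good ψ g A') :
    A' = A := by
  obtain ⟨h0, hi, hd⟩ := hA
  obtain ⟨h0', hi', hd'⟩ := hA'
  obtain ⟨c, rfl⟩ := inter_unique h2 hψ hi h0 hi'
  have hc : c ≠ 0 := fun h => h0' (by rw [h, zero_smul])
  obtain ⟨B, hAB, hBA⟩ := hi.gram h2 hψ h0
  have hP := hi.commute_par h2 hψ h0
  have hB : par F n * B = B * par F n := by
    calc par F n * B = B * (A * par F n) * B := by rw [← Matrix.mul_assoc B A, hBA, Matrix.one_mul]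
      _ = B * par F n := by rw [← hP, Matrix.mul_assoc B, Matrix.mul_assoc (par F n), hAB, Matrix.mul_one]
  have hm : LinearMap.det (res (-1) A) ≠ 0 := det_res_ne_zero (by norm_num) hB hAB
  rw [res_smul, res_smul, LinearMap.det_smul, LinearMap.det_smul, finrank_succ h2, hd, pow_succ] at hd'
  have h1 : c = 1 := mul_left_cancel₀ (pow_ne_zero _ hc) ((mul_right_cancel₀ hm hd').trans (mul_one _).symm)
  rw [h1, one_smul]

/-- The normalised operators. -/
noncomputable def wl (h2 : (2 : F) ≠ 0) (hψ : ψ ≠ 0) (g : Gm) : MT := (exists_good h2 hψ g).choose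

theorem wl_spec (h2 : (2 : F) ≠ 0) (hψ : ψ ≠ 0) (g : Gm) : Good ψ g (wl h2 hψ g) := (exists_good h2 hψ g).choose_spec

theorem wl_one (h2 : (2 : F) ≠ 0) (hψ : ψ ≠ 0) : wl h2 hψ (1 : Gm) = 1 := by
  refine good_unique h2 hψ ⟨one_ne_zero, inter_one, ?_⟩ (wl_spec h2 hψ 1)
  rw [res_one (one_mul 1), res_one (by norm_num), map_one, map_one]

theorem wl_mul (h2 : (2 : F) ≠ 0) (hψ : ψ ≠ 0) (g h : Gm) : wl h2 hψ (g * h) = wl h2 hψ g * wl h2 hψ h := by
  obtain ⟨g0, gi, gd⟩ := wl_spec h2 hψ g
  obtain ⟨h0, hi, hd⟩ := wl_spec h2 hψ h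
  refine good_unique h2 hψ ⟨fun e => ?_, gi.mul hi, ?_⟩ (wl_spec h2 hψ _)
  · obtain ⟨B, -, hB⟩ := gi.gram h2 hψ g0
    apply h0
    rw [← Matrix.one_mul (wl h2 hψ h), ← hB, Matrix.mul_assoc, e, Matrix.mul_zero]
  · have hc := hi.commute_par h2 hψ h0
    rw [res_mul (one_mul 1) hc, res_mul (by norm_num) hc, map_mul, map_mul, gd, hd]

/-- The odd part of the Weil representation. -/
noncomputable def weilOdd (h2 : (2 : F) ≠ 0) (hψ : ψ ≠ 0) :
    Representation ℂ Gm (half (F := F) (n := n) (-1)) where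
  toFun g := res (-1) (wl h2 hψ g)
  map_one' := by rw [wl_one, res_one (by norm_num)]
  map_mul' g h := by
    rw [wl_mul, res_mul (by norm_num) ((wl_spec h2 hψ h).2.1.commute_par h2 hψ (wl_spec h2 hψ h).1)]

/-- Lower unitriangular elements. -/
def lElt (s : F) [NeZero n] : Gm :=
  ⟨Matrix.fromBlocks 1 0 (Matrix.single (0 : Fin n) 0 s) 1, by
    rw [SymplecticGroup.mem_iff]
    simp [Matrix.J, Matrix.fromBlocks_transpose, Matrix.fromBlocks_multiply, Matrix.transpose_single]⟩

theorem weilOdd_ne_one (hn : 2 ≤ n) (h2 : (2 : F) ≠ 0) (hψ : ψ ≠ 0) : ∃ g : Gm, weilOdd h2 hψ g ≠ 1 := by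
  classical
  haveI : NeZero n := ⟨by omega⟩
  obtain ⟨x, hx⟩ := AddChar.ne_zero_iff.1 hψ
  set s : F := -2 * x with hs
  refine ⟨lElt s, fun h => hx ?_⟩
  set D : MT := Matrix.diagonal fun t => ψ (-(2⁻¹ * s * (t 0 * t 0))) with hD
  have hla : ∀ v : V2, la (act (lElt s) v) = la v := by
    intro v; funext i
    simp [la, act, lElt, Matrix.fromBlocks_mulVec, Function.comp_def]
  have hlb : ∀ v : V2, lb (act (lElt s) v) = lb v + Pi.single 0 (s * la v 0) := by
    intro v; funext i
    simp [lb, la, act, lElt, Matrix.fromBlocks_mulVec, Function.comp_def, Matrix.mulVec, dotProduct, Matrix.single,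
      Pi.single_apply, add_comm, ite_and, ite_mul, eq_comm, Matrix.one_apply]
  have hDi : Inter ψ (lElt s) D := by
    intro v
    ext t r
    simp only [hD, Matrix.diagonal_mul, Matrix.mul_diagonal, W, Matrix.of_apply, hla, hlb]
    split_ifs with hr
    · subst hr
      rw [← AddChar.map_add_eq_mul, ← AddChar.map_add_eq_mul]
      congr 1
      simp only [add_dotProduct, dotProduct_add, single_dotProduct, dotProduct_single, Pi.add_apply]
      field_simp
      ring
    · simp
  have hD0 : D ≠ 0 := fun e => by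
    have := congrFun (congrFun e 0) 0
    simp [hD] at this
  obtain ⟨c, hc⟩ := inter_unique h2 hψ hDi hD0 (wl_spec h2 hψ (lElt s)).2.1
  have key : ∀ t : T, t ≠ 0 → c * ψ (-(2⁻¹ * s * (t 0 * t 0))) = 1 := by
    intro t ht
    have hne : t ≠ -t := fun e => ht ((neg_eq_self_iff' h2 t).1 e)
    set f : T → ℂ := fun r => if r = t then 1 else if r = -t then -1 else 0 with hf
    have hpar : ∀ (φ : T → ℂ) (r : T), (par F n *ᵥ φ) r = φ (-r) := by
      intro φ r; simp [par, Matrix.mulVec, dotProduct]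
    have hproj : ∀ (φ : T → ℂ) (r : T), (proj (-1) *ᵥ φ) r = (φ r - φ (-r)) / 2 := by
      intro φ r
      rw [proj, Matrix.smul_mulVec, Matrix.add_mulVec, Matrix.one_mulVec, Matrix.smul_mulVec]
      simp [hpar]
      ring
    have hfn : ∀ r, f (-r) = - f r := by
      intro r
      simp only [hf, neg_eq_iff_eq_neg, neg_neg]
      by_cases h1 : r = t
      · subst h1; simp [hne]
      · by_cases h2' : r = -t
        · subst h2'; simp [Ne.symm hne]
        · simp [h1, h2']
    have hfm : f ∈ half (F := F) (n := n) (-1) := (mem_half (by norm_num)).2 (funext fun r => by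
      show (proj (-1) *ᵥ f) r = f r
      rw [hproj, hfn]; ring)
    have h1 := congrFun (congrArg Subtype.val (LinearMap.congr_fun h ⟨f, hfm⟩)) t
    change (proj (-1) *ᵥ (wl h2 hψ (lElt s) *ᵥ f)) t = f t at h1
    rw [hproj, hc] at h1
    simp only [Matrix.smul_mulVec, Pi.smul_apply, hD, Matrix.mulVec_diagonal, smul_eq_mul, hfn, Pi.neg_apply,
      neg_mul_neg] at h1
    rw [show f t = 1 by simp [hf]] at h1
    linear_combination h1
  obtain ⟨i, hi⟩ : ∃ i : Fin n, i ≠ 0 := ⟨⟨1, by omega⟩, by simp [Fin.ext_iff]⟩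
  have h1 := key (Pi.single i 1) (by simp)
  rw [Pi.single_eq_of_ne hi.symm, mul_zero, mul_zero, neg_zero, AddChar.map_zero_eq_one, mul_one] at h1
  have h3 := key (Pi.single 0 1) (by simp)
  rw [h1, one_mul, Pi.single_eq_same, mul_one, mul_one, show -(2⁻¹ * s) = x by rw [hs]; field_simp] at h3
  exact h3

end Cfsg.Agent.Weil
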